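import Cfsg.Agent.Lib.OddOrder.Final.TenCombo
import Cfsg.Agent.Lib.Char.CoherenceKernel
import Mathlib

/-!
The characters of a layer `Y ≤ Z` of `K`: when `B < q` their coefficients are proportional to the degrees.
-/

set_option autoImplicit false
set_option linter.unusedSectionVars false
set_option linter.style.haveILetI false

open scoped ComplexConjugate

namespace CfsgLib.OddOrder.Final.Ten

open CfsgLib.Char CfsgLib.Char.Coherence

variable {G : Type*} [Group G] [Fintype G] {M : Subgroup G} {K W₁ W₂ : Subgroup M} [hK : K.Normal] {q p : ℕ}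

open scoped Classical in
/-- The characters of `K` trivial on `Y` but not on `Z`. -/
noncomputable def outSet (K Y Z : Subgroup M) [Fintype K] : Finset (Cfsg.IrrCharacter K) :=
  Finset.univ.filter fun θ => TrivOn K Y (θ : K → ℂ) ∧ ¬ TrivOn K Z (θ : K → ℂ)

theorem mem_outSet {Y Z : Subgroup M} [Fintype K] {θ : Cfsg.IrrCharacter K} :
    θ ∈ outSet K Y Z ↔ TrivOn K Y (θ : K → ℂ) ∧ ¬ TrivOn K Z (θ : K → ℂ) := by
  simp [outSet]

/-- The weight `∑ θ(1)²` of a layer. -/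
noncomputable def wt (K Y Z : Subgroup M) [Fintype K] : ℕ := ∑ θ ∈ outSet K Y Z, natDeg (θ : K → ℂ) ^ 2

/-- The sum `∑ c θ(1)` over a layer. -/
noncomputable def sOut (K Y Z : Subgroup M) [Fintype K] (χ : G → ℂ) : ℤ :=
  ∑ θ ∈ outSet K Y Z, cI χ θ * (natDeg (θ : K → ℂ) : ℤ)

open scoped Classical in
theorem sum_sq_trivOn [Fintype M] [Fintype K] (A : Subgroup M) [A.Normal] (hAK : A ≤ K) :
    ∑ θ ∈ Finset.univ.filter (fun θ : Cfsg.IrrCharacter K => TrivOn K A (θ : K → ℂ)),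
      natDeg (θ : K → ℂ) ^ 2 = A.relIndex K := by
  have h := CoherenceKernel.sum_sq_above K A hAK
  have h' : ((∑ θ ∈ Finset.univ.filter (fun θ : Cfsg.IrrCharacter K => TrivOn K A (θ : K → ℂ)),
      natDeg (θ : K → ℂ) ^ 2 : ℕ) : ℂ) = (A.relIndex K : ℂ) := by
    rw [← h, Nat.cast_sum]
    refine Finset.sum_congr (Finset.filter_congr fun θ _ => Iff.rfl) fun θ _ => ?_
    rw [natDeg_spec θ.2, Nat.cast_pow, sq]
  exact_mod_cast h'

theorem wt_add [Fintype M] [Fintype K] {Y Z : Subgroup M} [Y.Normal] [Z.Normal] (hYZ : Y ≤ Z) (hZK : Z ≤ K) :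
    wt K Y Z + Z.relIndex K = Y.relIndex K := by
  classical
  rw [← sum_sq_trivOn (K := K) Z hZK, ← sum_sq_trivOn (K := K) Y (hYZ.trans hZK), wt, outSet,
    ← Finset.sum_union (Finset.disjoint_filter.mpr fun θ _ h1 h2 => h1.2 h2), ← Finset.filter_or]
  refine Finset.sum_congr (Finset.filter_congr fun θ _ => ?_) fun _ _ => rfl
  exact ⟨fun h => h.elim (fun h1 => h1.1) fun h1 a ha => h1 a (hYZ ha),
    fun h => (em (TrivOn K Z (θ : K → ℂ))).elim Or.inr fun h2 => Or.inl ⟨h, h2⟩⟩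

/-- A layer whose degrees are powers of `p`. -/
structure Layer (K W₂ Y Z : Subgroup M) (p : ℕ) : Prop where
  le : Y ≤ Z
  leK : Z ≤ K
  bot : Z ⊓ W₂ = ⊥
  comm : ∀ x ∈ Z, ∀ y ∈ K, x * y * x⁻¹ * y⁻¹ ∈ Y
  pow : ∃ j, Z.relIndex K = p ^ j
  deg : ∀ θ : K → ℂ, Cfsg.IsIrrCharacter K θ → TrivOn K Y θ → ∃ i, natDeg θ = p ^ i

namespace Layer

variable {Y Z : Subgroup M} [Y.Normal] [Z.Normal]

theorem sq_dvd [Fintype M] [Fintype K] (h : Layer K W₂ Y Z p) (hp : p.Prime) {θ : Cfsg.IrrCharacter K}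
    (hθ : TrivOn K Y (θ : K → ℂ)) : natDeg (θ : K → ℂ) ^ 2 ∣ Z.relIndex K := by
  haveI : (Y.subgroupOf K).Normal := Subgroup.Normal.subgroupOf inferInstance K
  obtain ⟨d, hd, hd2⟩ := CoherenceKernel.degree_sq_le (Z.subgroupOf K) (Y.subgroupOf K)
    (fun x hx y => Subgroup.mem_subgroupOf.mpr (h.comm _ (Subgroup.mem_subgroupOf.mp hx) _ y.2)) θ.2
    (fun b hb => hθ b (Subgroup.mem_subgroupOf.mp hb))
  have he : natDeg (θ : K → ℂ) = d := by exact_mod_cast (natDeg_spec θ.2).symm.trans hd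
  obtain ⟨i, hi⟩ := h.deg _ θ.2 hθ
  obtain ⟨j, hj⟩ := h.pow
  rw [← he] at hd2
  change _ ≤ Z.relIndex K at hd2
  rw [hi, hj, ← pow_mul] at hd2 ⊢
  exact pow_dvd_pow p ((Nat.pow_le_pow_iff_right hp.one_lt).mp hd2)

variable (hA : Act K W₁ W₂ q p)
include hA

theorem free [Fintype M] [Fintype K] (h : Layer K W₂ Y Z p) {θ : Cfsg.IrrCharacter K}
    (hθ : θ ∈ outSet K Y Z) : ∀ x ∈ W₁, x ≠ 1 → conjG (θ : K → ℂ) x ≠ θ := fun _ hx hx1 e =>
  (mem_outSet.mp hθ).2 (hA.trivOn_of_fixed hx hx1 θ.2 e Z h.bot)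

omit hA in
theorem ne_one [Fintype K] {θ : Cfsg.IrrCharacter K} (hθ : θ ∈ outSet K Y Z) :
    (θ : K → ℂ) ≠ fun _ => 1 := fun e => (mem_outSet.mp hθ).2 fun a _ => by rw [e]

omit hA in
theorem cjI_mem [Fintype M] [Fintype K] {θ : Cfsg.IrrCharacter K} (hθ : θ ∈ outSet K Y Z) (x : M) :
    cjI θ x ∈ outSet K Y Z := by
  rw [mem_outSet, trivOn_cjI, trivOn_cjI]
  exact mem_outSet.mp hθ

omit hA in
theorem barI_mem [Fintype M] [Fintype K] {θ : Cfsg.IrrCharacter K} (hθ : θ ∈ outSet K Y Z) :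
    barI θ ∈ outSet K Y Z := by
  rw [mem_outSet, trivOn_barI, trivOn_barI]
  exact mem_outSet.mp hθ

open scoped Classical in
/-- The squares of the degrees below `θ` add up to at least `2 q θ(1)²`, when there are any. -/
theorem lower_weight [Fintype M] [Fintype K] (h : Layer K W₂ Y Z p) {θ θ₀ : Cfsg.IrrCharacter K}
    (hθ : θ ∈ outSet K Y Z) (hθ₀ : θ₀ ∈ outSet K Y Z) (hlt : natDeg (θ₀ : K → ℂ) < natDeg (θ : K → ℂ)) :
    2 * q * natDeg (θ : K → ℂ) ^ 2 ≤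
      ∑ η ∈ (outSet K Y Z).filter (fun η : Cfsg.IrrCharacter K => natDeg (η : K → ℂ) < natDeg (θ : K → ℂ)),
        natDeg (η : K → ℂ) ^ 2 := by
  set e := natDeg (θ : K → ℂ) with he
  set L := (outSet K Y Z).filter (fun η : Cfsg.IrrCharacter K => natDeg (η : K → ℂ) < e) with hL
  set S := ∑ η ∈ L, natDeg (η : K → ℂ) ^ 2
  have hpr := hA.prime
  haveI := Fact.mk hpr
  have he2 : e ^ 2 ∣ wt K Y Z := by
    have h1 := h.sq_dvd hpr (mem_outSet.mp hθ).1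
    have h2 : e ^ 2 ∣ Y.relIndex K := by
      rw [← Subgroup.relIndex_mul_relIndex Y Z K h.le h.leK]
      exact h1.mul_left _
    rw [← wt_add (K := K) h.le h.leK] at h2
    exact (Nat.dvd_add_left h1).mp h2
  have hS : e ^ 2 ∣ S := by
    rw [wt, ← Finset.sum_filter_add_sum_filter_not (outSet K Y Z) (fun η : Cfsg.IrrCharacter K => natDeg (η : K → ℂ) < e)] at he2
    refine (Nat.dvd_add_left (Finset.dvd_sum fun η hη => ?_)).mp he2
    obtain ⟨hη1, hη2⟩ := Finset.mem_filter.mp hη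
    obtain ⟨i, hi⟩ := h.deg _ θ.2 (mem_outSet.mp hθ).1
    obtain ⟨j, hj⟩ := h.deg _ η.2 (mem_outSet.mp hη1).1
    rw [hj, he, hi] at hη2 ⊢
    rw [← pow_mul, ← pow_mul]
    have := (Nat.pow_le_pow_iff_right hpr.one_lt).mp (not_lt.mp hη2)
    exact pow_dvd_pow p (by omega)
  have hSz : (S : ℤ) = ∑ η ∈ L, ((natDeg (η : K → ℂ) ^ 2 : ℕ) : ℤ) := Nat.cast_sum _ _
  have hq : q ∣ S := by
    rw [← Int.natCast_dvd_natCast, hSz]
    exact hA.q_dvd_sum L
      (fun η hη x _ => Finset.mem_filter.mpr ⟨cjI_mem (Finset.mem_filter.mp hη).1 x,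
        (natDeg_cjI η x).symm ▸ (Finset.mem_filter.mp hη).2⟩)
      (fun η hη => h.free hA (Finset.mem_filter.mp hη).1) _ (fun η _ x _ => by rw [natDeg_cjI])
  have h2 : 2 ∣ S := by
    rw [← Int.natCast_dvd_natCast, hSz]
    exact hA.two_dvd_sum L
      (fun η hη => Finset.mem_filter.mpr ⟨barI_mem (Finset.mem_filter.mp hη).1,
        (natDeg_barI η).symm ▸ (Finset.mem_filter.mp hη).2⟩)
      (fun η hη => ne_one (Finset.mem_filter.mp hη).1) _ (fun η _ => by rw [natDeg_barI])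
  obtain ⟨i, hi⟩ := h.deg _ θ.2 (mem_outSet.mp hθ).1
  have hc1 : Nat.Coprime 2 q := Nat.coprime_two_left.mpr hA.odd_q
  have hc2 : Nat.Coprime (2 * q) (e ^ 2) := by
    rw [he, hi, ← pow_mul]
    exact Nat.Coprime.pow_right _ (Nat.Coprime.mul_left (Nat.coprime_two_left.mpr hA.odd_p) hA.coprime_qp)
  refine Nat.le_of_dvd ?_ (hc2.mul_dvd_of_dvd_of_dvd (hc1.mul_dvd_of_dvd_of_dvd h2 hq) hS)
  exact lt_of_lt_of_le (pow_pos (natDeg_pos θ₀.2) 2)
    (Finset.single_le_sum (f := fun η : Cfsg.IrrCharacter K => natDeg (η : K → ℂ) ^ 2) (fun η _ => Nat.zero_le _)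
      (Finset.mem_filter.mpr ⟨hθ₀, hlt⟩))

end Layer

namespace Dat

variable [Fintype M] [Fintype K] (d : Dat M K W₁ W₂ q p)
include d

open scoped Classical in
/-- **Proportionality.** -/
theorem proportional {Y Z : Subgroup M} [Y.Normal] [Z.Normal] (hLay : Layer K W₂ Y Z p) {χ : G → ℂ}
    (hχ : Good K χ) (hB : BB K χ < q) {θ θ' : Cfsg.IrrCharacter K} (hθ : θ ∈ outSet K Y Z)
    (hθ' : θ' ∈ outSet K Y Z) :
    cI χ θ * (natDeg (θ' : K → ℂ) : ℤ) = cI χ θ' * (natDeg (θ : K → ℂ) : ℤ) := by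
  obtain ⟨θ₀, hθ₀, hmin⟩ := Finset.exists_min_image (outSet K Y Z) (fun η : Cfsg.IrrCharacter K => natDeg (η : K → ℂ)) ⟨θ, hθ⟩
  set e₀ := natDeg (θ₀ : K → ℂ) with he₀
  set c₀ := cI χ θ₀ with hc₀
  have he₀pos : 0 < e₀ := natDeg_pos θ₀.2
  have hdvd : ∀ η ∈ outSet K Y Z, e₀ ∣ natDeg (η : K → ℂ) := fun η hη => by
    obtain ⟨i, hi⟩ := hLay.deg _ θ₀.2 (mem_outSet.mp hθ₀).1
    obtain ⟨j, hj⟩ := hLay.deg _ η.2 (mem_outSet.mp hη).1
    have := hmin η hη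
    rw [he₀, hi, hj] at *
    exact pow_dvd_pow p ((Nat.pow_le_pow_iff_right d.act.prime.one_lt).mp this)
  suffices key : ∀ n : ℕ, ∀ η ∈ outSet K Y Z, natDeg (η : K → ℂ) = n → cI χ η * e₀ = c₀ * n by
    have h1 := key _ θ hθ rfl
    have h2 := key _ θ' hθ' rfl
    refine mul_right_cancel₀ (b := (e₀ : ℤ)) (by exact_mod_cast he₀pos.ne') ?_
    linear_combination (natDeg (θ' : K → ℂ) : ℤ) * h1 - (natDeg (θ : K → ℂ) : ℤ) * h2
  intro n
  induction n using Nat.strong_induction_on with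
  | _ n ih =>
    intro η hη hn
    obtain ⟨m, hm⟩ := hdvd η hη
    rw [hn] at hm
    by_contra hne
    set δ : ℤ := cI χ η - c₀ * m with hδ
    have hδ0 : δ ≠ 0 := fun e => hne (by rw [hm, sub_eq_zero.mp e]; push_cast; ring)
    have hcf := IsGeneralizedCharacter.isClassFunction hχ.gen
    -- the block of `η`
    have hblk : ∀ μ ∈ d.act.block η, natDeg (μ : K → ℂ) = n ∧ cI χ μ = cI χ η := by
      intro μ hμ
      obtain ⟨x, -, rfl | rfl⟩ := d.act.mem_block.mp hμ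
      · exact ⟨by rw [natDeg_cjI, hn], d.cI_cjI hcf η x⟩
      · exact ⟨by rw [natDeg_cjI, natDeg_barI, hn], by rw [d.cI_cjI hcf, d.cI_barI hχ]⟩
    -- a set where proportionality is known, of weight `2 q n²`
    obtain ⟨L, hLdis, hLw, hLp⟩ : ∃ L : Finset (Cfsg.IrrCharacter K), Disjoint L (d.act.block η) ∧
        2 * q * n ^ 2 ≤ ∑ μ ∈ L, natDeg (μ : K → ℂ) ^ 2 ∧
        ∀ μ ∈ L, cI χ μ * e₀ = c₀ * natDeg (μ : K → ℂ) := by
      rcases lt_or_eq_of_le (hn ▸ hmin η hη : e₀ ≤ n) with hlt | heq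
      · refine ⟨(outSet K Y Z).filter fun μ : Cfsg.IrrCharacter K => natDeg (μ : K → ℂ) < n, ?_, ?_, fun μ hμ => ?_⟩
        · exact Finset.disjoint_left.mpr fun μ hμ hμ' =>
            absurd (hblk μ hμ').1 (ne_of_lt (Finset.mem_filter.mp hμ).2)
        · subst hn
          exact hLay.lower_weight d.act hη hθ₀ hlt
        · obtain ⟨hμ1, hμ2⟩ := Finset.mem_filter.mp hμ
          exact ih _ hμ2 μ hμ1 rfl
      · have hb0 : ∀ μ ∈ d.act.block θ₀, natDeg (μ : K → ℂ) = e₀ ∧ cI χ μ = c₀ := by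
          intro μ hμ
          obtain ⟨x, -, rfl | rfl⟩ := d.act.mem_block.mp hμ
          · exact ⟨natDeg_cjI _ _, d.cI_cjI hcf θ₀ x⟩
          · exact ⟨by rw [natDeg_cjI, natDeg_barI], by rw [d.cI_cjI hcf, d.cI_barI hχ]⟩
        refine ⟨d.act.block θ₀, ?_, ?_, fun μ hμ => by rw [(hb0 μ hμ).1, (hb0 μ hμ).2]⟩
        · refine Finset.disjoint_left.mpr fun μ hμ hμ' => hδ0 ?_
          have h1 : (m : ℤ) = 1 := by
            have : e₀ * m = e₀ * 1 := by rw [← hm, mul_one, heq]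
            exact_mod_cast Nat.eq_of_mul_eq_mul_left he₀pos this
          rw [hδ, h1, mul_one, ← (hblk μ hμ').2, (hb0 μ hμ).2, sub_self]
        · rw [Finset.sum_congr rfl fun μ hμ => by rw [(hb0 μ hμ).1], Finset.sum_const,
            d.act.card_block (Layer.ne_one hθ₀) (hLay.free d.act hθ₀), smul_eq_mul, heq]
    set t := tt K χ with ht
    set x : ℝ := (c₀ : ℝ) / e₀ - t with hx
    have he₀R : (0 : ℝ) < e₀ := by exact_mod_cast he₀pos
    have hLsum : ∑ μ ∈ L, ((cI χ μ : ℝ) - t * natDeg (μ : K → ℂ)) ^ 2 =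
        x ^ 2 * ((∑ μ ∈ L, natDeg (μ : K → ℂ) ^ 2 : ℕ) : ℝ) := by
      rw [Nat.cast_sum, Finset.mul_sum]
      refine Finset.sum_congr rfl fun μ hμ => ?_
      have := hLp μ hμ
      have hc : (cI χ μ : ℝ) * e₀ = (c₀ : ℝ) * natDeg (μ : K → ℂ) := by exact_mod_cast this
      have hc' : (cI χ μ : ℝ) = (c₀ : ℝ) / e₀ * natDeg (μ : K → ℂ) := by
        field_simp
        linear_combination hc
      rw [hc', hx, Nat.cast_pow]
      ring
    have hbsum : ∑ μ ∈ d.act.block η, ((cI χ μ : ℝ) - t * natDeg (μ : K → ℂ)) ^ 2 =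
        2 * (q : ℝ) * ((δ : ℝ) + x * n) ^ 2 := by
      rw [Finset.sum_congr rfl fun μ hμ => by rw [(hblk μ hμ).1, (hblk μ hμ).2], Finset.sum_const,
        d.act.card_block (Layer.ne_one hη) (hLay.free d.act hη), nsmul_eq_mul]
      have : (cI χ η : ℝ) - t * n = (δ : ℝ) + x * n := by
        rw [hδ, hx, hm]
        push_cast
        field_simp
        ring
      rw [this]
      push_cast
      ring
    have h1 := d.sum_le_BB hχ (L ∪ d.act.block η)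
    rw [Finset.sum_union hLdis, hLsum, hbsum] at h1
    have h2 : x ^ 2 * (2 * (q : ℝ) * (n : ℝ) ^ 2) ≤ x ^ 2 * ((∑ μ ∈ L, natDeg (μ : K → ℂ) ^ 2 : ℕ) : ℝ) :=
      mul_le_mul_of_nonneg_left (by exact_mod_cast hLw) (sq_nonneg _)
    have h3 : (1 : ℝ) ≤ (δ : ℝ) ^ 2 := by
      have : (1 : ℤ) ≤ δ ^ 2 := by nlinarith [Int.one_le_abs hδ0, sq_abs δ]
      exact_mod_cast this
    have hq0 : (0 : ℝ) ≤ q := Nat.cast_nonneg _
    nlinarith [mul_nonneg hq0 (sq_nonneg ((δ : ℝ) + 2 * (x * n)))]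

/-- `∑ c e` over a layer of a nonempty weight bounds `B` from below. -/
theorem layer_le_BB {Y Z : Subgroup M} {χ : G → ℂ} (hχ : Good K χ) (s : ℝ)
    (hS : (sOut K Y Z χ : ℝ) = s * wt K Y Z) (extra : Finset (Cfsg.IrrCharacter K))
    (hdis : Disjoint (outSet K Y Z) extra) :
    (wt K Y Z : ℝ) * (s - tt K χ) ^ 2 +
      ∑ θ ∈ extra, ((cI χ θ : ℝ) - tt K χ * natDeg (θ : K → ℂ)) ^ 2 ≤ BB K χ := by
  classical
  refine le_trans (add_le_add_left ?_ _) ((Finset.sum_union hdis).ge.trans (d.sum_le_BB hχ _))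
  have h : ∑ θ ∈ outSet K Y Z, ((cI χ θ : ℝ) - tt K χ * natDeg (θ : K → ℂ)) ^ 2 =
      (∑ θ ∈ outSet K Y Z, ((cI χ θ : ℝ) - s * natDeg (θ : K → ℂ)) ^ 2) + (wt K Y Z : ℝ) * (s - tt K χ) ^ 2 := by
    have e1 : ∀ θ : Cfsg.IrrCharacter K, ((cI χ θ : ℝ) - tt K χ * natDeg (θ : K → ℂ)) ^ 2 =
        ((cI χ θ : ℝ) - s * natDeg (θ : K → ℂ)) ^ 2 +
          (((natDeg (θ : K → ℂ) : ℝ) ^ 2) * ((s - tt K χ) ^ 2 - 2 * (s - tt K χ) * s) +
            (cI χ θ : ℝ) * natDeg (θ : K → ℂ) * (2 * (s - tt K χ))) := fun θ => by ring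
    simp only [e1, Finset.sum_add_distrib, ← Finset.sum_mul]
    have hw : ∑ θ ∈ outSet K Y Z, ((natDeg (θ : K → ℂ) : ℝ) ^ 2) = (wt K Y Z : ℝ) := by
      rw [wt, Nat.cast_sum]; simp
    have hs : ∑ θ ∈ outSet K Y Z, (cI χ θ : ℝ) * natDeg (θ : K → ℂ) = (sOut K Y Z χ : ℝ) := by
      rw [sOut, Int.cast_sum]; simp
    rw [hw, hs, hS]
    ring
  rw [h]
  exact le_add_of_nonneg_left (Finset.sum_nonneg fun _ _ => sq_nonneg _)

theorem sOut_combo [Fintype (Fst W₁ W₂)] {η : (↥(W₁.map M.subtype ⊔ W₂.map M.subtype) →* ℂˣ) → G → ℂ}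
    (hη : Cfsg.IsCyclicTIFamily (W₁.map M.subtype) (W₂.map M.subtype) η) (Y Z : Subgroup M)
    (s : Fst W₁ W₂ → ℤ) : sOut K Y Z (combo η s) = ∑ φ, s φ * sOut K Y Z (η φ.1) := by
  simp only [sOut, d.cI_combo hη, Finset.mul_sum, Finset.sum_mul, mul_assoc]
  exact Finset.sum_comm

end Dat

end CfsgLib.OddOrder.Final.Ten
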