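import Cfsg.Agent.Lib.OddOrder.Final.TenGrid
import Cfsg.Agent.Lib.OddOrder.Final.TenOut
import Mathlib

/-!
The exact case: the sum of the first row carries little mass outside the support of `M`.
-/

set_option autoImplicit false
set_option linter.unusedSectionVars false
set_option linter.style.haveILetI false

open scoped ComplexConjugate

namespace CfsgLib.OddOrder.Final.Ten

open CfsgLib.Char CfsgLib.Char.Coherence

variable {G : Type*} [Group G] [Fintype G] {M : Subgroup G} {K W₁ W₂ : Subgroup M} [hK : K.Normal] {q p : ℕ}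

namespace Dat

variable [Fintype M] [Fintype K] (d : Dat M K W₁ W₂ q p)
include d

variable {η : (↥(W₁.map M.subtype ⊔ W₂.map M.subtype) →* ℂˣ) → G → ℂ}
  (hη : Cfsg.IsCyclicTIFamily (W₁.map M.subtype) (W₂.map M.subtype) η)
include hη

open scoped Classical in
/-- **The exact case.** Outside the support the first-row sum has mass at most `q/k + q/W`. -/
theorem exact_bound [Fintype (Fst W₁ W₂)] {lam : Cfsg.IrrCharacter K} (hlam : (lam : K → ℂ) ≠ fun _ => 1)
    (hd : natDeg (lam : K → ℂ) = 1)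
    (hex : ∀ φ : Fst W₁ W₂, φ ≠ fstOne W₁ W₂ → cI (η φ.1) lam = -1) {Y Z : Subgroup M}
    (hW : 0 < wt K Y Z) (hS : ∀ φ : Fst W₁ W₂, φ ≠ fstOne W₁ W₂ → sOut K Y Z (η φ.1) = -(wt K Y Z : ℤ))
    (hS1 : sOut K Y Z (η (fstOne W₁ W₂).1) = -(wt K Y Z : ℤ)) :
    (Nat.card G : ℝ)⁻¹ * ∑ g ∈ Finset.univ.filter (fun g => g ∉ Dade.supp (pos K) M (Cfsg.supportR M)),
      ‖combo η (fun _ : Fst W₁ W₂ => (1 : ℤ)) g‖ ^ 2 ≤ (q : ℝ) / Nat.card K + (q : ℝ) / wt K Y Z := by
  set C := combo η (fun _ : Fst W₁ W₂ => (1 : ℤ)) with hC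
  set X := d.Xf (lam : K → ℂ) with hX
  set s : Fst W₁ W₂ → ℤ := fun φ => if φ = fstOne W₁ W₂ then 1 - (q : ℤ) else 1 with hs
  set f := combo η s with hf
  have hgf := d.combo_good hη s
  have hsum_s : ∑ φ, s φ = 0 := by
    simp only [hs]
    rw [Finset.sum_ite, Finset.filter_eq', if_pos (Finset.mem_univ _), Finset.sum_singleton, Finset.sum_const,
      Finset.filter_ne', Finset.card_erase_of_mem (Finset.mem_univ _), Finset.card_univ, d.card_fst, nsmul_eq_mul,
      mul_one]
    have := d.act.one_lt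
    omega
  have hcI : cI f lam = 0 := by
    rw [hf, d.cI_combo hη, Finset.sum_congr rfl fun φ _ => show s φ * cI (η φ.1) lam = -(s φ) by
      by_cases h : φ = fstOne W₁ W₂
      · rw [h, d.cI_eta_one hη lam hlam, hd]; push_cast; ring
      · rw [hex φ h]; ring, Finset.sum_neg_distrib, hsum_s, neg_zero]
  have hSf : sOut K Y Z f = 0 := by
    rw [hf, d.sOut_combo hη, Finset.sum_congr rfl fun φ _ => show s φ * sOut K Y Z (η φ.1) = -(s φ) * (wt K Y Z : ℤ) by
      by_cases h : φ = fstOne W₁ W₂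
      · rw [h, hS1]; ring
      · rw [hS φ h]; ring, ← Finset.sum_mul, Finset.sum_neg_distrib, hsum_s, neg_zero, zero_mul]
  set t := tt K f
  set W : ℝ := (wt K Y Z : ℝ) with hWdef
  have hW0 : 0 < W := by rw [hWdef]; exact_mod_cast hW
  have hBf : W * t ^ 2 ≤ BB K f := by
    have h := d.layer_le_BB hgf 0 (Y := Y) (Z := Z) (by rw [hSf]; simp) ∅ (Finset.disjoint_empty_right _)
    simpa using h
  -- the function
  set z : G → ℂ := X + C with hz
  have hXg := d.Xf_gen lam
  have hCg := d.combo_gen hη (fun _ : Fst W₁ W₂ => (1 : ℤ))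
  have hzc : Cfsg.IsClassFunction G z := fun g y => by
    simp only [hz, Pi.add_apply, hX, hC, IsGeneralizedCharacter.isClassFunction hXg g y,
      IsGeneralizedCharacter.isClassFunction hCg g y]
  have hXC : Cfsg.classInner X C = -(q : ℂ) := by
    rw [hC, combo, classInner_sum_right, Finset.sum_congr rfl fun φ _ => show
      Cfsg.classInner X (((1 : ℤ) : ℂ) • η φ.1) = -1 by
        rw [classInner_smul_right, hX, d.inner_eq_cI hη]
        by_cases h : φ = fstOne W₁ W₂
        · rw [h, d.cI_eta_one hη lam hlam, hd]; simp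
        · rw [hex φ h]; simp]
    simp [d.card_fst]
  have hnorm : Cfsg.classInner z z = 1 := by
    have hCX : Cfsg.classInner C X = -(q : ℂ) := by rw [← classInner_conj_symm, hXC, map_neg, map_natCast]
    have hCC : Cfsg.classInner C C = (q : ℂ) := by
      rw [hC, d.norm_combo hη]
      simp [d.card_fst]
    rw [hz, classInner_add_left, classInner_add_right, classInner_add_right, hXC, hCX, hCC, hX,
      d.Xf_norm hlam hd]
    ring
  -- its projection
  set ζ : K → ℂ := fun a => Cfsg.indFun K (lam : K → ℂ) (a : M) with hζ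
  have hrho : ∀ a : K, rhoK K z a = if a = 1 then 0 else ζ a + rhoK K f a := by
    intro a
    by_cases ha : a = 1
    · subst ha; simp [rhoK, rho, pos]
    rw [if_neg ha]
    have hpos : ((a : M) : G) ∈ pos K := mem_pos.mpr ⟨a.2, fun e => ha (Subtype.ext e)⟩
    simp only [rhoK, rho, if_pos hpos, avg_eq]
    have hR : (Nat.card (Cfsg.supportR M ((a : M) : G)) : ℂ) ≠ 0 := Nat.cast_ne_zero.mpr Nat.card_pos.ne'
    have hXv : ∀ u : Cfsg.supportR M ((a : M) : G), X (((a : M) : G) * u) = ζ a - (q : ℂ) := fun u => by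
      rw [hX, Xf, Dade.dade_apply d.dade (indFun_isClassFunction K _) (a : M) hpos u.2 (x := 1) (by simp),
        d.Xf_lin hd, Pi.sub_apply, indFun_apply_of_normal K (fun _ : K => (1 : ℂ)) a]
      simp only [Finset.sum_const, Finset.card_univ, nsmul_eq_mul, mul_one, ← Nat.card_eq_fintype_card,
        d.card_M, Nat.cast_mul, hζ]
      have hk : (Nat.card K : ℂ) ≠ 0 := Nat.cast_ne_zero.mpr Nat.card_pos.ne'
      field_simp
    have hCv : ∀ g : G, C g = f g + (q : ℂ) := fun g => by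
      simp only [hC, hf, combo, hs, Finset.sum_apply, Pi.smul_apply, smul_eq_mul]
      rw [← sub_eq_iff_eq_add', ← Finset.sum_sub_distrib, Finset.sum_eq_single (fstOne W₁ W₂)]
      · rw [if_pos rfl, d.coe_one hη]; push_cast; ring
      · intro φ _ h; rw [if_neg h]; simp
      · exact fun h => absurd (Finset.mem_univ _) h
    simp only [hz, Pi.add_apply, hXv, hCv]
    rw [Finset.sum_add_distrib, Finset.sum_add_distrib, Finset.sum_const, Finset.sum_const, Finset.card_univ,
      nsmul_eq_mul, nsmul_eq_mul, ← Nat.card_eq_fintype_card]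
    field_simp
    ring
  -- `‖ζ‖² = q`
  have hk : (Nat.card K : ℝ) ≠ 0 := Nat.cast_ne_zero.mpr Nat.card_pos.ne'
  have hind0 : ∀ x : M, x ∉ K → Cfsg.indFun K (lam : K → ℂ) x = 0 := fun x hx => indFun_eq_zero_of_normal K _ hx
  have hsub : ∀ {β : Type} [AddCommMonoid β] (F : M → β), (∀ x, x ∉ K → F x = 0) → ∑ a : K, F (a : M) = ∑ x, F x :=
    fun {β} _ F hF => Fintype.sum_of_injective Subtype.val Subtype.val_injective _ _
      (fun x hx => hF x fun hxK => hx ⟨⟨x, hxK⟩, rfl⟩) fun _ => rfl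
  have hζsq : ∑ a : K, ‖ζ a‖ ^ 2 = (q : ℝ) * Nat.card K := by
    have h := congrArg Complex.re (d.ind_inner_self hlam hd)
    rw [classInner_self, Complex.ofReal_re, Complex.one_re, inv_mul_eq_one₀ (Nat.cast_ne_zero.mpr Nat.card_pos.ne'),
      ← hsub (fun x => ‖Cfsg.indFun K (lam : K → ℂ) x‖ ^ 2) (fun x hx => by simp [hind0 x hx]),
      d.card_M] at h
    push_cast at h
    exact h.symm
  have hcross : ∑ a : K, (ζ a * conj (rhoK K f a)) = ((-(q : ℝ) * t * Nat.card K : ℝ) : ℂ) := by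
    have h := classInner_indFun K (lam : K → ℂ) (d.rho_isClassFunction (IsGeneralizedCharacter.isClassFunction hgf.gen) (K := K))
    have hkap : kap f (lam : K → ℂ) = ((-t : ℝ) : ℂ) := by
      rw [d.kap_eq hgf, hcI, hd]; norm_num; rfl
    rw [show Cfsg.classInner (lam : K → ℂ) (fun a : K => rho K f (a : M)) = kap f (lam : K → ℂ) from rfl, hkap,
      Cfsg.classInner, inv_mul_eq_iff_eq_mul₀ (Nat.cast_ne_zero.mpr Nat.card_pos.ne'),
      ← hsub (fun x => Cfsg.indFun K (lam : K → ℂ) x * conj (rho K f x)) (fun x hx => by simp [hind0 x hx]),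
      d.card_M] at h
    push_cast at h ⊢
    rw [show -(q : ℂ) * (t : ℂ) * Nat.card K = (q : ℂ) * Nat.card K * -(t : ℂ) by ring, ← h]
    rfl
  have hζ1 : ‖ζ 1‖ ^ 2 = (q : ℝ) ^ 2 := by
    have hi : (K.index : ℕ) = q := by
      have h := Subgroup.card_mul_index K
      rw [d.card_M, mul_comm q] at h
      exact Nat.eq_of_mul_eq_mul_left Nat.card_pos h
    rw [show ζ 1 = Cfsg.indFun K (lam : K → ℂ) 1 from rfl, indFun_one, natDeg_spec lam.2, hd, Nat.cast_one, mul_one,
      Complex.norm_natCast, hi]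
  have hBz : (Nat.card K : ℝ) * BB K z =
      (q : ℝ) * Nat.card K - 2 * q * t * Nat.card K + (Nat.card K : ℝ) * BB K f - (q : ℝ) ^ 2 := by
    have hf1 : rhoK K f 1 = 0 := by simp [rhoK, rho, pos]
    have hall : ∑ a : K, ‖ζ a + rhoK K f a‖ ^ 2 =
        (q : ℝ) * Nat.card K - 2 * q * t * Nat.card K + (Nat.card K : ℝ) * BB K f := by
      have e : ∀ a : K, ‖ζ a + rhoK K f a‖ ^ 2 =
          ‖ζ a‖ ^ 2 + 2 * (ζ a * conj (rhoK K f a)).re + ‖rhoK K f a‖ ^ 2 := fun a => by
        simp only [← Complex.normSq_eq_norm_sq, Complex.normSq_add]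
        ring
      simp only [e, Finset.sum_add_distrib, ← Finset.mul_sum, ← Complex.re_sum, hcross, Complex.ofReal_re, hζsq]
      rw [BB, mul_inv_cancel_left₀ hk]
      ring
    rw [BB, mul_inv_cancel_left₀ hk, ← hall,
      ← Finset.add_sum_erase _ _ (Finset.mem_univ (1 : K)), ← Finset.add_sum_erase _ _ (Finset.mem_univ (1 : K)),
      hrho, if_pos rfl, hf1, add_zero, hζ1, norm_zero,
      Finset.sum_congr rfl fun a ha => by rw [hrho, if_neg (Finset.ne_of_mem_erase ha)]]
    ring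
  have hle := d.BB_le hzc (K := K)
  set S := Finset.univ.filter (· ∈ Dade.supp (pos K) M (Cfsg.supportR M))
  have htot : (Nat.card G : ℝ)⁻¹ * ∑ g, ‖z g‖ ^ 2 = 1 := by
    have h := congrArg Complex.re hnorm
    rwa [classInner_self, Complex.ofReal_re, Complex.one_re] at h
  have hsplit : ∑ g ∈ S, ‖z g‖ ^ 2 + ∑ g ∈ Finset.univ.filter (fun g => g ∉ Dade.supp (pos K) M (Cfsg.supportR M)),
      ‖C g‖ ^ 2 = ∑ g, ‖z g‖ ^ 2 := by
    rw [← Finset.sum_filter_add_sum_filter_not Finset.univ (· ∈ Dade.supp (pos K) M (Cfsg.supportR M))]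
    congr 1
    refine Finset.sum_congr rfl fun g hg => ?_
    rw [hz, Pi.add_apply, hX, Xf, Dade.dade_eq_zero (Finset.mem_filter.mp hg).2, zero_add]
  rw [← hsplit, mul_add] at htot
  have hq0 : (0 : ℝ) < q := by exact_mod_cast Nat.zero_lt_of_lt d.act.one_lt
  have hk0 : (0 : ℝ) < Nat.card K := by exact_mod_cast Nat.card_pos
  have hsq : 0 ≤ (W * t - q) ^ 2 / W := by positivity
  have hexp : (W * t - q) ^ 2 / W = W * t ^ 2 - 2 * q * t + (q : ℝ) ^ 2 / W := by field_simp; ring
  have hBz' : (q : ℝ) - (q : ℝ) ^ 2 / Nat.card K - (q : ℝ) ^ 2 / W ≤ BB K z := by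
    have : BB K z = (q : ℝ) - 2 * q * t + BB K f - (q : ℝ) ^ 2 / Nat.card K := by
      field_simp
      linear_combination hBz
    rw [this]
    linarith
  have h5 := hBz'.trans hle
  refine le_of_mul_le_mul_left ?_ hq0
  have h6 : (q : ℝ) * ((q : ℝ) / Nat.card K + (q : ℝ) / W) = (q : ℝ) ^ 2 / Nat.card K + (q : ℝ) ^ 2 / W := by ring
  rw [h6]
  nlinarith [mul_comm (q : ℝ) 1]

end Dat

end CfsgLib.OddOrder.Final.Ten
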