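import Cfsg.Agent.Lib.OddOrder.Final.TenValues
import Cfsg.Agent.S1506
import Mathlib

/-!
The grid of `τ (Ind λ - Ind 1)`: either every `c (η φ) λ` is `-1`, or almost all vanish.
-/

set_option autoImplicit false
set_option linter.unusedSectionVars false
set_option linter.style.haveILetI false

open scoped ComplexConjugate

namespace CfsgLib.OddOrder.Final.Ten

open CfsgLib.Char CfsgLib.Char.Coherence

/-- The arithmetic of a grid `a i + b j + 1` of small norm. -/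
theorem grid_cases {ι κ : Type*} [Fintype ι] [Fintype κ] (a : ι → ℤ) (b : κ → ℤ) (s : ι → ι)
    (hs : ∀ i, s i ≠ i) (ha : ∀ i, a (s i) = a i) {q p : ℕ} (hq : Fintype.card ι + 1 = q)
    (hp : Fintype.card κ + 1 = p) (hp3 : 3 ≤ p) (hq3 : 3 ≤ q)
    (hle : ∑ j, b j ^ 2 + ∑ i, (a i ^ 2 + ∑ j, (a i + b j + 1) ^ 2) ≤ q) :
    (∀ i, a i = -1) ∨ p - 1 + p * (Finset.univ.filter fun i => a i ≠ 0).card ≤ q := by
  classical
  set f : ℤ → ℤ := fun x => x ^ 2 + ∑ j, (x + b j + 1) ^ 2 with hf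
  have hnn : ∀ x, 0 ≤ ∑ j, (x + b j + 1) ^ 2 := fun x => Finset.sum_nonneg fun j _ => sq_nonneg _
  have hbb : 0 ≤ ∑ j, b j ^ 2 := Finset.sum_nonneg fun j _ => sq_nonneg _
  by_cases h0 : ∀ j, b j = 0
  · left
    have hfx : ∀ x, f x = x ^ 2 + ((p : ℤ) - 1) * (x + 1) ^ 2 := fun x => by
      have : (Fintype.card κ : ℤ) = (p : ℤ) - 1 := by omega
      simp [hf, h0, this]
    have hpos : ∀ x, 1 ≤ f x ∧ (x ≠ -1 → 2 ≤ f x) := fun x => by
      rw [hfx]
      have hp' : (2 : ℤ) ≤ (p : ℤ) - 1 := by omega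
      by_cases hx : x = -1
      · subst hx; exact ⟨by simp, fun h => absurd rfl h⟩
      have h1 : 1 ≤ (x + 1) ^ 2 := by
        have : x + 1 ≠ 0 := fun e => hx (by omega)
        nlinarith [Int.one_le_abs this, sq_abs (x + 1)]
      have : 2 ≤ x ^ 2 + ((p : ℤ) - 1) * (x + 1) ^ 2 := by nlinarith [sq_nonneg x]
      exact ⟨by omega, fun _ => this⟩
    intro i
    by_contra hi
    have hsub : ({i, s i} : Finset ι) ⊆ Finset.univ := Finset.subset_univ _
    have hcount : (Fintype.card ι : ℤ) + 2 ≤ ∑ k, f (a k) := by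
      have h2 : ∀ k, 1 + (if k ∈ ({i, s i} : Finset ι) then 1 else 0) ≤ f (a k) := by
        intro k
        split_ifs with hk
        · simp only [Finset.mem_insert, Finset.mem_singleton] at hk
          have : a k = a i := by rcases hk with rfl | rfl; exacts [rfl, ha i]
          rw [this]
          exact (hpos _).2 hi
        · simpa using (hpos _).1
      refine le_trans (le_of_eq ?_) (Finset.sum_le_sum fun k _ => h2 k)
      rw [Finset.sum_add_distrib, Finset.sum_ite_mem, Finset.univ_inter, Finset.sum_const, Finset.sum_const,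
        Finset.card_pair (hs i).symm, Finset.card_univ]
      simp
    have : (Fintype.card ι : ℤ) + 2 ≤ q := hcount.trans (le_trans (le_add_of_nonneg_left hbb) hle)
    omega
  · right
    push Not at h0
    obtain ⟨j₀, hj₀⟩ := h0
    by_cases h1 : ∀ j, b j = -1
    · have hfx : ∀ x, f x = (p : ℤ) * x ^ 2 := fun x => by
        have : (Fintype.card κ : ℤ) = (p : ℤ) - 1 := by omega
        simp [hf, h1, this]
        ring
      have hsq : ∑ j, b j ^ 2 = (p : ℤ) - 1 := by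
        have : (Fintype.card κ : ℤ) = (p : ℤ) - 1 := by omega
        simp [h1, this]
      have hsum : (p : ℤ) * (Finset.univ.filter fun i => a i ≠ 0).card ≤ ∑ i, f (a i) := by
        rw [Finset.card_eq_sum_ones, Nat.cast_sum, Finset.mul_sum]
        refine le_trans (Finset.sum_le_sum fun i hi => ?_) (Finset.sum_le_sum_of_subset_of_nonneg
          (Finset.subset_univ _) fun i _ _ => by rw [hfx]; positivity)
        rw [hfx, Nat.cast_one, mul_one]
        have h1 : 1 ≤ a i ^ 2 := by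
          nlinarith [Int.one_le_abs (Finset.mem_filter.mp hi).2, sq_abs (a i)]
        nlinarith
      have : (p : ℤ) - 1 + (p : ℤ) * (Finset.univ.filter fun i => a i ≠ 0).card ≤ q := by
        rw [← hsq]; exact (add_le_add_right hsum _).trans hle
      have h2 : ((p - 1 + p * (Finset.univ.filter fun i => a i ≠ 0).card : ℕ) : ℤ) ≤ q := by
        push_cast [Nat.cast_sub (by omega : 1 ≤ p)]; exact this
      exact_mod_cast h2
    · push Not at h1
      obtain ⟨j₁, hj₁⟩ := h1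
      have hb1 : 1 ≤ b j₀ ^ 2 := by nlinarith [Int.one_le_abs hj₀, sq_abs (b j₀)]
      have hbsum : 1 ≤ ∑ j, b j ^ 2 :=
        hb1.trans (Finset.single_le_sum (fun j _ => sq_nonneg (b j)) (Finset.mem_univ j₀))
      have hrow : ∀ i, 1 ≤ f (a i) := by
        intro i
        by_cases hai : a i = 0
        · have : 1 ≤ (a i + b j₁ + 1) ^ 2 := by
            have : a i + b j₁ + 1 ≠ 0 := by omega
            nlinarith [Int.one_le_abs this, sq_abs (a i + b j₁ + 1)]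
          have h2 := Finset.single_le_sum (fun j _ => sq_nonneg (a i + b j + 1)) (Finset.mem_univ j₁)
          simp only [hf]; nlinarith [sq_nonneg (a i)]
        · have : 1 ≤ a i ^ 2 := by nlinarith [Int.one_le_abs hai, sq_abs (a i)]
          simp only [hf]; linarith [hnn (a i)]
      have hB : ∑ j, b j ^ 2 = 1 := by
        have : (Fintype.card ι : ℤ) ≤ ∑ i, f (a i) := by
          refine le_trans (le_of_eq ?_) (Finset.sum_le_sum fun i _ => hrow i)
          simp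
        simp only [hf] at this
        omega
      have hrows : ∀ i, f (a i) = 1 := by
        intro i
        refine le_antisymm ?_ (hrow i)
        have h2 : ∑ k ∈ Finset.univ.erase i, (1 : ℤ) ≤ ∑ k ∈ Finset.univ.erase i, f (a k) :=
          Finset.sum_le_sum fun k _ => hrow k
        rw [Finset.sum_const, Finset.card_erase_of_mem (Finset.mem_univ _), Finset.card_univ, nsmul_eq_mul,
          mul_one] at h2
        have h3 := Finset.add_sum_erase Finset.univ (fun k => f (a k)) (Finset.mem_univ i)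
        simp only [hf] at h2 h3 hle ⊢
        have : 1 ≤ Fintype.card ι := Fintype.card_pos_iff.mpr ⟨i⟩
        omega
      have hbz : ∀ j ≠ j₀, b j = 0 := by
        intro j hj
        by_contra hne
        have := Finset.add_le_sum (fun k _ => sq_nonneg (b k)) (Finset.mem_univ j) (Finset.mem_univ j₀) hj
        have h4 : 1 ≤ b j ^ 2 := by nlinarith [Int.one_le_abs hne, sq_abs (b j)]
        simp only [hB] at this
        omega
      obtain ⟨j₂, hj₂⟩ : ∃ j, j ≠ j₀ := by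
        refine Fintype.exists_ne_of_one_lt_card ?_ j₀
        omega
      have haz : ∀ i, a i = 0 := by
        intro i
        by_contra hne
        have h4 : 1 ≤ a i ^ 2 := by nlinarith [Int.one_le_abs hne, sq_abs (a i)]
        have h5 := Finset.add_le_sum (fun k _ => sq_nonneg (a i + b k + 1)) (Finset.mem_univ j₂)
          (Finset.mem_univ j₀) hj₂
        rw [hbz j₂ hj₂] at h5
        have h6 := hrows i
        simp only [hf] at h6
        have h7 : (a i + 1) ^ 2 + (a i + b j₀ + 1) ^ 2 ≤ 0 := by simpa using (by omega : (a i + 0 + 1) ^ 2 + (a i + b j₀ + 1) ^ 2 ≤ (0 : ℤ))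
        have e1 : a i + 1 = 0 := by nlinarith [sq_nonneg (a i + b j₀ + 1), sq_nonneg (a i + 1)]
        have e2 : a i + b j₀ + 1 = 0 := by nlinarith [sq_nonneg (a i + b j₀ + 1), sq_nonneg (a i + 1)]
        omega
      obtain ⟨i₀⟩ : Nonempty ι := Fintype.card_pos_iff.mp (by omega)
      have hp' : p = 3 := by
        have h6 := hrows i₀
        simp only [hf, haz i₀] at h6
        have h7 : (Fintype.card κ : ℤ) - 1 ≤ ∑ j, (0 + b j + 1) ^ 2 := by
          rw [← Finset.add_sum_erase _ _ (Finset.mem_univ j₀),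
            Finset.sum_congr rfl fun j hj => by rw [hbz j (Finset.ne_of_mem_erase hj)],
            Finset.sum_const, Finset.card_erase_of_mem (Finset.mem_univ _), Finset.card_univ]
          simp
          have := sq_nonneg (b j₀ + 1)
          omega
        have h8 : (0 : ℤ) ^ 2 + ∑ j, (0 + b j + 1) ^ 2 = 1 := h6
        omega
      simp [haz]
      omega

variable {G : Type*} [Group G] [Fintype G] {M : Subgroup G} {K W₁ W₂ : Subgroup M} [hK : K.Normal] {q p : ℕ}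

namespace Dat

variable [Fintype M] [Fintype K] (d : Dat M K W₁ W₂ q p)
include d

/-- The image `τ (Ind θ - θ(1) Ind 1)`. -/
noncomputable def Xf (_ : Dat M K W₁ W₂ q p) (θ : K → ℂ) : G → ℂ :=
  Cfsg.dadeIsometry (pos K) M (Cfsg.supportR M) (Cfsg.indFun K (θ - θ 1 • fun _ => (1 : ℂ)))

theorem ind_supp (θ : K → ℂ) : ∀ x : M, (x : G) ∉ pos K → Cfsg.indFun K (θ - θ 1 • fun _ => (1 : ℂ)) x = 0 := by
  intro x hx
  by_cases hxK : x ∈ K
  · obtain rfl : x = 1 := by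
      by_contra h1
      exact hx (mem_pos.mpr ⟨hxK, h1⟩)
    rw [indFun_one]
    simp
  · exact indFun_eq_zero_of_normal K _ hxK

theorem Xf_gen (θ : Cfsg.IrrCharacter K) : Cfsg.IsGeneralizedCharacter G (d.Xf (θ : K → ℂ)) :=
  Dade.isGeneralizedCharacter_dade d.dade (d.indFun_sub_gen θ) (d.ind_supp _)

theorem classInner_Xf (θ θ' : K → ℂ) : Cfsg.classInner (d.Xf θ) (d.Xf θ') =
    Cfsg.classInner (Cfsg.indFun K (θ - θ 1 • fun _ => (1 : ℂ))) (Cfsg.indFun K (θ' - θ' 1 • fun _ => (1 : ℂ))) :=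
  Dade.classInner_dade_dade d.dade (indFun_isClassFunction K _) (d.ind_supp θ) (indFun_isClassFunction K _)

theorem Xf_V (θ : K → ℂ) {g : G} (hg : g ∈ CyclicTI.vset (W₁.map M.subtype) (W₂.map M.subtype)) :
    d.Xf θ g = 0 :=
  Dade.dade_eq_zero fun hs => (d.vset_order hg).1 (d.supp_coprime hs)

theorem stab_linear {θ : Cfsg.IrrCharacter K} (hθ : (θ : K → ℂ) ≠ fun _ => 1) (hd : natDeg (θ : K → ℂ) = 1)
    (g : M) (hg : conjG (θ : K → ℂ) g = θ) : g ∈ K := by
  obtain ⟨a, ha, x, hx, rfl⟩ := Subgroup.mem_sup_of_normal_left.mp (d.act.sup ▸ Subgroup.mem_top g : g ∈ K ⊔ W₁)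
  rw [← conjG_mul, conjG_of_mem (IsIrrCharacter.isClassFunction θ.2) ha] at hg
  by_cases hx1 : x = 1
  · rw [hx1, mul_one]; exact ha
  · exact absurd hg (d.act.linear_free hθ hd x hx hx1)

omit d in
theorem ind_inner (θ θ' : Cfsg.IrrCharacter K) :
    ∃ n : ℕ, Cfsg.classInner (Cfsg.indFun K (θ : K → ℂ)) (Cfsg.indFun K (θ' : K → ℂ)) = (n : ℂ) :=
  IsCharacter.classInner_nat (IsCharacter.indFun K (IsIrrCharacter.isCharacter θ.2))
    (IsCharacter.indFun K (IsIrrCharacter.isCharacter θ'.2))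

theorem ind_inner_self {θ : Cfsg.IrrCharacter K} (hθ : (θ : K → ℂ) ≠ fun _ => 1) (hd : natDeg (θ : K → ℂ) = 1) :
    Cfsg.classInner (Cfsg.indFun K (θ : K → ℂ)) (Cfsg.indFun K (θ : K → ℂ)) = 1 := by
  rw [classInner_indFun_irr θ.2 θ.2, div_eq_one_iff_eq (Nat.cast_ne_zero.mpr Nat.card_pos.ne')]
  congr 1
  exact Nat.card_congr
    { toFun := fun g => ⟨g.1, d.stab_linear hθ hd g.1 g.2⟩
      invFun := fun g => ⟨g.1, conjG_of_mem (IsIrrCharacter.isClassFunction θ.2) g.2⟩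
      left_inv := fun g => rfl
      right_inv := fun g => rfl }

theorem ind_one_one : Cfsg.classInner (Cfsg.indFun K (fun _ => (1 : ℂ))) (Cfsg.indFun K (fun _ => (1 : ℂ))) = (q : ℂ) := by
  have h : Nat.card {g : M // conjG (fun _ : K => (1 : ℂ)) g = fun _ => 1} = Nat.card M :=
    Nat.card_congr (Equiv.subtypeUnivEquiv fun g => rfl)
  rw [classInner_indFun_irr isIrrCharacter_one isIrrCharacter_one, h, d.card_M,
    div_eq_iff (Nat.cast_ne_zero.mpr Nat.card_pos.ne')]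
  push_cast
  rfl

theorem ind_one_ne {θ : Cfsg.IrrCharacter K} (hθ : (θ : K → ℂ) ≠ fun _ => 1) :
    Cfsg.classInner (Cfsg.indFun K (θ : K → ℂ)) (Cfsg.indFun K (fun _ => (1 : ℂ))) = 0 :=
  classInner_indFun_eq_zero θ.2 isIrrCharacter_one fun _ e => hθ e

theorem ind_ne_one {θ : Cfsg.IrrCharacter K} (hθ : (θ : K → ℂ) ≠ fun _ => 1) :
    Cfsg.classInner (Cfsg.indFun K (fun _ => (1 : ℂ))) (Cfsg.indFun K (θ : K → ℂ)) = 0 := by
  rw [← classInner_conj_symm, d.ind_one_ne hθ, map_zero]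

theorem Xf_lin {θ : Cfsg.IrrCharacter K} (hd : natDeg (θ : K → ℂ) = 1) :
    Cfsg.indFun K ((θ : K → ℂ) - (θ : K → ℂ) 1 • fun _ => (1 : ℂ)) =
      Cfsg.indFun K (θ : K → ℂ) - Cfsg.indFun K (fun _ => (1 : ℂ)) := by
  rw [natDeg_spec θ.2, hd, Nat.cast_one, one_smul, indFun_sub]

theorem Xf_norm {θ : Cfsg.IrrCharacter K} (hθ : (θ : K → ℂ) ≠ fun _ => 1) (hd : natDeg (θ : K → ℂ) = 1) :
    Cfsg.classInner (d.Xf (θ : K → ℂ)) (d.Xf (θ : K → ℂ)) = (q : ℂ) + 1 := by
  rw [d.classInner_Xf, d.Xf_lin hd, classInner_sub_left, classInner_sub_right, classInner_sub_right,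
    d.ind_inner_self hθ hd, d.ind_one_one, d.ind_one_ne hθ, d.ind_ne_one hθ]
  ring

variable {η : (↥(W₁.map M.subtype ⊔ W₂.map M.subtype) →* ℂˣ) → G → ℂ}
  (hη : Cfsg.IsCyclicTIFamily (W₁.map M.subtype) (W₂.map M.subtype) η)
include hη

theorem inner_eq_coef (ω : ↥(W₁.map M.subtype ⊔ W₂.map M.subtype) →* ℂˣ) (θ : K → ℂ) :
    Cfsg.classInner (d.Xf θ) (η ω) = coef (η ω) θ :=
  (d.coef_eq_inner (IsGeneralizedCharacter.isClassFunction (d.eta_gen hη ω)) θ).symm

theorem inner_eq_cI (φ : Fst W₁ W₂) (θ : Cfsg.IrrCharacter K) :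
    Cfsg.classInner (d.Xf (θ : K → ℂ)) (η φ.1) = (cI (η φ.1) θ : ℂ) := by
  rw [d.inner_eq_coef hη, d.coe_cI (d.eta_good hη φ)]

/-- The grid rule. -/
theorem grid (f : G → ℂ) (hf : Cfsg.IsClassFunction G f)
    (hfV : ∀ g ∈ CyclicTI.vset (W₁.map M.subtype) (W₂.map M.subtype), f g = 0)
    (φ : Fst W₁ W₂) (ψ : CyclicTI.SndChar (W₁.map M.subtype) (W₂.map M.subtype)) :
    Cfsg.classInner f (η (φ.1 * ψ.1)) =
      Cfsg.classInner f (η φ.1) + Cfsg.classInner f (η ψ.1) - Cfsg.classInner f (η 1) := by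
  have h := Cfsg.Agent.S1506.result _ _ d.pair η hη f hf
    (fun w h1 h2 => hfV _ (CyclicTI.mem_vset.mpr ⟨w.2, h1, h2⟩)) φ.1 1 ψ.1 1
    (fun w hw => ⟨φ.2 w hw, rfl⟩) (fun w hw => ⟨ψ.2 w hw, rfl⟩)
  rw [(CyclicTI.hom_mul_one φ.1).1, (CyclicTI.hom_mul_one ψ.1).2, (CyclicTI.hom_mul_one (1 : _ →* ℂˣ)).1] at h
  linear_combination h

open scoped Classical in
/-- The squares of the inner products on the grid add up to at most the norm. -/
theorem bessel_grid [Fintype (Fst W₁ W₂)] [Fintype (CyclicTI.SndChar (W₁.map M.subtype) (W₂.map M.subtype))]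
    (f : G → ℂ) (a : Fst W₁ W₂ → ℤ) (b : CyclicTI.SndChar (W₁.map M.subtype) (W₂.map M.subtype) → ℤ) (z : ℤ)
    (hf : Cfsg.IsClassFunction G f)
    (hfV : ∀ g ∈ CyclicTI.vset (W₁.map M.subtype) (W₂.map M.subtype), f g = 0)
    (ha : ∀ φ : Fst W₁ W₂, Cfsg.classInner f (η φ.1) = a φ)
    (hb : ∀ ψ : CyclicTI.SndChar (W₁.map M.subtype) (W₂.map M.subtype), Cfsg.classInner f (η ψ.1) = b ψ)
    (hz : Cfsg.classInner f (η 1) = z) :
    ((∑ φ, ∑ ψ, (a φ + b ψ - z) ^ 2 : ℤ) : ℝ) ≤ (Cfsg.classInner f f).re := by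
  have hw : ∀ i ∈ (Finset.univ : Finset (Fst W₁ W₂ × CyclicTI.SndChar (W₁.map M.subtype) (W₂.map M.subtype))),
      ∀ j ∈ (Finset.univ : Finset (Fst W₁ W₂ × CyclicTI.SndChar (W₁.map M.subtype) (W₂.map M.subtype))),
      Cfsg.classInner (η (i.1.1 * i.2.1)) (η (j.1.1 * j.2.1)) = if i = j then ((1 : ℕ) : ℂ) else 0 := by
    intro i _ j _
    rw [hη.orthonormal, Nat.cast_one]
    by_cases e : i = j
    · rw [if_pos e, if_pos (by rw [e])]
    · rw [if_neg e, if_neg fun h => e ((CyclicTI.mul_bijective d.pair).1 h)]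
  have h := (Coherence.bessel Finset.univ (fun i : Fst W₁ W₂ × CyclicTI.SndChar (W₁.map M.subtype) (W₂.map M.subtype) =>
    η (i.1.1 * i.2.1)) (fun _ => 1) (fun _ _ => Nat.one_pos) hw f (fun i => a i.1 + b i.2 - z) fun i _ => by
      rw [d.grid hη f hf hfV, ha, hb, hz]; push_cast; ring).1
  refine le_trans (le_of_eq ?_) h
  rw [Fintype.sum_prod_type]
  simp

open scoped Classical in
/-- **The dichotomy.** -/
theorem dichotomy [Fintype (Fst W₁ W₂)] {θ : Cfsg.IrrCharacter K} (hθ : (θ : K → ℂ) ≠ fun _ => 1)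
    (hd : natDeg (θ : K → ℂ) = 1) :
    (∀ φ : Fst W₁ W₂, φ ≠ fstOne W₁ W₂ → cI (η φ.1) θ = -1) ∨
      p - 1 + p * (Finset.univ.filter fun φ : Fst W₁ W₂ => φ ≠ fstOne W₁ W₂ ∧ cI (η φ.1) θ ≠ 0).card ≤ q := by
  haveI := CyclicTI.finite_hom (W₁ := W₁.map M.subtype) (W₂ := W₂.map M.subtype)
  letI := Fintype.ofFinite (CyclicTI.SndChar (W₁.map M.subtype) (W₂.map M.subtype))
  set one₂ : CyclicTI.SndChar (W₁.map M.subtype) (W₂.map M.subtype) := ⟨1, fun _ _ => rfl⟩
  choose bfn hbfn using fun ψ : CyclicTI.SndChar (W₁.map M.subtype) (W₂.map M.subtype) =>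
    IsGeneralizedCharacter.classInner_int (d.Xf_gen θ) (d.eta_gen hη ψ.1)
  have hz : Cfsg.classInner (d.Xf (θ : K → ℂ)) (η 1) = ((-1 : ℤ) : ℂ) := by
    have := d.inner_eq_cI hη (fstOne W₁ W₂) θ
    rw [d.cI_eta_one hη θ hθ, hd] at this
    exact this
  have hb1 : bfn one₂ = -1 := by
    have := hbfn one₂
    rw [hz] at this
    exact_mod_cast this.symm
  have hB := d.bessel_grid hη (d.Xf (θ : K → ℂ)) (fun φ => cI (η φ.1) θ) bfn (-1)
    (IsGeneralizedCharacter.isClassFunction (d.Xf_gen θ)) (fun g hg => d.Xf_V _ hg)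
    (fun φ => d.inner_eq_cI hη φ θ) hbfn hz
  rw [d.Xf_norm hθ hd, Complex.add_re, Complex.natCast_re, Complex.one_re] at hB
  have hB' : ∑ φ : Fst W₁ W₂, ∑ ψ, (cI (η φ.1) θ + bfn ψ - -1) ^ 2 ≤ (q : ℤ) + 1 := by exact_mod_cast hB
  have ha1 : cI (η (fstOne W₁ W₂).1) θ = -1 := by rw [d.cI_eta_one hη θ hθ, hd]; rfl
  let ι := {φ : Fst W₁ W₂ // φ ≠ fstOne W₁ W₂}
  let κ := {ψ : CyclicTI.SndChar (W₁.map M.subtype) (W₂.map M.subtype) // ψ ≠ one₂}
  have hsplitφ : ∀ F : Fst W₁ W₂ → ℤ, ∑ φ, F φ = F (fstOne W₁ W₂) + ∑ i : ι, F i.1 := fun F => by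
    rw [← Finset.add_sum_erase _ _ (Finset.mem_univ (fstOne W₁ W₂))]
    congr 1
    exact Finset.sum_subtype _ (fun u => by simp) F
  have hsplitψ : ∀ F : CyclicTI.SndChar (W₁.map M.subtype) (W₂.map M.subtype) → ℤ,
      ∑ ψ, F ψ = F one₂ + ∑ j : κ, F j.1 := fun F => by
    rw [← Finset.add_sum_erase _ _ (Finset.mem_univ one₂)]
    congr 1
    exact Finset.sum_subtype _ (fun u => by simp) F
  have hle : ∑ j : κ, bfn j.1 ^ 2 + ∑ i : ι, (cI (η i.1.1) θ ^ 2 + ∑ j : κ, (cI (η i.1.1) θ + bfn j.1 + 1) ^ 2) ≤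
      (q : ℤ) := by
    rw [hsplitφ, hsplitψ] at hB'
    simp only [hsplitψ, ha1, hb1] at hB'
    simp only [sub_neg_eq_add, neg_add_cancel, neg_add_cancel_right, neg_add_cancel_left, zero_add] at hB'
    have e : ∀ x : ℤ, (-1 + x + 1) = x := fun x => by ring
    have e' : ∀ x : ℤ, (x + -1 + 1) = x := fun x => by ring
    simp only [e, e'] at hB'
    linarith
  have hinv : ∀ i : ι, fstInv i.1 ≠ fstOne W₁ W₂ := fun i e => i.2 (by
    rw [← fstInv_fstInv i.1, e]
    exact Subtype.ext (MonoidHom.ext fun w => inv_one))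
  have hfixinv : ∀ i : ι, (⟨fstInv i.1, hinv i⟩ : ι) ≠ i := by
    intro i e
    apply i.2
    have e' : (fstInv i.1).1 = i.1.1 := congrArg (fun t : ι => t.1.1) e
    have h2 : i.1.1 ^ 2 = 1 := by
      rw [sq]; nth_rw 1 [← e']
      exact MonoidHom.ext fun w => inv_mul_cancel _
    have h3 := (orderOf_dvd_of_pow_eq_one h2)
    have h4 := Nat.dvd_gcd h3 (d.fst_order i.1)
    rw [Nat.coprime_two_left.mpr d.act.odd_q, Nat.dvd_one, orderOf_eq_one_iff] at h4
    exact Subtype.ext h4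
  have hq : Fintype.card ι + 1 = q := by
    have hc : Fintype.card (Fst W₁ W₂) = Fintype.card ι + 1 := by
      rw [Fintype.card_subtype_compl, Fintype.card_subtype_eq]
      have : 0 < Fintype.card (Fst W₁ W₂) := Fintype.card_pos_iff.mpr ⟨fstOne W₁ W₂⟩
      omega
    rw [← hc, d.card_fst]
  have hp : Fintype.card κ + 1 = p := by
    have hc : Fintype.card (CyclicTI.SndChar (W₁.map M.subtype) (W₂.map M.subtype)) = Fintype.card κ + 1 := by
      rw [Fintype.card_subtype_compl, Fintype.card_subtype_eq]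
      have : 0 < Fintype.card (CyclicTI.SndChar (W₁.map M.subtype) (W₂.map M.subtype)) :=
        Fintype.card_pos_iff.mpr ⟨one₂⟩
      omega
    rw [← hc, ← Nat.card_eq_fintype_card, (CyclicTI.card_fstChar d.pair).2,
      Subgroup.card_map_of_injective M.subtype_injective, d.act.cardW₂]
  rcases grid_cases (fun i : ι => cI (η i.1.1) θ) (fun j : κ => bfn j.1) (fun i => ⟨fstInv i.1, hinv i⟩) hfixinv
    (fun i => d.cI_fstInv hη i.1 θ) hq hp d.act.three_le_p d.act.three_le_q hle with h | h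
  · exact Or.inl fun φ hφ => h ⟨φ, hφ⟩
  · refine Or.inr (le_trans (le_of_eq ?_) h)
    congr 2
    rw [← Finset.card_map ⟨Subtype.val, Subtype.val_injective⟩ (s := Finset.univ.filter fun i : ι => cI (η i.1.1) θ ≠ 0)]
    refine congrArg Finset.card ?_
    ext φ
    simp only [Finset.mem_filter, Finset.mem_univ, true_and, Finset.mem_map, Function.Embedding.coeFn_mk]
    exact ⟨fun ⟨h1, h2⟩ => ⟨⟨φ, h1⟩, h2, rfl⟩, fun ⟨i, h2, e⟩ => e ▸ ⟨i.2, h2⟩⟩

open scoped Classical in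
/-- All nontrivial linear characters have the same coefficients. -/
theorem cI_linear_eq [Fintype (Fst W₁ W₂)] {θ θ' : Cfsg.IrrCharacter K} (hθ : (θ : K → ℂ) ≠ fun _ => 1)
    (hd : natDeg (θ : K → ℂ) = 1) (hθ' : (θ' : K → ℂ) ≠ fun _ => 1) (hd' : natDeg (θ' : K → ℂ) = 1)
    (φ : Fst W₁ W₂) : cI (η φ.1) θ = cI (η φ.1) θ' := by
  by_contra hne
  haveI := CyclicTI.finite_hom (W₁ := W₁.map M.subtype) (W₂ := W₂.map M.subtype)
  letI := Fintype.ofFinite (CyclicTI.SndChar (W₁.map M.subtype) (W₂.map M.subtype))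
  set one₂ : CyclicTI.SndChar (W₁.map M.subtype) (W₂.map M.subtype) := ⟨1, fun _ _ => rfl⟩
  set X := d.Xf (θ : K → ℂ) - d.Xf (θ' : K → ℂ) with hX
  have hXc : Cfsg.IsClassFunction G X := fun g y => by
    simp only [hX, Pi.sub_apply, IsGeneralizedCharacter.isClassFunction (d.Xf_gen θ) g y,
      IsGeneralizedCharacter.isClassFunction (d.Xf_gen θ') g y]
  choose bfn hbfn using fun ψ : CyclicTI.SndChar (W₁.map M.subtype) (W₂.map M.subtype) =>
    IsGeneralizedCharacter.classInner_int (IsGeneralizedCharacter.sub (d.Xf_gen θ) (d.Xf_gen θ'))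
      (d.eta_gen hη ψ.1)
  have ha : ∀ φ : Fst W₁ W₂, Cfsg.classInner X (η φ.1) = ((cI (η φ.1) θ - cI (η φ.1) θ' : ℤ) : ℂ) := fun φ => by
    rw [hX, classInner_sub_left, d.inner_eq_cI hη, d.inner_eq_cI hη]; push_cast; rfl
  have hz : Cfsg.classInner X (η 1) = ((0 : ℤ) : ℂ) := by
    have := ha (fstOne W₁ W₂)
    rw [d.cI_eta_one hη θ hθ, d.cI_eta_one hη θ' hθ', hd, hd', sub_self] at this
    exact this
  have hb1 : bfn one₂ = 0 := by
    have := hbfn one₂
    rw [show Cfsg.classInner _ (η one₂.1) = Cfsg.classInner X (η 1) from rfl, hz] at this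
    exact_mod_cast this.symm
  have hnorm : (Cfsg.classInner X X).re ≤ 2 := by
    obtain ⟨n, hn⟩ := ind_inner θ θ'
    obtain ⟨n', hn'⟩ := ind_inner θ' θ
    rw [hX]
    simp only [classInner_sub_left, classInner_sub_right, d.classInner_Xf, d.Xf_lin hd, d.Xf_lin hd',
      d.ind_inner_self hθ hd, d.ind_inner_self hθ' hd', d.ind_one_one, d.ind_one_ne hθ, d.ind_one_ne hθ',
      d.ind_ne_one hθ, d.ind_ne_one hθ', hn, hn']
    simp only [Complex.sub_re, Complex.one_re, Complex.natCast_re, Complex.zero_re]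
    have h1 : (0 : ℝ) ≤ n := Nat.cast_nonneg _
    have h2 : (0 : ℝ) ≤ n' := Nat.cast_nonneg _
    linarith
  have hB := d.bessel_grid hη X (fun φ => cI (η φ.1) θ - cI (η φ.1) θ') bfn 0 hXc
    (fun g hg => by simp [hX, d.Xf_V _ hg]) ha hbfn hz
  have hB' : ∑ φ : Fst W₁ W₂, ∑ ψ, (cI (η φ.1) θ - cI (η φ.1) θ' + bfn ψ - 0) ^ 2 ≤ (2 : ℤ) := by
    exact_mod_cast hB.trans hnorm
  set A := cI (η φ.1) θ - cI (η φ.1) θ' with hA
  have hA0 : A ≠ 0 := sub_ne_zero.mpr hne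
  have hφ1 : φ ≠ fstOne W₁ W₂ := fun e => hA0 (by
    rw [hA, e, d.cI_eta_one hη θ hθ, d.cI_eta_one hη θ' hθ', hd, hd', sub_self])
  have hinvne : fstInv φ ≠ φ := fun e => hφ1 (by
    have h2 : φ.1 ^ 2 = 1 := by
      rw [sq]; nth_rw 1 [← congrArg Subtype.val e]
      exact MonoidHom.ext fun w => inv_mul_cancel _
    have h4 := Nat.dvd_gcd (orderOf_dvd_of_pow_eq_one h2) (d.fst_order φ)
    rw [Nat.coprime_two_left.mpr d.act.odd_q, Nat.dvd_one, orderOf_eq_one_iff] at h4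
    exact Subtype.ext h4)
  have hinv1 : fstInv φ ≠ fstOne W₁ W₂ := fun e => hφ1 (by
    rw [← fstInv_fstInv φ, e]; exact Subtype.ext (MonoidHom.ext fun w => inv_one))
  obtain ⟨ψ₀, hψ₀⟩ : ∃ ψ, ψ ≠ one₂ := by
    refine Fintype.exists_ne_of_one_lt_card ?_ one₂
    rw [← Nat.card_eq_fintype_card, (CyclicTI.card_fstChar d.pair).2,
      Subgroup.card_map_of_injective M.subtype_injective, d.act.cardW₂]
    exact d.act.prime.one_lt
  have hA2 : 1 ≤ A ^ 2 := by nlinarith [Int.one_le_abs hA0, sq_abs A]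
  have hrow : ∀ χ : Fst W₁ W₂, (cI (η χ.1) θ - cI (η χ.1) θ' + bfn one₂ - 0) ^ 2 +
      (cI (η χ.1) θ - cI (η χ.1) θ' + bfn ψ₀ - 0) ^ 2 ≤
      ∑ ψ, (cI (η χ.1) θ - cI (η χ.1) θ' + bfn ψ - 0) ^ 2 := fun χ =>
    Finset.add_le_sum (f := fun ψ => (cI (η χ.1) θ - cI (η χ.1) θ' + bfn ψ - 0) ^ 2) (fun ψ _ => sq_nonneg _)
      (Finset.mem_univ one₂) (Finset.mem_univ ψ₀) hψ₀.symm
  have hsum3 : ∑ χ ∈ ({φ, fstInv φ, fstOne W₁ W₂} : Finset (Fst W₁ W₂)),
      ∑ ψ, (cI (η χ.1) θ - cI (η χ.1) θ' + bfn ψ - 0) ^ 2 ≤ 2 :=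
    le_trans (Finset.sum_le_sum_of_subset_of_nonneg (Finset.subset_univ _)
      fun χ _ _ => Finset.sum_nonneg fun ψ _ => sq_nonneg _) hB'
  rw [Finset.sum_insert (by simp [hinvne.symm, hφ1]), Finset.sum_insert (by simp [hinv1]), Finset.sum_singleton] at hsum3
  have r1 := hrow φ
  have r2 := hrow (fstInv φ)
  have r3 := hrow (fstOne W₁ W₂)
  have e2 : cI (η (fstInv φ).1) θ - cI (η (fstInv φ).1) θ' = A := by rw [d.cI_fstInv hη, d.cI_fstInv hη]
  have e3 : cI (η (fstOne W₁ W₂).1) θ - cI (η (fstOne W₁ W₂).1) θ' = 0 := by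
    rw [d.cI_eta_one hη θ hθ, d.cI_eta_one hη θ' hθ', hd, hd', sub_self]
  rw [← hA, hb1] at r1
  rw [e2, hb1] at r2
  rw [e3, hb1] at r3
  rw [e2, e3, ← hA] at hsum3
  have hbound : (A + bfn ψ₀) ^ 2 + (bfn ψ₀) ^ 2 ≤ 0 := by
    simp only [add_zero, sub_zero, zero_add] at r1 r2 r3 hsum3
    nlinarith
  have e4 : bfn ψ₀ = 0 := by nlinarith [sq_nonneg (A + bfn ψ₀), sq_nonneg (bfn ψ₀)]
  rw [e4] at hbound
  nlinarith

end Dat

end CfsgLib.OddOrder.Final.Ten
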