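import Cfsg.Agent.Lib.OddOrder.Final.TenGrid
import Cfsg.Agent.Lib.OddOrder.Final.TenOut
import Mathlib

/-!
The layer sums vanish, and the mirror case is impossible.
-/

set_option autoImplicit false
set_option linter.unusedSectionVars false
set_option linter.style.haveILetI false

open scoped ComplexConjugate

namespace CfsgLib.OddOrder.Final.Ten

open CfsgLib.Char CfsgLib.Char.Coherence

variable {G : Type*} [Group G] [Fintype G] {M : Subgroup G} {K W₁ W₂ : Subgroup M} [hK : K.Normal] {q p : ℕ}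

namespace Dat

variable [Fintype M] [Fintype K] (d : Dat M K W₁ W₂ q p)
include d

open scoped Classical in
/-- An integral multiple of the weight below the bound is zero. -/
theorem sOut_eq_zero {Y Z : Subgroup M} [Z.Normal] (hZ : Z < K) (hw : 2 * (2 * q + 1) ≤ wt K Y Z) {χ : G → ℂ}
    (hχ : Good K χ) (hs : ∃ s : ℤ, sOut K Y Z χ = s * (wt K Y Z : ℤ))
    (hlin : ∀ θ : Cfsg.IrrCharacter K, natDeg (θ : K → ℂ) = 1 → cI χ θ = 0)
    (hB : BB K χ < 2 / 3 * (2 * (q : ℝ) + 1)) : sOut K Y Z χ = 0 := by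
  obtain ⟨s, hs⟩ := hs
  haveI := d.act.nil
  obtain ⟨l, hl1, hlZ⟩ := CoherenceKernel.exists_linear_above K inferInstance Z hZ
  set lam : Cfsg.IrrCharacter K := ⟨_, isIrrCharacter_hom l⟩
  have hd1 : natDeg (lam : K → ℂ) = 1 := by simp [lam, natDeg]
  have htriv : TrivOn K Z (lam : K → ℂ) := fun a ha => by simp [lam, hlZ a ha]
  set one : Cfsg.IrrCharacter K := ⟨fun _ => 1, isIrrCharacter_one⟩ with hone
  set E := insert one (d.act.block lam) with hE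
  have hblk : ∀ μ ∈ d.act.block lam, natDeg (μ : K → ℂ) = 1 ∧ TrivOn K Z (μ : K → ℂ) := by
    intro μ hμ
    obtain ⟨x, -, rfl | rfl⟩ := d.act.mem_block.mp hμ
    · exact ⟨by rw [natDeg_cjI, hd1], trivOn_cjI.mpr htriv⟩
    · exact ⟨by rw [natDeg_cjI, natDeg_barI, hd1], trivOn_cjI.mpr (trivOn_barI.mpr htriv)⟩
  have hEprop : ∀ μ ∈ E, natDeg (μ : K → ℂ) = 1 ∧ TrivOn K Z (μ : K → ℂ) := by
    intro μ hμ
    rcases Finset.mem_insert.mp hμ with rfl | hμ
    · exact ⟨Feit.natDeg_one, fun a _ => rfl⟩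
    · exact hblk μ hμ
  have hnot : one ∉ d.act.block lam := by
    intro h
    have key : ∀ (μ : Cfsg.IrrCharacter K) (x : M), cjI μ x = one → (μ : K → ℂ) = fun _ => 1 := by
      intro μ x e
      have := congrArg (fun ν => cjI ν x⁻¹) e
      simp only [cjI_cjI, mul_inv_cancel, cjI_one] at this
      rw [this]; rfl
    obtain ⟨x, -, e | e⟩ := d.act.mem_block.mp h
    · exact hl1 (key lam x e.symm)
    · refine hl1 (funext fun a => RingHom.injective (starRingEnd ℂ) ?_)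
      rw [map_one]
      exact congrFun (key _ x e.symm) a
  have hEcard : E.card = 2 * q + 1 := by
    rw [hE, Finset.card_insert_of_notMem hnot, d.act.card_block hl1 (d.act.linear_free hl1 hd1)]
  have hdis : Disjoint (outSet K Y Z) E :=
    Finset.disjoint_left.mpr fun μ h1 h2 => (mem_outSet.mp h1).2 (hEprop μ h2).2
  have h := d.layer_le_BB hχ (s : ℝ) (Y := Y) (Z := Z) (by rw [hs]; push_cast; ring) E hdis
  rw [Finset.sum_congr rfl fun μ hμ => show ((cI χ μ : ℝ) - tt K χ * natDeg (μ : K → ℂ)) ^ 2 = tt K χ ^ 2 by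
      rw [(hEprop μ hμ).1, hlin μ (hEprop μ hμ).1]; push_cast; ring,
    Finset.sum_const, hEcard, nsmul_eq_mul] at h
  push_cast at h
  rw [hs]
  by_contra hne
  have hs0 : s ≠ 0 := fun e => hne (by rw [e, zero_mul])
  have hs2 : (1 : ℝ) ≤ (s : ℝ) ^ 2 := by
    have : (1 : ℤ) ≤ s ^ 2 := by nlinarith [Int.one_le_abs hs0, sq_abs s]
    exact_mod_cast this
  have hw' : 2 * (2 * (q : ℝ) + 1) ≤ wt K Y Z := by exact_mod_cast hw
  have hq0 : (0 : ℝ) ≤ q := Nat.cast_nonneg _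
  nlinarith [mul_nonneg (sub_nonneg.mpr hw') (sq_nonneg ((s : ℝ) - tt K χ)),
    mul_nonneg (show (0 : ℝ) ≤ 2 * q + 1 by linarith) (sq_nonneg (2 * ((s : ℝ) - tt K χ) - tt K χ))]

/-- The pair `θ, θ̄` against a layer of zero sum, `θ` outside the layer. -/
theorem lower_in {Y Z : Subgroup M} {χ : G → ℂ} (hχ : Good K χ) {θ : Cfsg.IrrCharacter K}
    (hθ : (θ : K → ℂ) ≠ fun _ => 1) (htriv : TrivOn K Z (θ : K → ℂ))
    (hd : 12 * natDeg (θ : K → ℂ) ^ 2 ≤ wt K Y Z) (hS : sOut K Y Z χ = 0) :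
    12 / 7 * (cI χ θ : ℝ) ^ 2 ≤ BB K χ := by
  classical
  have hdis : Disjoint (outSet K Y Z) ({θ, barI θ} : Finset (Cfsg.IrrCharacter K)) := by
    refine Finset.disjoint_left.mpr fun μ h1 h2 => (mem_outSet.mp h1).2 ?_
    simp only [Finset.mem_insert, Finset.mem_singleton] at h2
    rcases h2 with rfl | rfl
    exacts [htriv, trivOn_barI.mpr htriv]
  have h := d.layer_le_BB hχ 0 (Y := Y) (Z := Z) (by rw [hS]; simp) _ hdis
  rw [Finset.sum_pair (d.act.barI_ne hθ).symm, natDeg_barI, d.cI_barI hχ] at h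
  set C : ℝ := (cI χ θ : ℝ)
  set e : ℝ := (natDeg (θ : K → ℂ) : ℝ) with he
  set W : ℝ := (wt K Y Z : ℝ) with hW
  set t := tt K χ
  have hd' : 12 * e ^ 2 ≤ W := by rw [he, hW]; exact_mod_cast hd
  have he1 : (1 : ℝ) ≤ e := by rw [he]; exact_mod_cast natDeg_pos θ.2
  have hid : (W + 2 * e ^ 2) * (2 * (C - t * e) ^ 2 + W * t ^ 2) - 2 * C ^ 2 * W =
      (2 * e * (C - t * e) - W * t) ^ 2 := by ring
  have h' : 2 * (C - t * e) ^ 2 + W * t ^ 2 ≤ BB K χ := by nlinarith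
  have hpos : 0 < W + 2 * e ^ 2 := by nlinarith
  have h1 : 2 * C ^ 2 * W ≤ (W + 2 * e ^ 2) * BB K χ := by
    nlinarith [sq_nonneg (2 * e * (C - t * e) - W * t), mul_le_mul_of_nonneg_left h' hpos.le]
  have hBB0 : 0 ≤ BB K χ := by
    refine le_trans ?_ h'
    positivity
  have h2 : (W + 2 * e ^ 2) * BB K χ ≤ 7 / 6 * W * BB K χ :=
    mul_le_mul_of_nonneg_right (by linarith) hBB0
  nlinarith

/-- The pair `θ, θ̄` inside a layer of zero sum. -/
theorem lower_out {Y Z : Subgroup M} {χ : G → ℂ} (hχ : Good K χ) {θ : Cfsg.IrrCharacter K}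
    (hθ : (θ : K → ℂ) ≠ fun _ => 1) (hmem : θ ∈ outSet K Y Z) (hS : sOut K Y Z χ = 0) :
    12 / 7 * (cI χ θ : ℝ) ^ 2 ≤ BB K χ := by
  classical
  have hmem' : barI θ ∈ outSet K Y Z := by
    rw [mem_outSet, trivOn_barI, trivOn_barI]
    exact mem_outSet.mp hmem
  have h : ∑ μ ∈ outSet K Y Z, ((cI χ μ : ℝ) - tt K χ * natDeg (μ : K → ℂ)) ^ 2 ≤ BB K χ := d.sum_le_BB hχ _
  have e1 : ∑ μ ∈ outSet K Y Z, ((cI χ μ : ℝ) - tt K χ * natDeg (μ : K → ℂ)) ^ 2 =
      ∑ μ ∈ outSet K Y Z, (cI χ μ : ℝ) ^ 2 + tt K χ ^ 2 * wt K Y Z := by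
    have e : ∀ μ : Cfsg.IrrCharacter K, ((cI χ μ : ℝ) - tt K χ * natDeg (μ : K → ℂ)) ^ 2 = (cI χ μ : ℝ) ^ 2 +
        (tt K χ ^ 2 * ((natDeg (μ : K → ℂ) ^ 2 : ℕ) : ℝ) - 2 * tt K χ * ((cI χ μ * (natDeg (μ : K → ℂ) : ℤ) : ℤ) : ℝ)) :=
      fun μ => by push_cast; ring
    simp only [e, Finset.sum_add_distrib, Finset.sum_sub_distrib, ← Finset.mul_sum, ← Int.cast_sum, ← Nat.cast_sum]
    rw [show ∑ μ ∈ outSet K Y Z, cI χ μ * (natDeg (μ : K → ℂ) : ℤ) = 0 from hS]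
    simp [wt]
  have h2 : ∑ μ ∈ ({θ, barI θ} : Finset (Cfsg.IrrCharacter K)), (cI χ μ : ℝ) ^ 2 ≤
      ∑ μ ∈ outSet K Y Z, (cI χ μ : ℝ) ^ 2 :=
    Finset.sum_le_sum_of_subset_of_nonneg (by
      intro μ hμ
      simp only [Finset.mem_insert, Finset.mem_singleton] at hμ
      rcases hμ with rfl | rfl
      exacts [hmem, hmem']) fun μ _ _ => sq_nonneg _
  rw [Finset.sum_pair (d.act.barI_ne hθ).symm, d.cI_barI hχ] at h2
  have h3 : 0 ≤ tt K χ ^ 2 * (wt K Y Z : ℝ) := by positivity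
  nlinarith

variable {η : (↥(W₁.map M.subtype ⊔ W₂.map M.subtype) →* ℂˣ) → G → ℂ}
  (hη : Cfsg.IsCyclicTIFamily (W₁.map M.subtype) (W₂.map M.subtype) η)
include hη

open scoped Classical in
/-- **The mirror case is impossible.** -/
theorem mirror_false [Fintype (Fst W₁ W₂)] {lam : Cfsg.IrrCharacter K}
    (hmir : p - 1 + p * (Finset.univ.filter fun φ : Fst W₁ W₂ =>
      φ ≠ fstOne W₁ W₂ ∧ cI (η φ.1) lam ≠ 0).card ≤ q)
    {θ : Cfsg.IrrCharacter K} (hθ : (θ : K → ℂ) ≠ fun _ => 1)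
    (hfix : ∀ x ∈ W₁, conjG (θ : K → ℂ) x = θ)
    (hlow : ∀ s : Fst W₁ W₂ → ℤ, (∀ φ, s φ ≠ 0 → φ ≠ fstOne W₁ W₂ ∧ cI (η φ.1) lam = 0) →
      12 / 7 * (cI (combo η s) θ : ℝ) ^ 2 ≤ BB K (combo η s)) : False := by
  set T := Finset.univ.filter fun φ : Fst W₁ W₂ => φ ≠ fstOne W₁ W₂ ∧ cI (η φ.1) lam = 0 with hT
  set N := Finset.univ.filter fun φ : Fst W₁ W₂ => φ ≠ fstOne W₁ W₂ ∧ cI (η φ.1) lam ≠ 0 with hN
  have hTN : T.card + N.card + 1 = q := by
    rw [← Finset.card_union_of_disjoint (Finset.disjoint_filter.mpr fun φ _ h1 h2 => h2.2 h1.2), ← Finset.filter_or,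
      show (Finset.univ.filter fun φ : Fst W₁ W₂ => φ ≠ fstOne W₁ W₂ ∧ cI (η φ.1) lam = 0 ∨
        φ ≠ fstOne W₁ W₂ ∧ cI (η φ.1) lam ≠ 0) = Finset.univ.erase (fstOne W₁ W₂) from by
        ext φ; simp [← and_or_left, em], Finset.card_erase_add_one (Finset.mem_univ _), Finset.card_univ, d.card_fst]
  set s : Fst W₁ W₂ → ℤ := fun φ => if φ ∈ T then Int.sign (cI (η φ.1) θ) else 0 with hsdef
  obtain ⟨l, hl, hlq⟩ := Nat.exists_prime_and_dvd (Nat.ne_of_gt d.act.one_lt)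
  have hne : ∀ φ : Fst W₁ W₂, cI (η φ.1) θ ≠ 0 := fun φ =>
    d.cI_fixed_ne_zero hl hlq θ (d.cI_congr_fixed hη φ hl hlq hθ hfix)
  have hsq : ∑ φ, (s φ : ℝ) ^ 2 = T.card := by
    rw [← Finset.sum_filter_add_sum_filter_not Finset.univ (· ∈ T), Finset.filter_mem_eq_inter, Finset.univ_inter,
      Finset.sum_eq_zero (s := Finset.univ.filter (¬ · ∈ T)) fun φ hφ => by
        simp [hsdef, (Finset.mem_filter.mp hφ).2], add_zero, Finset.card_eq_sum_ones, Nat.cast_sum]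
    refine Finset.sum_congr rfl fun φ hφ => ?_
    simp only [hsdef, if_pos hφ, Nat.cast_one]
    rcases lt_trichotomy (cI (η φ.1) θ) 0 with h | h | h
    · rw [Int.sign_eq_neg_one_of_neg h]; norm_num
    · exact absurd h (hne φ)
    · rw [Int.sign_eq_one_of_pos h]; norm_num
  have habs : |∑ φ, (s φ : ℝ)| ≤ T.card := by
    refine (Finset.abs_sum_le_sum_abs _ _).trans ((Finset.sum_le_sum fun φ _ => ?_).trans hsq.le)
    rw [← sq_abs]
    have h01 : |(s φ : ℝ)| = 0 ∨ |(s φ : ℝ)| = 1 := by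
      simp only [hsdef]
      split_ifs
      · rcases lt_trichotomy (cI (η φ.1) θ) 0 with h | h | h
        · rw [Int.sign_eq_neg_one_of_neg h]; norm_num
        · exact absurd h (hne φ)
        · rw [Int.sign_eq_one_of_pos h]; norm_num
      · norm_num
    rcases h01 with h | h <;> rw [h] <;> norm_num
  have hC : (T.card : ℤ) ≤ cI (combo η s) θ := by
    rw [d.cI_combo hη, ← Finset.sum_filter_add_sum_filter_not Finset.univ (· ∈ T), Finset.filter_mem_eq_inter,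
      Finset.univ_inter, Finset.sum_eq_zero (s := Finset.univ.filter (¬ · ∈ T)) fun φ hφ => by
        simp [hsdef, (Finset.mem_filter.mp hφ).2], add_zero, Finset.card_eq_sum_ones, Nat.cast_sum]
    refine Finset.sum_le_sum fun φ hφ => ?_
    simp only [hsdef, if_pos hφ, Nat.cast_one, Int.sign_mul_self_eq_natAbs]
    exact_mod_cast Int.natAbs_pos.mpr (hne φ)
  have hsupp : ∀ φ, s φ ≠ 0 → φ ≠ fstOne W₁ W₂ ∧ cI (η φ.1) lam = 0 := by
    intro φ h
    simp only [hsdef] at h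
    split_ifs at h with hm
    · exact (Finset.mem_filter.mp hm).2
    · exact absurd rfl h
  have h1 := hlow s hsupp
  have h2 := d.BB_combo_le hη s
  have h3 : (∑ φ, (s φ : ℝ)) ^ 2 ≤ (T.card : ℝ) ^ 2 := by
    rw [← sq_abs]; exact pow_le_pow_left₀ (abs_nonneg _) habs 2
  rw [hsq] at h2
  set n : ℝ := (T.card : ℝ)
  have hn0 : 0 ≤ n := Nat.cast_nonneg _
  have h4 : n ^ 2 ≤ (cI (combo η s) θ : ℝ) ^ 2 := pow_le_pow_left₀ hn0 (by
    have : ((T.card : ℤ) : ℝ) ≤ ((cI (combo η s) θ : ℤ) : ℝ) := Int.cast_le.mpr hC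
    simpa [n] using this) 2
  have hp3 : (3 : ℝ) ≤ p := by exact_mod_cast d.act.three_le_p
  have hq3 : (3 : ℝ) ≤ q := by exact_mod_cast d.act.three_le_q
  have hcount : ((p : ℝ) - 1) * q - 1 ≤ p * n := by
    have hm : (p : ℝ) - 1 + p * (N.card : ℝ) ≤ q := by
      have : ((p - 1 + p * N.card : ℕ) : ℝ) ≤ (q : ℝ) := by exact_mod_cast hmir
      push_cast [Nat.cast_sub d.act.prime.one_le] at this
      exact this
    have hTN' : n + (N.card : ℝ) + 1 = q := by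
      rw [← hTN]; push_cast; rfl
    nlinarith
  have hp0 : (0 : ℝ) < p := by linarith
  have key : (12 / 7 : ℝ) * n ^ 2 ≤ (q : ℝ) * n / p + (1 - 1 / (p : ℝ)) * n ^ 2 := by
    have hpp : 0 ≤ 1 - 1 / (p : ℝ) := by
      rw [sub_nonneg, div_le_one hp0]; linarith
    nlinarith [mul_le_mul_of_nonneg_left h3 hpp]
  have key2 : (12 / 7 : ℝ) * n ^ 2 * p ≤ (q : ℝ) * n + ((p : ℝ) - 1) * n ^ 2 := by
    have := mul_le_mul_of_nonneg_right key hp0.le
    rwa [add_mul, div_mul_cancel₀ _ hp0.ne', show (1 - 1 / (p : ℝ)) * n ^ 2 * p = ((p : ℝ) - 1) * n ^ 2 by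
      field_simp] at this
  have hnpos : 0 < n := by nlinarith
  have key3 : (5 / 7 * (p : ℝ) + 1) * n ≤ q := by
    refine le_of_mul_le_mul_right ?_ hnpos
    nlinarith
  nlinarith

end Dat

end CfsgLib.OddOrder.Final.Ten
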