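import Cfsg.Agent.Lib.OddOrder.Final.TenFound
import Cfsg.Agent.Lib.OddOrder.Final.TenGrid
import Cfsg.Agent.Lib.OddOrder.Final.TenMirror
import Cfsg.Agent.Lib.OddOrder.Final.TenExact
import Cfsg.Agent.Lib.Char.CoherenceFeit
import Cfsg.Agent.S1502
import Cfsg.Agent.Lib.Coprime.Hall
import Mathlib

/-!
The three layers of a Type V group and the contradiction: the first-row sum has too little mass outside the
support of `M`, or the fixed character has too large a coefficient.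
-/

set_option autoImplicit false
set_option linter.unusedSectionVars false
set_option linter.style.haveILetI false

open scoped ComplexConjugate commutatorElement

namespace CfsgLib.OddOrder.Final.Ten

open CfsgLib.Char CfsgLib.Char.Coherence

variable {G : Type*} [Group G] [Fintype G] {M : Subgroup G} {K W₁ W₂ : Subgroup M} [hK : K.Normal] {q p : ℕ}

theorem trivOn_bot (θ : K → ℂ) : TrivOn K (⊥ : Subgroup M) θ := fun a ha => by
  rw [show a = 1 from Subtype.ext (Subgroup.mem_bot.mp ha)]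

theorem cI_triv [Fintype M] [Fintype K] (χ : G → ℂ) {θ : Cfsg.IrrCharacter K}
    (h : (θ : K → ℂ) = fun _ => 1) : cI χ θ = 0 := by
  simp [cI, coef, h]

theorem wt_pos [Fintype M] [Fintype K] {Y Z : Subgroup M} [Y.Normal] [Z.Normal] (hYZ : Y ≤ Z) (hZK : Z ≤ K)
    (hne : Y.relIndex Z ≠ 1) : 0 < wt K Y Z := by
  have h := wt_add (K := K) hYZ hZK
  rw [← Subgroup.relIndex_mul_relIndex Y Z K hYZ hZK] at h
  have hr : 0 < Z.relIndex K := Nat.pos_of_ne_zero Subgroup.index_ne_zero_of_finite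
  have hm : 0 < Y.relIndex Z := Nat.pos_of_ne_zero Subgroup.index_ne_zero_of_finite
  have : 2 * Z.relIndex K ≤ Y.relIndex Z * Z.relIndex K := Nat.mul_le_mul_right _ (by omega)
  omega

/-- A character fixed by `W₁` and trivial on `W₂` is principal. -/
theorem Act.eq_one_of_fixed_trivOn {L : Type*} [Group L] [Fintype L] {K W₁ W₂ : Subgroup L} [K.Normal]
    [Fintype K] (h : Act K W₁ W₂ q p) {θ : Cfsg.IrrCharacter K} (hfix : ∀ x ∈ W₁, conjG (θ : K → ℂ) x = θ)
    (ht : TrivOn K W₂ (θ : K → ℂ)) : (θ : K → ℂ) = fun _ => 1 := by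
  classical
  by_contra hne
  obtain ⟨β, hβ, e⟩ := h.sum_eq_add_mul W₁ le_rfl (θ : K → ℂ)
    (IsCharacter.isIntegral (IsIrrCharacter.isCharacter θ.2)) (fun x hx a => congrFun (hfix x hx) a)
  have h0 : ∑ a, (θ : K → ℂ) a = 0 := by
    have := classInner_irr_ne θ.2 isIrrCharacter_one hne
    rwa [classInner_fun_one_right, mul_eq_zero, inv_eq_zero, Nat.cast_eq_zero,
      or_iff_right Nat.card_pos.ne'] at this
  have hcard : (Finset.univ.filter fun a : K => (a : L) ∈ W₂).card = p := by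
    rw [← h.cardW₂, Nat.card_eq_fintype_card, ← Fintype.card_subtype]
    exact Fintype.card_congr
      { toFun := fun a => ⟨(a.1 : L), a.2⟩
        invFun := fun a => ⟨⟨(a : L), h.W₂_le a.2⟩, a.2⟩
        left_inv := fun a => rfl
        right_inv := fun a => rfl }
  rw [h0, Finset.sum_congr rfl (fun a ha => (ht a (Finset.mem_filter.mp ha).2).trans (natDeg_spec θ.2)),
    Finset.sum_const, hcard, nsmul_eq_mul, h.cardW₁] at e
  have hm : (q : ℤ) ∣ -((p : ℤ) * natDeg (θ : K → ℂ)) :=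
    dvd_of_eq_mul (by have := h.one_lt; omega) hβ (by push_cast; linear_combination e)
  rw [dvd_neg, ← Nat.cast_mul, Int.natCast_dvd_natCast] at hm
  obtain ⟨n, hn, hdvd⟩ := IsIrrCharacter.apply_one_dvd_card θ.2
  have he : natDeg (θ : K → ℂ) = n := by exact_mod_cast (natDeg_spec θ.2).symm.trans hn
  have := Nat.eq_one_of_dvd_coprimes h.cop dvd_rfl
    ((h.coprime_qp.dvd_of_dvd_mul_left hm).trans (he ▸ hdvd))
  exact absurd this (Nat.ne_of_gt h.one_lt)

namespace Layer

variable {Y Z : Subgroup M} [Y.Normal] [Z.Normal] [Fintype M] [Fintype K]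

theorem two_q_mul_le (h : Layer K W₂ Y Z p) (hA : Act K W₁ W₂ q p) (hpos : 0 < wt K Y Z) :
    2 * q * Z.relIndex K ≤ wt K Y Z := by
  classical
  have hwz : (wt K Y Z : ℤ) = ∑ η ∈ outSet K Y Z, ((natDeg (η : K → ℂ) ^ 2 : ℕ) : ℤ) := Nat.cast_sum _ _
  have hq : q ∣ wt K Y Z := by
    rw [← Int.natCast_dvd_natCast, hwz]
    exact hA.q_dvd_sum _ (fun η hη x _ => cjI_mem hη x) (fun η hη => h.free hA hη) _
      (fun η _ x _ => by rw [natDeg_cjI])
  have h2 : 2 ∣ wt K Y Z := by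
    rw [← Int.natCast_dvd_natCast, hwz]
    exact hA.two_dvd_sum _ (fun η hη => barI_mem hη) (fun η hη => ne_one hη) _ (fun η _ => by rw [natDeg_barI])
  have hr : Z.relIndex K ∣ wt K Y Z := by
    have := wt_add (K := K) h.le h.leK
    rw [← Subgroup.relIndex_mul_relIndex Y Z K h.le h.leK] at this
    exact (Nat.dvd_add_left dvd_rfl).mp (this ▸ Dvd.intro_left _ rfl)
  obtain ⟨j, hj⟩ := h.pow
  have hc1 : Nat.Coprime 2 q := Nat.coprime_two_left.mpr hA.odd_q
  have hc2 : Nat.Coprime (2 * q) (Z.relIndex K) := by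
    rw [hj]
    exact Nat.Coprime.pow_right _ (Nat.Coprime.mul_left (Nat.coprime_two_left.mpr hA.odd_p) hA.coprime_qp)
  exact Nat.le_of_dvd hpos (hc2.mul_dvd_of_dvd_of_dvd (hc1.mul_dvd_of_dvd_of_dvd h2 hq) hr)

/-- The fixed character lives below the layer. -/
theorem fixed_bound (h : Layer K W₂ Y Z p) (hA : Act K W₁ W₂ q p) {θ : Cfsg.IrrCharacter K}
    (hθ : (θ : K → ℂ) ≠ fun _ => 1) (hfix : ∀ x ∈ W₁, conjG (θ : K → ℂ) x = θ) :
    TrivOn K Z (θ : K → ℂ) ∧ p ≤ natDeg (θ : K → ℂ) ∧ 2 * natDeg (θ : K → ℂ) ^ 2 + 1 ≤ Z.relIndex K := by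
  classical
  obtain ⟨x, hx, hx1⟩ := hA.exists_mem_ne
  have ht := hA.trivOn_of_fixed hx hx1 θ.2 (hfix x hx) Z h.bot
  refine ⟨ht, ?_, ?_⟩
  · obtain ⟨i, hi⟩ := h.deg _ θ.2 fun a ha => ht a (h.le ha)
    rcases Nat.eq_zero_or_pos i with rfl | hi0
    · exact absurd (hA.eq_one_of_fixed_linear hx hx1 θ.2 (by rw [hi, pow_zero]) (hfix x hx)) hθ
    · rw [hi]; exact Nat.le_self_pow hi0.ne' p
  · rw [← sum_sq_trivOn (K := K) Z h.leK]
    set one : Cfsg.IrrCharacter K := ⟨fun _ => 1, isIrrCharacter_one⟩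
    have h1 : one ≠ θ := fun e => hθ (congrArg Subtype.val e).symm
    have h2 : one ≠ barI θ := fun e => hθ (funext fun a => RingHom.injective (starRingEnd ℂ)
      (((congrFun (congrArg Subtype.val e) a).symm).trans (map_one _).symm))
    have h3 : θ ≠ barI θ := (hA.barI_ne hθ).symm
    refine le_trans (le_of_eq ?_) (Finset.sum_le_sum_of_subset (s := {one, θ, barI θ}) ?_)
    · rw [Finset.sum_insert (by simp [h1, h2]), Finset.sum_insert (by simp [h3]), Finset.sum_singleton,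
        natDeg_barI, show natDeg (one : K → ℂ) = 1 from Feit.natDeg_one]
      ring
    · intro μ hμ
      simp only [Finset.mem_insert, Finset.mem_singleton] at hμ
      refine Finset.mem_filter.mpr ⟨Finset.mem_univ _, ?_⟩
      rcases hμ with rfl | rfl | rfl
      exacts [fun a _ => rfl, ht, trivOn_barI.mpr ht]

end Layer

namespace Dat

variable [Fintype M] [Fintype K] (d : Dat M K W₁ W₂ q p)
include d

variable {η : (↥(W₁.map M.subtype ⊔ W₂.map M.subtype) →* ℂˣ) → G → ℂ}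
  (hη : Cfsg.IsCyclicTIFamily (W₁.map M.subtype) (W₂.map M.subtype) η)
include hη

theorem sOut_one (Y Z : Subgroup M) : sOut K Y Z (η (fstOne W₁ W₂).1) = -(wt K Y Z : ℤ) := by
  rw [sOut, wt, Nat.cast_sum, ← Finset.sum_neg_distrib]
  refine Finset.sum_congr rfl fun θ hθ => ?_
  rw [d.cI_eta_one hη θ fun e => (mem_outSet.mp hθ).2 fun a _ => by rw [e]]
  push_cast; ring

variable [Fintype (Fst W₁ W₂)]

theorem BB_eta_lt (φ : Fst W₁ W₂) : BB K (η φ.1) < q := by
  classical
  have e : combo η (fun ψ => if ψ = φ then (1 : ℤ) else 0) = η φ.1 := by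
    rw [combo, Fintype.sum_eq_single φ fun ψ h => by rw [if_neg h, Int.cast_zero, zero_smul], if_pos rfl,
      Int.cast_one, one_smul]
  have h := d.BB_combo_le hη fun ψ => if ψ = φ then (1 : ℤ) else 0
  rw [e, Fintype.sum_eq_single φ (fun ψ h => by rw [if_neg h]; norm_num),
    Fintype.sum_eq_single φ (fun ψ h => by rw [if_neg h]; norm_num), if_pos rfl] at h
  norm_num at h
  have hp : (3 : ℝ) ≤ p := by exact_mod_cast d.act.three_le_p
  have hq : (3 : ℝ) ≤ q := by exact_mod_cast d.act.three_le_q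
  have h1 : (q : ℝ) / p ≤ q / 3 := div_le_div_of_nonneg_left (by linarith) (by norm_num) hp
  have h2 : 0 ≤ (p : ℝ)⁻¹ := by positivity
  linarith

/-- Integrality pins the sum over the layer. -/
theorem sOut_of_int {Y Z : Subgroup M} [Z.Normal] (hZ : Z < K) (hw : 2 * (2 * q + 1) ≤ wt K Y Z)
    (hint : ∀ φ : Fst W₁ W₂, ∃ s : ℤ, sOut K Y Z (η φ.1) = s * (wt K Y Z : ℤ))
    {lam : Cfsg.IrrCharacter K} (hlam : (lam : K → ℂ) ≠ fun _ => 1) (hd : natDeg (lam : K → ℂ) = 1)
    {φ : Fst W₁ W₂} (hφ : φ ≠ fstOne W₁ W₂) {e : ℤ} (he : e = 0 ∨ e = -1) (hc : cI (η φ.1) lam = e) :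
    sOut K Y Z (η φ.1) = e * (wt K Y Z : ℤ) := by
  classical
  set s : Fst W₁ W₂ → ℤ := fun ψ => if ψ = φ then 1 else if ψ = fstOne W₁ W₂ then e else 0 with hs
  have hsum : ∀ f : Fst W₁ W₂ → ℤ, ∑ ψ, s ψ * f ψ = f φ + e * f (fstOne W₁ W₂) := by
    intro f
    rw [Fintype.sum_eq_add φ (fstOne W₁ W₂) hφ (fun ψ h => by simp [hs, h.1, h.2])]
    simp [hs, hφ.symm]
  have hS : sOut K Y Z (combo η s) = sOut K Y Z (η φ.1) - e * (wt K Y Z : ℤ) := by
    rw [d.sOut_combo hη, hsum, d.sOut_one hη]; ring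
  have h1 : ∑ ψ, (s ψ : ℝ) = 1 + e := by
    rw [Fintype.sum_eq_add φ (fstOne W₁ W₂) hφ (fun ψ h => by simp [hs, h.1, h.2])]
    simp [hs, hφ.symm]
  have h2 : ∑ ψ, (s ψ : ℝ) ^ 2 = 1 + (e : ℝ) ^ 2 := by
    rw [Fintype.sum_eq_add φ (fstOne W₁ W₂) hφ (fun ψ h => by simp [hs, h.1, h.2])]
    simp [hs, hφ.symm]
  have hB : BB K (combo η s) < 2 / 3 * (2 * (q : ℝ) + 1) := by
    have h := d.BB_combo_le hη s
    rw [h1, h2] at h
    have hp : (3 : ℝ) ≤ p := by exact_mod_cast d.act.three_le_p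
    have hq : (3 : ℝ) ≤ q := by exact_mod_cast d.act.three_le_q
    have h1' : (q : ℝ) / p ≤ q / 3 := div_le_div_of_nonneg_left (by linarith) (by norm_num) hp
    have h2' : 0 ≤ (p : ℝ)⁻¹ := by positivity
    rcases he with rfl | rfl
    · norm_num at h; linarith
    · norm_num at h
      rw [mul_div_right_comm] at h
      linarith
  have h0 : sOut K Y Z (combo η s) = 0 := by
    refine d.sOut_eq_zero hZ hw (d.combo_good hη s) ?_ (fun θ hθ => ?_) hB
    · obtain ⟨t, ht⟩ := hint φ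
      exact ⟨t - e, by rw [hS, ht]; ring⟩
    · by_cases h : (θ : K → ℂ) = fun _ => 1
      · exact cI_triv _ h
      · rw [d.cI_combo hη, hsum, d.cI_eta_one hη θ h, hθ, d.cI_linear_eq hη h hθ hlam hd, hc]
        push_cast; ring
  rw [hS] at h0
  linarith

/-- **The contradiction from a layer.** -/
theorem false_of_layer {T D H : Subgroup G} {u : ℕ} (hS : Side K W₁ W₂ q p T D H u) (hu : 2 * p < u)
    {Y Z : Subgroup M} (hk : wt K Y Z ≤ Nat.card K) (hnum : 4 * p * q ≤ wt K Y Z)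
    {lam : Cfsg.IrrCharacter K} (hlam : (lam : K → ℂ) ≠ fun _ => 1) (hd : natDeg (lam : K → ℂ) = 1)
    {θ : Cfsg.IrrCharacter K} (hθ : (θ : K → ℂ) ≠ fun _ => 1) (hfix : ∀ x ∈ W₁, conjG (θ : K → ℂ) x = θ)
    (hout : ∀ φ : Fst W₁ W₂, φ ≠ fstOne W₁ W₂ → ∀ e : ℤ, (e = 0 ∨ e = -1) → cI (η φ.1) lam = e →
      sOut K Y Z (η φ.1) = e * (wt K Y Z : ℤ))
    (hlow : ∀ χ : G → ℂ, Good K χ → sOut K Y Z χ = 0 → 12 / 7 * (cI χ θ : ℝ) ^ 2 ≤ BB K χ) : False := by
  classical
  rcases d.dichotomy hη hlam hd with hex | hmir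
  · have hW : 0 < wt K Y Z :=
      lt_of_lt_of_le (Nat.mul_pos (Nat.mul_pos (by norm_num) d.act.prime.pos) (Nat.zero_lt_of_lt d.act.one_lt)) hnum
    have hub := d.exact_bound hη hlam hd hex hW
      (fun φ hφ => by rw [hout φ hφ (-1) (Or.inr rfl) (hex φ hφ), neg_one_mul]) (d.sOut_one hη Y Z)
    have hlb := d.margin hη hS
    have hp : (3 : ℝ) ≤ p := by exact_mod_cast d.act.three_le_p
    have hq : (3 : ℝ) ≤ q := by exact_mod_cast d.act.three_le_q
    have hu' : (7 : ℝ) ≤ u := by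
      have := d.act.three_le_p
      exact_mod_cast (show 7 ≤ u by omega)
    have hWR : 4 * (p : ℝ) * q ≤ (wt K Y Z : ℝ) := by exact_mod_cast hnum
    have hkR : (wt K Y Z : ℝ) ≤ (Nat.card K : ℝ) := by exact_mod_cast hk
    have hp0 : (0 : ℝ) < p := by linarith
    have hq0 : (0 : ℝ) < q := by linarith
    have hpq : (0 : ℝ) < 4 * p * q := by positivity
    have h1 : (q : ℝ) / wt K Y Z ≤ 1 / (4 * p) :=
      le_trans (div_le_div_of_nonneg_left hq0.le hpq hWR) (le_of_eq (by field_simp))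
    have h2 : (q : ℝ) / Nat.card K ≤ 1 / (4 * p) :=
      le_trans (div_le_div_of_nonneg_left hq0.le hpq (hWR.trans hkR)) (le_of_eq (by field_simp))
    have h3 : 1 / ((p : ℝ) * q) ≤ 1 / (3 * p) := one_div_le_one_div_of_le (by positivity) (by nlinarith)
    have h4 : 1 / ((p : ℝ) * u) ≤ 1 / (7 * p) := one_div_le_one_div_of_le (by positivity) (by nlinarith)
    have h5 : 1 / (4 * (p : ℝ)) + 1 / (4 * p) + 1 / (3 * p) + 1 / (7 * p) < 1 / p := by
      rw [show 1 / (4 * (p : ℝ)) + 1 / (4 * p) + 1 / (3 * p) + 1 / (7 * p) = (41 / 42) * (1 / p) by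
        field_simp; ring]
      nlinarith [show (0 : ℝ) < 1 / p by positivity]
    have := hlb.trans_le hub
    linarith
  · refine d.mirror_false hη hmir hθ hfix fun s hs => hlow _ (d.combo_good hη s) ?_
    rw [d.sOut_combo hη]
    refine Finset.sum_eq_zero fun φ _ => ?_
    by_cases h : s φ = 0
    · rw [h, zero_mul]
    · obtain ⟨h1, h2⟩ := hs φ h
      rw [hout φ h1 0 (Or.inl rfl) h2, zero_mul, mul_zero]

omit hη in
/-- Proportional coefficients make the value constant on the central subgroup. -/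
theorem const_of_proportional (hR : ∀ g ∈ pos K, Cfsg.supportR M g = ⊥) {Z : Subgroup M} [Z.Normal]
    (hLay : Layer K W₂ ⊥ Z p) (hne : 0 < wt K ⊥ Z) {χ : G → ℂ} (hχ : Good K χ) (hB : BB K χ < q)
    {a b : M} (ha : a ∈ Z) (hb : b ∈ Z) (ha1 : a ≠ 1) (hb1 : b ≠ 1) : χ (a : G) = χ (b : G) := by
  classical
  obtain ⟨θ₀, hθ₀⟩ : (outSet K ⊥ Z).Nonempty := by
    rw [Finset.nonempty_iff_ne_empty]
    intro e
    rw [wt, e, Finset.sum_empty] at hne
    omega
  set d₀ := natDeg (θ₀ : K → ℂ) with hd₀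
  have hd₀0 : (d₀ : ℝ) ≠ 0 := Nat.cast_ne_zero.mpr (natDeg_pos θ₀.2).ne'
  set t := tt K χ
  set r : ℝ := (cI χ θ₀ : ℝ) / d₀ - t with hr
  set κ : Cfsg.IrrCharacter K → ℂ := fun θ => (((cI χ θ : ℝ) - t * natDeg (θ : K → ℂ) : ℝ) : ℂ) with hκ
  have hκO : ∀ θ ∈ outSet K ⊥ Z, κ θ = (r : ℂ) * natDeg (θ : K → ℂ) := fun θ hθ => by
    have h := d.proportional hLay hχ hB hθ hθ₀
    have h' : (cI χ θ : ℝ) * d₀ = (cI χ θ₀ : ℝ) * natDeg (θ : K → ℂ) := by exact_mod_cast h
    rw [hκ, ← Complex.ofReal_natCast, ← Complex.ofReal_mul]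
    refine congrArg _ ?_
    rw [hr]
    field_simp
    linear_combination h'
  set I := Finset.univ.filter fun θ : Cfsg.IrrCharacter K => TrivOn K Z (θ : K → ℂ) with hI
  have hO : outSet K ⊥ Z = Finset.univ.filter fun θ : Cfsg.IrrCharacter K => ¬ TrivOn K Z (θ : K → ℂ) :=
    Finset.filter_congr fun θ _ => and_iff_right (trivOn_bot _)
  suffices key : ∀ c : M, c ∈ Z → c ≠ 1 → χ (c : G) =
      ∑ θ ∈ I, κ θ * natDeg (θ : K → ℂ) - (r : ℂ) * ∑ θ ∈ I, (natDeg (θ : K → ℂ) : ℂ) ^ 2 by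
    rw [key a ha ha1, key b hb hb1]
  intro c hc hc1
  set c' : K := ⟨c, hLay.leK hc⟩ with hc'
  have hc'1 : c' ≠ 1 := fun e => hc1 (congrArg Subtype.val e)
  have hexp : χ (c : G) = ∑ θ, κ θ * (θ : K → ℂ) c' := by
    rw [← d.rhoK_self hR χ c' hc'1]
    exact d.rhoK_expand hχ c'
  have hreg := regular_eq_sum_irr c'
  rw [if_neg hc'1] at hreg
  have hin : ∀ θ ∈ I, (θ : K → ℂ) c' = (natDeg (θ : K → ℂ) : ℂ) := fun θ hθ =>
    ((Finset.mem_filter.mp hθ).2 c' hc).trans (natDeg_spec θ.2)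
  rw [hexp, ← Finset.sum_filter_add_sum_filter_not Finset.univ (fun θ : Cfsg.IrrCharacter K => TrivOn K Z (θ : K → ℂ)),
    ← hI, ← hO, Finset.sum_congr rfl fun θ hθ => by rw [hin θ hθ],
    Finset.sum_congr (s₁ := outSet K ⊥ Z) rfl fun θ hθ => by rw [hκO θ hθ, mul_assoc], ← Finset.mul_sum]
  rw [← Finset.sum_filter_add_sum_filter_not Finset.univ (fun θ : Cfsg.IrrCharacter K => TrivOn K Z (θ : K → ℂ)),
    ← hI, ← hO, Finset.sum_congr (s₁ := I) rfl fun θ hθ => show (θ : K → ℂ) 1 * (θ : K → ℂ) c' =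
      (natDeg (θ : K → ℂ) : ℂ) ^ 2 by rw [hin θ hθ, natDeg_spec θ.2, sq],
    Finset.sum_congr (s₁ := outSet K ⊥ Z) rfl fun θ _ => by rw [natDeg_spec θ.2]] at hreg
  linear_combination (r : ℂ) * hreg

end Dat

namespace Found

variable {T D H : Subgroup G} {u : ℕ}

/-- **No maximal subgroup of Type V carries this data.** -/
theorem contra (F : Found M K W₁ W₂ q p T D H u) : False := by
  classical
  haveI := Fintype.ofFinite M
  haveI := Fintype.ofFinite K
  haveI := CyclicTI.finite_hom (W₁ := W₁.map M.subtype) (W₂ := W₂.map M.subtype)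
  haveI := Fintype.ofFinite (Fst W₁ W₂)
  have d := F.dat
  have hA := d.act
  haveI := Fact.mk hA.prime
  haveI := hA.nil
  obtain ⟨η, hη⟩ := Cfsg.Agent.S1502.result _ _ d.pair d.odd_W
  obtain ⟨θ, hθ, hfix⟩ := hA.exists_fixed
  have hk2 : ∀ {Y Z : Subgroup M} [Y.Normal] [Z.Normal], Y ≤ Z → Z ≤ K → wt K Y Z ≤ Nat.card K := by
    intro Y Z _ _ hYZ hZK
    have := wt_add (K := K) hYZ hZK
    have h1 : Y.relIndex K ≤ Nat.card K := Nat.le_of_dvd Nat.card_pos (Subgroup.index_dvd_card _)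
    omega
  have hbig : ∀ {Y Z : Subgroup M} [Y.Normal] [Z.Normal], Layer K W₂ Y Z p → 0 < wt K Y Z →
      12 * natDeg (θ : K → ℂ) ^ 2 ≤ wt K Y Z ∧ 4 * p * q ≤ wt K Y Z ∧ 2 * (2 * q + 1) ≤ wt K Y Z := by
    intro Y Z _ _ hL hpos
    obtain ⟨-, hdp, hr⟩ := hL.fixed_bound hA hθ hfix
    have h := hL.two_q_mul_le hA hpos
    have hq := hA.three_le_q
    have hp := hA.three_le_p
    have h1 : p * p ≤ natDeg (θ : K → ℂ) ^ 2 := by rw [sq]; exact Nat.mul_le_mul hdp hdp
    have h2 : 3 * p ≤ p * p := Nat.mul_le_mul_right p hp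
    refine ⟨?_, ?_, ?_⟩ <;> nlinarith
  haveI hKs : Group.IsSolvable K := inferInstance
  obtain ⟨P, U, E, hP, hpU, hPn, hUn, hE⟩ := Feit.exists_split K hA.nil p
  by_cases hU : U = ⊥
  · -- `K` is a `p`-group
    have hKp : IsPGroup p K := fun x => by
      obtain ⟨⟨a, b⟩, rfl⟩ := E.surjective x
      obtain ⟨i, hi⟩ := hP a
      refine ⟨i, ?_⟩
      have hb : (b : K) = 1 := Subgroup.mem_bot.mp (hU.le b.2)
      rw [hE, hb, mul_one]
      exact congrArg Subtype.val hi
    obtain ⟨S, hS⟩ := F.sylow hKp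
    obtain ⟨n, hn⟩ := IsPGroup.iff_card.mp hKp
    have hbotK : (⊥ : Subgroup M) < K := lt_of_lt_of_le (bot_lt_iff_ne_bot.mpr fun e => by
      have := hA.prime.one_lt
      rw [← hA.cardW₂, e, Subgroup.card_bot] at this
      omega) hA.W₂_le
    obtain ⟨l, hl, -⟩ := CoherenceKernel.exists_linear_above K hKs ⊥ hbotK
    set lam : Cfsg.IrrCharacter K := ⟨_, isIrrCharacter_hom l⟩
    have hd1 : natDeg (lam : K → ℂ) = 1 := by simp [lam, natDeg]
    have hint : ∀ (Z : Subgroup M) [Z.Normal], Z ≤ K → Z ≠ ⊥ → (∀ z ∈ Z, ∀ k ∈ K, z * k = k * z) →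
        ∀ φ : Fst W₁ W₂, (∀ a b : M, a ∈ Z → b ∈ Z → a ≠ 1 → b ≠ 1 → η φ.1 (a : G) = η φ.1 (b : G)) →
        ∃ s : ℤ, sOut K ⊥ Z (η φ.1) = s * (wt K ⊥ Z : ℤ) := fun Z _ hZK hZ hZc φ hc =>
      d.sOut_int F.supportR S hS (hS ▸ F.ti) (hS ▸ F.normalizer) Z hZK hZ hZc (d.eta_good hη φ)
        (hη.irr_or_neg φ.1) hc
    by_cases hc : ∀ z ∈ W₂, ∀ k ∈ K, z * k = k * z
    · -- `W₂` is central
      haveI hW2n : W₂.Normal := by
        refine ⟨fun z hz g => ?_⟩
        obtain ⟨k, hk, w, hw, rfl⟩ : ∃ k ∈ K, ∃ w ∈ W₁, g = k * w := by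
          have : g ∈ ((K ⊔ W₁ : Subgroup M) : Set M) := by rw [hA.sup]; trivial
          rw [Subgroup.normal_mul] at this
          obtain ⟨k, hk, w, hw, e⟩ := this
          exact ⟨k, hk, w, hw, e.symm⟩
        rw [show k * w * z * (k * w)⁻¹ = k * (w * z * w⁻¹) * k⁻¹ by group, hA.conj_W₂ hw hz, ← hc z hz k hk,
          mul_inv_cancel_right]
        exact hz
      have hne : W₂ ≠ ⊥ := fun e => by
        have := hA.prime.one_lt
        rw [← hA.cardW₂, e, Subgroup.card_bot] at this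
        omega
      have hw := wt_add (K := K) (Y := (⊥ : Subgroup M)) (Z := W₂) bot_le hA.W₂_le
      have hpr : p * W₂.relIndex K = Nat.card K := by
        rw [← hA.cardW₂, Coprime.card_mul_relIndex_eq hA.W₂_le]
      rw [Subgroup.relIndex_bot_left] at hw
      obtain ⟨hd8, hdp⟩ := hA.sq_degree_fixed hc hθ hfix
      have hr : 8 * q + 1 ≤ W₂.relIndex K :=
        hd8.trans (Nat.le_of_mul_le_mul_left (by rw [hpr, mul_comm]; exact hdp) hA.prime.pos)
      have hp := hA.three_le_p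
      have hq := hA.three_le_q
      have hwt : 4 * p * q ≤ wt K ⊥ W₂ := by
        obtain ⟨p', rfl⟩ : ∃ p', p = p' + 1 := ⟨p - 1, by omega⟩
        nlinarith
      have hlt : W₂ < K := by
        refine lt_of_le_of_ne hA.W₂_le fun e => ?_
        rw [e, Subgroup.relIndex_self] at hr
        omega
      have hout : θ ∈ outSet K ⊥ W₂ :=
        mem_outSet.mpr ⟨trivOn_bot _, fun h => hθ (hA.eq_one_of_fixed_trivOn hfix h)⟩
      refine d.false_of_layer hη F.side F.two_p_lt (hk2 bot_le hA.W₂_le) hwt hl hd1 hθ hfix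
        (fun φ hφ e he hce => d.sOut_of_int hη hlt (by nlinarith) (fun ψ => hint W₂ hA.W₂_le hne hc ψ ?_)
          hl hd1 hφ he hce) fun χ hχ h0 => d.lower_out hχ hθ hout h0
      intro a b ha hb ha1 hb1
      have hop : orderOf a = p := by
        refine ((Nat.dvd_prime hA.prime).mp (hA.cardW₂ ▸ Subgroup.orderOf_dvd_natCard _ ha)).resolve_left
          fun e => ha1 (orderOf_eq_one_iff.mp e)
      have hz : Subgroup.zpowers a = W₂ := Subgroup.eq_of_le_of_card_ge (Subgroup.zpowers_le.mpr ha)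
        (by rw [Nat.card_zpowers, hop, hA.cardW₂])
      obtain ⟨j, -, rfl⟩ := (isOfFinOrder_of_finite a).mem_zpowers_iff_mem_range_orderOf.mp (hz.ge hb) |>
        Finset.mem_image.mp
      have hjp : j.Coprime p := by
        rw [Nat.coprime_comm, hA.prime.coprime_iff_not_dvd]
        rintro ⟨i, rfl⟩
        exact hb1 (by show a ^ (p * i) = 1; rw [pow_mul, ← hop, pow_orderOf_eq_one, one_pow])
      obtain ⟨m, hm⟩ := d.eta_int hη ψ (g := (a : G)) (by
        rw [Subgroup.orderOf_coe, hop]; exact hA.coprime_qp.symm)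
      rw [SubmonoidClass.coe_pow, eq_apply_pow (d.eta_gen hη ψ.1) (a : G) hm
        (by rw [Subgroup.orderOf_coe, hop]; exact hjp)]
    · -- `W₂` is not central
      set Z : Subgroup M := K ⊓ Subgroup.centralizer (K : Set M) with hZdef
      haveI hZn : Z.Normal := Subgroup.normal_inf_normal _ _
      have hZc : ∀ z ∈ Z, ∀ k ∈ K, z * k = k * z := fun z hz k hk =>
        (Subgroup.mem_centralizer_iff.mp hz.2 k hk).symm
      have hbot : Z ⊓ W₂ = ⊥ := by
        rcases (Nat.dvd_prime hA.prime).mp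
          (hA.cardW₂ ▸ Subgroup.card_dvd_of_le (inf_le_right : Z ⊓ W₂ ≤ W₂)) with h | h
        · exact Subgroup.eq_bot_of_card_eq _ h
        · exact absurd (fun z hz => hZc z ((Subgroup.eq_of_le_of_card_ge (inf_le_right : Z ⊓ W₂ ≤ W₂)
            (by rw [h, hA.cardW₂])).ge hz).1) hc
      have hZne : Z ≠ ⊥ := fun e => by
        haveI : Nontrivial K := (Subgroup.nontrivial_iff_ne_bot K).mpr hbotK.ne'
        obtain ⟨z, hz, hz1⟩ := (Subgroup.bot_or_exists_ne_one (Subgroup.center K)).resolve_left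
          (ne_of_gt hKp.bot_lt_center)
        have : (z : M) ∈ Z := ⟨z.2, Subgroup.mem_centralizer_iff.mpr fun k hk =>
          congrArg Subtype.val (Subgroup.mem_center_iff.mp hz ⟨k, hk⟩)⟩
        rw [e, Subgroup.mem_bot] at this
        exact hz1 (Subtype.ext this)
      have hLay : Layer K W₂ ⊥ Z p :=
        { le := bot_le
          leK := inf_le_left
          bot := hbot
          comm := fun x hx y hy => Subgroup.mem_bot.mpr (by
            rw [hZc x hx y hy, mul_inv_cancel_right, mul_inv_cancel])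
          pow := by
            obtain ⟨j, -, hj⟩ := (Nat.dvd_prime_pow hA.prime).mp
              (hn ▸ Subgroup.index_dvd_card (Z.subgroupOf K))
            exact ⟨j, hj⟩
          deg := fun μ hμ _ => (natDeg_sq_dvd_card hKp hμ).2 }
      have hpos : 0 < wt K ⊥ Z := wt_pos bot_le inf_le_left (by
        rw [Subgroup.relIndex_bot_left]
        exact fun e => hZne (Subgroup.eq_bot_of_card_eq _ e))
      have hlt : Z < K := lt_of_le_of_ne inf_le_left fun e => hc fun z hz => hZc z (e.ge (hA.W₂_le hz))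
      obtain ⟨h12, hwt, hw2⟩ := hbig hLay hpos
      exact d.false_of_layer hη F.side F.two_p_lt (hk2 bot_le inf_le_left) hwt hl hd1 hθ hfix
        (fun φ hφ e he hce => d.sOut_of_int hη hlt hw2 (fun ψ => hint Z inf_le_left hZne hZc ψ
          fun a b ha hb ha1 hb1 => d.const_of_proportional F.supportR hLay hpos (d.eta_good hη ψ)
            (d.BB_eta_lt hη ψ) ha hb ha1 hb1) hl hd1 hφ he hce)
        fun χ hχ h0 => d.lower_in hχ hθ (hLay.fixed_bound hA hθ hfix).1 h12 h0
  · -- a prime other than `p`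
    set Z := U.map K.subtype with hZdef
    haveI hZn : Z.Normal := hUn
    set P' := P.map K.subtype with hP'def
    haveI hP'n : P'.Normal := hPn
    set Y := ⁅Z, Z⁆ with hYdef
    haveI hYn : Y.Normal := Subgroup.commutator_normal Z Z
    have hcomm : ∀ a : P, ∀ b : U, (a : K) * b = (b : K) * a := fun a b => by
      rw [← hE a b, show ((a, b) : P × U) = (1, b) * (a, 1) by simp, map_mul, hE, hE]
      simp
    have hdec : ∀ y : M, y ∈ K → ∃ a ∈ P', ∃ b ∈ Z, y = a * b := fun y hy => by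
      obtain ⟨⟨a, b⟩, hab⟩ := E.surjective ⟨y, hy⟩
      rw [hE] at hab
      exact ⟨_, ⟨a, a.2, rfl⟩, _, ⟨b, b.2, rfl⟩, (congrArg Subtype.val hab).symm⟩
    have hPZ : ∀ a ∈ P', ∀ b ∈ Z, a * b = b * a := by
      rintro _ ⟨a, ha, rfl⟩ _ ⟨b, hb, rfl⟩
      exact congrArg Subtype.val (hcomm ⟨a, ha⟩ ⟨b, hb⟩)
    obtain ⟨i, hi⟩ := IsPGroup.iff_card.mp hP
    have hZcard : Nat.card Z = Nat.card U := Subgroup.card_map_of_injective K.subtype_injective
    have hrel : Z.relIndex K = p ^ i := by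
      have h1 : Nat.card K = Nat.card P * Nat.card U := by rw [← Nat.card_congr E.toEquiv, Nat.card_prod]
      have h2 := Coprime.card_mul_relIndex_eq (Subgroup.map_subtype_le U)
      rw [h1, hZcard, hi, mul_comm] at h2
      exact Nat.eq_of_mul_eq_mul_right Nat.card_pos h2
    have hLay : Layer K W₂ Y Z p :=
      { le := Subgroup.commutator_le_self Z
        leK := Subgroup.map_subtype_le U
        bot := Subgroup.inf_eq_bot_of_coprime (by
          rw [hA.cardW₂, hZcard, Nat.coprime_comm, hA.prime.coprime_iff_not_dvd]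
          exact hpU)
        comm := by
          intro x hx y hy
          obtain ⟨a, ha, b, hb, rfl⟩ := hdec y hy
          have hxy : x * b * x⁻¹ * b⁻¹ ∈ Y := Subgroup.commutator_mem_commutator hx hb
          have e : x * (a * b) * x⁻¹ * (a * b)⁻¹ = a * (x * b * x⁻¹ * b⁻¹) * a⁻¹ := by
            rw [← mul_assoc x a b, ← hPZ a ha x hx]; group
          rw [e]
          exact hYn.conj_mem _ hxy a
        pow := ⟨i, hrel⟩
        deg := by
          intro μ hμ ht
          haveI := Fintype.ofFinite P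
          haveI := Fintype.ofFinite U
          obtain ⟨φ, ψ, e⟩ := Feit.exists_pair E (⟨μ, hμ⟩ : Cfsg.IrrCharacter K)
          obtain ⟨-, j, hj⟩ := natDeg_sq_dvd_card hP φ.2
          refine ⟨j, ?_⟩
          rw [show μ = (Feit.pair E φ ψ : K → ℂ) from (congrArg Subtype.val e).symm, Feit.natDeg_pair, hj]
          haveI : U.Normal := by
            have h1 : U = Z.comap K.subtype := (Subgroup.comap_map_eq_self_of_injective K.subtype_injective U).symm
            rw [h1]; exact Subgroup.Normal.comap hZn _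
          rw [(Feit.trivOn_commutator_iff U ψ.2).mp ?_, mul_one]
          intro b hb
          have hmem : ((b : K) : M) ∈ Y := by
            have := Subgroup.mem_map_of_mem K.subtype hb
            rwa [Subgroup.map_commutator] at this
          have h3 := ht (b : K) hmem
          rw [show μ = (Feit.pair E φ ψ : K → ℂ) from (congrArg Subtype.val e).symm,
            show (b : K) = E (1, b) by rw [hE]; simp, Feit.pair_apply,
            show (1 : K) = E (1, 1) from (map_one E).symm, Feit.pair_apply] at h3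
          exact mul_left_cancel₀ (IsIrrCharacter.apply_one_ne_zero φ.2) h3 }
    have hYZ : Y ≠ Z := by
      intro e
      haveI : Nontrivial U := (Subgroup.nontrivial_iff_ne_bot U).mpr hU
      haveI : Group.IsSolvable U := inferInstance
      refine (Group.IsSolvable.commutator_lt_top_of_nontrivial (G := U)).ne ?_
      refine Subgroup.map_injective U.subtype_injective ?_
      rw [Subgroup.map_subtype_commutator, ← MonoidHom.range_eq_map, Subgroup.range_subtype]
      refine Subgroup.map_injective K.subtype_injective ?_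
      rw [Subgroup.map_commutator]
      exact e
    have hpos : 0 < wt K Y Z := wt_pos hLay.le hLay.leK fun e =>
      hYZ (le_antisymm hLay.le (Subgroup.relIndex_eq_one.mp e))
    have hsup : P' ⊔ Y < K := by
      refine lt_of_le_of_ne (sup_le (Subgroup.map_subtype_le P) (hLay.le.trans hLay.leK)) fun e => hYZ ?_
      refine le_antisymm hLay.le fun z hz => ?_
      have hz' : z ∈ ((P' ⊔ Y : Subgroup M) : Set M) := by rw [e]; exact hLay.leK hz
      rw [Subgroup.normal_mul] at hz'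
      obtain ⟨a, ha, y, hy, rfl⟩ := hz'
      have haZ : a ∈ Z := by simpa using Z.mul_mem hz (Z.inv_mem (hLay.le hy))
      have : a ∈ P' ⊓ Z := ⟨ha, haZ⟩
      rw [Subgroup.inf_eq_bot_of_coprime (by
        rw [hZcard, Subgroup.card_map_of_injective K.subtype_injective, hi]
        exact ((hA.prime.coprime_iff_not_dvd.mpr hpU).pow_left i)), Subgroup.mem_bot] at this
      show a * y ∈ Y
      rw [this, one_mul]; exact hy
    obtain ⟨l, hl, hlA⟩ := CoherenceKernel.exists_linear_above K hKs (P' ⊔ Y) hsup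
    set lam : Cfsg.IrrCharacter K := ⟨_, isIrrCharacter_hom l⟩
    have hd1 : natDeg (lam : K → ℂ) = 1 := by simp [lam, natDeg]
    have hmem : lam ∈ outSet K Y Z := by
      refine mem_outSet.mpr ⟨fun a ha => by simp [lam, hlA a (Subgroup.mem_sup_right ha)], fun h => hl ?_⟩
      funext k
      obtain ⟨a, ha, b, hb, e⟩ := hdec k k.2
      have hbK : b ∈ K := hLay.leK hb
      have haK : a ∈ K := Subgroup.map_subtype_le P ha
      have hk : k = ⟨a, haK⟩ * ⟨b, hbK⟩ := Subtype.ext e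
      have h1 : (l ⟨b, hbK⟩ : ℂ) = 1 := by simpa [lam] using h ⟨b, hbK⟩ hb
      rw [hk, map_mul, Units.val_mul, h1, hlA ⟨a, haK⟩ (Subgroup.mem_sup_left ha)]
      simp
    obtain ⟨h12, hwt, -⟩ := hbig hLay hpos
    refine d.false_of_layer hη F.side F.two_p_lt (hk2 hLay.le hLay.leK) hwt hl hd1 hθ hfix
      (fun φ hφ e he hce => ?_) fun χ hχ h0 => d.lower_in hχ hθ (hLay.fixed_bound hA hθ hfix).1 h12 h0
    rw [sOut, wt, Nat.cast_sum, Finset.mul_sum]
    refine Finset.sum_congr rfl fun μ hμ => ?_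
    have h := d.proportional hLay (d.eta_good hη φ) (d.BB_eta_lt hη φ) hμ hmem
    rw [hd1, hce, Nat.cast_one, mul_one] at h
    rw [h]; push_cast; ring

end Found

end CfsgLib.OddOrder.Final.Ten
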