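import Cfsg.Agent.Lib.OddOrder.Final.TenSide
import Cfsg.Agent.Lib.OddOrder.Final.TenTypeV

/-!
A minimal simple group of odd order has no maximal subgroup of Type V.
-/

set_option autoImplicit false

namespace CfsgLib.OddOrder.Final

/-- **No maximal subgroup is of Type V.** -/
theorem not_typeV {G : Type*} [Group G] [Finite G] (hG : Cfsg.IsMinSimpleOddOrder G) {M : Subgroup G}
    (hM : IsCoatom M) : ¬ Cfsg.IsOfTypeV M := by
  intro hV
  cases nonempty_fintype G
  obtain ⟨K, W₁, W₂, q, p, T, D, H, u, hK, F⟩ := Ten.exists_found hG hM hV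
  haveI := hK
  exact F.contra

end CfsgLib.OddOrder.Final
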