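import Cfsg.Agent.Lib.OddOrder.Final.MainModV
import Cfsg.Agent.Lib.OddOrder.Final.NotTypeV
import Cfsg.Agent.Lib.FTApps.Basic

/-! The odd order theorem. -/

set_option autoImplicit false

namespace CfsgLib.OddOrder.Final

universe u

/-- There is no minimal simple group of odd order. -/
theorem not_minSimpleOdd {G : Type u} [Group G] [Finite G] (hG : Cfsg.IsMinSimpleOddOrder G) : False :=
  false_of_noTypeV hG fun M hM => not_typeV hG hM

/-- **The odd order theorem.** -/
theorem oddSolvable : CfsgLib.FTApps.OddSolvable.{u} := oddSolvable_of fun _ _ _ hG => not_minSimpleOdd hG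

end CfsgLib.OddOrder.Final
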