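import Cfsg.Agent.S1381
import Cfsg.Agent.S1435
import Cfsg.Agent.S1540
import Cfsg.Agent.Lib.OddOrder.DadeSets
import Cfsg.Agent.Lib.OddOrder.FrobeniusCoherence
import Cfsg.Agent.Lib.OddOrder.TypeOneCongr
import Mathlib

/-!
The maximal subgroup over the normaliser of the complement of a full side of Type II.
-/

set_option autoImplicit false

namespace CfsgLib.OddOrder.Final.Neighbour

open Cfsg (fittingHallOf sigmaCore)
open scoped Pointwise

variable {G : Type*} [Group G] [Finite G] {S T W₁ W₂ U V : Subgroup G}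

/-- A side with elementary kernel of order `p ^ q` and full fixed point free complement. -/
structure Full (S W₁ U W₂ : Subgroup G) : Prop where
  coatom : IsCoatom S
  typeP : Cfsg.IsTypePWith S W₁ U W₂
  prime₁ : (Nat.card W₁).Prime
  prime₂ : (Nat.card W₂).Prime
  card_core : Nat.card (fittingHallOf S) = Nat.card W₂ ^ Nat.card W₁
  core_comm : IsMulCommutative (fittingHallOf S)
  core_pow : ∀ x ∈ fittingHallOf S, x ^ Nat.card W₂ = 1
  card_U : Nat.card U * (Nat.card W₂ - 1) = Nat.card W₂ ^ Nat.card W₁ - 1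
  U_comm : IsMulCommutative U
  fpf : ∀ u ∈ U, u ≠ 1 → ∀ x ∈ fittingHallOf S, u * x = x * u → x = 1

namespace Full

variable (h : Full S W₁ U W₂)

include h

theorem U_ne : U ≠ ⊥ := by
  intro e
  have h1 := h.card_U
  rw [e, Subgroup.card_bot, one_mul] at h1
  have hp := h.prime₂.two_le
  have hq := h.prime₁.two_le
  have h2 := Nat.pow_le_pow_right (show 1 ≤ Nat.card W₂ by omega) hq
  have h3 : Nat.card W₂ * 2 ≤ Nat.card W₂ ^ 2 := by nlinarith
  omega

theorem W₂_le_core : W₂ ≤ fittingHallOf S := fun _ hx => (h.typeP.W₂_le hx).1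

theorem U_le : U ≤ ⁅S, S⁆ := h.typeP.U_compl.2.1

theorem derived_le : ⁅S, S⁆ ≤ S := SigmaComplement.derived_le_self S

theorem W₁_le : W₁ ≤ S := h.typeP.W₁_compl.2.1

theorem hall (hG : Cfsg.IsMinSimpleOddOrder G) : Cfsg.IsPiHallOf (Cfsg.kappa S) W₁ S := by
  obtain ⟨K, U', hd⟩ := FittingStructure.exists_decomp hG h.coatom
  have hK : K ≠ ⊥ := TypeP.kappa_of_typeP hG h.coatom hd h.typeP
  have hc : Nat.card W₁ = Nat.card K := by
    rw [← Basic.IsComplIn.relIndex_left h.typeP.W₁_compl,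
      ← Basic.IsComplIn.relIndex_left (TypeP.compl_K hG h.coatom hd hK)]
  have hi : W₁.relIndex S = K.relIndex S := by
    refine Nat.eq_of_mul_eq_mul_left (Nat.card_pos (α := K)) ?_
    rw [Coprime.card_mul_relIndex_eq (SigmaDecomp.K_le hd)]
    conv_lhs => rw [← hc]
    rw [Coprime.card_mul_relIndex_eq h.W₁_le]
  refine ⟨h.W₁_le, fun t ht hd' => hd.hall.2.1 t ht (hc ▸ hd'), fun t ht htk => ?_⟩
  rw [hi]; exact hd.hall.2.2 t ht htk

theorem core_inf (hG : Cfsg.IsMinSimpleOddOrder G) :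
    sigmaCore S ⊓ Subgroup.centralizer (W₁ : Set G) = W₂ := by
  obtain ⟨x, hx, hx1⟩ := (Subgroup.bot_or_exists_ne_one W₁).resolve_left h.typeP.W₁_ne
  refine le_antisymm (fun z hz => ?_) (le_inf (h.W₂_le_core.trans
    (SigmaCentralizer.fittingHallOf_le_sigmaCore hG h.coatom)) fun z hz => ?_)
  · rw [← h.typeP.W₂_centralizer x hx hx1]
    exact ⟨SigmaCore.le_derived hG h.coatom hz.1,
      Subgroup.mem_centralizer_singleton_iff.2 (hz.2 x hx).symm⟩
  · intro w hw
    exact h.typeP.selfNormalizing.2.2.2.1 w hw z hz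

theorem coprime_U_W₁ : (Nat.card U).Coprime (Nat.card W₁) := by
  have h1 := h.typeP.W₁_hall
  rw [Basic.IsComplIn.relIndex_right h.typeP.W₁_compl] at h1
  exact (h1.symm.coprime_dvd_left (Subgroup.card_dvd_of_le h.U_le))

theorem U_fix {x z : G} (hx : x ∈ W₁) (hx1 : x ≠ 1) (hz : z ∈ U) (hc : Commute x z) : z = 1 := by
  have hzW : z ∈ W₂ := by
    rw [← h.typeP.W₂_centralizer x hx hx1]
    exact ⟨h.U_le hz, Subgroup.mem_centralizer_singleton_iff.2 hc.eq.symm⟩
  have : z ∈ fittingHallOf S ⊓ U := ⟨h.W₂_le_core hzW, hz⟩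
  rwa [h.typeP.U_compl.2.2.1, Subgroup.mem_bot] at this

theorem U_mod : Nat.card U ≡ 1 [MOD Nat.card W₁] := by
  obtain ⟨x, hx, hx1⟩ := (Subgroup.bot_or_exists_ne_one W₁).resolve_left h.typeP.W₁_ne
  have ho : orderOf x = Nat.card W₁ :=
    ((Nat.dvd_prime h.prime₁).1 (Subgroup.orderOf_dvd_natCard W₁ hx)).resolve_left
      fun e => hx1 (orderOf_eq_one_iff.1 e)
  haveI := Fintype.ofFinite G
  exact TypeOneCongr.card_modEq h.prime₁ ho U
    (fun u hu => (Subgroup.mem_normalizer_iff.1 (h.typeP.U_normal hx) u).1 hu)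
    fun u hu hc => h.U_fix hx hx1 hu hc

omit [Finite G] in
theorem U_mod₂ : Nat.card U ≡ 1 [MOD Nat.card W₂] := by
  set p := Nat.card W₂
  have hp := h.prime₂.two_le
  have hgeom : Nat.card U = ∑ i ∈ Finset.range (Nat.card W₁), p ^ i := by
    refine Nat.eq_of_mul_eq_mul_right (show 0 < p - 1 by omega) ?_
    rw [h.card_U, Nat.geomSum_eq hp, Nat.div_mul_cancel (Nat.sub_one_dvd_pow_sub_one _ _)]
  obtain ⟨k, hk⟩ := Nat.exists_eq_succ_of_ne_zero h.prime₁.ne_zero
  rw [hgeom, hk, Finset.sum_range_succ', pow_zero]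
  have : ∑ i ∈ Finset.range k, p ^ (i + 1) = p * ∑ i ∈ Finset.range k, p ^ i := by
    rw [Finset.mul_sum]; exact Finset.sum_congr rfl fun i _ => by rw [pow_succ]; ring
  rw [this, Nat.ModEq, Nat.mul_add_mod]

theorem U_cyclic (hG : Cfsg.IsMinSimpleOddOrder G) : IsCyclic U := by
  haveI : IsZGroup U := by
    refine FrobeniusCoherence.isZGroup_fpf (K := fittingHallOf S) ?_ ?_ ?_
      (hG.1.of_dvd_nat (Subgroup.card_subgroup_dvd_card U))
    · intro e; exact h.typeP.H_not_cyclic (e ▸ inferInstance)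
    · exact (h.U_le.trans h.derived_le).trans Basic.le_normalizer_fittingHallOf
    · intro a ha ha1
      rw [eq_bot_iff]
      exact fun x hx => Subgroup.mem_bot.2 (h.fpf a ha ha1 x hx.1 (Subgroup.mem_centralizer_singleton_iff.1 hx.2).symm)
  haveI := FittingStructure.nilpotent_of_comm h.U_comm
  infer_instance

theorem decomp (hG : Cfsg.IsMinSimpleOddOrder G) (hII : Cfsg.IsOfTypeII S) :
    Cfsg.IsSigmaDecomposition S W₁ U := by
  obtain ⟨K, U', hd⟩ := FittingStructure.exists_decomp hG h.coatom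
  have hn := TypeP.nilpotent_of_U hG h.coatom hd ((Cfsg.Agent.S1381.result hG S h.coatom K U' hd).1 hII).2
  have hF := TypeP.fittingHall_eq hG h.coatom hn
  have hc := h.typeP.U_compl
  have hw := h.typeP.W₁_compl
  refine ⟨h.typeP.W₁_cyclic, h.hall hG, ⟨h.U_le.trans h.derived_le,
    sup_le h.W₁_le (SigmaTools.sigmaCore_le S), ?_, fun g hg => ?_⟩, h.typeP.U_normal⟩
  · rw [eq_bot_iff]
    intro x hx
    rw [← hF] at hx
    have hxs : x ∈ W₁ ⊔ fittingHallOf S := hx.2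
    rw [← SetLike.mem_coe, Subgroup.coe_mul_of_left_le_normalizer_right W₁ _
      (h.W₁_le.trans Basic.le_normalizer_fittingHallOf)] at hxs
    obtain ⟨w, hwm, f, hf, rfl⟩ := Set.mem_mul.mp hxs
    have hwD : w ∈ ⁅S, S⁆ ⊓ W₁ := ⟨by
      simpa using mul_mem (hc.2.1 hx.1) (inv_mem (hc.1 hf)), hwm⟩
    rw [hw.2.2.1, Subgroup.mem_bot] at hwD
    subst hwD
    have : (1 : G) * f ∈ fittingHallOf S ⊓ U := ⟨by simpa using hf, hx.1⟩
    rwa [hc.2.2.1] at this
  · obtain ⟨d, hd', w, hwm, rfl⟩ := hw.2.2.2 g hg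
    obtain ⟨f, hf, u, hu, rfl⟩ := hc.2.2.2 d hd'
    refine ⟨u, hu, u⁻¹ * f * u * w, mul_mem (Subgroup.mem_sup_right ?_) (Subgroup.mem_sup_left hwm), by group⟩
    rw [← hF]
    simpa using TypeSets.conj_mem_of_le_normalizer
      ((h.U_le.trans h.derived_le).trans Basic.le_normalizer_fittingHallOf) (inv_mem hu) hf

end Full

/-- The neighbour `L` of a full side `S` of Type II, with partner `T`. -/
structure Nbr (S T W₁ U W₂ L : Subgroup G) : Prop where
  coatom : IsCoatom L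
  kappa : Cfsg.kappa L = ∅
  U_le : U ≤ sigmaCore L
  W₁_le : W₁ ≤ L
  not_le : ¬ L ⊓ Subgroup.normalizer (U : Set G) ≤ S
  meet : S ⊓ L = U ⊔ W₁
  frobenius : ∀ x ∈ sigmaCore L, x ≠ 1 → L ⊓ Subgroup.centralizer ({x} : Set G) ≤ sigmaCore L
  compl : Cfsg.IsComplIn (L ⊓ T) (sigmaCore L) L
  index_cases : (sigmaCore L).relIndex L = Nat.card W₁ ∨
    (sigmaCore L).relIndex L = Nat.card W₁ * Nat.card W₂ ∧
      ∃ y ∈ fittingHallOf T, W₂.map (MulAut.conj y).toMonoidHom ≤ L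

/-- An element of `T` normalising `W₁` lies in `T_F W₂`. -/
theorem normalizer_W₁_le (hT : Full T W₂ V W₁) {z : G} (hz : z ∈ T)
    (hn : z ∈ Subgroup.normalizer (W₁ : Set G)) : z ∈ fittingHallOf T ⊔ W₂ := by
  obtain ⟨d, hd, w, hw, rfl⟩ := hT.typeP.W₁_compl.2.2.2 z hz
  obtain ⟨f, hf, a, ha, rfl⟩ := hT.typeP.U_compl.2.2.2 d hd
  have hcomm : ∀ x ∈ W₁, ∀ b ∈ W₂, b * x = x * b := fun x hx b hb =>
    hT.typeP.selfNormalizing.2.2.2.1 b hb x hx
  haveI := hT.core_comm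
  -- `a` normalises `W₁`
  have han : ∀ x ∈ W₁, a * x * a⁻¹ ∈ W₁ := by
    intro x hx
    have h1 := (Subgroup.mem_normalizer_iff.1 hn x).1 hx
    have e1 : w * x * w⁻¹ = x := by rw [hcomm x hx w hw, mul_inv_cancel_right]
    have e2 : f * a * w * x * (f * a * w)⁻¹ = f * (a * x * a⁻¹) * f⁻¹ := by
      calc f * a * w * x * (f * a * w)⁻¹ = f * a * (w * x * w⁻¹) * a⁻¹ * f⁻¹ := by group
        _ = _ := by rw [e1]; group
    rw [e2] at h1
    have hax : a * x * a⁻¹ ∈ fittingHallOf T := TypeSets.conj_mem_of_le_normalizer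
      ((hT.U_le.trans hT.derived_le).trans Basic.le_normalizer_fittingHallOf) ha (hT.W₂_le_core hx)
    have e3 : f * (a * x * a⁻¹) * f⁻¹ = a * x * a⁻¹ := by
      rw [show f * (a * x * a⁻¹) = a * x * a⁻¹ * f from
        congrArg Subtype.val (mul_comm' (⟨f, hf⟩ : fittingHallOf T) ⟨_, hax⟩), mul_inv_cancel_right]
    rwa [e3] at h1
  obtain ⟨x, hx, hx1⟩ := (Subgroup.bot_or_exists_ne_one W₁).resolve_left fun e => by
    have := hT.prime₂.one_lt
    rw [e, Subgroup.card_bot] at this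
    omega
  -- `a` commutes with `W₂`
  have haw : ∀ b ∈ W₂, Commute b a := by
    intro b hb
    set c := (b * a * b⁻¹)⁻¹ * a with hc
    have hcV : c ∈ V := mul_mem (inv_mem ((Subgroup.mem_normalizer_iff.1 (hT.typeP.U_normal hb) a).1 ha)) ha
    by_contra hne
    have hc1 : c ≠ 1 := fun e => hne (show b * a = a * b by
      rw [hc, inv_mul_eq_one, mul_inv_eq_iff_eq_mul] at e
      exact e)
    have hcx : c * x = x * c := by
      have h2 : b * (a * x * a⁻¹) * b⁻¹ = a * x * a⁻¹ := by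
        rw [hcomm _ (han x hx) b hb, mul_inv_cancel_right]
      have h3 : b⁻¹ * x * b = x := by rw [mul_assoc, ← hcomm x hx b hb, inv_mul_cancel_left]
      have h4 : (b * a * b⁻¹) * x * (b * a * b⁻¹)⁻¹ = a * x * a⁻¹ :=
        calc _ = b * (a * (b⁻¹ * x * b) * a⁻¹) * b⁻¹ := by group
          _ = _ := by rw [h3, h2]
      have h5 : c * x * c⁻¹ = x := by
        calc c * x * c⁻¹ = (b * a * b⁻¹)⁻¹ * (a * x * a⁻¹) * (b * a * b⁻¹) := by rw [hc]; group
          _ = (b * a * b⁻¹)⁻¹ * ((b * a * b⁻¹) * x * (b * a * b⁻¹)⁻¹) * (b * a * b⁻¹) := by rw [h4]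
          _ = x := by group
      exact mul_inv_eq_iff_eq_mul.1 h5
    exact hx1 (hT.fpf c hcV hc1 x (hT.W₂_le_core hx) hcx)
  have ha1 : a = 1 := by
    obtain ⟨b, hb, hb1⟩ := (Subgroup.bot_or_exists_ne_one W₂).resolve_left hT.typeP.W₁_ne
    exact hT.U_fix hb hb1 ha (haw b hb)
  subst ha1
  rw [mul_one]
  exact Subgroup.mul_mem_sup hf hw

/-- An element of order `p` of `Q W`, `|W| = p` prime to `q`, lies in a `Q`-conjugate of `W`. -/
theorem exists_conj_mem {Q W : Subgroup G} {p q : ℕ} [Fact p.Prime] (hW : Nat.card W = p)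
    (hn : W ≤ Subgroup.normalizer (Q : Set G)) (hco : q.Coprime p) {n : ℕ} (hQ : Nat.card Q = q ^ n) {z : G}
    (hzX : z ∈ Q ⊔ W) (hz : orderOf z = p) : ∃ y ∈ Q, z ∈ W.map (MulAut.conj y).toMonoidHom := by
  set X := Q ⊔ W with hX
  have hpr : p.Prime := Fact.out
  have hQW : Q ⊓ W = ⊥ := Subgroup.inf_eq_bot_of_coprime (by rw [hW, hQ]; exact hco.pow_left _)
  have hcard : Nat.card X = q ^ n * p := by
    rw [hX, Coprime.card_sup_of_le_normalizer hn (disjoint_iff.2 hQW), hQ, hW]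
  have hnd : ¬ p ∣ q ^ n := fun h => hpr.one_lt.ne' (Nat.dvd_one.1 (by
    have := Nat.dvd_gcd h (dvd_refl p)
    rwa [(hco.pow_left n).gcd_eq_one] at this))
  have hWX : W ≤ X := le_sup_right
  have hPcard : Nat.card (W.subgroupOf X) = p ^ (Nat.card X).factorization p := by
    rw [Nat.card_congr (Subgroup.subgroupOfEquivOfLe hWX).toEquiv, hW, hcard,
      Nat.factorization_mul (by rintro h0; rw [h0] at hnd; exact hnd (dvd_zero p)) hpr.ne_zero, Finsupp.add_apply,
      Nat.factorization_eq_zero_of_not_dvd hnd, Nat.Prime.factorization_self hpr, zero_add, pow_one]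
  let P : Sylow p X := Sylow.ofCard (W.subgroupOf X) hPcard
  have hzp : IsPGroup p (Subgroup.zpowers (⟨z, hzX⟩ : X)) :=
    IsPGroup.of_card (n := 1) (by rw [Nat.card_zpowers, pow_one, Subgroup.orderOf_mk, hz])
  obtain ⟨P', hP'⟩ := hzp.exists_le_sylow
  obtain ⟨x, rfl⟩ := MulAction.exists_smul_eq X P P'
  have hz' : z ∈ W.map (MulAut.conj (x : G)).toMonoidHom := by
    have h1 := hP' (Subgroup.mem_zpowers _)
    rw [Sylow.coe_subgroup_smul] at h1
    obtain ⟨w, hw, e⟩ := h1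
    have hw' : (w : G) ∈ W := hw
    exact ⟨(w : G), hw', by simpa using congrArg Subtype.val e⟩
  have hx : (x : G) ∈ Q ⊔ W := x.2
  rw [← SetLike.mem_coe, Subgroup.coe_mul_of_right_le_normalizer_left Q W hn] at hx
  obtain ⟨y, hy, w, hw, e⟩ := Set.mem_mul.mp hx
  obtain ⟨v, hv, hvz⟩ := hz'
  refine ⟨y, hy, w * v * w⁻¹, mul_mem (mul_mem hw hv) (inv_mem hw), ?_⟩
  rw [← hvz, ← e]
  simp [mul_assoc]

/-- The neighbour exists. -/
theorem exists_nbr (hG : Cfsg.IsMinSimpleOddOrder G) (hS : Full S W₁ U W₂) (hII : Cfsg.IsOfTypeII S)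
    (hT : Full T W₂ V W₁) : ∃ L, Nbr S T W₁ U W₂ L := by
  obtain ⟨r, hr, hrU⟩ := Nat.exists_prime_and_dvd (show Nat.card U ≠ 1 from fun e =>
    hS.U_ne (Subgroup.card_eq_one.1 e))
  haveI := Fact.mk hr
  obtain ⟨R⟩ : Nonempty (Sylow r U) := Sylow.nonempty
  set R' := ((R : Subgroup U).map U.subtype : Subgroup G)
  have hR1 : R' ≠ ⊥ := fun e => R.ne_bot_of_dvd_card hrU
    ((Subgroup.map_eq_bot_iff_of_injective _ U.subtype_injective).1 e)
  have hne : Subgroup.normalizer (R' : Set G) ≠ ⊤ := by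
    haveI : Group.IsNilpotent R' := (R.isPGroup'.map U.subtype).isNilpotent
    exact Uniqueness.normalizer_ne_top hG.2 hR1 inferInstance
  obtain ⟨L, hL, hNL⟩ := (eq_top_or_exists_le_coatom _).resolve_left hne
  have hc1 := hS.core_inf hG
  have hc2 := hT.core_inf hG
  have hst : W₁ = sigmaCore T ⊓
      Subgroup.centralizer ((sigmaCore S ⊓ Subgroup.centralizer (W₁ : Set G) : Subgroup G) : Set G) := by
    rw [hc1, hc2]
  obtain ⟨hκ, hUL, hmeet, hnle, -, hcompl⟩ := Cfsg.Agent.S1435.result hG S hS.coatom W₁ U (hS.decomp hG hII)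
    hS.typeP.W₁_ne hS.U_ne T hT.coatom hst (by rw [hc1]; exact hT.hall hG) r hrU R L hL hNL
  have hI := TypeOneClass.typeI_of_empty hG hL hκ
  have hFH := TypeOneFacts.fittingHall_of_empty hG hL hκ
  have hfrob : ∀ x ∈ sigmaCore L, x ≠ 1 → L ⊓ Subgroup.centralizer ({x} : Set G) ≤ sigmaCore L := by
    rw [← hFH]; exact Cfsg.Agent.S1540.result hG L hL hI
  have hWL : W₁ ≤ L := (le_sup_right.trans hmeet.ge).trans inf_le_right
  refine ⟨L, hL, hκ, hUL, hWL, hnle, hmeet, hfrob, hcompl, ?_⟩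
  set E := L ⊓ T with hE
  set Q := fittingHallOf T with hQdef
  have hW1E : W₁ ≤ E := le_inf hWL (hT.W₂_le_core.trans Basic.fittingHallOf_le)
  have hindex : (sigmaCore L).relIndex L = Nat.card E := Basic.IsComplIn.relIndex_right hcompl
  have hEfpf : ∀ a ∈ E, a ≠ 1 → sigmaCore L ⊓ Subgroup.centralizer {a} = ⊥ := by
    intro a ha ha1
    rw [eq_bot_iff]
    intro x hx
    rw [Subgroup.mem_bot]
    by_contra hx1
    have h1 := hfrob x hx.1 hx1 ⟨ha.1, Subgroup.mem_centralizer_singleton_iff.2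
      (Subgroup.mem_centralizer_singleton_iff.1 hx.2).symm⟩
    have h2 : a ∈ E ⊓ sigmaCore L := ⟨ha, h1⟩
    rw [hcompl.2.2.1, Subgroup.mem_bot] at h2
    exact ha1 h2
  have hLn := SigmaTools.le_normalizer_sigmaCore L
  haveI hZ : IsZGroup E := FrobeniusCoherence.isZGroup_fpf (SigmaCore.sigmaCore_ne_bot hG hL)
    ((inf_le_left : E ≤ L).trans hLn) hEfpf (hG.1.of_dvd_nat (Subgroup.card_subgroup_dvd_card E))
  -- `E ∩ T_F = W₁`
  haveI := Fact.mk hS.prime₁
  have hQp : IsPGroup (Nat.card W₁) Q := IsPGroup.of_card hT.card_core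
  have hEQ : E ⊓ Q = W₁ := by
    have hle : W₁ ≤ E ⊓ Q := le_inf hW1E hT.W₂_le_core
    haveI : IsZGroup ↥(E ⊓ Q) := IsZGroup.of_injective (f := Subgroup.inclusion (inf_le_left : E ⊓ Q ≤ E))
      (Subgroup.inclusion_injective _)
    have hp' : IsPGroup (Nat.card W₁) ↥(E ⊓ Q) := hQp.to_le inf_le_right
    haveI := hp'.isNilpotent
    obtain ⟨g, hg⟩ := IsCyclic.exists_ofOrder_eq_natCard (α := ↥(E ⊓ Q))
    refine (Subgroup.eq_of_le_of_card_ge hle ?_).symm
    rw [← hg]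
    refine Nat.le_of_dvd Nat.card_pos (orderOf_dvd_of_pow_eq_one (Subtype.ext ?_))
    have := hT.core_comm
    rw [SubmonoidClass.coe_pow]
    exact hT.core_pow _ g.2.2
  have hEn : ∀ z ∈ E, z ∈ Subgroup.normalizer (W₁ : Set G) := by
    intro z hz
    have key : ∀ z ∈ E, ∀ x ∈ W₁, z * x * z⁻¹ ∈ W₁ := fun z hz x hx => by
      rw [← hEQ]
      exact ⟨show z * x * z⁻¹ ∈ E from mul_mem (mul_mem hz (hW1E hx)) (inv_mem hz),
        TypeSets.conj_mem_of_le_normalizer Basic.le_normalizer_fittingHallOf hz.2 (hT.W₂_le_core hx)⟩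
    exact Subgroup.mem_normalizer_iff.2 fun x => ⟨key z hz x, fun h => by
      simpa [mul_assoc] using key _ (inv_mem hz) _ h⟩
  have hEle : E ≤ Q ⊔ W₂ := fun z hz => normalizer_W₁_le hT hz.2 (hEn z hz)
  have hW2n : W₂ ≤ Subgroup.normalizer (Q : Set G) := hT.W₁_le.trans Basic.le_normalizer_fittingHallOf
  have hpq : (Nat.card W₁).Coprime (Nat.card W₂) := by
    have h1 := hT.typeP.W₁_hall
    rw [Basic.IsComplIn.relIndex_right hT.typeP.W₁_compl] at h1
    exact (h1.coprime_dvd_right (Subgroup.card_dvd_of_le (hT.W₂_le_core.trans hT.typeP.U_compl.1))).symm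
  have hQW : Q ⊓ W₂ = ⊥ := Subgroup.inf_eq_bot_of_coprime (by
    rw [hT.card_core]; exact Nat.Coprime.pow_left _ hpq)
  have hcardQW : Nat.card ↥(Q ⊔ W₂) = Nat.card W₁ ^ Nat.card W₂ * Nat.card W₂ := by
    rw [Coprime.card_sup_of_le_normalizer hW2n (disjoint_iff.2 hQW), hT.card_core]
  have hsplit : Nat.card E = Nat.card W₁ * (E ⊓ Q).relIndex E := by
    rw [← Coprime.card_mul_relIndex_eq (inf_le_left : E ⊓ Q ≤ E), hEQ]
  have hdvd : (E ⊓ Q).relIndex E ∣ Nat.card W₂ := by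
    rw [Subgroup.inf_relIndex_left]
    haveI hn : (Q.subgroupOf (Q ⊔ W₂)).Normal := Subgroup.normal_subgroupOf_of_le_normalizer
      (sup_le Subgroup.le_normalizer hW2n)
    have h1 : Q.relIndex (Q ⊔ W₂) = Nat.card W₂ := by
      refine Nat.eq_of_mul_eq_mul_left (Nat.card_pos (α := Q)) ?_
      rw [Coprime.card_mul_relIndex_eq le_sup_left, hcardQW, hT.card_core]
    rw [← h1, ← Subgroup.relIndex_subgroupOf hEle]
    exact Subgroup.relIndex_dvd_index_of_normal _ _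
  rcases (Nat.dvd_prime hS.prime₂).1 hdvd with he | he
  · exact Or.inl (by rw [hindex, hsplit, he, mul_one])
  · refine Or.inr ⟨by rw [hindex, hsplit, he], ?_⟩
    haveI := Fact.mk hS.prime₂
    obtain ⟨z, hz⟩ := exists_prime_orderOf_dvd_card' (G := E) (Nat.card W₂)
      (by rw [hsplit, he]; exact dvd_mul_left _ _)
    rw [← Subgroup.orderOf_coe] at hz
    obtain ⟨y, hy, hyz⟩ := exists_conj_mem rfl hW2n hpq hT.card_core (hEle z.2) hz
    refine ⟨y, hy, ?_⟩
    have h1 : W₂.map (MulAut.conj y).toMonoidHom = Subgroup.zpowers (z : G) := by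
      refine (Subgroup.eq_of_le_of_card_ge (Subgroup.zpowers_le.2 hyz) ?_).symm
      rw [Nat.card_zpowers, hz, Subgroup.card_map_of_injective (MulAut.conj y).injective]
    rw [h1, Subgroup.zpowers_le]
    exact z.2.1

end CfsgLib.OddOrder.Final.Neighbour
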