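import Cfsg.Agent.Lib.OddOrder.Final.Full
import Cfsg.Agent.Lib.OddOrder.Final.NeighbourLocal
import Cfsg.Agent.Lib.FTApps.Basic
import Cfsg.Agent.S1541
import Cfsg.Prelude.Def_OddOrder

/-!
Assembly of the odd order theorem: a minimal counterexample is a minimal simple group of odd order, and in
such a group the pair, its extremal shape and the moving element of `T_F` contradict Appendix C.
-/

set_option autoImplicit false

namespace CfsgLib.OddOrder.Final

universe u

variable {G : Type*} [Group G]

/-- The neighbour module's shape record from the extremal shape. -/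
theorem Full.toNeighbour {M W₁ U W₂ : Subgroup G} (hs : Side M W₁ U W₂) (hf : Full M W₁ U W₂) :
    Neighbour.Full M W₁ U W₂ where
  coatom := hs.coatom
  typeP := hs.typeP
  prime₁ := hs.prime₁
  prime₂ := hs.prime₂
  card_core := hf.card_fit
  core_comm := hf.elementary.1
  core_pow := fun x hx => hf.elementary.2 x hx
  card_U := hf.card_U
  U_comm := by haveI := hf.cyclic; exact ⟨⟨fun a b => IsCyclic.commGroup.mul_comm a b⟩⟩
  fpf := hf.fpf

/-- No minimal simple group of odd order, given the three modules. -/
theorem false_of_modules [Finite G] (hG : Cfsg.IsMinSimpleOddOrder G)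
    (noV : ∀ M : Subgroup G, IsCoatom M → ¬ Cfsg.IsOfTypeV M)
    (full : ∀ S T W₁ W₂ U V : Subgroup G, Pair S T W₁ W₂ U V → Full S W₁ U W₂ ∧ Full T W₂ V W₁)
    (nbr : ∀ S T W₁ W₂ U V : Subgroup G, Pair S T W₁ W₂ U V → Full S W₁ U W₂ → Full T W₂ V W₁ →
      ∃ y ∈ Cfsg.fittingHallOf T, W₂.map (MulAut.conj y).toMonoidHom ≤ Subgroup.normalizer (U : Set G)) :
    False := by
  obtain ⟨S, T, W₁, W₂, U, V, h⟩ := exists_pair hG noV (Cfsg.Agent.S1541.result hG)
  obtain ⟨hS, hT⟩ := full S T W₁ W₂ U V h
  obtain ⟨y, hy, hyU⟩ := nbr S T W₁ W₂ U V h hS hT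
  exact appendixC h hS hT.elementary.1 hy hyU

/-- The odd order theorem from the absence of minimal simple groups of odd order. -/
theorem oddSolvable_of
    (h : ∀ (X : Type u) [Group X] [Finite X], Cfsg.IsMinSimpleOddOrder X → False) :
    CfsgLib.FTApps.OddSolvable.{u} := by
  suffices ∀ n, ∀ (X : Type u) [Group X] [Finite X], Nat.card X = n → Odd n → Group.IsSolvable X from
    fun X _ _ hX => this _ X rfl hX
  intro n
  induction n using Nat.strong_induction_on with
  | _ n ih =>
    intro X _ _ hn hodd
    subst hn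
    by_contra hns
    have hsub : ∀ H : Subgroup X, H ≠ ⊤ → Group.IsSolvable H := fun H hH =>
      ih _ (lt_of_le_of_ne (Subgroup.card_le_card_group H) fun e => hH (Subgroup.eq_top_of_card_eq _ e)) H rfl
        (hodd.of_dvd_nat (Subgroup.card_subgroup_dvd_card H))
    have : Nontrivial X := not_subsingleton_iff_nontrivial.mp fun _ => hns inferInstance
    have hsimple : IsSimpleGroup X := by
      refine ⟨fun N hN => ?_⟩
      by_contra hc
      push Not at hc
      haveI := hN
      haveI : Group.IsSolvable N := hsub N hc.2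
      haveI : Group.IsSolvable (X ⧸ N) := by
        refine ih _ ?_ (X ⧸ N) rfl (hodd.of_dvd_nat (Subgroup.card_quotient_dvd_card N))
        rw [Subgroup.card_eq_card_quotient_mul_card_subgroup N]
        exact lt_mul_of_one_lt_right Nat.card_pos (N.one_lt_card_iff_ne_bot.mpr hc.1)
      exact hns (Group.isSolvable_of_ker_le_range N.subtype (QuotientGroup.mk' N) (by simp))
    exact h X ⟨hodd, hsimple, fun hab => hns (Group.isSolvable_of_comm hab.is_comm.comm), hsub⟩

end CfsgLib.OddOrder.Final
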