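import Cfsg.Agent.Lib.OddOrder.Final.Engine
import Mathlib

set_option autoImplicit false

/-!
The test function of a side: the projection of one reducible member on the differences of the members.
-/

open scoped ComplexConjugate

namespace CfsgLib.OddOrder.Final.Test

open CfsgLib.Char

variable {G : Type*} [Group G] {M : Subgroup G} {A : Set G} {R : G → Subgroup G}

theorem dade_add (α β : M → ℂ) : Cfsg.dadeIsometry A M R (α + β) =
    Cfsg.dadeIsometry A M R α + Cfsg.dadeIsometry A M R β := by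
  funext g
  simp only [Cfsg.dadeIsometry, Pi.add_apply]
  split_ifs <;> simp

theorem dade_smul (z : ℂ) (α : M → ℂ) : Cfsg.dadeIsometry A M R (z • α) = z • Cfsg.dadeIsometry A M R α := by
  funext g
  simp only [Cfsg.dadeIsometry, Pi.smul_apply]
  split_ifs <;> simp

theorem dade_zero : Cfsg.dadeIsometry A M R (0 : M → ℂ) = 0 := by
  funext g
  simp only [Cfsg.dadeIsometry, Pi.zero_apply]
  split_ifs <;> rfl

theorem dade_sum {ι : Type*} (s : Finset ι) (f : ι → M → ℂ) :
    Cfsg.dadeIsometry A M R (∑ i ∈ s, f i) = ∑ i ∈ s, Cfsg.dadeIsometry A M R (f i) := by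
  classical
  induction s using Finset.induction_on with
  | empty => simp [dade_zero]
  | insert i s his ih => rw [Finset.sum_insert his, Finset.sum_insert his, dade_add, ih]

/-- The data of a side: `μ` reducible members of norm `q`, `ξ` irreducible ones, all of the same degree and
vanishing off `A` and `1`, with the inner products of their differences with `c` after the Dade map. -/
structure Members [Fintype G] [Fintype M] (c : G → ℂ) (ι κ : Type*) (μ : ι → M → ℂ) (ξ : κ → M → ℂ)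
    (A : Set G) (q : ℕ) (j₀ : ι) (δ : ℂ) : Prop where
  classμ : ∀ i, Cfsg.IsClassFunction M (μ i)
  classξ : ∀ k, Cfsg.IsClassFunction M (ξ k)
  normμ : ∀ i, Cfsg.classInner (μ i) (μ i) = q
  orthμ : ∀ i j, i ≠ j → Cfsg.classInner (μ i) (μ j) = 0
  normξ : ∀ k, Cfsg.classInner (ξ k) (ξ k) = 1
  orthξ : ∀ k l, k ≠ l → Cfsg.classInner (ξ k) (ξ l) = 0
  orth : ∀ i k, Cfsg.classInner (μ i) (ξ k) = 0
  supμ : ∀ i, ∀ a : M, (a : G) ∉ A → μ i a = μ j₀ a
  supξ : ∀ k, ∀ a : M, (a : G) ∉ A → ξ k a = μ j₀ a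
  meanμ : ∀ i, ∑ a, μ i a = 0
  meanξ : ∀ k, ∑ a, ξ k a = 0
  sign : δ = 1 ∨ δ = -1
  pairμ : ∀ i, i ≠ j₀ → Cfsg.classInner (Cfsg.dadeIsometry A M (fun _ => ⊥) (μ j₀ - μ i)) c = δ
  pairξ : ∀ k, Cfsg.classInner (Cfsg.dadeIsometry A M (fun _ => ⊥) (μ j₀ - ξ k)) c = δ

/-- A test function of squared norm `n`. -/
def HasTest [Fintype G] [Fintype M] (c : G → ℂ) (A : Set G) (n : ℝ) : Prop :=
  ∃ P : M → ℂ, Cfsg.IsClassFunction M P ∧ (∀ a : M, (a : G) ∉ A → P a = 0) ∧ ∑ a, P a = 0 ∧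
    Cfsg.classInner (Cfsg.dadeIsometry A M (fun _ => ⊥) P) c = Cfsg.classInner P P ∧
    (Cfsg.classInner P P).re = n

variable [Fintype G] [Fintype M]

/-- The weight of the members. -/
noncomputable def weight (ι κ : Type*) [Fintype ι] [Fintype κ] (q : ℕ) : ℝ :=
  (Fintype.card ι : ℝ) / q + Fintype.card κ

theorem exists_test_dist {c : G → ℂ} {ι κ : Type*} [Fintype ι] [Fintype κ] {μ : ι → M → ℂ} {ξ : κ → M → ℂ}
    {q : ℕ} {j₀ : ι} {δ : ℂ} (h : Members c ι κ μ ξ A q j₀ δ) (hq : 0 < q) :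
    ∃ P : M → ℂ, Cfsg.IsClassFunction M P ∧ (∀ a : M, (a : G) ∉ A → P a = 0) ∧ ∑ a, P a = 0 ∧
      Cfsg.classInner (Cfsg.dadeIsometry A M (fun _ => ⊥) P) c = Cfsg.classInner P P ∧
      (Cfsg.classInner P P).re = 1 / q - 1 / ((q : ℝ) ^ 2 * weight ι κ q) ∧
      (Nat.card M : ℝ)⁻¹ * ∑ a, ‖P a - δ / q * μ j₀ a‖ ^ 2 ≤ 1 / ((q : ℝ) ^ 2 * weight ι κ q) := by
  classical
  have hq0 : (q : ℂ) ≠ 0 := Nat.cast_ne_zero.mpr hq.ne'
  set Wr := weight ι κ q with hWr
  have hWpos : 0 < Wr := by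
    have : 0 < (Fintype.card ι : ℝ) := by exact_mod_cast Fintype.card_pos_iff.mpr ⟨j₀⟩
    rw [hWr, weight]; positivity
  set W : ℂ := (Wr : ℂ) with hW
  have hW0 : W ≠ 0 := by rw [hW]; exact_mod_cast hWpos.ne'
  have hWeq : W = (Fintype.card ι : ℂ) / q + Fintype.card κ := by
    rw [hW, hWr, weight]; push_cast; ring
  -- the differences
  set dμ : ι → M → ℂ := fun i => μ j₀ - μ i with hdμ
  set dξ : κ → M → ℂ := fun k => μ j₀ - ξ k with hdξ
  set v : M → ℂ := (1 / ((q : ℂ) * W)) • (∑ i, dμ i) + (1 / W) • (∑ k, dξ k) with hv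
  -- the weighted sum of all members
  set ρ : M → ℂ := (1 / (q : ℂ)) • (∑ i, μ i) + ∑ k, ξ k with hρ
  have hvρ : v = μ j₀ - (1 / W) • ρ := by
    rw [hv, hρ]
    simp only [hdμ, hdξ, Finset.sum_sub_distrib, Finset.sum_const, Finset.card_univ, smul_sub, smul_add,
      ← Nat.cast_smul_eq_nsmul ℂ, smul_smul]
    have : (1 / ((q : ℂ) * W)) * (Fintype.card ι : ℂ) + (1 / W) * (Fintype.card κ : ℂ) = 1 := by
      rw [div_mul_eq_mul_div, div_mul_eq_mul_div, one_mul, one_mul, div_mul_eq_div_div, ← add_div,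
        ← hWeq, div_self hW0]
    calc _ = ((1 / ((q : ℂ) * W)) * (Fintype.card ι : ℂ) + (1 / W) * (Fintype.card κ : ℂ)) • μ j₀ -
          ((1 / ((q : ℂ) * W)) • ∑ i, μ i + (1 / W) • ∑ k, ξ k) := by rw [add_smul]; abel
      _ = _ := by
        rw [this, one_smul]
        congr 3
        ring
  have hμμ : ∀ i j, Cfsg.classInner (μ i) (μ j) = if i = j then (q : ℂ) else 0 := fun i j => by
    split_ifs with e
    · rw [e, h.normμ]
    · exact h.orthμ i j e
  have hξξ : ∀ k l, Cfsg.classInner (ξ k) (ξ l) = if k = l then 1 else 0 := fun k l => by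
    split_ifs with e
    · rw [e, h.normξ]
    · exact h.orthξ k l e
  have horth' : ∀ i k, Cfsg.classInner (ξ k) (μ i) = 0 := fun i k => by
    rw [← classInner_conj_symm, h.orth, map_zero]
  have hμρ : ∀ i, Cfsg.classInner (μ i) ρ = 1 := fun i => by
    simp [hρ, classInner_add_right, classInner_smul_right, classInner_sum_right, hμμ, h.orth, hq0]
  have hρμ : Cfsg.classInner ρ (μ j₀) = 1 := by rw [← classInner_conj_symm, hμρ, map_one]
  have hξρ : ∀ k, Cfsg.classInner (ξ k) ρ = 1 := fun k => by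
    simp [hρ, classInner_add_right, classInner_smul_right, classInner_sum_right, hξξ, horth']
  have hρρ : Cfsg.classInner ρ ρ = W := by
    rw [hWeq]
    conv_lhs => arg 1; rw [hρ]
    rw [classInner_add_left, classInner_smul_left, classInner_sum_left, classInner_sum_left]
    simp [hμρ, hξρ]
    ring
  have hvv : Cfsg.classInner v v = q - 1 / W := by
    rw [hvρ, classInner_sub_left, classInner_sub_right, classInner_sub_right, h.normμ, classInner_smul_left,
      classInner_smul_left, classInner_smul_right, classInner_smul_right, hμρ, hρμ, hρρ]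
    simp only [map_div₀, map_one, show conj W = W by rw [hW, Complex.conj_ofReal]]
    field_simp
    ring
  have hpair : Cfsg.classInner (Cfsg.dadeIsometry A M (fun _ => ⊥) v) c = δ * (1 - 1 / (q * W)) := by
    rw [hv, dade_add, dade_smul, dade_smul, dade_sum, dade_sum, classInner_add_left, classInner_smul_left,
      classInner_smul_left, classInner_sum_left, classInner_sum_left]
    have h1 : ∑ i, Cfsg.classInner (Cfsg.dadeIsometry A M (fun _ => ⊥) (dμ i)) c =
        ((Fintype.card ι : ℂ) - 1) * δ := by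
      rw [← Finset.add_sum_erase _ _ (Finset.mem_univ j₀), hdμ]
      dsimp only
      rw [sub_self, dade_zero, classInner_zero_left, zero_add,
        Finset.sum_congr rfl fun i hi => h.pairμ i (Finset.ne_of_mem_erase hi), Finset.sum_const,
        Finset.card_erase_of_mem (Finset.mem_univ j₀), Finset.card_univ, nsmul_eq_mul,
        Nat.cast_sub (Fintype.card_pos_iff.mpr ⟨j₀⟩), Nat.cast_one]
    have h2 : ∑ k, Cfsg.classInner (Cfsg.dadeIsometry A M (fun _ => ⊥) (dξ k)) c = (Fintype.card κ : ℂ) * δ := by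
      rw [Finset.sum_congr rfl fun k _ => h.pairξ k, Finset.sum_const, Finset.card_univ, nsmul_eq_mul]
    rw [h1, h2]
    calc _ = δ * (((Fintype.card ι : ℂ) / q + Fintype.card κ) / W - 1 / (q * W)) := by field_simp; ring
      _ = _ := by rw [← hWeq, div_self hW0]
  set P : M → ℂ := (δ / q) • v with hP
  have hδ : conj δ = δ := by rcases h.sign with rfl | rfl <;> simp
  have hδ2 : δ * δ = 1 := by rcases h.sign with rfl | rfl <;> simp
  have hPP : Cfsg.classInner P P = 1 / q - 1 / ((q : ℂ) ^ 2 * W) := by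
    rw [hP, classInner_smul_left, classInner_smul_right, hvv, map_div₀, hδ, Complex.conj_natCast]
    calc _ = (δ * δ) * ((1 / q) * (1 / q) * (q - 1 / W)) := by ring
      _ = _ := by rw [hδ2]; field_simp
  refine ⟨P, ?_, ?_, ?_, ?_, ?_, ?_⟩
  · intro g y
    simp only [hP, hvρ, hρ, Pi.smul_apply, Pi.sub_apply, Pi.add_apply, Finset.sum_apply, smul_eq_mul,
      h.classμ _ g y, h.classξ _ g y]
  · intro a ha
    simp only [hP, hv, hdμ, hdξ, Pi.smul_apply, Pi.add_apply, Finset.sum_apply, Pi.sub_apply, smul_eq_mul,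
      h.supμ _ a ha, h.supξ _ a ha, sub_self, Finset.sum_const_zero, mul_zero, add_zero]
  · have h1 : ∀ (z : ℂ) (f : M → ℂ), ∑ a, (z • f) a = z * ∑ a, f a := fun z f => by
      simp [Finset.mul_sum]
    rw [hP, h1, hvρ]
    simp only [Pi.sub_apply, Finset.sum_sub_distrib, h1, h.meanμ, hρ, Pi.add_apply, Finset.sum_add_distrib,
      Finset.sum_apply]
    rw [Finset.sum_comm, Finset.sum_eq_zero fun i _ => h.meanμ i, Finset.sum_comm,
      Finset.sum_eq_zero fun k _ => h.meanξ k]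
    simp
  · rw [hPP, hP, dade_smul, classInner_smul_left, hpair]
    calc _ = (δ * δ) * ((1 / q) * (1 - 1 / (q * W))) := by ring
      _ = _ := by rw [hδ2]; field_simp
  · rw [hPP, show (1 / (q : ℂ) - 1 / ((q : ℂ) ^ 2 * W)) = (((1 / q - 1 / ((q : ℝ) ^ 2 * Wr) : ℝ)) : ℂ) by
      rw [hW]; push_cast; ring, Complex.ofReal_re]
  · have hdiff : (fun a => P a - δ / q * μ j₀ a) = (-(δ / q) * (1 / W)) • ρ := by
      funext a
      simp only [hP, hvρ, Pi.smul_apply, Pi.sub_apply, smul_eq_mul]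
      ring
    have h1 : Cfsg.classInner (fun a => P a - δ / q * μ j₀ a) (fun a => P a - δ / q * μ j₀ a) =
        ((1 / ((q : ℝ) ^ 2 * Wr) : ℝ) : ℂ) := by
      rw [hdiff, classInner_smul_left, classInner_smul_right, hρρ]
      simp only [map_mul, map_neg, map_div₀, hδ, Complex.conj_natCast, map_one,
        show conj W = W by rw [hW, Complex.conj_ofReal]]
      calc _ = (δ * δ) * (1 / q * (1 / q) * (1 / W) * (1 / W) * W) := by ring
        _ = _ := by rw [hδ2, hW]; push_cast; field_simp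
    rw [classInner_self, Complex.ofReal_inj] at h1
    exact h1.le

theorem exists_test {c : G → ℂ} {ι κ : Type*} [Fintype ι] [Fintype κ] {μ : ι → M → ℂ} {ξ : κ → M → ℂ}
    {q : ℕ} {j₀ : ι} {δ : ℂ} (h : Members c ι κ μ ξ A q j₀ δ) (hq : 0 < q) :
    HasTest (M := M) c A (1 / q - 1 / ((q : ℝ) ^ 2 * weight ι κ q)) := by
  obtain ⟨P, h1, h2, h3, h4, h5, -⟩ := exists_test_dist h hq
  exact ⟨P, h1, h2, h3, h4, h5⟩

/-- **The bound on the mean when the members are few**: with `F` a subgroup containing `A` on which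
`c - δ μ j₀ / q` is a virtual character. -/
theorem small {c : G → ℂ} (hc : Cfsg.IsClassFunction G c) (hD : Cfsg.DadeHypothesis A M fun _ => ⊥)
    (hs : ∀ a ∈ A, ∀ k : ℕ, k.Coprime (orderOf a) → a ^ k ∈ A)
    {ι κ : Type*} [Fintype ι] [Fintype κ] {μ : ι → M → ℂ} {ξ : κ → M → ℂ}
    {q : ℕ} {j₀ : ι} {δ : ℂ} (h : Members c ι κ μ ξ A q j₀ δ) (hq : 0 < q)
    (hoff : ∀ a : M, (a : G) ∉ A → a ≠ 1 → μ j₀ a = 0)
    (F : Subgroup M) (hAF : ∀ a : M, (a : G) ∈ A → a ∈ F)
    (hf : Cfsg.IsGeneralizedCharacter F fun a => c (a : M) - δ / q * μ j₀ a) {ε : ℝ} (hε : 0 < ε) (hε1 : ε < 1) :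
    ‖Engine.tot M A c‖ ≤ ‖μ j₀ 1‖ / ((q : ℝ) * Nat.card M) +
      (1 - ε)⁻¹ * (Engine.mass M A c - (1 / q - 1 / ((q : ℝ) ^ 2 * weight ι κ q))) +
      ε⁻¹ * (1 / ((q : ℝ) ^ 2 * weight ι κ q)) := by
  classical
  obtain ⟨P, hP1, hP2, hP3, hP4, hP5, hPθ⟩ := exists_test_dist h hq
  have h1 := Engine.side_small hD hc hP1 hP2 hP4 F hAF hs (fun a => δ / q * μ j₀ a) hf hε hε1
  rw [hP5] at h1
  refine h1.trans (add_le_add (add_le_add ?_ le_rfl) (mul_le_mul_of_nonneg_left ?_ (by positivity)))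
  · have h2 : ∑ a ∈ Engine.pts M A, δ / q * μ j₀ a = -(δ / q * μ j₀ 1) := by
      rw [← Finset.mul_sum]
      have h3 := h.meanμ j₀
      rw [← Finset.sum_sdiff (Finset.subset_univ (Engine.pts M A)), Finset.sum_eq_single (1 : M)
        (fun b hb hb1 => hoff b (fun e => (Finset.mem_sdiff.mp hb).2 (Engine.mem_pts.mpr e)) hb1)
        (fun hn => absurd (Finset.mem_sdiff.mpr ⟨Finset.mem_univ _, fun e => hD.one_not_mem
          (by simpa using Engine.mem_pts.mp e)⟩) hn)] at h3
      linear_combination (δ / q) * h3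
    have hδ : ‖δ‖ = 1 := by rcases h.sign with rfl | rfl <;> simp
    rw [h2, norm_mul, norm_neg, norm_mul, norm_inv, norm_div, hδ, Complex.norm_natCast, Complex.norm_natCast]
    exact le_of_eq (by ring)
  · refine le_trans ?_ hPθ
    exact mul_le_mul_of_nonneg_left (Finset.sum_le_sum_of_subset_of_nonneg (Finset.subset_univ _)
      fun _ _ _ => sq_nonneg _) (by positivity)

end CfsgLib.OddOrder.Final.Test
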