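import Cfsg.Agent.Lib.OddOrder.Final.VSet
import Cfsg.Agent.Lib.OddOrder.Final.Test
import Mathlib

set_option autoImplicit false

/-!
The inequality on the member `χ (φψ)` of the cyclic TI family given test functions on the two sides.
-/

namespace CfsgLib.OddOrder.Final.Bound

open CfsgLib.Char CfsgLib.Char.CyclicTI
open Engine (orbit tot mass meas)

variable {G : Type*} [Group G] [Fintype G] {W₁ W₂ : Subgroup G} {χ : (↥(W₁ ⊔ W₂) →* ℂˣ) → (G → ℂ)}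

/-- The two sides: TI sets with normalisers `S`, `T`, disjoint from each other and from the conjugates of
`W₁W₂ ∖ (W₁ ∪ W₂)`. -/
structure Sides (W₁ W₂ S T : Subgroup G) (A B : Set G) : Prop where
  selfNormalizing : Cfsg.IsSelfNormalizingCyclic W₁ W₂
  nonempty : (vset W₁ W₂).Nonempty
  dadeA : Cfsg.DadeHypothesis A S fun _ => ⊥
  dadeB : Cfsg.DadeHypothesis B T fun _ => ⊥
  stableA : ∀ a ∈ A, ∀ k : ℕ, k.Coprime (orderOf a) → a ^ k ∈ A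
  stableB : ∀ a ∈ B, ∀ k : ℕ, k.Coprime (orderOf a) → a ^ k ∈ B
  disjVA : Disjoint (orbit (W₁ ⊔ W₂) (vset W₁ W₂)) (orbit S A)
  disjVB : Disjoint (orbit (W₁ ⊔ W₂) (vset W₁ W₂)) (orbit T B)
  disjAB : Disjoint (orbit S A) (orbit T B)

variable {S T : Subgroup G} {A B : Set G}

/-- The engine for a member `χ (φψ)`: the bound on the means against the masses. -/
theorem engine (h : Sides W₁ W₂ S T A B) (hχ : Cfsg.IsCyclicTIFamily W₁ W₂ χ)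
    {f g : ↥(W₁ ⊔ W₂) →* ℂˣ} (hf : ∀ w : ↥(W₁ ⊔ W₂), (w : G) ∈ W₂ → f w = 1)
    (hg : ∀ w : ↥(W₁ ⊔ W₂), (w : G) ∈ W₁ → g w = 1) (hf1 : f ≠ 1) (hg1 : g ≠ 1) :
    ((Nat.card W₁ : ℝ) * Nat.card W₂)⁻¹ + (1 - (Nat.card W₁ : ℝ)⁻¹) * (1 - (Nat.card W₂ : ℝ)⁻¹) +
      mass S A (χ (f * g)) + mass T B (χ (f * g)) ≤
      1 + ‖tot S A (χ (f * g))‖ + ‖tot T B (χ (f * g))‖ := by
  have hW := h.selfNormalizing
  have hne : f * g ≠ 1 := fun e => hf1 (hom_eq_one f (fun w hw => by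
    have := DFunLike.congr_fun e w
    rwa [MonoidHom.mul_apply, hg w hw, mul_one] at this) hf)
  obtain ⟨hc, hn, h0⟩ := VSet.family_props hW hχ hne
  have h3 := Engine.three (VSet.dade hW h.nonempty) h.dadeA h.dadeB h.disjVA h.disjVB h.disjAB
    (fun a ha k hk => VSet.pow_mem ha hk) h.stableA h.stableB hc hn h0
  rw [VSet.mass_family hW hχ, VSet.tot_family hW hχ hf hg hf1 hg1] at h3
  have h4 : ‖((Nat.card W₁ : ℂ) * Nat.card W₂)⁻¹‖ - ‖tot S A (χ (f * g))‖ - ‖tot T B (χ (f * g))‖ ≤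
      ‖((Nat.card W₁ : ℂ) * Nat.card W₂)⁻¹ + tot S A (χ (f * g)) + tot T B (χ (f * g))‖ := by
    set a := ((Nat.card W₁ : ℂ) * Nat.card W₂)⁻¹
    set b := tot S A (χ (f * g))
    set d := tot T B (χ (f * g))
    have h5 : ‖a‖ ≤ ‖a + b + d‖ + ‖b‖ + ‖d‖ :=
      calc ‖a‖ = ‖(a + b + d) - b - d‖ := by congr 1; ring
        _ ≤ ‖(a + b + d) - b‖ + ‖d‖ := norm_sub_le _ _
        _ ≤ _ := by linarith [norm_sub_le (a + b + d) b]
    linarith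
  have h5 : ‖((Nat.card W₁ : ℂ) * Nat.card W₂)⁻¹‖ = ((Nat.card W₁ : ℝ) * Nat.card W₂)⁻¹ := by
    rw [norm_inv, norm_mul, Complex.norm_natCast, Complex.norm_natCast]
  linarith

/-- **Two test functions.** -/
theorem two_tests [Fintype S] [Fintype T] (h : Sides W₁ W₂ S T A B)
    (hχ : Cfsg.IsCyclicTIFamily W₁ W₂ χ)
    {f g : ↥(W₁ ⊔ W₂) →* ℂˣ} (hf : ∀ w : ↥(W₁ ⊔ W₂), (w : G) ∈ W₂ → f w = 1)
    (hg : ∀ w : ↥(W₁ ⊔ W₂), (w : G) ∈ W₁ → g w = 1) (hf1 : f ≠ 1) (hg1 : g ≠ 1) {nS nT : ℝ}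
    (hS : Test.HasTest (M := S) (χ (f * g)) A nS) (hT : Test.HasTest (M := T) (χ (f * g)) B nT) :
    2 * ((Nat.card W₁ : ℝ) * Nat.card W₂)⁻¹ + nS + nT ≤
      (Nat.card W₁ : ℝ)⁻¹ + (Nat.card W₂ : ℝ)⁻¹ + (meas S A + meas T B) / 4 := by
  obtain ⟨P, hP1, hP2, hP3, hP4, hP5⟩ := hS
  obtain ⟨Q, hQ1, hQ2, hQ3, hQ4, hQ5⟩ := hT
  have he := engine h hχ hf hg hf1 hg1
  have hcl : Cfsg.IsClassFunction G (χ (f * g)) := IsGeneralizedCharacter.isClassFunction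
    (VSet.family_props h.selfNormalizing hχ (ω := f * g) fun e => hf1 (hom_eq_one f (fun w hw => by
      have := DFunLike.congr_fun e w
      rwa [MonoidHom.mul_apply, hg w hw, mul_one] at this) hf)).1
  have h1 := Engine.side h.dadeA hcl hP1 hP2 hP3 hP4
  have h2 := Engine.side h.dadeB hcl hQ1 hQ2 hQ3 hQ4
  rw [hP5] at h1
  rw [hQ5] at h2
  rw [mul_inv] at he ⊢
  linarith

/-- The masses alone. -/
theorem masses (h : Sides W₁ W₂ S T A B) (hχ : Cfsg.IsCyclicTIFamily W₁ W₂ χ)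
    {ω : ↥(W₁ ⊔ W₂) →* ℂˣ} (hω : ω ≠ 1) :
    (1 - (Nat.card W₁ : ℝ)⁻¹) * (1 - (Nat.card W₂ : ℝ)⁻¹) + mass S A (χ ω) + mass T B (χ ω) ≤ 1 := by
  have hW := h.selfNormalizing
  obtain ⟨hc, hn, h0⟩ := VSet.family_props hW hχ hω
  have h3 := Engine.three (VSet.dade hW h.nonempty) h.dadeA h.dadeB h.disjVA h.disjVB h.disjAB
    (fun a ha k hk => VSet.pow_mem ha hk) h.stableA h.stableB hc hn h0
  rw [VSet.mass_family hW hχ] at h3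
  linarith [norm_nonneg (tot (W₁ ⊔ W₂) (vset W₁ W₂) (χ ω) + tot S A (χ ω) + tot T B (χ ω))]

theorem mul_ne_one {f g : ↥(W₁ ⊔ W₂) →* ℂˣ} (hf : ∀ w : ↥(W₁ ⊔ W₂), (w : G) ∈ W₂ → f w = 1)
    (hg : ∀ w : ↥(W₁ ⊔ W₂), (w : G) ∈ W₁ → g w = 1) (hf1 : f ≠ 1) : f * g ≠ 1 := fun e =>
  hf1 (hom_eq_one f (fun w hw => by
    have := DFunLike.congr_fun e w
    rwa [MonoidHom.mul_apply, hg w hw, mul_one] at this) hf)

/-- **Both sides with test functions, masses only.** -/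
theorem both [Fintype S] [Fintype T] (h : Sides W₁ W₂ S T A B) (hχ : Cfsg.IsCyclicTIFamily W₁ W₂ χ)
    {ω : ↥(W₁ ⊔ W₂) →* ℂˣ} (hω : ω ≠ 1) {nS nT : ℝ}
    (hS : Test.HasTest (M := S) (χ ω) A nS) (hT : Test.HasTest (M := T) (χ ω) B nT) :
    ((Nat.card W₁ : ℝ) * Nat.card W₂)⁻¹ + nS + nT ≤ (Nat.card W₁ : ℝ)⁻¹ + (Nat.card W₂ : ℝ)⁻¹ := by
  obtain ⟨P, hP1, hP2, hP3, hP4, hP5⟩ := hS
  obtain ⟨Q, hQ1, hQ2, hQ3, hQ4, hQ5⟩ := hT
  have hcl := IsGeneralizedCharacter.isClassFunction (VSet.family_props h.selfNormalizing hχ hω).1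
  have h1 := Engine.side_split h.dadeA hcl hP1 hP2 hP4
  have h2 := Engine.side_split h.dadeB hcl hQ1 hQ2 hQ4
  have h3 := masses h hχ hω
  have h4 : (0 : ℝ) ≤ (Nat.card S : ℝ)⁻¹ * ∑ a ∈ Engine.pts S A, ‖χ ω (a : G) - P a‖ ^ 2 := by positivity
  have h5 : (0 : ℝ) ≤ (Nat.card T : ℝ)⁻¹ * ∑ a ∈ Engine.pts T B, ‖χ ω (a : G) - Q a‖ ^ 2 := by positivity
  rw [hP5] at h1
  rw [hQ5] at h2
  rw [mul_inv]
  linarith

end CfsgLib.OddOrder.Final.Bound
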