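import Cfsg.Agent.Lib.OddOrder.Final.PairFacts
import Cfsg.Agent.Lib.OddOrder.Final.Bound
import Cfsg.Agent.S1391
import Cfsg.Agent.S1497
import Cfsg.Agent.S1537
import Cfsg.Agent.S1539
import Cfsg.Agent.S1389

/-!
For a maximal subgroup of type P the centralizers of the elements of `A₀(M)` lie in `M`, so `A₁(M)`,
`A(M)`, `A₀(M)` are TI-sets. For the pair, the conjugates of `A(S)`, of `A(T)` and of the elements of
`W₁W₂` outside both factors are disjoint, and every element outside them has order prime to `pq`.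
-/

set_option autoImplicit false

namespace CfsgLib.OddOrder.Final

open CfsgLib.Char.CyclicTI (vset mem_vset)
open Engine (orbit mem_orbit)

variable {G : Type*} [Group G] [Finite G] {M W₁ U W₂ : Subgroup G}

namespace TP

variable (hG : Cfsg.IsMinSimpleOddOrder G) (hM : IsCoatom M) (hP : Cfsg.IsTypePWith M W₁ U W₂)
include hG hM hP

theorem not_typeI : ¬ Cfsg.IsOfTypeI M := fun hI => by
  obtain ⟨K, U₀, h⟩ := FittingStructure.exists_decomp hG hM
  exact TypeP.kappa_of_typeP hG hM h hP (TypeF.kappa_of_typeF hG hM h hI.1)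

theorem typeA_eq : Cfsg.typeA M =
    {a | a ∈ ⁅M, M⁆ ∧ a ≠ 1 ∧ ∃ x ∈ Cfsg.typeCore M, x ≠ 1 ∧ a * x = x * a} := by
  classical
  unfold Cfsg.typeA
  rw [if_neg (not_typeI hG hM hP)]

/-- A subgroup of type P is supported by nobody. -/
theorem centralizer_le {a : G} (ha : a ∈ Cfsg.typeA0 M) : Subgroup.centralizer ({a} : Set G) ≤ M := by
  by_contra hC
  obtain ⟨K, U₀, h⟩ := FittingStructure.exists_decomp hG hM
  have hS : a ∈ Cfsg.sigmaCore M := by_contra fun hS => hC (DadeSets.centralizer_le hG hM h ha hS)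
  have ha1 := (DadeSets.A0_sub hG hM h ha).2.2
  obtain ⟨N, hov⟩ := SigmaCentralizer.exists_over hG hM hS ha1 hC
  have hκ := (Cfsg.Agent.S1376.result hG M hM a hS ha1 hC N hov.coatom hov.le
    (TypeOneFacts.over_kappa hG hov ha1)).1
  exact TypeP.kappa_of_typeP hG hM h hP (TypeOneFacts.K_eq_bot h hκ)

theorem supportR_eq {a : G} (ha : a ∈ Cfsg.typeA0 M) : Cfsg.supportR M a = ⊥ :=
  DadeSets.supportR_of_le (centralizer_le hG hM hP ha)

/-- The three sets satisfy the Dade hypothesis with trivial subgroups. -/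
theorem dade {A : Set G} (hA : A = Cfsg.typeA1 M ∨ A = Cfsg.typeA M ∨ A = Cfsg.typeA0 M) :
    Cfsg.DadeHypothesis A M fun _ => ⊥ := by
  obtain ⟨-, hD⟩ := Cfsg.Agent.S1537.result hG M hM A hA
  have hsub : ∀ a ∈ A, a ∈ Cfsg.typeA0 M := by
    intro a ha
    rcases hA with rfl | rfl | rfl
    · refine Or.inl ?_
      rw [typeA_eq hG hM hP]
      refine ⟨?_, ha.2, a, ha.1, ha.2, rfl⟩
      obtain ⟨K, U₀, h⟩ := FittingStructure.exists_decomp hG hM
      have h1 : a ∈ Cfsg.typeCore M := ha.1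
      rw [DadeSets.typeCore_eq hG hM h] at h1
      exact SigmaCore.le_derived hG hM h1
    · exact Or.inl ha
    · exact ha
  have e : ∀ a ∈ A, Cfsg.supportR M a = ⊥ := fun a ha => supportR_eq hG hM hP (hsub a ha)
  exact ⟨hD.one_not_mem, hD.subset, hD.conj_mem, hD.fusion, fun a ha => e a ha ▸ hD.le_centralizer a ha,
    fun a ha => e a ha ▸ hD.conj_mem_H a ha, fun a ha => e a ha ▸ hD.inf_eq_bot a ha,
    fun a ha => e a ha ▸ hD.sup_eq a ha, fun a ha => e a ha ▸ hD.coprime a ha⟩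

theorem nonempty_A1 : (Cfsg.typeA1 M).Nonempty := by
  obtain ⟨K, U₀, h⟩ := FittingStructure.exists_decomp hG hM
  obtain ⟨x, hx, hx1⟩ := (Subgroup.bot_or_exists_ne_one _).resolve_left (SigmaCore.sigmaCore_ne_bot hG hM)
  refine ⟨x, ?_, hx1⟩
  rw [SetLike.mem_coe, DadeSets.typeCore_eq hG hM h]
  exact hx

theorem fit_le_core : Cfsg.fittingHallOf M ≤ Cfsg.typeCore M := by
  obtain ⟨K, U₀, h⟩ := FittingStructure.exists_decomp hG hM
  exact (DadeSets.typeCore_eq hG hM h).symm ▸ SigmaCentralizer.fittingHallOf_le_sigmaCore hG hM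

theorem typeA1_sub {a : G} (ha : a ∈ Cfsg.typeA1 M) : a ∈ Cfsg.typeA M := by
  rw [typeA_eq hG hM hP]
  obtain ⟨K, U₀, h⟩ := FittingStructure.exists_decomp hG hM
  have h1 : a ∈ Cfsg.typeCore M := ha.1
  rw [DadeSets.typeCore_eq hG hM h] at h1
  exact ⟨SigmaCore.le_derived hG hM h1, ha.2, a, ha.1, ha.2, rfl⟩

/-- Powers prime to the order stay in `A(M)`. -/
theorem pow_mem {a : G} (ha : a ∈ Cfsg.typeA M) {k : ℕ} (hk : k.Coprime (orderOf a)) :
    a ^ k ∈ Cfsg.typeA M := by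
  rw [typeA_eq hG hM hP] at ha ⊢
  obtain ⟨had, ha1, x, hx, hx1, hc⟩ := ha
  refine ⟨_root_.pow_mem had k, fun e => ha1 ?_, x, hx, hx1, (Commute.pow_left hc k).eq⟩
  obtain ⟨m, hm⟩ := exists_pow_eq_self_of_coprime hk
  rw [← hm, e, one_pow]

/-- The conjugates of `M'` avoid the elements of `W₁W₂` outside both factors. -/
theorem vset_notMem_derived {v g : G} (hv : v ∈ vset W₁ W₂) : g * v * g⁻¹ ∉ ⁅M, M⁆ := by
  intro hd
  obtain ⟨hmem, -, h2⟩ := mem_vset.mp hv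
  have hn : W₁ ≤ Subgroup.normalizer (W₂ : Set G) := le_trans
    (fun a ha => Subgroup.mem_centralizer_iff.mpr fun b hb => (hP.selfNormalizing.2.2.2.1 a ha b hb).symm)
    (Subgroup.centralizer_le_normalizer _)
  rw [← SetLike.mem_coe, Subgroup.coe_mul_of_left_le_normalizer_right W₁ W₂ hn] at hmem
  obtain ⟨a, ha, b, hb, rfl⟩ := hmem
  refine h2 ?_
  have h3 : orderOf (a * b) ∣ Nat.card ↥⁅M, M⁆ := by
    rw [← orderOf_conj g]; exact Subgroup.orderOf_dvd_natCard _ hd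
  have h4 : orderOf b ∣ Nat.card ↥⁅M, M⁆ := Subgroup.orderOf_dvd_natCard _ (W₂_le_derived hP hb)
  have hc : Commute a b := hP.selfNormalizing.2.2.2.1 a ha b hb
  have h5 : a ^ Nat.card ↥⁅M, M⁆ = 1 := by
    have := orderOf_dvd_iff_pow_eq_one.mp h3
    rwa [hc.mul_pow, orderOf_dvd_iff_pow_eq_one.mp h4, mul_one] at this
  have h6 : a = 1 := orderOf_eq_one_iff.mp (Nat.eq_one_of_dvd_coprimes (coprime_derived hP)
    (Subgroup.orderOf_dvd_natCard _ ha) (orderOf_dvd_of_pow_eq_one h5))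
  simpa [h6] using hb

/-- An element of order `|W₁|`, a prime, is conjugate into `W₁`. -/
theorem exists_conj_W₁ (hq : (Nat.card W₁).Prime) {y : G} (hy : y ∈ M) (hyq : orderOf y = Nat.card W₁) :
    ∃ s ∈ M, s * y * s⁻¹ ∈ W₁ := by
  have hall : ∀ Y : Subgroup G, Y ≤ M → Nat.card Y = Nat.card W₁ → Cfsg.IsPiHallOf {Nat.card W₁} Y M := by
    intro Y hY hc
    refine ⟨hY, fun t ht hd => ?_, fun t ht htq hd => ?_⟩
    · rw [hc] at hd
      exact (Nat.prime_dvd_prime_iff_eq ht hq).mp hd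
    · have h1 := Coprime.card_mul_relIndex_eq hY
      rw [hc, card_eq hP, mul_comm (Nat.card ↥⁅M, M⁆)] at h1
      rw [Nat.eq_of_mul_eq_mul_left hq.pos h1] at hd
      rw [Set.mem_singleton_iff.mp htq] at hd
      exact hq.ne_one (Nat.eq_one_of_dvd_coprimes (coprime_derived hP) dvd_rfl hd)
  obtain ⟨s, hs, e⟩ := Coprime.hall_conj (hG.2.2.2 M hM.1)
    (hall (Subgroup.zpowers y) (Subgroup.zpowers_le.mpr hy) (by rw [Nat.card_zpowers, hyq]))
    (hall W₁ (W₁_le hP) rfl)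
  exact ⟨s, hs, e.le ⟨y, Subgroup.mem_zpowers y, rfl⟩⟩

end TP

theorem tildeOf_mem {T : Subgroup G} {A : Set G} {b : G} (y : G) (hb : b ∈ A) :
    y * b * y⁻¹ ∈ Cfsg.tildeOf T A := ⟨b, hb, 1, one_mem _, y, by rw [mul_one]⟩

namespace Side

variable {S T V : Subgroup G}

theorem typeCore_II (hG : Cfsg.IsMinSimpleOddOrder G) (h : Side M W₁ U W₂) (hII : Cfsg.IsOfTypeII M) :
    Cfsg.typeCore M = Cfsg.fittingHallOf M := by
  obtain ⟨K, U₀, hd⟩ := FittingStructure.exists_decomp hG h.coatom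
  rw [DadeSets.typeCore_eq hG h.coatom hd, TypeP.fittingHall_eq hG h.coatom
    (TypeP.nilpotent_of_U hG h.coatom hd ((Cfsg.Agent.S1381.result hG M h.coatom K U₀ hd).mp hII).2)]

theorem typeCore_34 (hII : ¬ Cfsg.IsOfTypeII M) (h : Side M W₁ U W₂) : Cfsg.typeCore M = ⁅M, M⁆ := by
  classical
  unfold Cfsg.typeCore
  rw [if_pos (h.types.resolve_left hII)]

/-- `A₁(T)` and the conjugates of `A(S)` are disjoint. -/
theorem A1_disjoint (hG : Cfsg.IsMinSimpleOddOrder G) (hS : Side S W₁ U W₂) (hT : Side T W₂ V W₁)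
    (hnc : ∀ g : G, T ≠ S.map (MulAut.conj g).toMonoidHom) {b g : G} (hb : b ∈ Cfsg.typeA1 T) :
    g * b * g⁻¹ ∉ Cfsg.typeA S := by
  intro ha
  have hne : (Cfsg.tildeOf T (Cfsg.typeA1 T) ∩ Cfsg.tildeOf S (Cfsg.typeA S)).Nonempty :=
    ⟨g * b * g⁻¹, tildeOf_mem g hb, by simpa using tildeOf_mem (T := S) (1 : G) ha⟩
  obtain ⟨g', -, x, hx, hxT, -⟩ :=
    ((Cfsg.Agent.S1539.result hG T S hT.coatom hS.coatom fun g e => hnc g e.symm).2.2.1).mpr hne
  exact hxT (TP.centralizer_le hG hT.coatom hT.typeP hx)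

theorem A_disjoint (hG : Cfsg.IsMinSimpleOddOrder G) (hS : Side S W₁ U W₂) (hT : Side T W₂ V W₁)
    (hnc : ∀ g : G, T ≠ S.map (MulAut.conj g).toMonoidHom) {a g : G} (ha : a ∈ Cfsg.typeA S) :
    g * a * g⁻¹ ∉ Cfsg.typeA T := by
  intro hb
  have hnc' : ∀ g : G, S ≠ T.map (MulAut.conj g).toMonoidHom := fun g e => hnc g⁻¹ (by
    rw [e]; exact (by rw [SigmaFusion.cj_cj, inv_mul_cancel, SigmaFusion.cj_one] :
      T = SigmaFusion.cj g⁻¹ (SigmaFusion.cj g T)))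
  have ha1 : a ∉ Cfsg.typeA1 S := fun h => A1_disjoint hG hT hS hnc' (g := g) h hb
  have hb1 : g * a * g⁻¹ ∉ Cfsg.typeA1 T := fun h =>
    A1_disjoint hG hS hT hnc (g := g⁻¹) h (by simpa [mul_assoc] using ha)
  have haA := ha
  rw [TP.typeA_eq hG hS.coatom hS.typeP] at ha
  have hbA := hb
  rw [TP.typeA_eq hG hT.coatom hT.typeP] at hb
  obtain ⟨had, ha0, -⟩ := ha
  obtain ⟨hbd, hb0, x, hx, hx1, hbx⟩ := hb
  by_cases hTII : Cfsg.IsOfTypeII T
  swap
  · exact hb1 ⟨(typeCore_34 hTII hT).symm ▸ hbd, hb0⟩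
  rw [typeCore_II hG hT hTII] at hx
  have hxq : orderOf x = Nat.card W₁ := by
    rcases (Nat.dvd_prime hT.prime₂).mp
      (orderOf_dvd_of_pow_eq_one ((hT.elementary hG hTII).2 x hx)) with h1 | h1
    · exact absurd (orderOf_eq_one_iff.mp h1) hx1
    · exact h1
  have hyC : g⁻¹ * x * g ∈ Subgroup.centralizer ({a} : Set G) := by
    rw [Subgroup.mem_centralizer_singleton_iff]
    calc g⁻¹ * x * g * a = g⁻¹ * (x * (g * a * g⁻¹)) * g := by group
      _ = g⁻¹ * (g * a * g⁻¹ * x) * g := by rw [hbx]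
      _ = a * (g⁻¹ * x * g) := by group
  have hyS : g⁻¹ * x * g ∈ S := TP.centralizer_le hG hS.coatom hS.typeP (Or.inl haA) hyC
  obtain ⟨s, hs, hsy⟩ := TP.exists_conj_W₁ hG hS.coatom hS.typeP hS.prime₁ hyS
    (by simpa using (orderOf_conj g⁻¹ x).trans hxq)
  have hne : s * (g⁻¹ * x * g) * s⁻¹ ≠ 1 := fun e => hx1 (by
    calc x = g * (g⁻¹ * x * g) * g⁻¹ := by group
      _ = 1 := by rw [conj_eq_one_iff.mp e, mul_one, mul_inv_cancel])
  have hsd : s * a * s⁻¹ ∈ ⁅S, S⁆ :=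
    (Subgroup.mem_normalizer_iff.mp (DadeSets.derived_normal hs) a).mp had
  have hW := TP.eq_of_mem_derived hS.typeP hsy hne hsd
    (DadeSets.conj_commute (Subgroup.mem_centralizer_singleton_iff.mp hyC))
  have hcore := TP.fit_le_core hG hS.coatom hS.typeP (TP.W₂_le_fit hS.typeP hW)
  refine ha1 ⟨?_, ha0⟩
  obtain ⟨K, U₀, hd⟩ := FittingStructure.exists_decomp hG hS.coatom
  rw [SetLike.mem_coe, DadeSets.typeCore_eq hG hS.coatom hd] at *
  exact (Subgroup.mem_normalizer_iff.mp (SigmaTools.le_normalizer_sigmaCore S hs) a).mpr hcore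

end Side

variable [Fintype G] {S T V : Subgroup G}

theorem Pair.nonempty_vset (h : Pair S T W₁ W₂ U V) : (vset W₁ W₂).Nonempty := by
  have hW := h.sideS.typeP.selfNormalizing
  obtain ⟨x, hx, hx1⟩ := (Subgroup.bot_or_exists_ne_one W₁).resolve_left hW.1
  obtain ⟨y, hy, hy1⟩ := (Subgroup.bot_or_exists_ne_one W₂).resolve_left hW.2.1
  refine ⟨x * y, mem_vset.mpr ⟨mul_mem (Subgroup.mem_sup_left hx) (Subgroup.mem_sup_right hy),
    fun hm => hy1 (Subgroup.mem_bot.mp (hW.2.2.1.le ⟨?_, hy⟩)),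
    fun hm => hx1 (Subgroup.mem_bot.mp (hW.2.2.1.le ⟨hx, ?_⟩))⟩⟩
  · exact (Subgroup.mul_mem_cancel_left W₁ hx).mp hm
  · exact (Subgroup.mul_mem_cancel_right W₂ hy).mp hm

omit [Finite G] [Fintype G] in
theorem vset_symm : vset W₂ W₁ = vset W₁ W₂ := by
  ext g
  rw [mem_vset, mem_vset, sup_comm, and_comm (a := g ∉ W₂)]

/-- The three orbits of the engine. -/
theorem Pair.sides (hG : Cfsg.IsMinSimpleOddOrder G) (h : Pair S T W₁ W₂ U V) :
    Bound.Sides W₁ W₂ S T (Cfsg.typeA S) (Cfsg.typeA T) where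
  selfNormalizing := h.sideS.typeP.selfNormalizing
  nonempty := h.nonempty_vset
  dadeA := TP.dade hG h.sideS.coatom h.sideS.typeP (Or.inr (Or.inl rfl))
  dadeB := TP.dade hG h.sideT.coatom h.sideT.typeP (Or.inr (Or.inl rfl))
  stableA a ha k hk := TP.pow_mem hG h.sideS.coatom h.sideS.typeP ha hk
  stableB a ha k hk := TP.pow_mem hG h.sideT.coatom h.sideT.typeP ha hk
  disjVA := by
    refine Finset.disjoint_left.mpr fun g hg hg' => ?_
    obtain ⟨v, hv, x, ex⟩ := mem_orbit.mp hg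
    obtain ⟨a, ha, y, ey⟩ := mem_orbit.mp hg'
    rw [TP.typeA_eq hG h.sideS.coatom h.sideS.typeP] at ha
    refine TP.vset_notMem_derived hG h.sideS.coatom h.sideS.typeP hv (g := y * x⁻¹) ?_
    rw [← ex, show y * x⁻¹ * (x * g * x⁻¹) * (y * x⁻¹)⁻¹ = y * g * y⁻¹ by group, ey]
    exact ha.1
  disjVB := by
    refine Finset.disjoint_left.mpr fun g hg hg' => ?_
    obtain ⟨v, hv, x, ex⟩ := mem_orbit.mp hg
    obtain ⟨a, ha, y, ey⟩ := mem_orbit.mp hg'
    rw [TP.typeA_eq hG h.sideT.coatom h.sideT.typeP] at ha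
    refine TP.vset_notMem_derived hG h.sideT.coatom h.sideT.typeP (v := (v : G)) (by rw [vset_symm]; exact hv) (g := y * x⁻¹) ?_
    rw [← ex, show y * x⁻¹ * (x * g * x⁻¹) * (y * x⁻¹)⁻¹ = y * g * y⁻¹ by group, ey]
    exact ha.1
  disjAB := by
    refine Finset.disjoint_left.mpr fun g hg hg' => ?_
    obtain ⟨a, ha, x, ex⟩ := mem_orbit.mp hg
    obtain ⟨b, hb, y, ey⟩ := mem_orbit.mp hg'
    refine Side.A_disjoint hG h.sideS h.sideT h.nonconj ha (g := y * x⁻¹) ?_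
    rw [← ex, show y * x⁻¹ * (x * g * x⁻¹) * (y * x⁻¹)⁻¹ = y * g * y⁻¹ by group, ey]
    exact hb

end CfsgLib.OddOrder.Final
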