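import Cfsg.Agent.Lib.OddOrder.Final.NeighbourParity
import Cfsg.Agent.Lib.OddOrder.Final.NeighbourLocal
import Cfsg.Agent.Lib.OddOrder.Final.PairSets
import Cfsg.Agent.Lib.OddOrder.Final.Test
import Cfsg.Agent.Lib.Char.CoherenceFeitMain
import Cfsg.Agent.S1542
import Cfsg.Agent.S1514
import Cfsg.Agent.S1517
import Mathlib

/-!
The families attached to a Frobenius maximal subgroup of Type I and to a side of Type III.
-/

set_option autoImplicit false

open scoped ComplexConjugate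

namespace CfsgLib.OddOrder.Final.Neighbour

open CfsgLib.Char CfsgLib.Char.Coherence

variable {G : Type*} [Group G] [Fintype G]

/-- There is a family for `X` and `e` of weight `w / e`. -/
def HasFam (X : Set G) (e w : ℕ) : Prop :=
  ∃ (n : ℕ) (Φ : G → ℂ) (χ : Fin n → G → ℂ) (d : Fin n → ℕ) (i₀ : Fin n) (c : Fin n → Fin n),
    Fam X e Φ χ d i₀ c ∧ wt d * e = w

theorem supp_eq_tildeOf {M : Subgroup G} {A : Set G} (hsub : ∀ a ∈ A, a ∈ M) :
    Dade.supp A M (Cfsg.supportR M) = Cfsg.tildeOf M A := by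
  ext g
  constructor
  · rintro ⟨a, ha, x, u, hu, e⟩
    exact ⟨a, ha, u, hu, x⁻¹, by rw [← e]; group⟩
  · rintro ⟨a, ha, r, hr, y, rfl⟩
    exact ⟨⟨a, hsub a ha⟩, ha, y⁻¹, r, hr, by simp [mul_assoc]⟩

theorem gen_conj {θ : G → ℂ} (h : Cfsg.IsGeneralizedCharacter G θ) :
    Cfsg.IsGeneralizedCharacter G fun g => conj (θ g) := by
  obtain ⟨a, b, ha, hb, rfl⟩ := h
  exact ⟨_, _, IsCharacter.conj' ha, IsCharacter.conj' hb, funext fun g => by simp⟩

open scoped Classical in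
/-- **The family of a coherent set of characters induced from a normal subgroup `K`.** -/
theorem exists_fam {M : Subgroup G} [Fintype M] {A : Set G} {R : G → Subgroup G} (hodd : Odd (Nat.card G))
    (hD : Cfsg.DadeHypothesis A M R) (K : Subgroup M) [K.Normal] [Fintype K]
    (hA : ∀ x : M, (x : G) ∈ A ↔ x ∈ K ∧ x ≠ 1) (Θ : Finset (Cfsg.IrrCharacter K))
    (hne1 : ∀ φ ∈ Θ, (φ : K → ℂ) ≠ fun _ => 1)
    (hirr : ∀ φ ∈ Θ, Cfsg.IsIrrCharacter M (Cfsg.indFun K (φ : K → ℂ)))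
    (hst : ∀ φ ∈ Θ, ∀ ψ : Cfsg.IrrCharacter K,
      Cfsg.indFun K (ψ : K → ℂ) = Cfsg.indFun K (φ : K → ℂ) → ψ ∈ Θ)
    (hconj : ∀ φ ∈ Θ, ∀ ψ : Cfsg.IrrCharacter K, (ψ : K → ℂ) = (fun a => conj ((φ : K → ℂ) a)) → ψ ∈ Θ)
    (hlin : ∃ φ ∈ Θ, natDeg (φ : K → ℂ) = 1)
    (hcoh : Cfsg.IsCoherent (↑(Θ.image fun φ : Cfsg.IrrCharacter K => Cfsg.indFun K (φ : K → ℂ)) : Set (M → ℂ))
      {1}ᶜ (Cfsg.dadeIsometry A M R)) :
    HasFam (Dade.supp A M R) K.index (∑ φ ∈ Θ, natDeg (φ : K → ℂ) ^ 2) := by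
  set S := Θ.image fun φ : Cfsg.IrrCharacter K => Cfsg.indFun K (φ : K → ℂ) with hS
  set τ := Cfsg.dadeIsometry A M R with hτ
  obtain ⟨-, τ₁, hτ₁, hag⟩ := hcoh
  rw [← coe_span] at hτ₁
  set e := K.index with he
  have he0 : e ≠ 0 := K.index_ne_zero_of_finite
  let ev : Fin S.card ≃ S := S.equivFin.symm
  let f : Fin S.card → M → ℂ := fun i => (ev i : M → ℂ)
  have hfS : ∀ i, f i ∈ S := fun i => (ev i).2
  have hfinj : ∀ i j, f i = f j → i = j := fun i j h => ev.injective (Subtype.ext h)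
  have hfsurj : ∀ η ∈ S, ∃ i, f i = η := fun η hη => ⟨ev.symm ⟨η, hη⟩, by simp [f]⟩
  have hpre : ∀ i, ∃ φ ∈ Θ, Cfsg.indFun K ((φ : Cfsg.IrrCharacter K) : K → ℂ) = f i := fun i => by
    obtain ⟨φ, hφ, h⟩ := Finset.mem_image.mp (hfS i)
    exact ⟨φ, hφ, h⟩
  choose φ hφ hfφ using hpre
  have firr : ∀ i, Cfsg.IsIrrCharacter M (f i) := fun i => hfφ i ▸ hirr _ (hφ i)
  have fgen : ∀ i, Cfsg.IsGeneralizedCharacter M (f i) := fun i =>
    IsCharacter.isGeneralizedCharacter (IsIrrCharacter.isCharacter (firr i))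
  have fK : ∀ i, ∀ x : M, x ∉ K → f i x = 0 := fun i x hx => by
    rw [← hfφ i]; exact indFun_eq_zero_of_normal K _ hx
  set d : Fin S.card → ℕ := fun i => natDeg (φ i : K → ℂ) with hd
  have f1 : ∀ i, f i 1 = (e : ℂ) * d i := fun i => by
    rw [← hfφ i, indFun_one, natDeg_spec (φ i).2]
  have fone : ∀ i, Cfsg.classInner (f i) (fun _ => 1 : M → ℂ) = 0 := fun i => by
    rw [← hfφ i, classInner_indFun K _ (fun _ _ => rfl)]
    exact classInner_irr_ne (φ i).2 isIrrCharacter_one (hne1 _ (hφ i))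
  have fone' : ∀ i, Cfsg.classInner (fun _ => 1 : M → ℂ) (f i) = 0 := fun i => by
    rw [← classInner_conj_symm, fone, map_zero]
  have fne : ∀ i, f i ≠ fun _ => 1 := fun i h => by
    have := fone i
    rw [h, inner_one_one] at this
    exact one_ne_zero this
  -- the permutation character
  set π : M → ℂ := Cfsg.indFun K (fun _ => (1 : ℂ)) with hπ
  have hπK : ∀ x : M, x ∈ K → π x = (e : ℂ) := fun x hx => by
    rw [hπ, show x = ((⟨x, hx⟩ : K) : M) from rfl, indFun_apply_of_normal, Finset.sum_const, Finset.card_univ,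
      nsmul_eq_mul, mul_one, ← Nat.card_eq_fintype_card, ← K.card_mul_index, Nat.cast_mul, ← mul_assoc,
      inv_mul_cancel₀ (Nat.cast_ne_zero.mpr Nat.card_pos.ne'), one_mul]
  have hπK' : ∀ x : M, x ∉ K → π x = 0 := fun x hx => indFun_eq_zero_of_normal K _ hx
  have hπgen : Cfsg.IsGeneralizedCharacter M π := IsGeneralizedCharacter.indFun K gen_one
  have hπc : ∀ x : M, conj (π x) = π x := fun x => by
    by_cases hx : x ∈ K
    · rw [hπK x hx, Complex.conj_natCast]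
    · rw [hπK' x hx, map_zero]
  have hπf : ∀ g : M → ℂ, (∀ x : M, x ∉ K → g x = 0) →
      Cfsg.classInner π g = (e : ℂ) * Cfsg.classInner (fun _ => 1 : M → ℂ) g := fun g hg => by
    simp only [Cfsg.classInner]
    rw [mul_left_comm (e : ℂ)]
    congr 1
    rw [Finset.mul_sum]
    refine Finset.sum_congr rfl fun x _ => ?_
    by_cases hx : x ∈ K
    · rw [hπK x hx]; ring
    · rw [hg x hx, map_zero]; ring
  have hπ1 : Cfsg.classInner π (fun _ => 1) = 1 := by
    rw [hπ, classInner_indFun K _ (fun _ _ => rfl)]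
    exact classInner_irr_self isIrrCharacter_one
  have hππ : Cfsg.classInner π π = (e : ℂ) := by
    rw [hπf π hπK', ← classInner_conj_symm, hπ1, map_one, mul_one]
  have hπfi : ∀ i, Cfsg.classInner π (f i) = 0 := fun i => by rw [hπf _ (fK i), fone', mul_zero]
  -- complex conjugation
  have hcex : ∀ i, ∃ j, f j = fun x => conj (f i x) := fun i => by
    refine hfsurj _ (Finset.mem_image.mpr ⟨⟨_, IsIrrCharacter.conj' (φ i).2⟩, hconj _ (hφ i) _ rfl, ?_⟩)
    rw [← hfφ i]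
    exact indFun_conj K _
  choose c hc using hcex
  have hcc : ∀ i, c (c i) = i := fun i => hfinj _ _ (by rw [hc, hc]; funext x; exact Complex.conj_conj _)
  have hModd : Odd (Nat.card M) := hodd.of_dvd_nat (Subgroup.card_subgroup_dvd_card M)
  have hcne : ∀ i, c i ≠ i := fun i h => fne i (Cfsg.Agent.S0161.result hModd ⟨_, firr i⟩ fun x =>
    Complex.conj_eq_iff_im.1 (by have := congrFun (hc i) x; rw [h] at this; exact this.symm))
  have hdc : ∀ i, d (c i) = d i := fun i => by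
    have h : f (c i) 1 = conj (f i 1) := congrFun (hc i) 1
    rw [f1, f1, map_mul, Complex.conj_natCast, Complex.conj_natCast] at h
    exact Nat.cast_injective (mul_left_cancel₀ (Nat.cast_ne_zero.mpr he0) h)
  obtain ⟨φ₀, hφ₀, hφ₀1⟩ := hlin
  obtain ⟨i₀, hi₀⟩ := hfsurj _ (Finset.mem_image_of_mem (fun φ : Cfsg.IrrCharacter K =>
    Cfsg.indFun K (φ : K → ℂ)) hφ₀)
  have hd0 : d i₀ = 1 := (natDeg_eq_of_indFun_eq K ((hfφ i₀).trans hi₀)).trans hφ₀1
  -- supported functions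
  have hoff : ∀ g : M → ℂ, (∀ x : M, x ∉ K → g x = 0) → g 1 = 0 → ∀ x : M, (x : G) ∉ A → g x = 0 := by
    intro g hg hg1 x hx
    by_cases hxK : x ∈ K
    · rw [hA] at hx
      push Not at hx
      rw [hx hxK, hg1]
    · exact hg x hxK
  set α : M → ℂ := π - f i₀ with hα
  have hαA : ∀ x : M, (x : G) ∉ A → α x = 0 := hoff α
    (fun x hx => by rw [hα, Pi.sub_apply, hπK' x hx, fK i₀ x hx, sub_zero])
    (by rw [hα, Pi.sub_apply, hπK 1 K.one_mem, f1, hd0, Nat.cast_one, mul_one, sub_self])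
  have hαg : Cfsg.IsGeneralizedCharacter M α := IsGeneralizedCharacter.sub hπgen (fgen i₀)
  have hαc := IsGeneralizedCharacter.isClassFunction hαg
  set β : Fin S.card → Fin S.card → M → ℂ := fun i j => f i - (d i : ℂ) • f j with hβ
  have hspan : ∀ i, f i ∈ Submodule.span ℤ (↑S : Set (M → ℂ)) := fun i =>
    Submodule.subset_span (Finset.mem_coe.mpr (hfS i))
  have hβmem : ∀ i j, d j = 1 → β i j ∈ Cfsg.zspanOn (↑S : Set (M → ℂ)) {1}ᶜ := fun i j hj => by
    refine mem_zspanOn_one.mpr ⟨Submodule.sub_mem _ (hspan i) ?_, ?_⟩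
    · have := intCast_smul_mem (S := (↑S : Set (M → ℂ))) (hspan j) (d i : ℤ)
      rwa [Int.cast_natCast] at this
    · simp only [hβ, Pi.sub_apply, Pi.smul_apply, smul_eq_mul, f1, hj]
      push_cast; ring
  have hβA : ∀ i j, d j = 1 → ∀ x : M, (x : G) ∉ A → β i j x = 0 := fun i j hj => hoff _
    (fun x hx => by simp [hβ, fK i x hx, fK j x hx]) (mem_zspanOn_one.mp (hβmem i j hj)).2
  have hτβ : ∀ i j, d j = 1 → τ (β i j) = τ₁ (f i) - (d i : ℂ) • τ₁ (f j) := fun i j hj => by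
    rw [← hag _ (hβmem i j hj), hβ]
    have h2 := intCast_smul_mem (S := (↑S : Set (M → ℂ))) (hspan j) (d i : ℤ)
    have h3 := map_intCast_smul hτ₁ (hspan j) (d i : ℤ)
    rw [Int.cast_natCast] at h2 h3
    rw [map_sub' hτ₁ (hspan i) h2, h3]
  set Φ : G → ℂ := τ α with hΦ
  set χ : Fin S.card → G → ℂ := fun i => τ₁ (f i) with hχ
  have hgen : ∀ i, Cfsg.IsGeneralizedCharacter G (χ i) := fun i => hτ₁.2.2.2 _ (hspan i)
  have hiso : ∀ i j, Cfsg.classInner (χ i) (χ j) = Cfsg.classInner (f i) (f j) := fun i j =>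
    hτ₁.2.2.1 _ (hspan i) _ (hspan j)
  have hn1 : ∀ i, Cfsg.classInner (χ i) (χ i) = 1 := fun i => (hiso i i).trans (classInner_irr_self (firr i))
  have horth : ∀ i j, i ≠ j → Cfsg.classInner (χ i) (χ j) = 0 := fun i j h =>
    (hiso i j).trans (classInner_irr_ne (firr i) (firr j) fun h' => h (hfinj i j h'))
  have hinner1 : ∀ g : M → ℂ, Cfsg.IsClassFunction M g → (∀ x : M, (x : G) ∉ A → g x = 0) →
      Cfsg.classInner (τ g) (fun _ => 1) = Cfsg.classInner g (fun _ => 1) := fun g hg hgA => by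
    refine Dade.classInner_dade' hD hg hgA (fun _ _ => rfl) _ fun a _ => ?_
    rw [Finset.sum_const, Finset.card_univ, nsmul_eq_mul, mul_one, ← Nat.card_eq_fintype_card,
      inv_mul_cancel₀ (Nat.cast_ne_zero.mpr Nat.card_pos.ne')]
  have hβc : ∀ i j, Cfsg.IsClassFunction M (β i j) := fun i j x y => by
    simp only [hβ, Pi.sub_apply, Pi.smul_apply, IsIrrCharacter.isClassFunction (firr i) x y,
      IsIrrCharacter.isClassFunction (firr j) x y]
  have hχ' : ∀ i j, d j = 1 → d i = 1 → χ i - χ j = τ (f i - f j) := fun i j hj hi => by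
    have h := hτβ i j hj
    simp only [hβ, hi, Nat.cast_one, one_smul] at h
    exact h.symm
  -- the family commutes with conjugation
  have hconjχ : ∀ i g, conj (χ i g) = χ (c i) g := by
    intro i
    set a := χ i
    set b := χ (c i)
    set ca : G → ℂ := fun g => conj (a g) with hca
    set cb : G → ℂ := fun g => conj (b g) with hcb
    have hmem : f i - f (c i) ∈ Cfsg.zspanOn (↑S : Set (M → ℂ)) {1}ᶜ := mem_zspanOn_one.mpr
      ⟨Submodule.sub_mem _ (hspan i) (hspan (c i)), by rw [Pi.sub_apply, f1, f1, hdc, sub_self]⟩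
    have hdiff : a - b = τ (f i - f (c i)) := by
      rw [← hag _ hmem, map_sub' hτ₁ (hspan i) (hspan (c i))]
    have hcf : Cfsg.IsClassFunction M (f i - f (c i)) :=
      IsGeneralizedCharacter.isClassFunction (IsGeneralizedCharacter.sub (fgen i) (fgen (c i)))
    have hcab : ca - cb = b - a := by
      have h1 : (fun g => conj ((a - b) g)) = -(a - b) := by
        rw [hdiff, ← Dade.dade_conj hD hcf,
          show (fun x => conj ((f i - f (c i)) x)) = (-1 : ℂ) • (f i - f (c i)) from funext fun x => by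
            simp [congrFun (hc i) x],
          Test.dade_smul, neg_one_smul]
      funext g
      simpa [hca, hcb] using congrFun h1 g
    have e1 : Cfsg.classInner ca b - Cfsg.classInner ca a = 1 := by
      rw [← classInner_sub_right, ← hcab, classInner_sub_right, hca, hcb, inner_conj_conj, inner_conj_conj,
        hn1, horth _ _ (hcne i).symm, map_one, map_zero, sub_zero]
    have hgca : Cfsg.IsGeneralizedCharacter G ca := gen_conj (hgen i)
    have hnca : Cfsg.classInner ca ca = 1 := by rw [hca, inner_conj_conj, hn1, map_one]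
    intro g
    by_cases hb : Cfsg.classInner ca b = 0
    · rw [hb, zero_sub, neg_eq_iff_eq_neg] at e1
      obtain ⟨ε, -, (hae : a = (ε : ℂ) • ca)⟩ := eq_smul_of_norm_one hgca hnca (hgen i) (hn1 i) (by rw [e1]; norm_num)
      have hε : (ε : ℂ) = -1 := by
        have h4 := e1
        rw [hae, classInner_smul_right, hnca, mul_one, map_intCast] at h4
        exact h4
      obtain ⟨z, φ', hz, hz'⟩ := CharDeep.GenChar.exists_sign_irr (hgen i) (hn1 i)
      obtain ⟨n, -, hn⟩ := IsIrrCharacter.apply_one_eq φ'.2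
      have h5 := congrFun hae 1
      simp only [hca, Pi.smul_apply, smul_eq_mul, hε] at h5
      have hreal : conj (a 1) = a 1 := by
        show conj (χ i 1) = χ i 1
        rw [hz', Pi.smul_apply, smul_eq_mul, hn, map_mul, map_intCast, Complex.conj_natCast]
      rw [hreal] at h5
      exact absurd (by linear_combination h5 / 2 : a 1 = 0) (apply_one_ne_zero_of_norm_one (hgen i) (hn1 i))
    · obtain ⟨ε, hε, (hbe : b = (ε : ℂ) • ca)⟩ := eq_smul_of_norm_one hgca hnca (hgen (c i)) (hn1 _) hb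
      have hab : Cfsg.classInner ca a = 0 := by
        have h6 : Cfsg.classInner b a = 0 := horth _ _ (hcne i)
        rw [hbe, classInner_smul_left] at h6
        exact (mul_eq_zero.mp h6).resolve_left (by rcases hε with rfl | rfl <;> norm_num)
      rw [hab, sub_zero, hbe, classInner_smul_right, hnca, mul_one, map_intCast] at e1
      show ca g = b g
      rw [hbe, Pi.smul_apply, smul_eq_mul, e1, one_mul]
  refine ⟨S.card, Φ, χ, d, i₀, c, ⟨?_, ?_, ?_, ?_, hgen, hn1, horth, hd0, ?_, ?_, ?_, hconjχ, hcc, hdc, hcne i₀, ?_⟩,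
    ?_⟩
  · exact Dade.isGeneralizedCharacter_dade hD hαg hαA
  · exact fun g hg => Dade.dade_eq_zero hg
  · rw [hΦ, hinner1 α hαc hαA, hα, classInner_sub_left, hπ1, fone, sub_zero]
  · rw [hΦ, Dade.classInner_dade_dade hD hαc hαA hαc, hα, classInner_sub_left, classInner_sub_right,
      classInner_sub_right, hππ, hπfi, ← classInner_conj_symm π (f i₀), hπfi, map_zero,
      classInner_irr_self (firr i₀)]
    ring
  · intro i g hg
    have h := congrFun (hτβ i i₀ hd0) g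
    rw [show τ (β i i₀) g = 0 from Dade.dade_eq_zero hg, Pi.sub_apply, Pi.smul_apply, smul_eq_mul] at h
    exact (sub_eq_zero.mp h.symm)
  · intro i
    have h := congrArg (fun F : G → ℂ => Cfsg.classInner F (fun _ => 1)) (hτβ i i₀ hd0)
    simp only [hinner1 _ (hβc i i₀) (hβA i i₀ hd0), classInner_sub_left, classInner_smul_left] at h
    rw [hβ] at h
    simp only [classInner_sub_left, classInner_smul_left, fone, mul_zero, sub_zero] at h
    exact sub_eq_zero.mp h.symm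
  · intro i hi
    have h : Cfsg.classInner Φ (τ (β i i₀)) = (d i : ℂ) := by
      rw [hΦ, Dade.classInner_dade_dade hD hαc hαA (hβc i i₀), hα, hβ]
      simp only [classInner_sub_left, classInner_sub_right, classInner_smul_right, Complex.conj_natCast, hπfi,
        classInner_irr_self (firr i₀), classInner_irr_ne (firr i₀) (firr i) (fun h' => hi (hfinj _ _ h').symm)]
      ring
    rw [hτβ i i₀ hd0, classInner_sub_right, classInner_smul_right, Complex.conj_natCast] at h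
    linear_combination h
  · intro g
    have h1 : (fun g => conj (Φ g)) = τ (fun x => conj (α x)) := (Dade.dade_conj hD hαc).symm
    rw [show (fun x => conj (α x)) = α + (f i₀ - f (c i₀)) from funext fun x => by
      simp only [hα, Pi.sub_apply, Pi.add_apply, map_sub, hπc, congrFun (hc i₀) x]; ring,
      hτ, Test.dade_add, ← hτ, ← hχ' i₀ (c i₀) (by rw [hdc, hd0]) hd0] at h1
    have h2 := congrFun h1 g
    simp only [Pi.add_apply, Pi.sub_apply] at h2
    rw [h2, hΦ]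
    ring
  · have key := sum_indFun K Θ hirr hst fun η => (natDeg η / e) ^ 2
    have hnd : ∀ φ : Cfsg.IrrCharacter K, natDeg (Cfsg.indFun K (φ : K → ℂ)) / e = natDeg (φ : K → ℂ) :=
      fun φ => by rw [natDeg_indFun K φ.2, Nat.mul_div_cancel_left _ (Nat.pos_of_ne_zero he0)]
    simp only [hnd] at key
    rw [key, mul_comm, ← hS, wt, ← Finset.sum_coe_sort S, ← ev.sum_comp]
    congr 1
    refine Finset.sum_congr rfl fun i _ => ?_
    show d i ^ 2 = (natDeg (f i) / e) ^ 2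
    rw [← hfφ i, hnd]

/-- The family of a Frobenius maximal subgroup with kernel `M_σ`. -/
theorem fam_typeI (hG : Cfsg.IsMinSimpleOddOrder G) {L : Subgroup G} (hL : IsCoatom L) (hκ : Cfsg.kappa L = ∅) :
    HasFam (Cfsg.tildeOf L ((Cfsg.sigmaCore L : Set G) \ {1})) ((Cfsg.sigmaCore L).relIndex L)
      (Nat.card (Cfsg.sigmaCore L) - 1) := by
  classical
  have hI := TypeOneClass.typeI_of_empty hG hL hκ
  have hFH := TypeOneFacts.fittingHall_of_empty hG hL hκ
  have hfrob : ∀ x ∈ Cfsg.fittingHallOf L, x ≠ 1 →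
      L ⊓ Subgroup.centralizer ({x} : Set G) ≤ Cfsg.fittingHallOf L := Cfsg.Agent.S1540.result hG L hL hI
  cases nonempty_fintype L
  set H := Cfsg.fittingHall L with hH
  cases nonempty_fintype H
  obtain ⟨hirr', hcoh⟩ := Cfsg.Agent.S1542.result hG L hL hI hfrob
  have hmem : ∀ x : L, x ∈ H ↔ (x : G) ∈ Cfsg.sigmaCore L := fun x => by
    rw [← hFH, ← Subgroup.mem_subgroupOf (H := Cfsg.fittingHallOf L) (K := L), Basic.subgroupOf_fittingHallOf]
  have hA : Cfsg.typeA L = (Cfsg.sigmaCore L : Set G) \ {1} := by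
    rw [← hFH]
    simp only [Cfsg.typeA, if_pos hI]
    ext a
    simp only [Set.mem_setOf_eq, Set.mem_diff, SetLike.mem_coe, Set.mem_singleton_iff]
    exact ⟨fun ⟨haL, ha1, x, hx, hx1, hax⟩ =>
      ⟨hfrob x hx hx1 ⟨haL, Subgroup.mem_centralizer_singleton_iff.mpr hax⟩, ha1⟩,
      fun ⟨ha, ha1⟩ => ⟨Basic.fittingHallOf_le ha, ha1, a, ha, ha1, rfl⟩⟩
  obtain ⟨-, hD⟩ := Cfsg.Agent.S1537.result hG L hL (Cfsg.typeA L) (Or.inr (Or.inl rfl))
  let one : Cfsg.IrrCharacter H := ⟨fun _ => 1, isIrrCharacter_one⟩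
  set Θ := (Finset.univ : Finset (Cfsg.IrrCharacter H)).erase one with hΘ
  have hmemΘ : ∀ φ : Cfsg.IrrCharacter H, φ ∈ Θ ↔ (φ : H → ℂ) ≠ fun _ => 1 := fun φ => by
    simp [hΘ, one, Subtype.ext_iff]
  have hset : (↑(Θ.image fun φ : Cfsg.IrrCharacter H => Cfsg.indFun H (φ : H → ℂ)) : Set (L → ℂ)) =
      Cfsg.inducedIrrAbove H ⊥ := by
    ext η
    rw [Finset.mem_coe, Finset.mem_image]
    constructor
    · rintro ⟨φ, hφ, rfl⟩
      exact ⟨φ, φ.2, (hmemΘ φ).1 hφ, fun a ha => by rw [show a = 1 from Subtype.ext (Subgroup.mem_bot.mp ha)], rfl⟩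
    · rintro ⟨θ, hθ, hne, -, rfl⟩
      exact ⟨⟨θ, hθ⟩, (hmemΘ _).2 hne, rfl⟩
  have hbot : ⊥ < H := bot_lt_iff_ne_bot.mpr fun e => by
    obtain ⟨x, hx, hx1⟩ := (Subgroup.bot_or_exists_ne_one _).resolve_left (SigmaCore.sigmaCore_ne_bot hG hL)
    have h1 : (⟨x, SigmaTools.sigmaCore_le L hx⟩ : L) ∈ H := (hmem _).2 hx
    rw [e, Subgroup.mem_bot] at h1
    exact hx1 (congrArg Subtype.val h1)
  have hsol : Group.IsSolvable H := by
    haveI : Group.IsSolvable L := hG.2.2.2 L hL.1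
    infer_instance
  obtain ⟨l, hl, -⟩ := CoherenceKernel.exists_linear_above H hsol ⊥ hbot
  have h := exists_fam hG.1 hD H (fun x => by
    rw [hA, hmem, Set.mem_diff, SetLike.mem_coe, Set.mem_singleton_iff, OneMemClass.coe_eq_one]) Θ
    (fun φ hφ => (hmemΘ φ).1 hφ)
    (fun φ hφ => hirr' _ (hset ▸ Finset.mem_coe.mpr (Finset.mem_image_of_mem _ hφ)))
    (fun φ hφ ψ h => (hmemΘ ψ).2 fun e => by
      obtain ⟨g, hg⟩ := exists_conjG_of_indFun_eq φ.2 ψ.2 h.symm
      refine (hmemΘ φ).1 hφ ?_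
      rw [hg, e]
      rfl)
    (fun φ hφ ψ h => (hmemΘ ψ).2 fun e => (hmemΘ φ).1 hφ (funext fun a => by
      have := congrFun (h.symm.trans e) a
      rw [← Complex.conj_conj ((φ : H → ℂ) a), this, map_one]))
    ⟨⟨_, isIrrCharacter_hom l⟩, (hmemΘ _).2 hl, by simp [natDeg]⟩ (hset ▸ hcoh)
  rw [supp_eq_tildeOf (fun a ha => hD.subset ha), hA] at h
  have hidx : H.index = (Cfsg.sigmaCore L).relIndex L := by
    rw [← hFH, Subgroup.relIndex, Basic.subgroupOf_fittingHallOf]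
  have hcard : Nat.card H = Nat.card (Cfsg.sigmaCore L) := by
    rw [← hFH, hH, ← Basic.subgroupOf_fittingHallOf,
      Nat.card_congr (Subgroup.subgroupOfEquivOfLe Basic.fittingHallOf_le).toEquiv]
  have hsum : ∑ φ ∈ Θ, natDeg (φ : H → ℂ) ^ 2 = Nat.card (Cfsg.sigmaCore L) - 1 := by
    have h1 := sum_sq_apply_one (G := H)
    have h2 : ((∑ φ : Cfsg.IrrCharacter H, natDeg (φ : H → ℂ) ^ 2 : ℕ) : ℂ) = (Nat.card H : ℂ) := by
      rw [← h1]
      push_cast
      exact Finset.sum_congr rfl fun φ _ => by rw [natDeg_spec φ.2]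
    rw [← hcard, ← (Nat.cast_injective h2 : _ = Nat.card H), ← Finset.add_sum_erase _ _ (Finset.mem_univ one), ← hΘ,
      show natDeg (one : H → ℂ) = 1 by simp [natDeg, one]]
    simp
  rwa [hidx, hsum] at h

/-- The family of a side of Type III. -/
theorem fam_typeIII (hG : Cfsg.IsMinSimpleOddOrder G) {S W₁ U W₂ : Subgroup G} (hM : IsCoatom S)
    (hP : Cfsg.IsTypePWith S W₁ U W₂) (hUc : IsMulCommutative U) (hUne : U ≠ ⊥) (hIII : Cfsg.IsOfTypeIII S) :
    HasFam (Dade.supp (Cfsg.typeA1 S) S fun _ => ⊥) (Nat.card W₁) (Nat.card U - 1) := by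
  classical
  cases nonempty_fintype S
  have hdS : ⁅S, S⁆ ≤ S := SigmaComplement.derived_le_self S
  set K : Subgroup S := ⁅S, S⁆.subgroupOf S with hK
  haveI : K.Normal := Subgroup.normal_subgroupOf_of_le_normalizer (DadeSets.derived_normal (M := S))
  haveI : (Cfsg.fittingHallOf S).subgroupOf S |>.Normal :=
    Subgroup.normal_subgroupOf_of_le_normalizer Basic.le_normalizer_fittingHallOf
  cases nonempty_fintype K
  set Q : Subgroup S := (Cfsg.fittingHallOf S).subgroupOf S with hQ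
  have hQK : Q ≤ K := fun x hx => hP.U_compl.1 hx
  have hindex : K.index = Nat.card W₁ := Basic.IsComplIn.relIndex_left hP.W₁_compl
  have hrel : Q.relIndex K = Nat.card U := by
    rw [hQ, hK, Subgroup.relIndex_subgroupOf hdS, Basic.IsComplIn.relIndex_left hP.U_compl]
  have hcommQ : ⁅K, K⁆ ≤ Q := by
    rw [Subgroup.commutator_le]
    intro a ha b hb
    obtain ⟨f₁, hf₁, u₁, hu₁, e₁⟩ := hP.U_compl.2.2.2 a ha
    obtain ⟨f₂, hf₂, u₂, hu₂, e₂⟩ := hP.U_compl.2.2.2 b hb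
    have hfS : Cfsg.fittingHallOf S ≤ S := Basic.fittingHallOf_le
    have hUS : U ≤ S := hP.U_compl.2.1.trans hdS
    have key : ∀ (x : S) (f u : G) (hf : f ∈ Cfsg.fittingHallOf S) (hu : u ∈ U), (x : G) = f * u →
        QuotientGroup.mk' Q x = QuotientGroup.mk' Q ⟨u, hUS hu⟩ := fun x f u hf hu e => by
      rw [show x = ⟨f, hfS hf⟩ * ⟨u, hUS hu⟩ from Subtype.ext e, map_mul,
        show QuotientGroup.mk' Q ⟨f, hfS hf⟩ = 1 from
          (QuotientGroup.eq_one_iff _).mpr (show (⟨f, hfS hf⟩ : S) ∈ Q from hf), one_mul]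
    rw [← QuotientGroup.eq_one_iff, ← QuotientGroup.mk'_apply, map_commutatorElement,
      key a f₁ u₁ hf₁ hu₁ e₁, key b f₂ u₂ hf₂ hu₂ e₂, ← map_commutatorElement]
    have hc : (⟨u₁, hUS hu₁⟩ : S) * ⟨u₂, hUS hu₂⟩ = ⟨u₂, hUS hu₂⟩ * ⟨u₁, hUS hu₁⟩ := Subtype.ext (by
      haveI := hUc
      show u₁ * u₂ = u₂ * u₁
      exact congrArg Subtype.val (mul_comm' (⟨u₁, hu₁⟩ : U) ⟨u₂, hu₂⟩))
    rw [commutatorElement_eq_one_iff_mul_comm.mpr hc, map_one]
  -- the linear characters trivial on `Q`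
  let one : Cfsg.IrrCharacter K := ⟨fun _ => 1, isIrrCharacter_one⟩
  set Θ₀ := Finset.univ.filter fun φ : Cfsg.IrrCharacter K =>
    ∀ a : K, (a : S) ∈ Q → (φ : K → ℂ) a = (φ : K → ℂ) 1 with hΘ₀
  set Θ := Θ₀.erase one with hΘ
  have hmem : ∀ φ : Cfsg.IrrCharacter K, φ ∈ Θ ↔ (φ : K → ℂ) ≠ (fun _ => 1) ∧ TrivOn K Q (φ : K → ℂ) := fun φ => by
    simp [hΘ, hΘ₀, one, Subtype.ext_iff, TrivOn]
  have hdeg : ∀ φ : Cfsg.IrrCharacter K, TrivOn K Q (φ : K → ℂ) → natDeg (φ : K → ℂ) = 1 := fun φ h =>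
    (Feit.trivOn_commutator_iff K φ.2).mp fun a ha => h a (hcommQ ha)
  -- no member is fixed by an element outside `K`
  have hfix : ∀ φ : Cfsg.IrrCharacter K, φ ∈ Θ → ∀ g : S, conjG (φ : K → ℂ) g = (φ : K → ℂ) → g ∈ K := by
    intro φ hφ g hg
    obtain ⟨hne, htr⟩ := (hmem φ).1 hφ
    obtain ⟨l, hl⟩ := exists_hom_of_apply_one_eq_one (IsIrrCharacter.isCharacter φ.2)
      (by rw [natDeg_spec φ.2, hdeg φ htr, Nat.cast_one])
    obtain ⟨k, hk, w, hw, hkw⟩ := hP.W₁_compl.2.2.2 g g.2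
    by_contra hgK
    have hw1 : w ≠ 1 := fun e => hgK (show (g : G) ∈ ⁅S, S⁆ by rw [hkw, e, mul_one]; exact hk)
    set w' : S := ⟨w, hP.W₁_compl.2.1 hw⟩
    have hfw : conjG (φ : K → ℂ) w' = (φ : K → ℂ) := by
      have hgd : g = ⟨k, hdS hk⟩ * w' := Subtype.ext hkw
      rw [hgd, ← conjG_mul, conjG_of_mem (IsIrrCharacter.isClassFunction φ.2)
        (show (⟨k, hdS hk⟩ : S) ∈ K from hk)] at hg
      exact hg
    have hUK : ∀ u : G, ∀ hu : u ∈ U, (⟨u, (hP.U_compl.2.1.trans hdS) hu⟩ : S) ∈ K := fun u hu => hP.U_compl.2.1 hu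
    let ι : U → K := fun u => ⟨_, hUK u u.2⟩
    have hwn : ∀ u ∈ U, w * u * w⁻¹ ∈ U := fun u hu => (Subgroup.mem_normalizer_iff.mp (hP.U_normal hw) u).mp hu
    let act : U → U := fun u => ⟨(u : G)⁻¹ * (w * u * w⁻¹), mul_mem (inv_mem u.2) (hwn u u.2)⟩
    have hinj : Function.Injective act := by
      intro u v huv
      have e : (u : G)⁻¹ * (w * u * w⁻¹) = (v : G)⁻¹ * (w * v * w⁻¹) := congrArg Subtype.val huv
      have hz : Commute w ((v : G) * (u : G)⁻¹) := by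
        show w * ((v : G) * (u : G)⁻¹) = (v : G) * (u : G)⁻¹ * w
        have e' : (v : G) * (u : G)⁻¹ * (w * u * w⁻¹) = w * v * w⁻¹ := by rw [mul_assoc, e]; group
        calc w * ((v : G) * (u : G)⁻¹) = w * v * w⁻¹ * (w * (u : G)⁻¹) := by group
          _ = (v : G) * (u : G)⁻¹ * (w * u * w⁻¹) * (w * (u : G)⁻¹) := by rw [e']
          _ = _ := by group
      exact Subtype.ext (mul_inv_eq_one.mp (TP.fpf hP w hw hw1 _ (mul_mem v.2 (inv_mem u.2)) hz)).symm
    have hU1 : ∀ u : U, l (ι u) = 1 := by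
      intro u
      obtain ⟨v, rfl⟩ := (Finite.injective_iff_surjective.mp hinj) u
      have hv : (φ : K → ℂ) ⟨w' * (ι v : S) * w'⁻¹, Subgroup.Normal.conj_mem ‹K.Normal› _ (ι v).2 w'⟩ =
          (φ : K → ℂ) (ι v) := congrFun hfw (ι v)
      rw [hl] at hv
      have e : ι (act v) = (ι v)⁻¹ * ⟨w' * (ι v : S) * w'⁻¹, Subgroup.Normal.conj_mem ‹K.Normal› _ (ι v).2 w'⟩ :=
        Subtype.ext (Subtype.ext rfl)
      rw [e, map_mul, Units.ext hv, map_inv, inv_mul_cancel]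
    refine hne (funext fun a => ?_)
    obtain ⟨f, hf, u, hu, e⟩ := hP.U_compl.2.2.2 ((a : S) : G) a.2
    have ha : a = ⟨⟨f, Basic.fittingHallOf_le hf⟩, hQK (show (⟨f, Basic.fittingHallOf_le hf⟩ : S) ∈ Q from hf)⟩ * ι ⟨u, hu⟩ := Subtype.ext (Subtype.ext e)
    have h0 := htr ⟨⟨f, Basic.fittingHallOf_le hf⟩, hQK (show (⟨f, Basic.fittingHallOf_le hf⟩ : S) ∈ Q from hf)⟩
      (show (⟨f, Basic.fittingHallOf_le hf⟩ : S) ∈ Q from hf)
    simp only [hl] at h0 ⊢
    rw [ha, map_mul, hU1, mul_one, h0, map_one, Units.val_one]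
  have hirr : ∀ φ ∈ Θ, Cfsg.IsIrrCharacter S (Cfsg.indFun K (φ : K → ℂ)) := fun φ hφ => by
    refine IsCharacter.isIrrCharacter_of_norm_one (IsCharacter.indFun K (IsIrrCharacter.isCharacter φ.2)) ?_
    rw [classInner_indFun_irr φ.2 φ.2]
    have : Nat.card {g : S // conjG (φ : K → ℂ) g = (φ : K → ℂ)} = Nat.card K :=
      Nat.card_congr (Equiv.subtypeEquivRight fun g =>
        ⟨hfix φ hφ g, conjG_of_mem (IsIrrCharacter.isClassFunction φ.2)⟩)
    rw [this, div_self (Nat.cast_ne_zero.mpr Nat.card_pos.ne')]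
  have hconj : ∀ φ ∈ Θ, ∀ ψ : Cfsg.IrrCharacter K, (ψ : K → ℂ) = (fun a => conj ((φ : K → ℂ) a)) → ψ ∈ Θ :=
    fun φ hφ ψ h => (hmem ψ).2 ⟨fun e => ((hmem φ).1 hφ).1 (funext fun a => by
      have := congrFun (h.symm.trans e) a
      rw [← Complex.conj_conj ((φ : K → ℂ) a), this, map_one]), h ▸ trivOn_conj ((hmem φ).1 hφ).2⟩
  have hst : ∀ φ ∈ Θ, ∀ ψ : Cfsg.IrrCharacter K,
      Cfsg.indFun K (ψ : K → ℂ) = Cfsg.indFun K (φ : K → ℂ) → ψ ∈ Θ := fun φ hφ ψ h => (hmem ψ).2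
    ⟨fun e => by
      obtain ⟨g, hg⟩ := exists_conjG_of_indFun_eq φ.2 ψ.2 h.symm
      refine ((hmem φ).1 hφ).1 ?_
      rw [hg, e]
      rfl, trivOn_of_indFun_eq ψ.2 φ.2 h ((hmem φ).1 hφ).2⟩
  have hU1 : 1 < Nat.card U := (Subgroup.one_lt_card_iff_ne_bot U).mpr hUne
  have hsum : ∑ φ ∈ Θ, natDeg (φ : K → ℂ) ^ 2 = Nat.card U - 1 := by
    have h1 : ∑ φ ∈ Θ₀, natDeg (φ : K → ℂ) ^ 2 = Nat.card U := by
      have h2 := CoherenceKernel.sum_sq_above K Q hQK
      rw [hrel] at h2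
      refine Nat.cast_injective (R := ℂ) (Eq.trans ?_ h2)
      push_cast
      exact Finset.sum_congr (by ext; simp [hΘ₀]) fun φ _ => by rw [natDeg_spec φ.2, sq]
    have hone : one ∈ Θ₀ := Finset.mem_filter.mpr ⟨Finset.mem_univ _, fun _ _ => rfl⟩
    rw [← Finset.add_sum_erase _ _ hone, ← hΘ, show natDeg (one : K → ℂ) = 1 by simp [natDeg, one], one_pow] at h1
    omega
  obtain ⟨φ₀, hφ₀⟩ : Θ.Nonempty := by
    rw [Finset.nonempty_iff_ne_empty]
    intro e
    rw [e, Finset.sum_empty] at hsum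
    omega
  set Sc := Θ.image fun φ : Cfsg.IrrCharacter K => Cfsg.indFun K (φ : K → ℂ) with hSc
  set τ := Cfsg.dadeIsometry (Cfsg.typeA1 S) S fun _ => (⊥ : Subgroup G)
  have hD : Cfsg.DadeHypothesis (Cfsg.typeA1 S) S fun _ => ⊥ := TP.dade hG hM hP (Or.inl rfl)
  have hcore : Cfsg.typeCore S = ⁅S, S⁆ := by unfold Cfsg.typeCore; rw [if_pos (Or.inl hIII)]
  have hA : ∀ x : S, (x : G) ∈ Cfsg.typeA1 S ↔ x ∈ K ∧ x ≠ 1 := fun x => by
    simp [Cfsg.typeA1, hcore, hK, Subgroup.mem_subgroupOf]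
  have hSirr : ∀ η ∈ Sc, Cfsg.IsIrrCharacter S η := fun η hη => by
    obtain ⟨φ, hφ, rfl⟩ := Finset.mem_image.mp hη
    exact hirr φ hφ
  have hcoh : Cfsg.IsCoherent (↑Sc : Set (S → ℂ)) {1}ᶜ τ := by
    have hvan : ∀ α ∈ Cfsg.zspanOn (↑Sc : Set (S → ℂ)) {1}ᶜ, ∀ x : S, (x : G) ∉ Cfsg.typeA1 S → α x = 0 := by
      intro α hα x hx
      by_cases hxK : x ∈ K
      · exact hα.2 x fun h1 => hx ((hA x).2 ⟨hxK, h1⟩)
      · refine FrobeniusCoherence.eq_zero_of_notMem (fun η hη => ?_) hα.1 hxK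
        obtain ⟨φ, -, rfl⟩ := Finset.mem_image.mp (Finset.mem_coe.mp hη)
        exact ⟨_, rfl⟩
    have hodd : Odd (Nat.card S) := hG.1.of_dvd_nat (Subgroup.card_subgroup_dvd_card S)
    have hconjS : ∀ η ∈ (↑Sc : Set (S → ℂ)), Cfsg.conjFun η ∈ (↑Sc : Set (S → ℂ)) ∧ Cfsg.conjFun η ≠ η := by
      intro η hη
      obtain ⟨φ, hφ, rfl⟩ := Finset.mem_image.mp (Finset.mem_coe.mp hη)
      refine ⟨Finset.mem_coe.mpr (Finset.mem_image.mpr
        ⟨⟨_, IsIrrCharacter.conj' φ.2⟩, hconj φ hφ _ rfl, indFun_conj K _⟩), fun e => ?_⟩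
      have h1 := Cfsg.Agent.S0161.result hodd ⟨_, hirr φ hφ⟩ fun x => Complex.conj_eq_iff_im.1 (congrFun e x)
      have h2 : Cfsg.classInner (Cfsg.indFun K (φ : K → ℂ)) (fun _ => 1) = 0 := by
        rw [classInner_indFun K _ (fun _ _ => rfl)]
        exact classInner_irr_ne φ.2 isIrrCharacter_one ((hmem φ).1 hφ).1
      rw [show Cfsg.indFun K (φ : K → ℂ) = fun _ => 1 from h1, inner_one_one] at h2
      exact one_ne_zero h2
    obtain ⟨R, hR⟩ := Cfsg.Agent.S1514.result (↑Sc : Set (S → ℂ))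
      ⟨_, Finset.mem_coe.mpr (Finset.mem_image_of_mem _ hφ₀)⟩
      (fun η hη => hSirr η (Finset.mem_coe.mp hη)) hconjS τ
      (FrobeniusCoherence.dade_isometryOn hD (fun η hη => hSirr η (Finset.mem_coe.mp hη)) hvan)
      (fun α _ => FrobeniusCoherence.dade_one hD α)
    refine Cfsg.Agent.S1517.result _ τ R hR fun η hη η' hη' => ?_
    obtain ⟨φ, hφ, rfl⟩ := Finset.mem_image.mp (Finset.mem_coe.mp hη)
    obtain ⟨φ', hφ', rfl⟩ := Finset.mem_image.mp (Finset.mem_coe.mp hη')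
    rw [indFun_one, indFun_one, natDeg_spec φ.2, natDeg_spec φ'.2, hdeg φ ((hmem φ).1 hφ).2,
      hdeg φ' ((hmem φ').1 hφ').2]
  have h := exists_fam hG.1 hD K hA Θ (fun φ hφ => ((hmem φ).1 hφ).1) hirr hst hconj
    ⟨φ₀, hφ₀, hdeg φ₀ ((hmem φ₀).1 hφ₀).2⟩ hcoh
  rwa [hindex, hsum] at h

end CfsgLib.OddOrder.Final.Neighbour
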