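import Cfsg.Agent.Lib.OddOrder.Final.Assembly
import Cfsg.Agent.Lib.OddOrder.Final.NeighbourFam
import Cfsg.Agent.Lib.OddOrder.SigmaNeighbour
import Cfsg.Agent.S1539

/-!
When the side with the larger complement is not of Type II, its family and that of the neighbour have disjoint
supports; parity forces the kernel of the neighbour to be `U`, and then the neighbour moves `W₂` into `N(U)`.
-/

set_option autoImplicit false

namespace CfsgLib.OddOrder.Final.BigSide

open Cfsg (fittingHallOf sigmaCore)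

variable {G : Type*} [Group G] {S T W₁ W₂ U V : Subgroup G}

theorem pow_sq_le {q : ℕ} (hq : 3 ≤ q) : ∀ {p : ℕ}, 5 ≤ p → p ^ 2 ≤ q ^ (p - 2) := by
  intro p hp
  induction p, hp using Nat.le_induction with
  | base =>
    calc 5 ^ 2 ≤ 3 ^ (5 - 2) := by norm_num
      _ ≤ q ^ (5 - 2) := Nat.pow_le_pow_left hq _
  | succ n hn ih =>
    have e : n + 1 - 2 = (n - 2) + 1 := by omega
    rw [e, pow_succ q]
    calc (n + 1) ^ 2 ≤ n ^ 2 * 3 := by nlinarith
      _ ≤ q ^ (n - 2) * q := Nat.mul_le_mul ih hq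

/-- **The big side not of Type II**: the moving element exists. -/
theorem exists_mover [Finite G] (hG : Cfsg.IsMinSimpleOddOrder G) (h : Pair S T W₁ W₂ U V)
    (hfS : Full S W₁ U W₂) (hfT : Full T W₂ V W₁) (hII : Cfsg.IsOfTypeII S) (hTII : ¬ Cfsg.IsOfTypeII T) :
    ∃ y ∈ fittingHallOf T, W₂.map (MulAut.conj y).toMonoidHom ≤ Subgroup.normalizer (U : Set G) := by
  classical
  haveI := Fintype.ofFinite G
  set q := Nat.card W₁ with hqd
  set p := Nat.card W₂ with hpd
  have hS := hfS.toNeighbour h.sideS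
  have hT := hfT.toNeighbour h.sideT
  obtain ⟨L, hL⟩ := Neighbour.exists_nbr hG hS hII hT
  have hodd : ∀ H : Subgroup G, Odd (Nat.card H) := fun H =>
    hG.1.of_dvd_nat (Subgroup.card_subgroup_dvd_card H)
  have hq3 : 3 ≤ q := by
    have := h.sideS.prime₁.two_le; obtain ⟨a, ha⟩ := hodd W₁; omega
  have hpq : q + 2 ≤ p := by
    have := h.lt; obtain ⟨a, ha⟩ := hodd W₁; obtain ⟨b, hb⟩ := hodd W₂; omega
  set u := Nat.card U with hud
  set hh := Nat.card (sigmaCore L) with hhd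
  have hLn : L ≤ Subgroup.normalizer (sigmaCore L : Set G) := SigmaTools.le_normalizer_sigmaCore L
  by_cases heq : hh ≤ u
  · have hHU : U = sigmaCore L := Subgroup.eq_of_le_of_card_ge hL.U_le heq
    have hLN : L ≤ Subgroup.normalizer (U : Set G) := by rwa [hHU]
    rcases hL.index_cases with he | ⟨-, y, hy, hyL⟩
    · exfalso
      refine hL.not_le (fun x hx => ?_)
      have hcard : Nat.card L = u * q := by
        rw [← Coprime.card_mul_relIndex_eq (SigmaTools.sigmaCore_le L), he, hud, hHU]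
      have hle : U ⊔ W₁ = L := by
        refine Subgroup.eq_of_le_of_card_ge (sup_le (hHU.le.trans (SigmaTools.sigmaCore_le L)) hL.W₁_le) ?_
        rw [hcard, TP.card_sup h.sideS.typeP]
      exact inf_le_left (b := L) (hL.meet.ge (hle.ge hx.1))
    · exact ⟨y, hy, hyL.trans hLN⟩
  exfalso
  have hUc : IsMulCommutative V := hT.U_comm
  have hIII : Cfsg.IsOfTypeIII T := by
    rcases h.sideT.types.resolve_left hTII with h3 | ⟨W', X', Y', hP', -, -, -, hX, -⟩
    · exact h3
    exfalso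
    refine hX ?_
    have hsol : Group.IsSolvable ↥⁅T, T⁆ :=
      hG.2.2.2 _ fun e => h.sideT.coatom.1 (top_le_iff.mp (e ▸ derived_le T))
    have hcop : ∀ {W X Y : Subgroup G}, Cfsg.IsTypePWith T W X Y →
        (Nat.card (fittingHallOf T)).Coprime ((fittingHallOf T).relIndex ⁅T, T⁆) := fun hP => by
      rw [Basic.IsComplIn.relIndex_left hP.U_compl]; exact TP.coprime_fit_U hP
    obtain ⟨a, -, e⟩ := Coprime.hall_conj hsol (TypeP.hall_of_compl (hcop h.sideT.typeP) h.sideT.typeP.U_compl)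
      (TypeP.hall_of_compl (hcop h.sideT.typeP) hP'.U_compl)
    rw [← e]
    exact Subgroup.map_isMulCommutative V _
  obtain ⟨n, Φ, χ, d, i₀, c, F, hw⟩ := Neighbour.fam_typeI hG hL.coatom hL.kappa
  obtain ⟨n', Φ', χ', d', j₀, c', F', hw'⟩ :=
    Neighbour.fam_typeIII hG h.sideT.coatom h.sideT.typeP hUc h.sideT.U_ne hIII
  -- disjoint supports
  have hAL : Cfsg.typeA L = (sigmaCore L : Set G) \ {1} := by
    have hI := TypeOneClass.typeI_of_empty hG hL.coatom hL.kappa
    have hFH := TypeOneFacts.fittingHall_of_empty hG hL.coatom hL.kappa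
    rw [← hFH]
    simp only [Cfsg.typeA, if_pos hI]
    ext a
    simp only [Set.mem_setOf_eq, Set.mem_diff, SetLike.mem_coe, Set.mem_singleton_iff]
    exact ⟨fun ⟨haL, ha1, x, hx, hx1, hax⟩ =>
      ⟨hFH ▸ hL.frobenius x (hFH ▸ hx) hx1 ⟨haL, Subgroup.mem_centralizer_singleton_iff.mpr hax⟩, ha1⟩,
      fun ⟨ha, ha1⟩ => ⟨Basic.fittingHallOf_le ha, ha1, a, ha, ha1, rfl⟩⟩
  have hnc : ∀ g : G, L.map (MulAut.conj g).toMonoidHom ≠ T := by
    intro g e
    refine TP.not_typeI hG h.sideT.coatom h.sideT.typeP (TypeOneClass.typeI_of_empty hG h.sideT.coatom ?_)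
    refine Set.eq_empty_iff_forall_notMem.mpr fun t ht => ?_
    have h1 := SigmaNeighbour.kappa_cj hG h.sideT.coatom ht g⁻¹
    rw [show SigmaFusion.cj g⁻¹ T = L by
      rw [← e]
      show SigmaFusion.cj g⁻¹ (SigmaFusion.cj g L) = L
      rw [SigmaFusion.cj_cj, inv_mul_cancel, SigmaFusion.cj_one]] at h1
    rw [hL.kappa] at h1
    exact h1
  have hdisj : Disjoint (Cfsg.tildeOf L ((sigmaCore L : Set G) \ {1}))
      (Char.Dade.supp (Cfsg.typeA1 T) T fun _ => (⊥ : Subgroup G)) := by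
    rw [Set.disjoint_left]
    intro g hgL hgT
    obtain ⟨a, ha, x, r, hr, e⟩ := hgT
    rw [Subgroup.mem_bot] at hr
    rw [hr, mul_one] at e
    have hgT' : g ∈ Cfsg.tildeOf T (Cfsg.typeA1 T) := by
      have : g = x⁻¹ * a * x⁻¹⁻¹ := by rw [← e]; group
      rw [this]
      exact tildeOf_mem _ ha
    have hne : (Cfsg.tildeOf T (Cfsg.typeA1 T) ∩ Cfsg.tildeOf L (Cfsg.typeA L)).Nonempty :=
      ⟨g, hgT', by rw [hAL]; exact hgL⟩
    obtain ⟨g', -, z, hz, hzT, -⟩ :=
      ((Cfsg.Agent.S1539.result hG T L h.sideT.coatom hL.coatom hnc).2.2.1).mpr hne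
    exact hzT (TP.centralizer_le hG h.sideT.coatom h.sideT.typeP hz)
  -- the weights
  have he : (sigmaCore L).relIndex L = q ∨ (sigmaCore L).relIndex L = q * p :=
    hL.index_cases.imp id fun h => h.1
  set e := (sigmaCore L).relIndex L with hed
  have hee : e ≤ q * p ∧ q ∣ e := by
    rcases he with h' | h' <;> rw [h']
    · exact ⟨Nat.le_mul_of_pos_right _ (by omega), dvd_rfl⟩
    · exact ⟨le_rfl, dvd_mul_right _ _⟩
  obtain ⟨m, hm⟩ : u ∣ hh := Subgroup.card_dvd_of_le hL.U_le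
  have hu1 : u ≡ 1 [MOD q] := hS.U_mod
  have hh1 : hh ≡ 1 [MOD q] := by
    have : q ∣ hh - 1 := (hee.2.trans (dvd_mul_left _ _)).trans (dvd_of_eq hw)
    exact ((Nat.modEq_iff_dvd' (Nat.card_pos (α := sigmaCore L))).mpr this).symm
  have hm1 : m ≡ 1 [MOD q] := by
    have h1 := (Nat.ModEq.mul_right m hu1)
    rw [one_mul, ← hm] at h1
    exact h1.symm.trans hh1
  have hm0 : 1 < m := by
    rcases Nat.lt_or_ge 1 m with h' | h'
    · exact h'
    · exfalso; apply heq
      interval_cases m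
      · have := Nat.card_pos (α := sigmaCore L); omega
      · omega
  have hmq : 2 * q + 1 ≤ m := by
    obtain ⟨k, hk⟩ := (Nat.modEq_iff_dvd' hm0.le).mp hm1.symm
    have hmo : Odd m := (hodd (sigmaCore L)).of_dvd_nat (Dvd.intro_left u hm.symm)
    obtain ⟨a, ha⟩ := hmo
    obtain ⟨b, hb⟩ := hodd W₁
    rcases Nat.lt_or_ge k 2 with hk2 | hk2
    · exfalso
      interval_cases k <;> omega
    · have := Nat.mul_le_mul_left q hk2
      omega
  have hgeomS : p ^ 2 + p + 1 ≤ u := by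
    have h1 : u = ∑ i ∈ Finset.range q, p ^ i := by
      rw [Nat.geomSum_eq (by omega), ← hfS.card_U, Nat.mul_div_cancel _ (by omega)]
    rw [h1]
    calc p ^ 2 + p + 1 = ∑ i ∈ Finset.range 3, p ^ i := by simp [Finset.sum_range_succ]; ring
      _ ≤ _ := Finset.sum_le_sum_of_subset (Finset.range_subset_range.mpr hq3)
  have hgeomT : q ^ (p - 1) + q ^ (p - 2) + 1 ≤ Nat.card V := by
    have h1 : Nat.card V = ∑ i ∈ Finset.range p, q ^ i := by
      rw [Nat.geomSum_eq (by omega), ← hfT.card_U, Nat.mul_div_cancel _ (by omega)]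
    rw [h1, show p = (p - 2) + 1 + 1 by omega, Finset.sum_range_succ, Finset.sum_range_succ]
    have h2 : 1 ≤ ∑ i ∈ Finset.range (p - 2), q ^ i := by
      calc 1 = q ^ 0 := (pow_zero q).symm
        _ ≤ _ := Finset.single_le_sum (f := fun i => q ^ i) (fun i _ => Nat.zero_le _)
            (Finset.mem_range.mpr (by omega))
    have e1 : p - 2 + 1 + 1 - 1 = p - 2 + 1 := by omega
    have e2 : p - 2 + 1 + 1 - 2 = p - 2 := by omega
    rw [e1, e2]
    omega
  refine F.pair hG.1 F' hdisj ?_ ?_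
  · -- `N_L > p + 1`
    by_contra hcon
    push Not at hcon
    have h1 : Neighbour.wt d * e ≤ (p + 1) * (q * p) := Nat.mul_le_mul hcon hee.1
    rw [hw, ← hhd, hm] at h1
    have h2 : (p ^ 2 + p + 1) * (2 * q + 1) ≤ u * m := Nat.mul_le_mul hgeomS hmq
    have h3 : (p ^ 2 + p + 1) * (2 * q + 1) = 2 * ((p + 1) * (q * p)) + p ^ 2 + p + 2 * q + 1 := by ring
    omega
  · -- `N_T > e + 1`
    by_contra hcon
    push Not at hcon
    have h1 : Neighbour.wt d' * p ≤ (q * p + 1) * p := Nat.mul_le_mul_right _ (by omega)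
    rw [hw'] at h1
    have h2 := pow_sq_le hq3 (show 5 ≤ p by omega)
    have h3 : q * p ^ 2 ≤ q ^ (p - 1) := by
      rw [show q ^ (p - 1) = q * q ^ (p - 2) by rw [← pow_succ']; congr 1; omega]
      exact Nat.mul_le_mul_left q h2
    have h4 : (q * p + 1) * p = q * p ^ 2 + p := by ring
    have h5 : p * 2 ≤ p ^ 2 := by nlinarith
    omega

end CfsgLib.OddOrder.Final.BigSide
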