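import Cfsg.Agent.Lib.OddOrder.Final.GridSide

set_option autoImplicit false

/-!
The image of the trivial-kernel combination `P - ζ`: a column or a row.
-/

namespace CfsgLib.OddOrder.Final.Grid

open CfsgLib.Char CfsgLib.Char.CyclicTI

variable {G : Type*} [Group G] {W₁ W₂ : Subgroup G}

/-- The two factors have coprime orders. -/
theorem coprime_card [Finite G] (hW : Cfsg.IsSelfNormalizingCyclic W₁ W₂) :
    (Nat.card W₁).Coprime (Nat.card W₂) := by
  obtain ⟨e, -⟩ := exists_prodEquiv hW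
  haveI := hW.2.2.2.2.1
  haveI : IsCyclic (W₁ × W₂) := isCyclic_of_surjective e.symm.toMonoidHom e.symm.surjective
  exact (Group.isCyclic_prod_iff.mp this).2.2

namespace Setup

variable [Fintype G] {M : Subgroup G} [Fintype M] {χ : (↥(W₁ ⊔ W₂) →* ℂˣ) → (G → ℂ)} {A : Set G}
  {R : G → Subgroup G} {μ : (↥(W₁ ⊔ W₂) →* ℂˣ) → (M → ℂ)} {δ : (↥(W₁ ⊔ W₂) →* ℂˣ) → ℂ}
  (h : Setup M χ A R μ δ)
include h

open scoped Classical in
/-- **The grid of `P - ζ`.** It is the first column, or, when `|W₂| < |W₁|`, possibly the first row. -/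
theorem xf (hw : (Nat.card W₁).Prime) (hp : (Nat.card W₂).Prime) {P ζ : M → ℂ}
    (hP : Cfsg.IsGeneralizedCharacter M P) (hPσ : ∀ (σ : ℂ ≃+* ℂ) (x : M), σ (P x) = P x)
    (hPV : ∀ x : M, (x : G) ∈ vset W₁ W₂ → P x = 0) (hζV : ∀ x : M, (x : G) ∈ vset W₁ W₂ → ζ x = 0)
    (hPn : Cfsg.classInner P P = Nat.card W₁) (hP1 : Cfsg.classInner P (fun _ => 1) = 1)
    (hPζ : Cfsg.classInner P ζ = 0) (hζ : Cfsg.IsIrrCharacter M ζ)
    (hsupp : ∀ x : M, (x : G) ∉ A → P x = ζ x) :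
    ((∀ (f : FstChar W₁ W₂) (g : SndChar W₁ W₂),
        Cfsg.classInner (Cfsg.dadeIsometry A M R (P - ζ)) (χ (f.1 * g.1)) = if g = snd₀ W₁ W₂ then 1 else 0) ∧
      Signed G (col χ 1 - Cfsg.dadeIsometry A M R (P - ζ)) ∧
      ∀ (f : FstChar W₁ W₂) (g : SndChar W₁ W₂),
        Cfsg.classInner (col χ 1 - Cfsg.dadeIsometry A M R (P - ζ)) (χ (f.1 * g.1)) = 0) ∨
    (Nat.card W₂ < Nat.card W₁ ∧ ∀ (f : FstChar W₁ W₂) (g : SndChar W₁ W₂),
        Cfsg.classInner (Cfsg.dadeIsometry A M R (P - ζ)) (χ (f.1 * g.1)) =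
          if f = fst₀ W₁ W₂ then 1 else 0) := by
  haveI := finite_hom (W₁ := W₁) (W₂ := W₂)
  cases nonempty_fintype (FstChar W₁ W₂)
  cases nonempty_fintype (SndChar W₁ W₂)
  have hW := h.selfNormalizing
  obtain ⟨hc1, hc2⟩ := card_fstChar hW
  obtain ⟨h31, h32, ho1, ho2⟩ := three_le hW h.odd
  have hne12 : Nat.card W₁ ≠ Nat.card W₂ := fun e => hw.one_lt.ne' (by
    have := coprime_card hW
    rwa [← e, Nat.coprime_self] at this)
  have hζ1 : ζ ≠ fun _ => 1 := fun e => by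
    obtain ⟨v, hv⟩ := vset_nonempty hW
    have := hζV ⟨v, h.le (mem_vset.mp hv).1⟩ hv
    rw [e] at this
    exact one_ne_zero this
  have hζg := IsCharacter.isGeneralizedCharacter (IsIrrCharacter.isCharacter hζ)
  set α := P - ζ with hα
  have hαg : Cfsg.IsGeneralizedCharacter M α := IsGeneralizedCharacter.sub hP hζg
  have hαc := IsGeneralizedCharacter.isClassFunction hαg
  have hαA : ∀ x : M, (x : G) ∉ A → α x = 0 := fun x hx => sub_eq_zero.mpr (hsupp x hx)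
  have hαV : ∀ x : M, (x : G) ∈ vset W₁ W₂ → α x = 0 := fun x hx => by
    rw [hα, Pi.sub_apply, hPV x hx, hζV x hx, sub_zero]
  set T := Cfsg.dadeIsometry A M R α with hT
  have hTg := Dade.isGeneralizedCharacter_dade h.dade hαg hαA
  obtain ⟨a, ha⟩ := exists_grid hW h.family hTg
  have h00 : a (fst₀ W₁ W₂) (snd₀ W₁ W₂) = 1 := by
    have e := ha (fst₀ W₁ W₂) (snd₀ W₁ W₂)
    rw [show (fst₀ W₁ W₂).1 * (snd₀ W₁ W₂).1 = 1 from hom_mul_one' _, h.dade_inner_one hαc hαA, hα,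
      classInner_sub_left, hP1, classInner_irr_ne hζ isIrrCharacter_one hζ1, sub_zero] at e
    exact_mod_cast e.symm
  have hTT : Cfsg.classInner T T = ((Nat.card W₁ + 1 : ℕ) : ℂ) := by
    rw [hT, Dade.classInner_dade_dade h.dade hαc hαA hαc, hα, classInner_sub_left, classInner_sub_right,
      classInner_sub_right, hPn, hPζ, classInner_irr_self hζ, ← classInner_conj_symm P ζ, hPζ, map_zero]
    push_cast
    ring
  -- stability under automorphisms
  have hgal : ∀ (σ : ℂ ≃+* ℂ) (f : FstChar W₁ W₂) (g : SndChar W₁ W₂), a (galFst σ f) (galSnd σ g) = a f g := by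
    intro σ f g
    have hζσ : Cfsg.IsIrrCharacter M (fun x => σ (ζ x)) := CharDeep.Galois.isIrrCharacter_map σ.toRingHom hζ
    set β := ζ - (fun x => σ (ζ x)) with hβ
    have hsum : (fun x => σ (α x)) = α + β := by
      funext x
      simp only [hα, hβ, Pi.add_apply, Pi.sub_apply, map_sub, hPσ]
      ring
    have hβn : (Cfsg.classInner β β).re ≤ 2 := by
      rw [hβ, classInner_sub_left, classInner_sub_right, classInner_sub_right, classInner_irr_self hζ,
        classInner_irr_self hζσ, classInner_irr hζ hζσ, classInner_irr hζσ hζ]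
      split_ifs <;> norm_num
    have hβA : ∀ x : M, (x : G) ∉ A → β x = 0 := fun x hx => by
      rw [hβ, Pi.sub_apply, ← hsupp x hx, hPσ, sub_self]
    have e := h.coef_map σ T (f.1 * g.1)
    rw [hT, h.dade_map, hsum, Test.dade_add, classInner_add_left,
      h.short (IsGeneralizedCharacter.sub hζg (IsCharacter.isGeneralizedCharacter (IsIrrCharacter.isCharacter hζσ)))
        hβA (fun x hx => by rw [Pi.sub_apply, hζV x hx, map_zero, sub_zero]) hβn, add_zero, gal_mul,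
      show gal σ f.1 = (galFst σ f).1 from rfl, show gal σ g.1 = (galSnd σ g).1 from rfl, ← hT, ha, ha,
      map_intCast] at e
    exact_mod_cast e
  have hb : ∀ i i' : FstChar W₁ W₂, i ≠ fst₀ W₁ W₂ → i' ≠ fst₀ W₁ W₂ →
      a i (snd₀ W₁ W₂) = a i' (snd₀ W₁ W₂) := fun i i' hi hi' => by
    obtain ⟨σ, hσ⟩ := exists_galois hW (Or.inl ⟨rfl, rfl⟩) hw i.2 i'.2 (fun e => hi (Subtype.ext e))
      (fun e => hi' (Subtype.ext e))
    rw [← hgal σ i (snd₀ W₁ W₂), show galFst σ i = i' from Subtype.ext hσ,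
      show galSnd σ (snd₀ W₁ W₂) = snd₀ W₁ W₂ from Subtype.ext (gal_one σ)]
  have hc : ∀ l l' : SndChar W₁ W₂, l ≠ snd₀ W₁ W₂ → l' ≠ snd₀ W₁ W₂ →
      a (fst₀ W₁ W₂) l = a (fst₀ W₁ W₂) l' := fun l l' hl hl' => by
    obtain ⟨σ, hσ⟩ := exists_galois hW (Or.inr ⟨rfl, rfl⟩) hp l.2 l'.2 (fun e => hl (Subtype.ext e))
      (fun e => hl' (Subtype.ext e))
    rw [← hgal σ (fst₀ W₁ W₂) l, show galSnd σ l = l' from Subtype.ext hσ,
      show galFst σ (fst₀ W₁ W₂) = fst₀ W₁ W₂ from Subtype.ext (gal_one σ)]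
  obtain ⟨i₁, hi₁⟩ := Fintype.exists_ne_of_one_lt_card
    (show 1 < Fintype.card (FstChar W₁ W₂) by rw [← Nat.card_eq_fintype_card, hc1]; omega) (fst₀ W₁ W₂)
  obtain ⟨l₁, hl₁⟩ := Fintype.exists_ne_of_one_lt_card
    (show 1 < Fintype.card (SndChar W₁ W₂) by rw [← Nat.card_eq_fintype_card, hc2]; omega) (snd₀ W₁ W₂)
  set b := a i₁ (snd₀ W₁ W₂) with hbdef
  set c := a (fst₀ W₁ W₂) l₁ with hcdef
  have hlin : ∀ i l, a i l = a i (snd₀ W₁ W₂) + a (fst₀ W₁ W₂) l - 1 := fun i l => by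
    have e := coef_mul hW h.family (IsGeneralizedCharacter.isClassFunction hTg) (fun v hv => by
      rw [h.dade_vset hαc hv]; exact hαV _ hv) i l
    have e1 := ha i (snd₀ W₁ W₂)
    have e2 := ha (fst₀ W₁ W₂) l
    have e3 := ha (fst₀ W₁ W₂) (snd₀ W₁ W₂)
    rw [show i.1 * (snd₀ W₁ W₂).1 = i.1 from hom_mul_one' _] at e1
    rw [show (fst₀ W₁ W₂).1 * l.1 = l.1 from hom_one_mul' _] at e2
    rw [show (fst₀ W₁ W₂).1 * (snd₀ W₁ W₂).1 = 1 from hom_mul_one' _] at e3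
    rw [ha, e1, e2, e3, h00, Int.cast_one] at e
    exact_mod_cast e
  have hval : ∀ i l, a i l = (if i = fst₀ W₁ W₂ then 1 else b) + (if l = snd₀ W₁ W₂ then 1 else c) - 1 := by
    intro i l
    rw [hlin i l]
    congr 2
    · by_cases e : i = fst₀ W₁ W₂
      · rw [e, if_pos rfl, h00]
      · rw [if_neg e, hb i i₁ e hi₁]
    · by_cases e : l = snd₀ W₁ W₂
      · rw [e, if_pos rfl, h00]
      · rw [if_neg e, hc l l₁ e hl₁]
  have hbes := bessel hW h.family hTg ha hTT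
  have hsq : ∑ i, ∑ l, a i l ^ 2 = 1 + ((Nat.card W₂ : ℤ) - 1) * c ^ 2 + ((Nat.card W₁ : ℤ) - 1) * b ^ 2 +
      ((Nat.card W₁ : ℤ) - 1) * ((Nat.card W₂ : ℤ) - 1) * (b + c - 1) ^ 2 := by
    have hrow : ∀ t : ℤ, ∑ l : SndChar W₁ W₂, (t + (if l = snd₀ W₁ W₂ then 1 else c) - 1) ^ 2 =
        t ^ 2 + ((Nat.card W₂ : ℤ) - 1) * (t + c - 1) ^ 2 := fun t => by
      rw [← Finset.add_sum_erase _ _ (Finset.mem_univ (snd₀ W₁ W₂)),
        Finset.sum_congr rfl fun l hl => by rw [if_neg (Finset.ne_of_mem_erase hl)], Finset.sum_const,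
        Finset.card_erase_of_mem (Finset.mem_univ _), Finset.card_univ, ← Nat.card_eq_fintype_card, hc2, if_pos rfl,
        nsmul_eq_mul, Nat.cast_sub (by omega)]
      push_cast
      ring
    simp only [hval, hrow]
    rw [← Finset.add_sum_erase _ _ (Finset.mem_univ (fst₀ W₁ W₂)),
      Finset.sum_congr rfl fun i hi => by rw [if_neg (Finset.ne_of_mem_erase hi)], Finset.sum_const,
      Finset.card_erase_of_mem (Finset.mem_univ _), Finset.card_univ, ← Nat.card_eq_fintype_card, hc1, if_pos rfl,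
      nsmul_eq_mul, Nat.cast_sub (by omega)]
    push_cast
    ring
  rcases two_lines (b := b) (c := c) h31 h32 ho1 ho2 hne12 (by
      have := hbes.1
      rw [hsq] at this
      exact_mod_cast this) with ⟨eb, ec⟩ | ⟨eb, ec, hlt⟩
  · refine Or.inl ?_
    have hv : ∀ i l, a i l = if l = snd₀ W₁ W₂ then 1 else 0 := fun i l => by
      rw [hval, eb, ec]; split_ifs <;> ring
    obtain ⟨hs, ho⟩ := hbes.2.2 (by rw [hsq, eb, ec]; push_cast; ring)
    have hD : (∑ f : FstChar W₁ W₂, ∑ g : SndChar W₁ W₂, (a f g : ℂ) • χ (f.1 * g.1)) = col χ 1 := by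
      rw [col_eq_sum]
      refine Finset.sum_congr rfl fun i _ => ?_
      rw [Finset.sum_eq_single (snd₀ W₁ W₂) (fun l _ hl => by simp [hv, hl]) (by simp), hv, if_pos rfl]
      simp [snd₀]
    rw [hD] at hs
    refine ⟨fun f g => by rw [ha, hv]; split_ifs <;> simp, hs, fun f g => ?_⟩
    rw [← hD]
    exact ho f g
  · refine Or.inr ⟨hlt, fun f g => ?_⟩
    rw [ha, hval, eb, ec]
    split_ifs <;> simp

end Setup

end CfsgLib.OddOrder.Final.Grid
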