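import Cfsg.Agent.Lib.OddOrder.Final.Numeric
import Cfsg.Prelude.Def_OddOrderLocal
import Cfsg.Prelude.Def_Characters

/-!
The characters of the derived subgroup used by the test functions of a side: `N = M_F C_U(P̄)` for the
module `P̄ = M_F / P₀` of order `p ^ q`, and a set `Θ` of characters of degree `|U : C|` induced from `N`.
-/

set_option autoImplicit false

namespace CfsgLib.OddOrder.Final

variable {G : Type*} [Group G]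

/-- `Θ` consists of `k (p - 1)` irreducible characters of `M'` of degree `ub`, vanishing off `N`, nontrivial on
`M_F`, closed under `W₁`, containing all `W₁`-fixed ones nontrivial on `M_F`. -/
structure SideChars (M W₁ U W₂ N : Subgroup G) (Θ : Finset (↥⁅M, M⁆ → ℂ)) (k ub : ℕ) : Prop where
  fit_le : Cfsg.fittingHallOf M ≤ N
  le_derived : N ≤ ⁅M, M⁆
  normal : M ≤ Subgroup.normalizer (N : Set G)
  card_derived : Nat.card ↥⁅M, M⁆ = ub * Nat.card N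
  ub_dvd : 2 * Nat.card W₁ ∣ ub - 1
  one_lt : 1 < ub
  ub_le : ub ≤ Nat.card U
  pow_le : Nat.card W₂ ^ Nat.card W₁ ≤ Nat.card ↥(Cfsg.fittingHallOf M)
  irr : ∀ θ ∈ Θ, Cfsg.IsIrrCharacter ↥⁅M, M⁆ θ
  degree : ∀ θ ∈ Θ, θ 1 = (ub : ℂ)
  off : ∀ θ ∈ Θ, ∀ a : ↥⁅M, M⁆, (a : G) ∉ N → θ a = 0
  kernel : ∀ θ ∈ Θ, ∃ a : ↥⁅M, M⁆, (a : G) ∈ Cfsg.fittingHallOf M ∧ θ a ≠ θ 1
  stable : ∀ w ∈ W₁, ∀ θ ∈ Θ, ∃ θ' ∈ Θ, ∀ a b : ↥⁅M, M⁆, (b : G) = w * a * w⁻¹ → θ' a = θ b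
  fixed : ∀ θ : ↥⁅M, M⁆ → ℂ, Cfsg.IsIrrCharacter ↥⁅M, M⁆ θ →
    (∃ a : ↥⁅M, M⁆, (a : G) ∈ Cfsg.fittingHallOf M ∧ θ a ≠ θ 1) →
    (∀ w ∈ W₁, ∀ a b : ↥⁅M, M⁆, (b : G) = w * a * w⁻¹ → θ a = θ b) → θ ∈ Θ
  card_eq : Θ.card = k * (Nat.card W₂ - 1)
  shape : (k = 1 ∧ N = Cfsg.fittingHallOf M ∧ ub = Nat.card U ∧ IsCyclic U ∧
      Nat.card U = (Nat.card W₂ ^ Nat.card W₁ - 1) / (Nat.card W₂ - 1) ∧
      (Nat.card U).Coprime (Nat.card W₂ - 1) ∧ U ⊓ Subgroup.centralizer (Cfsg.fittingHallOf M : Set G) = ⊥ ∧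
      (Nat.card ↥(Cfsg.fittingHallOf M) = Nat.card W₂ ^ Nat.card W₁ →
        ∀ u ∈ U, u ≠ 1 → Cfsg.fittingHallOf M ⊓ Subgroup.centralizer ({u} : Set G) = ⊥) ∧
      Cfsg.fittingHallOf M ≤ ⁅Cfsg.fittingHallOf M, U⁆) ∨
    Numeric.Shape (Nat.card W₁) (Nat.card W₂) k ub

end CfsgLib.OddOrder.Final
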