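import Cfsg.Agent.Lib.OddOrder.Final.SideInduce
import Cfsg.Agent.Lib.OddOrder.Final.SideCharsDef
import Cfsg.Agent.Lib.OddOrder.Final.PairSets
import Cfsg.Agent.Lib.OddOrder.Final.GridXf
import Cfsg.Agent.Lib.OddOrder.Final.Test

/-!
The members of a side: the reducible characters induced from the fixed characters of `M'` in `Θ`, and the
irreducible ones induced from the others.
-/

set_option autoImplicit false

namespace CfsgLib.OddOrder.Final.SideMembers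

open CfsgLib.Char CfsgLib.Char.CyclicTI SideInduce
open Grid (col Setup Partner)

variable {G : Type*} [Group G]

/-- The support of a side. -/
def supSet (M N : Subgroup G) : Set G := Cfsg.typeA M ∩ (N : Set G)

variable {M W₁ U W₂ N : Subgroup G} {Θ : Finset (↥⁅M, M⁆ → ℂ)} {k ub : ℕ}

theorem dade_supSet (hD : Cfsg.DadeHypothesis (Cfsg.typeA M) M fun _ => ⊥)
    (hN : M ≤ Subgroup.normalizer (N : Set G)) : Cfsg.DadeHypothesis (supSet M N) M fun _ => ⊥ :=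
  ⟨fun h => hD.one_not_mem h.1, fun a ha => hD.subset ha.1,
    fun x hx a ha => ⟨hD.conj_mem x hx a ha.1, (Subgroup.mem_normalizer_iff.mp (hN hx) a).mp ha.2⟩,
    fun a ha g hg => hD.fusion a ha.1 g hg.1, fun a ha => hD.le_centralizer a ha.1,
    fun a ha => hD.conj_mem_H a ha.1, fun a ha => hD.inf_eq_bot a ha.1, fun a ha => hD.sup_eq a ha.1,
    fun a ha b hb => hD.coprime a ha.1 b hb.1⟩

theorem stable_supSet [Finite G] (hG : Cfsg.IsMinSimpleOddOrder G) (hM : IsCoatom M)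
    (hP : Cfsg.IsTypePWith M W₁ U W₂) (a : G) (ha : a ∈ supSet M N) (n : ℕ)
    (hn : n.Coprime (orderOf a)) : a ^ n ∈ supSet M N :=
  ⟨TP.pow_mem hG hM hP ha.1 hn, pow_mem ha.2 n⟩

variable [Fintype G] [Fintype M]

/-- The measure of the support. -/
theorem meas_supSet (hP : Cfsg.IsTypePWith M W₁ U W₂) (hs : SideChars M W₁ U W₂ N Θ k ub) :
    Engine.meas M (supSet M N) ≤ 1 / ((Nat.card W₁ : ℝ) * ub) := by
  classical
  have h1 : (Engine.pts M (supSet M N)).card ≤ Nat.card N := by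
    rw [Nat.card_eq_fintype_card, ← Finset.card_univ]
    refine Finset.card_le_card_of_injOn (fun a => if h : (a : G) ∈ N then ⟨a, h⟩ else 1)
      (fun _ _ => Finset.mem_univ _) fun a ha b hb e => ?_
    have ha' : (a : G) ∈ N := (Engine.mem_pts.mp ha).2
    have hb' : (b : G) ∈ N := (Engine.mem_pts.mp hb).2
    simp only [dif_pos ha', dif_pos hb'] at e
    exact Subtype.ext (congrArg (fun x : N => (x : G)) e)
  have hM : Nat.card M = Nat.card W₁ * ub * Nat.card N := by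
    rw [TP.card_eq hP, hs.card_derived]; ring
  rw [Engine.meas, hM]
  have hN : (0 : ℝ) < Nat.card N := Nat.cast_pos.mpr Nat.card_pos
  have hq : (0 : ℝ) < Nat.card W₁ := Nat.cast_pos.mpr Nat.card_pos
  have hu : (0 : ℝ) < ub := Nat.cast_pos.mpr (lt_trans zero_lt_one hs.one_lt)
  push_cast
  rw [inv_mul_le_iff₀ (by positivity)]
  calc ((Engine.pts M (supSet M N)).card : ℝ) ≤ Nat.card N := Nat.cast_le.mpr h1
    _ = _ := by field_simp

variable {χ : (↥(W₁ ⊔ W₂) →* ℂˣ) → (G → ℂ)} {A₀ : Set G} {R : G → Subgroup G}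
  {μ : (↥(W₁ ⊔ W₂) →* ℂˣ) → (M → ℂ)} {δ : (↥(W₁ ⊔ W₂) →* ℂˣ) → ℂ}

/-- The facts on the columns of a setup used here. -/
structure ColFacts (M W₁ U W₂ : Subgroup G) [Fintype M] (μ : (↥(W₁ ⊔ W₂) →* ℂˣ) → (M → ℂ))
    (θf : SndChar W₁ W₂ → (↥⁅M, M⁆ → ℂ)) : Prop where
  irr : ∀ g : SndChar W₁ W₂, g.1 ≠ 1 → Cfsg.IsIrrCharacter ↥⁅M, M⁆ (θf g)
  kernel : ∀ g : SndChar W₁ W₂, g.1 ≠ 1 →
    ∃ a : ↥⁅M, M⁆, (a : G) ∈ Cfsg.fittingHallOf M ∧ θf g a ≠ θf g 1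
  col_on : ∀ g : SndChar W₁ W₂, g.1 ≠ 1 → ∀ (x : M) (hx : (x : G) ∈ ⁅M, M⁆),
    col μ g.1 x = (Nat.card W₁ : ℂ) * θf g ⟨x, hx⟩
  col_off : ∀ g : SndChar W₁ W₂, g.1 ≠ 1 → ∀ x : M, (x : G) ∉ ⁅M, M⁆ → col μ g.1 x = 0
  inj : ∀ g g' : SndChar W₁ W₂, g.1 ≠ 1 → g'.1 ≠ 1 → θf g = θf g' → g = g'
  supp : ∀ θ : ↥⁅M, M⁆ → ℂ, Cfsg.IsIrrCharacter ↥⁅M, M⁆ θ →
    (∃ a : ↥⁅M, M⁆, (a : G) ∈ Cfsg.fittingHallOf M ∧ θ a ≠ θ 1) →
    ∀ a : ↥⁅M, M⁆, a ≠ 1 → (a : G) ∉ Cfsg.typeA M → θ a = 0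

variable {θf : SndChar W₁ W₂ → (↥⁅M, M⁆ → ℂ)}

theorem col_fixed (h : Setup M χ A₀ R μ δ) (hP : Cfsg.IsTypePWith M W₁ U W₂) (hc : ColFacts M W₁ U W₂ μ θf)
    (g : SndChar W₁ W₂) (hg : g.1 ≠ 1) : Fixed W₁ (θf g) := by
  intro w hw a b hb
  have hcl := IsGeneralizedCharacter.isClassFunction (h.col_gen g) ⟨a, derived_le M a.2⟩ ⟨w, TP.W₁_le hP hw⟩
  rw [hc.col_on g hg ⟨a, derived_le M a.2⟩ a.2, hc.col_on g hg _ (by
    show (w : G) * a * w⁻¹ ∈ ⁅M, M⁆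
    rw [← hb]; exact b.2)] at hcl
  have hne : (Nat.card W₁ : ℂ) ≠ 0 := Nat.cast_ne_zero.mpr Nat.card_pos.ne'
  rw [← mul_left_cancel₀ hne hcl]
  exact congrArg (θf g) (Subtype.ext hb.symm)

theorem col_eq_ind (h : Setup M χ A₀ R μ δ) (hP : Cfsg.IsTypePWith M W₁ U W₂) (hc : ColFacts M W₁ U W₂ μ θf)
    (g : SndChar W₁ W₂) (hg : g.1 ≠ 1) : col μ g.1 = ind (θf g) := by
  classical
  funext x
  by_cases hx : (x : G) ∈ ⁅M, M⁆
  · have e := congrFun (indFun_restrict (res M (θf g))) ⟨x, Subgroup.mem_subgroupOf.mpr hx⟩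
    have hf : ∀ m : M, conjG (res M (θf g)) m = res M (θf g) := fun m => by
      obtain ⟨w, hw, e'⟩ := conjG_eq hP (hc.irr g hg) m
      rw [e']
      exact (fixed_iff hP _).mp (col_fixed h hP hc g hg) w hw
    simp only [hf, Finset.sum_const, Finset.card_univ, Pi.smul_apply] at e
    rw [hc.col_on g hg x hx, ind, e, ← Nat.card_eq_fintype_card, card_mul hP, nsmul_eq_mul, smul_eq_mul,
      Nat.cast_mul]
    have hK : (Nat.card (Km M) : ℂ) ≠ 0 := Nat.cast_ne_zero.mpr Nat.card_pos.ne'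
    rw [← mul_assoc, mul_comm (Nat.card W₁ : ℂ) (Nat.card (Km M) : ℂ), ← mul_assoc (Nat.card (Km M) : ℂ)⁻¹,
      inv_mul_cancel₀ hK, one_mul]
    rfl
  · rw [hc.col_off g hg x hx, ind_off _ hx]

variable (hs : SideChars M W₁ U W₂ N Θ k ub) (hP : Cfsg.IsTypePWith M W₁ U W₂)
include hs hP

omit [Fintype G] in
theorem fixed_mem {θ : ↥⁅M, M⁆ → ℂ} (hθ : Cfsg.IsIrrCharacter ↥⁅M, M⁆ θ)
    (hk : ∃ a : ↥⁅M, M⁆, (a : G) ∈ Cfsg.fittingHallOf M ∧ θ a ≠ θ 1) (hf : Fixed W₁ θ) : θ ∈ Θ :=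
  hs.fixed θ hθ hk hf

/-- Conjugates of members of `Θ` are members. -/
theorem conj_mem [Finite G] {θ : ↥⁅M, M⁆ → ℂ} (hθ : θ ∈ Θ) {w : M} (hw : (w : G) ∈ W₁) :
    ∃ θ' ∈ Θ, res M θ' = conjG (res M θ) w := by
  obtain ⟨θ', hθ', e⟩ := hs.stable w hw θ hθ
  refine ⟨θ', hθ', funext fun a => ?_⟩
  rw [conjG_res, res_apply]
  exact e _ _ rfl

/-- An induced member vanishes outside the support and `1`. -/
theorem ind_zero (hsupp : ∀ θ : ↥⁅M, M⁆ → ℂ, Cfsg.IsIrrCharacter ↥⁅M, M⁆ θ →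
      (∃ a : ↥⁅M, M⁆, (a : G) ∈ Cfsg.fittingHallOf M ∧ θ a ≠ θ 1) →
      ∀ a : ↥⁅M, M⁆, a ≠ 1 → (a : G) ∉ Cfsg.typeA M → θ a = 0)
    (hD : Cfsg.DadeHypothesis (supSet M N) M fun _ => ⊥)
    {θ : ↥⁅M, M⁆ → ℂ} (hθ : θ ∈ Θ) {x : M} (hx : (x : G) ∉ supSet M N) (hx1 : x ≠ 1) : ind θ x = 0 := by
  classical
  by_cases hxK : (x : G) ∈ ⁅M, M⁆
  swap
  · exact ind_off _ hxK
  rw [ind, show x = ((⟨x, Subgroup.mem_subgroupOf.mpr hxK⟩ : Km M) : M) from rfl, indFun_apply_of_normal,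
    Finset.sum_eq_zero fun g _ => ?_, mul_zero]
  show θ ⟨((g * x * g⁻¹ : M) : G), _⟩ = 0
  have hnot : ((g * x * g⁻¹ : M) : G) ∉ supSet M N := fun hm => hx (by
    have := hD.conj_mem _ (g⁻¹).2 _ hm
    simpa [mul_assoc] using this)
  by_cases hN : ((g * x * g⁻¹ : M) : G) ∈ N
  · refine hsupp θ (hs.irr θ hθ) (hs.kernel θ hθ) _ (fun e => hx1 ?_) fun hA => hnot ⟨hA, hN⟩
    have e' : ((g * x * g⁻¹ : M) : G) = 1 := congrArg (fun z : ↥⁅M, M⁆ => (z : G)) e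
    exact conj_eq_one_iff.mp (Subtype.ext e' : g * x * g⁻¹ = 1)
  · exact hs.off θ hθ _ hN

theorem ind_deg {θ : ↥⁅M, M⁆ → ℂ} (hθ : θ ∈ Θ) : ind θ 1 = (Nat.card W₁ : ℂ) * (ub : ℂ) := by
  rw [ind_one hP, hs.degree θ hθ]

theorem ind_sum {θ : ↥⁅M, M⁆ → ℂ} (hθ : θ ∈ Θ) : ∑ x : M, ind θ x = 0 := by
  classical
  have hne : θ ≠ fun _ => 1 := fun e => by
    obtain ⟨a, -, ha⟩ := hs.kernel θ hθ
    rw [e] at ha
    exact ha rfl
  have hne' : res M θ ≠ fun _ => 1 := fun e => hne (res_injective (e.trans rfl))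
  have h1 : Cfsg.classInner (ind θ) (fun _ => 1) = 0 := by
    rw [ind, classInner_indFun _ _ (fun _ _ => rfl)]
    exact classInner_irr_ne (res_irr (hs.irr θ hθ)) isIrrCharacter_one hne'
  rw [classInner_fun_one_right, mul_eq_zero, inv_eq_zero] at h1
  exact h1.resolve_left (Nat.cast_ne_zero.mpr Nat.card_pos.ne')

/-- **The members of a side.** -/
theorem exists_members (h : Setup M χ A₀ R μ δ) (hq : (Nat.card W₁).Prime) (hp : (Nat.card W₂).Prime)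
    (hD : Cfsg.DadeHypothesis (Cfsg.typeA M) M fun _ => ⊥) (hA₀ : Cfsg.typeA M ⊆ A₀)
    (hR : ∀ a ∈ Cfsg.typeA M, R a = ⊥) (hV : ∀ x ∈ vset W₁ W₂, x ∉ ⁅M, M⁆)
    (hc : ColFacts M W₁ U W₂ μ θf) :
    ∃ (j₀ : {g : SndChar W₁ W₂ // g.1 ≠ 1}) (kc : SndChar W₁ W₂) (ε : ℂ) (Ξ : Finset (M → ℂ)), kc.1 ≠ 1 ∧
      (∀ f : FstChar W₁ W₂, Test.Members (χ (f.1 * kc.1)) {g : SndChar W₁ W₂ // g.1 ≠ 1} ↥Ξ
        (fun i => col μ i.1.1) (fun x => (x : M → ℂ)) (supSet M N) (Nat.card W₁) j₀ ε) ∧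
      Nat.card {g : SndChar W₁ W₂ // g.1 ≠ 1} = Nat.card W₂ - 1 ∧
      Nat.card W₂ - 1 + Nat.card W₁ * Ξ.card = k * (Nat.card W₂ - 1) ∧
      col μ j₀.1.1 1 = (Nat.card W₁ : ℂ) * (ub : ℂ) ∧
      (∀ a : M, (a : G) ∉ supSet M N → a ≠ 1 → col μ j₀.1.1 a = 0) ∧
      ∀ c : G → ℂ, Cfsg.IsGeneralizedCharacter G c →
        Cfsg.IsGeneralizedCharacter (N.subgroupOf M) fun a => c (a : M) - ε / (Nat.card W₁ : ℂ) * col μ j₀.1.1 a := by
  classical
  have hW := h.selfNormalizing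
  haveI := finite_hom (W₁ := W₁) (W₂ := W₂)
  cases nonempty_fintype (SndChar W₁ W₂)
  obtain ⟨-, hc2⟩ := card_fstChar hW
  have hcardι : Nat.card {g : SndChar W₁ W₂ // g.1 ≠ 1} = Nat.card W₂ - 1 := by
    rw [← hc2, Nat.card_eq_fintype_card, Nat.card_eq_fintype_card, Fintype.card_subtype]
    rw [show (Finset.univ.filter fun g : SndChar W₁ W₂ => g.1 ≠ 1) = Finset.univ.erase (Grid.snd₀ W₁ W₂) by
      ext g
      simp only [Finset.mem_filter, Finset.mem_univ, true_and, Finset.mem_erase, and_true, ne_eq]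
      exact not_congr ⟨fun e => Subtype.ext e, fun e => congrArg Subtype.val e⟩,
      Finset.card_erase_of_mem (Finset.mem_univ _), Finset.card_univ]
  have hι : 0 < Nat.card {g : SndChar W₁ W₂ // g.1 ≠ 1} := by
    rw [hcardι]; have := hp.two_le; omega
  obtain ⟨⟨⟨j, hj⟩⟩, -⟩ := Nat.card_pos_iff.mp hι
  set j₀ : {g : SndChar W₁ W₂ // g.1 ≠ 1} := ⟨j, hj⟩
  have hmem : ∀ g : SndChar W₁ W₂, g.1 ≠ 1 → θf g ∈ Θ := fun g hg =>
    fixed_mem hs hP (hc.irr g hg) (hc.kernel g hg) (col_fixed h hP hc g hg)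
  have hD' := dade_supSet hD hs.normal
  -- the fixed members are the columns
  set Fi := Θ.filter fun θ => Fixed W₁ θ with hFi
  have hFimg : Finset.univ.image (fun i : {g : SndChar W₁ W₂ // g.1 ≠ 1} => θf i.1) = Fi := by
    refine Finset.eq_of_subset_of_card_le (fun θ hθ => ?_) ?_
    · obtain ⟨i, -, rfl⟩ := Finset.mem_image.mp hθ
      exact Finset.mem_filter.mpr ⟨hmem i.1 i.2, col_fixed h hP hc i.1 i.2⟩
    · rw [Finset.card_image_of_injective _ fun i l e => Subtype.ext (hc.inj i.1 l.1 i.2 l.2 e),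
        Finset.card_univ, ← Nat.card_eq_fintype_card, hcardι]
      have hall := card_fixed hP h.odd
      have hfin : Finite {θ : ↥⁅M, M⁆ → ℂ // Cfsg.IsIrrCharacter ↥⁅M, M⁆ θ ∧ Fixed W₁ θ} :=
        Nat.finite_of_card_ne_zero (by rw [hall]; exact hp.ne_zero)
      cases nonempty_fintype {θ : ↥⁅M, M⁆ → ℂ // Cfsg.IsIrrCharacter ↥⁅M, M⁆ θ ∧ Fixed W₁ θ}
      have h1 : (insert (fun _ => 1) Fi).card ≤ Nat.card W₂ := by
        rw [← hall, Nat.card_eq_fintype_card, ← Finset.card_univ,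
          ← Finset.card_image_of_injective Finset.univ Subtype.val_injective]
        refine Finset.card_le_card fun θ hθ => Finset.mem_image.mpr ⟨⟨θ, ?_⟩, Finset.mem_univ _, rfl⟩
        rcases Finset.mem_insert.mp hθ with rfl | hθ
        · exact ⟨isIrrCharacter_one, fun w _ a b _ => rfl⟩
        · exact ⟨hs.irr θ (Finset.mem_filter.mp hθ).1, (Finset.mem_filter.mp hθ).2⟩
      rw [Finset.card_insert_of_notMem fun h1 => ?_] at h1
      · omega
      · obtain ⟨a, -, ha⟩ := hs.kernel _ (Finset.mem_filter.mp h1).1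
        exact ha rfl
  have hFcard : Fi.card = Nat.card W₂ - 1 := by
    rw [← hFimg, Finset.card_image_of_injective _ fun i l e => Subtype.ext (hc.inj i.1 l.1 i.2 l.2 e),
      Finset.card_univ, ← Nat.card_eq_fintype_card, hcardι]
  -- the others
  set Mo := Θ.filter fun θ => ¬ Fixed W₁ θ with hMo
  set Ξ := Mo.image ind with hΞ
  have hW1card : (Finset.univ.filter fun w : M => (w : G) ∈ W₁).card = Nat.card W₁ := by
    rw [← Nat.card_congr (Subgroup.subgroupOfEquivOfLe (TP.W₁_le hP)).toEquiv, Nat.card_eq_fintype_card,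
      Fintype.card_subtype]
    simp [Subgroup.mem_subgroupOf]
  have hfib : ∀ x ∈ Ξ, (Mo.filter fun θ => ind θ = x).card = Nat.card W₁ := by
    intro x hx
    obtain ⟨φ, hφ, rfl⟩ := Finset.mem_image.mp hx
    obtain ⟨hφΘ, hφf⟩ := Finset.mem_filter.mp hφ
    rw [← Finset.card_image_of_injective _ (res_injective (M := M)), ← hW1card]
    symm
    refine Finset.card_nbij (fun w => conjG (res M φ) w) ?_ ?_ ?_
    · intro w hw
      have hw' : (w : G) ∈ W₁ := by simpa using hw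
      obtain ⟨θ, hθ, e⟩ := conj_mem hs hP hφΘ hw'
      refine Finset.mem_image.mpr ⟨θ, Finset.mem_filter.mpr ⟨Finset.mem_filter.mpr ⟨hθ, fun hf => hφf ?_⟩,
        (ind_eq_iff hP (hs.irr θ hθ) (hs.irr φ hφΘ)).mpr ⟨w, hw', e⟩⟩, e⟩
      have := (fixed_iff hP θ).mp hf w⁻¹ (W₁.inv_mem hw')
      rw [e, conjG_mul, mul_inv_cancel, conjG_one] at this
      refine (fixed_iff hP φ).mpr fun v hv => ?_
      rw [this, ← e]
      exact (fixed_iff hP θ).mp hf v hv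
    · intro v hv w hw e
      have hv' : (v : G) ∈ W₁ := by simpa using hv
      have hw' : (w : G) ∈ W₁ := by simpa using hw
      have hvw : v * w⁻¹ ∈ stab (res M φ) := mem_stab.mpr (by
        rw [← conjG_mul]
        simp only at e
        rw [e, conjG_mul, mul_inv_cancel, conjG_one])
      rw [stab_eq hP (hs.irr φ hφΘ) hq hφf, Subgroup.mem_subgroupOf] at hvw
      have h1 : ((v * w⁻¹ : M) : G) = 1 := Subgroup.mem_bot.mp (hP.W₁_compl.2.2.1.le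
        ⟨hvw, W₁.mul_mem hv' (W₁.inv_mem hw')⟩)
      exact mul_inv_eq_one.mp (Subtype.ext h1)
    · intro ψ hψ
      obtain ⟨θ, hθ, rfl⟩ := Finset.mem_image.mp hψ
      obtain ⟨hθ1, hθ2⟩ := Finset.mem_filter.mp hθ
      obtain ⟨w, hw, e⟩ := (ind_eq_iff hP (hs.irr θ (Finset.mem_filter.mp hθ1).1) (hs.irr φ hφΘ)).mp hθ2
      exact ⟨w, by simpa using hw, e.symm⟩
  have hcount : Nat.card W₂ - 1 + Nat.card W₁ * Ξ.card = k * (Nat.card W₂ - 1) := by
    rw [← hs.card_eq, ← hFcard, ← Finset.card_filter_add_card_filter_not (s := Θ) (fun θ => Fixed W₁ θ)]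
    congr 1
    rw [Finset.card_eq_sum_card_fiberwise (f := ind) (t := Ξ) (fun θ hθ => Finset.mem_image_of_mem _ hθ),
      Finset.sum_congr rfl hfib, Finset.sum_const, smul_eq_mul, mul_comm]
  -- the partners
  have hξ : ∀ x ∈ Ξ, ∃ θ ∈ Θ, ¬ Fixed W₁ θ ∧ x = ind θ := fun x hx => by
    obtain ⟨θ, hθ, rfl⟩ := Finset.mem_image.mp hx
    exact ⟨θ, (Finset.mem_filter.mp hθ).1, (Finset.mem_filter.mp hθ).2, rfl⟩
  have hsame : ∀ θ ∈ Θ, ∀ a : M, (a : G) ∉ supSet M N → ind θ a = col μ j₀.1.1 a := fun θ hθ a ha => by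
    rw [col_eq_ind h hP hc j hj]
    by_cases ha1 : a = 1
    · rw [ha1, ind_deg hs hP hθ, ind_deg hs hP (hmem j hj)]
    · rw [ind_zero hs hP hc.supp hD' hθ ha ha1, ind_zero hs hP hc.supp hD' (hmem j hj) ha ha1]
  have hpart : ∀ x ∈ Ξ, Partner M A₀ μ j x := fun x hx => by
    obtain ⟨θ, hθ, hf, rfl⟩ := hξ x hx
    refine ⟨ind_irr hP (hs.irr θ hθ) hq hf, fun a ha => ind_off _ (hV _ ha), fun a ha => ?_⟩
    exact (hsame θ hθ a fun hm => ha (hA₀ hm.1)).symm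
  obtain ⟨kc, ε, hk1, hε, -, hcol, hpr⟩ := h.exists_column j hj
  have hcongr : ∀ α : M → ℂ, Cfsg.IsClassFunction M α → (∀ a : M, (a : G) ∉ supSet M N → α a = 0) →
      Cfsg.dadeIsometry (supSet M N) M (fun _ => ⊥) α = Cfsg.dadeIsometry A₀ M R α := fun α hα hz =>
    Grid.dade_congr hD' h.dade (fun a ha => hA₀ ha.1) (fun a ha => (hR a ha.1).symm) hα hz
  have hcolc : ∀ i : {g : SndChar W₁ W₂ // g.1 ≠ 1}, Cfsg.IsClassFunction M (col μ i.1.1) := fun i => by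
    rw [col_eq_ind h hP hc i.1 i.2]; exact ind_classFunction _
  have hξc : ∀ x ∈ Ξ, Cfsg.IsClassFunction M x := fun x hx => by
    obtain ⟨θ, -, -, rfl⟩ := hξ x hx; exact ind_classFunction _
  refine ⟨j₀, kc, ε, Ξ, hk1, fun f => ?_, hcardι, hcount, ?_, fun a ha ha1 => ?_, fun c hcg => ?_⟩
  · refine ⟨hcolc, fun x => hξc x x.2, fun i => ?_, fun i l hil => ?_, fun x => ?_, fun x y hxy => ?_,
      fun i x => ?_, fun i a ha => ?_, fun x a ha => ?_, fun i => ?_, fun x => ?_, hε, fun i hi => ?_, fun x => ?_⟩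
    · rw [col_eq_ind h hP hc i.1 i.2]
      exact inner_fixed hP (hc.irr i.1 i.2) (col_fixed h hP hc i.1 i.2)
    · rw [col_eq_ind h hP hc i.1 i.2, col_eq_ind h hP hc l.1 l.2]
      exact inner_eq_zero hP (hc.irr i.1 i.2) (hc.irr l.1 l.2) (ne_of_fixed hP (col_fixed h hP hc i.1 i.2)
        fun e => hil (Subtype.ext (hc.inj i.1 l.1 i.2 l.2 e)))
    · obtain ⟨θ, hθ, hf, e⟩ := hξ x x.2
      rw [e]
      exact inner_moved hP (hs.irr θ hθ) hq hf
    · obtain ⟨θ, hθ, hf, e⟩ := hξ x x.2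
      obtain ⟨φ, hφ, hf', e'⟩ := hξ y y.2
      rw [e, e']
      refine inner_eq_zero hP (hs.irr θ hθ) (hs.irr φ hφ) fun w hw hww => hxy (Subtype.ext ?_)
      rw [e, e']
      exact (ind_eq_iff hP (hs.irr θ hθ) (hs.irr φ hφ)).mpr ⟨w, hw, hww⟩
    · obtain ⟨θ, hθ, hf, e⟩ := hξ x x.2
      rw [e, col_eq_ind h hP hc i.1 i.2]
      exact inner_eq_zero hP (hc.irr i.1 i.2) (hs.irr θ hθ) (ne_of_fixed hP (col_fixed h hP hc i.1 i.2)
        fun e' => hf (e' ▸ col_fixed h hP hc i.1 i.2))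
    · show col μ i.1.1 a = col μ j₀.1.1 a
      rw [col_eq_ind h hP hc i.1 i.2]
      exact hsame _ (hmem i.1 i.2) a ha
    · obtain ⟨θ, hθ, -, e⟩ := hξ x x.2
      show (x : M → ℂ) a = _
      rw [e]
      exact hsame θ hθ a ha
    · rw [col_eq_ind h hP hc i.1 i.2]
      exact ind_sum hs hP (hmem i.1 i.2)
    · obtain ⟨θ, hθ, -, e⟩ := hξ x x.2
      rw [e]
      exact ind_sum hs hP hθ
    · rw [hcongr _ (fun a b => congrArg₂ (· - ·) (hcolc j₀ a b) (hcolc i a b)) fun a ha => by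
        rw [Pi.sub_apply, col_eq_ind h hP hc i.1 i.2, hsame _ (hmem i.1 i.2) a ha, sub_self]]
      exact hcol i.1 i.2 (fun e => hi (Subtype.ext e)) f
    · rw [hcongr _ (fun a b => congrArg₂ (· - ·) (hcolc j₀ a b) (hξc x x.2 a b)) fun a ha => by
        obtain ⟨θ, hθ, -, e⟩ := hξ x x.2
        rw [Pi.sub_apply, e, hsame θ hθ a ha, sub_self]]
      exact ((hpr x (hpart x x.2)).1 f kc).trans (if_pos rfl)
  · rw [col_eq_ind h hP hc j hj]
    exact ind_deg hs hP (hmem j hj)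
  · rw [col_eq_ind h hP hc j hj]
    exact ind_zero hs hP hc.supp hD' (hmem j hj) ha ha1
  · have hNK : ∀ a : N.subgroupOf M, ((a : M) : G) ∈ ⁅M, M⁆ := fun a => hs.le_derived a.2
    let ι' : (N.subgroupOf M : Subgroup M) →* ↥⁅M, M⁆ :=
      { toFun := fun a => ⟨((a : M) : G), hNK a⟩, map_one' := rfl, map_mul' := fun _ _ => rfl }
    have hθ := IsCharacter.comp (IsIrrCharacter.isCharacter (hc.irr j hj)) ι'
    obtain ⟨α, β, hα, hβ, e⟩ := hcg
    have hc' : ∀ a : N.subgroupOf M, c (a : M) - ε / (Nat.card W₁ : ℂ) * col μ j.1 a =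
        c (a : M) - ε * θf j (ι' a) := fun a => by
      rw [hc.col_on j hj a (hNK a)]
      have hne : (Nat.card W₁ : ℂ) ≠ 0 := Nat.cast_ne_zero.mpr Nat.card_pos.ne'
      field_simp
      rfl
    let i : (N.subgroupOf M : Subgroup M) →* G := M.subtype.comp (N.subgroupOf M).subtype
    have hα' := IsCharacter.comp hα i
    have hβ' := IsCharacter.comp hβ i
    rcases hε with rfl | rfl
    · exact ⟨_, _, hα', IsCharacter.add hβ' hθ, funext fun a => by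
        show _ = α (i a) - (β (i a) + θf j (ι' a))
        rw [hc', e, Pi.sub_apply]
        show α (i a) - β (i a) - _ = _
        ring⟩
    · exact ⟨_, _, IsCharacter.add hα' hθ, hβ', funext fun a => by
        show _ = α (i a) + θf j (ι' a) - β (i a)
        rw [hc', e, Pi.sub_apply]
        show α (i a) - β (i a) - _ = _
        ring⟩

end CfsgLib.OddOrder.Final.SideMembers
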