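import Cfsg.Agent.Lib.OddOrder.Final.GridSetup
import Cfsg.Agent.Lib.OddOrder.Final.SideMembers

set_option autoImplicit false

/-!
The restrictions to `M'` of the exceptional characters, as the columns used for the members of a side.
-/

namespace CfsgLib.OddOrder.Final.Grid

open CfsgLib.Char CfsgLib.Char.CyclicTI

variable {G : Type*} [Group G] [Fintype G] {M W₁ U W₂ : Subgroup G} [Fintype M]

/-- The restriction of the member `g` to `M'`. -/
noncomputable def resCol (μ : (↥(W₁ ⊔ W₂) →* ℂˣ) → (M → ℂ)) (g : SndChar W₁ W₂) : ↥⁅M, M⁆ → ℂ :=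
  fun a => μ g.1 ⟨a, derived_le M a.2⟩

/-- **The columns of a subgroup of type P.** -/
theorem colFacts (hG : Cfsg.IsMinSimpleOddOrder G) (hM : IsCoatom M) (hP : Cfsg.IsTypePWith M W₁ U W₂)
    {χ : (↥(W₁ ⊔ W₂) →* ℂˣ) → (G → ℂ)} {A : Set G} {R : G → Subgroup G}
    {μ : (↥(W₁ ⊔ W₂) →* ℂˣ) → (M → ℂ)} {δ : (↥(W₁ ⊔ W₂) →* ℂˣ) → ℂ}
    (h : Setup M χ A R μ δ) (hm : Members M μ δ) :
    SideMembers.ColFacts M W₁ U W₂ μ (resCol μ) := by
  classical
  have hker : ∀ g : SndChar W₁ W₂, g.1 ≠ 1 →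
      ∃ a : ↥⁅M, M⁆, (a : G) ∈ Cfsg.fittingHallOf M ∧ resCol μ g a ≠ resCol μ g 1 := fun g hg => by
    obtain ⟨y, hy, hy1⟩ := hm.not_kernel g hg
    exact ⟨⟨y, TP.fit_le_derived hP hy⟩, hy, hy1⟩
  have hirr : ∀ g : SndChar W₁ W₂, Cfsg.IsIrrCharacter ↥⁅M, M⁆ (resCol μ g) := by
    intro g
    cases nonempty_fintype ↥⁅M, M⁆
    have hchar : Cfsg.IsCharacter ↥⁅M, M⁆ (resCol μ g) :=
      IsCharacter.comp (IsIrrCharacter.isCharacter (h.irr g.1)) (Subgroup.inclusion (derived_le M))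
    refine IsCharacter.isIrrCharacter_of_norm_one hchar ?_
    set F : M → ℂ := fun x => μ g.1 x * (starRingEnd ℂ) (μ g.1 x) with hF
    have hall : ∑ x : M, F x = Nat.card M := by
      have h1 := classInner_irr_self (h.irr g.1)
      rw [Cfsg.classInner, inv_mul_eq_iff_eq_mul₀ (Nat.cast_ne_zero.mpr Nat.card_pos.ne'), mul_one] at h1
      exact h1
    have hoff : ∑ x ∈ Finset.univ.filter (fun x : M => (x : G) ∉ ⁅M, M⁆), F x =
        ((Finset.univ.filter (fun x : M => (x : G) ∉ ⁅M, M⁆)).card : ℂ) := by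
      rw [Finset.sum_congr rfl fun x hx => hm.norm_off g.1 x (Finset.mem_filter.mp hx).2, Finset.sum_const,
        nsmul_eq_mul, mul_one]
    have hon : ∑ x ∈ Finset.univ.filter (fun x : M => (x : G) ∈ ⁅M, M⁆), F x =
        ∑ a : ↥⁅M, M⁆, resCol μ g a * (starRingEnd ℂ) (resCol μ g a) := by
      refine Finset.sum_bij' (fun x hx => ⟨(x : G), (Finset.mem_filter.mp hx).2⟩)
        (fun a _ => ⟨(a : G), derived_le M a.2⟩) (fun x hx => Finset.mem_univ _)
        (fun a _ => Finset.mem_filter.mpr ⟨Finset.mem_univ _, a.2⟩) (fun x hx => rfl) (fun a _ => rfl)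
        (fun x hx => rfl)
    have hcard : (Finset.univ.filter (fun x : M => (x : G) ∈ ⁅M, M⁆)).card = Nat.card ↥⁅M, M⁆ := by
      rw [Nat.card_eq_fintype_card, ← Finset.card_univ]
      exact Finset.card_bij' (fun x hx => ⟨(x : G), (Finset.mem_filter.mp hx).2⟩)
        (fun a _ => ⟨(a : G), derived_le M a.2⟩) (fun x hx => Finset.mem_univ _)
        (fun a _ => Finset.mem_filter.mpr ⟨Finset.mem_univ _, a.2⟩) (fun x hx => rfl) (fun a _ => rfl)
    have hsplit := Finset.sum_filter_add_sum_filter_not Finset.univ (fun x : M => (x : G) ∈ ⁅M, M⁆) F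
    rw [hall, hon, hoff] at hsplit
    have hc2 := Finset.card_filter_add_card_filter_not (s := (Finset.univ : Finset M))
      (fun x : M => (x : G) ∈ ⁅M, M⁆)
    rw [hcard, Finset.card_univ, ← Nat.card_eq_fintype_card] at hc2
    rw [Cfsg.classInner, inv_mul_eq_iff_eq_mul₀ (Nat.cast_ne_zero.mpr Nat.card_pos.ne'), mul_one]
    rw [← hc2] at hsplit
    push_cast at hsplit
    exact add_right_cancel hsplit
  refine ⟨fun g _ => hirr g, hker, fun g _ x hx => hm.col_eq g x hx, fun g _ x hx => hm.off g x hx, ?_, ?_⟩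
  · intro g g' hg _ he
    by_contra hne
    haveI := finite_hom (W₁ := W₁) (W₂ := W₂)
    cases nonempty_fintype (FstChar W₁ W₂)
    have hcol : col μ g.1 = col μ g'.1 := by
      funext x
      by_cases hx : (x : G) ∈ ⁅M, M⁆
      · rw [hm.col_eq g x hx, hm.col_eq g' x hx]
        exact congrArg _ (congrFun he ⟨(x : G), hx⟩)
      · rw [hm.off g x hx, hm.off g' x hx]
    have hone : ∀ l : SndChar W₁ W₂, Cfsg.classInner (col μ l.1) (μ g.1) = if l = g then 1 else 0 := fun l => by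
      rw [col_eq_sum, classInner_sum_left,
        Finset.sum_eq_single (fst₀ W₁ W₂) ?_ (by simp)]
      · rw [show (fst₀ W₁ W₂).1 * l.1 = l.1 from hom_one_mul' _, classInner_irr (h.irr _) (h.irr _)]
        exact if_congr ⟨fun e => Subtype.ext (h.inj e), fun e => by rw [e]⟩ rfl rfl
      · intro f _ hf
        refine classInner_irr_ne (h.irr _) (h.irr _) (h.inj.ne fun e => hf ?_)
        exact congrArg Prod.fst ((mul_ne_iff h.selfNormalizing (f, l) (fst₀ W₁ W₂, g)).1
          (e.trans (hom_one_mul' _).symm))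
    have := hone g
    rw [hcol, hone g', if_pos rfl, if_neg fun e => hne e.symm] at this
    exact zero_ne_one this
  · intro θ hθ hk a ha1 haA
    obtain ⟨b, hb, hb1⟩ := hk
    have hsub : (Cfsg.fittingHallOf M).subgroupOf M = Cfsg.fittingHall M := by
      rw [Subgroup.subgroupOf, Cfsg.fittingHallOf, Subgroup.comap_map_eq_self_of_injective M.subtype_injective]
    haveI : ((Cfsg.fittingHallOf M).subgroupOf ⁅M, M⁆).Normal :=
      Subgroup.normal_subgroupOf_of_le_normalizer ((derived_le M).trans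
        ((Subgroup.normal_subgroupOf_iff_le_normalizer ((TP.fit_le_derived hP).trans (derived_le M))).mp
          (hsub ▸ Cfsg.fittingHall_normal M)))
    refine eq_zero_of_free hθ ((Cfsg.fittingHallOf M).subgroupOf ⁅M, M⁆)
      ⟨b, Subgroup.mem_subgroupOf.mpr hb, hb1⟩ fun z hz hzx => ?_
    by_contra hz1
    rw [TP.typeA_eq hG hM hP] at haA
    exact haA ⟨a.2, fun e => ha1 (Subtype.ext e), z, TP.fit_le_core hG hM hP (Subgroup.mem_subgroupOf.mp hz),
      fun e => hz1 (Subtype.ext e), (congrArg Subtype.val hzx).symm⟩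

end CfsgLib.OddOrder.Final.Grid
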