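import Cfsg.Agent.Lib.OddOrder.Final.PairSets
import Cfsg.Agent.Lib.Perm.ZGroup.PSL
import Cfsg.Agent.S1472

/-!
The extremal shape of a side (`U` cyclic of order `(p^q - 1)/(p - 1)` acting without fixed points on `P`
elementary abelian of order `p^q`) and the final step: with an element of an abelian `T_F` moving `W₂` into the
normalizer of `U`, Appendix C gives `p ≤ q`.
-/

set_option autoImplicit false

namespace CfsgLib.OddOrder.Final

variable {G : Type*} [Group G]

/-- The extremal shape of a side. -/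
structure Full (M W₁ U W₂ : Subgroup G) : Prop where
  elementary : Cfsg.IsElementaryAbelian (Nat.card W₂) (Cfsg.fittingHallOf M)
  card_fit : Nat.card ↥(Cfsg.fittingHallOf M) = Nat.card W₂ ^ Nat.card W₁
  cyclic : IsCyclic U
  card_U : Nat.card U * (Nat.card W₂ - 1) = Nat.card W₂ ^ Nat.card W₁ - 1
  fpf : ∀ u ∈ U, u ≠ 1 → ∀ x ∈ Cfsg.fittingHallOf M, u * x = x * u → x = 1
  coprime : ((Nat.card W₂ ^ Nat.card W₁ - 1) / (Nat.card W₂ - 1)).Coprime (Nat.card W₂ - 1)

theorem dvd_sub_one_of_dvd_pow {d p q k : ℕ} (hp : 1 < p) (hq : d ∣ p ^ q - 1) (hk : d ∣ p ^ k - 1) :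
    d ∣ p ^ Nat.gcd q k - 1 := by
  rcases Nat.eq_zero_or_pos d with rfl | hd
  · have h1 : p ^ q - 1 = 0 := Nat.eq_zero_of_zero_dvd hq
    have h2 : q = 0 := by
      by_contra h
      have := Nat.one_lt_pow h hp
      omega
    have h3 : p ^ k - 1 = 0 := Nat.eq_zero_of_zero_dvd hk
    have h4 : k = 0 := by
      by_contra h
      have := Nat.one_lt_pow h hp
      omega
    simp [h2, h4]
  have key : ∀ n, d ∣ p ^ n - 1 ↔ ((p : ZMod d)) ^ n = 1 := fun n => by
    rw [← ZMod.natCast_eq_zero_iff, Nat.cast_sub (Nat.one_le_pow _ _ (by omega)), Nat.cast_pow, Nat.cast_one,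
      sub_eq_zero]
  rw [key] at hq hk ⊢
  exact pow_gcd_eq_one.mpr ⟨hq, hk⟩

variable [Finite G] {M W₁ U W₂ : Subgroup G}

/-- The field structure on `P`, the fixed field of the `p`-th power map being `W₂`. -/
theorem Full.exists_field (hs : Side M W₁ U W₂) (hf : Full M W₁ U W₂) :
    ∃ (F : Type) (_ : Field F) (_ : Fintype F) (f ψ : G → F), Fintype.card F = Nat.card W₂ ^ Nat.card W₁ ∧
      Set.BijOn f (Cfsg.fittingHallOf M : Set G) Set.univ ∧
      (∀ x ∈ Cfsg.fittingHallOf M, ∀ x' ∈ Cfsg.fittingHallOf M, f (x * x') = f x + f x') ∧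
      (∀ u ∈ U, ψ u ≠ 0 ∧ ∀ x ∈ Cfsg.fittingHallOf M, f (u * x * u⁻¹) = ψ u * f x) ∧
      (∀ u ∈ U, ∀ u' ∈ U, ψ (u * u') = ψ u * ψ u') ∧ Set.InjOn ψ (U : Set G) ∧
      (∀ x ∈ Cfsg.fittingHallOf M, f x ^ Nat.card W₂ = f x → x ∈ W₂) := by
  classical
  set P := Cfsg.fittingHallOf M with hP
  set p := Nat.card W₂ with hp
  set q := Nat.card W₁ with hq
  haveI : Fact p.Prime := ⟨hs.prime₂⟩
  haveI := hf.cyclic
  letI : CommGroup P := { mul_comm := hf.elementary.1.is_comm.comm }
  have hnU : ∀ u ∈ U, ∀ x ∈ P, u * x * u⁻¹ ∈ P := fun u hu x hx =>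
    (Subgroup.mem_normalizer_iff.mp (Basic.le_normalizer_fittingHallOf (TP.U_le hs.typeP hu)) x).mp hx
  let act : U → Additive P →+ Additive P := fun u =>
    { toFun := fun x => Additive.ofMul ⟨(u : G) * (x.toMul : G) * (u : G)⁻¹, hnU u u.2 _ x.toMul.2⟩
      map_zero' := by
        apply Additive.toMul.injective
        apply Subtype.ext
        simp
      map_add' := fun x y => by
        apply Additive.toMul.injective
        apply Subtype.ext
        simp }
  have hact : ∀ (u : U) (x : Additive P), ((act u x).toMul : G) = u * (x.toMul : G) * (u : G)⁻¹ := fun _ _ => rfl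
  obtain ⟨g₀, hg₀, hg₀1⟩ := (Subgroup.bot_or_exists_ne_one W₂).resolve_left hs.typeP.selfNormalizing.2.1
  have hg₀P : g₀ ∈ P := TP.W₂_le_fit hs.typeP hg₀
  let ε : Additive P := Additive.ofMul ⟨g₀, hg₀P⟩
  have hε0 : ε ≠ 0 := fun e => hg₀1 (congrArg (fun x : Additive P => (x.toMul : G)) e)
  have hq0 : q ≠ 0 := hs.prime₁.ne_zero
  obtain ⟨E, χ, hE, hχ⟩ := CfsgLib.Perm.ZGroup.exists_field_of_irreducible (V := Additive P) (H := U) (p := p)
    (f := q) hq0 hf.card_fit (fun x => by
      apply Additive.toMul.injective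
      apply Subtype.ext
      rw [toMul_nsmul, toMul_zero, SubgroupClass.coe_pow, OneMemClass.coe_one]
      exact hf.elementary.2 _ x.toMul.2) act
    (fun x => by
      apply Additive.toMul.injective
      apply Subtype.ext
      rw [hact]; simp)
    (fun g h x => by
      apply Additive.toMul.injective
      apply Subtype.ext
      rw [hact, hact, hact]; simp [mul_assoc])
    (fun W hW => by
      by_contra hcon
      push Not at hcon
      obtain ⟨hW0, hW1⟩ := hcon
      -- the orbits of `U` on `W ∖ 0` are regular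
      have hcard : Nat.card W ∣ p ^ q := hf.card_fit ▸ AddSubgroup.card_addSubgroup_dvd_card W
      obtain ⟨k, hk, hkc⟩ := (Nat.dvd_prime_pow hs.prime₂).mp hcard
      have hk0 : k ≠ 0 := fun e => hW0 (AddSubgroup.eq_bot_of_card_eq _ (by rw [hkc, e, pow_zero]))
      have hkq : k ≠ q := fun e => hW1 (AddSubgroup.eq_top_of_card_eq _ (by
        rw [hkc, e]; exact hf.card_fit.symm))
      letI : MulAction U {w : W // w ≠ 0} :=
        { smul := fun u w => ⟨⟨act u w.1.1, hW u _ w.1.2⟩, fun e => w.2 (by
            apply Subtype.ext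
            apply Additive.toMul.injective
            apply Subtype.ext
            have := congrArg (fun x : W => ((x : Additive P).toMul : G)) e
            simp only [hact, AddSubgroup.coe_zero, toMul_zero, OneMemClass.coe_one] at this
            simpa using conj_eq_one_iff.mp this)⟩
          one_smul := fun w => by
            apply Subtype.ext; apply Subtype.ext
            apply Additive.toMul.injective; apply Subtype.ext
            show ((1 : U) : G) * _ * ((1 : U) : G)⁻¹ = _
            simp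
          mul_smul := fun g h w => by
            apply Subtype.ext; apply Subtype.ext
            apply Additive.toMul.injective; apply Subtype.ext
            show ((g * h : U) : G) * _ * ((g * h : U) : G)⁻¹ = (g : G) * ((h : G) * _ * (h : G)⁻¹) * (g : G)⁻¹
            simp [mul_assoc] }
      have hfree : ∀ w : {w : W // w ≠ 0}, MulAction.stabilizer U w = ⊥ := fun w => by
        rw [eq_bot_iff]
        intro u hu
        rw [MulAction.mem_stabilizer_iff] at hu
        rw [Subgroup.mem_bot]
        by_contra hu1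
        have hc : (u : G) * (w.1.1.toMul : G) * (u : G)⁻¹ = (w.1.1.toMul : G) :=
          congrArg (fun x : {w : W // w ≠ 0} => ((x.1 : Additive P).toMul : G)) hu
        refine w.2 (Subtype.ext ?_)
        apply Additive.toMul.injective
        apply Subtype.ext
        exact hf.fpf u u.2 (fun e => hu1 (Subtype.ext e)) _ w.1.1.toMul.2 (mul_inv_eq_iff_eq_mul.mp hc)
      have hd : Nat.card U ∣ p ^ k - 1 := by
        have h1 : Nat.card {w : W // w ≠ 0} = p ^ k - 1 := by
          have : Fintype W := Fintype.ofFinite W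
          rw [Nat.card_eq_fintype_card, Fintype.card_subtype_compl, Fintype.card_subtype_eq,
            ← Nat.card_eq_fintype_card, hkc]
        rw [← h1, Nat.card_congr (MulAction.selfEquivSigmaOrbits U {w : W // w ≠ 0})]
        have h2 : ∀ o : Quotient (MulAction.orbitRel U {w : W // w ≠ 0}),
            Nat.card (MulAction.orbit U o.out) = Nat.card U := fun o => by
          rw [Nat.card_congr (MulAction.orbitEquivQuotientStabilizer U o.out), hfree, ← Subgroup.index_eq_card,
            Subgroup.index_bot]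
        have : Fintype (Quotient (MulAction.orbitRel U {w : W // w ≠ 0})) := Fintype.ofFinite _
        rw [Nat.card_sigma, Finset.sum_congr rfl fun o _ => h2 o, Finset.sum_const, smul_eq_mul]
        exact dvd_mul_left _ _
      have hU : Nat.card U ∣ p ^ q - 1 := hf.card_U ▸ dvd_mul_right _ _
      have hg := dvd_sub_one_of_dvd_pow hs.prime₂.one_lt hU hd
      have hcop : Nat.gcd q k = 1 := by
        refine (hs.prime₁.coprime_iff_not_dvd.mpr fun hdvd => ?_)
        have := Nat.le_of_dvd (Nat.pos_of_ne_zero hk0) hdvd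
        exact hkq (le_antisymm hk this)
      rw [hcop, pow_one] at hg
      have hle := Nat.le_of_dvd (by have := hs.prime₂.two_le; omega) hg
      have h1 : Nat.card U * (p - 1) ≤ (p - 1) * (p - 1) := Nat.mul_le_mul_right _ hle
      rw [show Nat.card U * (p - 1) = p ^ q - 1 from hf.card_U] at h1
      have h2 : p ^ 2 ≤ p ^ q := Nat.pow_le_pow_right hs.prime₂.pos hs.prime₁.two_le
      have h3 : (p - 1) * (p - 1) < p ^ 2 - 1 := by
        have := hs.prime₂.two_le
        obtain ⟨m, hm⟩ : ∃ m, p = m + 1 := ⟨p - 1, by omega⟩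
        have hm1 : 1 ≤ m := by omega
        rw [hm, Nat.add_sub_cancel, pow_two]
        have : (m + 1) * (m + 1) = m * m + 2 * m + 1 := by ring
        omega
      omega) hε0
  haveI : Fintype (GaloisField p q) := Fintype.ofFinite _
  refine ⟨GaloisField p q, inferInstance, inferInstance,
    fun x => if hx : x ∈ P then E (Additive.ofMul ⟨x, hx⟩) else 0,
    fun u => if hu : u ∈ U then χ ⟨u, hu⟩ else 0, ?_, ⟨fun _ _ => Set.mem_univ _, ?_, ?_⟩, ?_, ?_, ?_, ?_, ?_⟩
  · rw [← Nat.card_eq_fintype_card, GaloisField.card p q hq0]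
  · intro x hx y hy e
    simp only [SetLike.mem_coe] at hx hy
    simp only [dif_pos hx, dif_pos hy] at e
    exact congrArg (fun a : Additive P => (a.toMul : G)) (E.injective e)
  · intro z _
    refine ⟨((E.symm z).toMul : G), (E.symm z).toMul.2, ?_⟩
    simp
  · intro x hx y hy
    dsimp only
    rw [dif_pos (mul_mem hx hy), dif_pos hx, dif_pos hy, ← map_add]
    rfl
  · intro u hu
    dsimp only
    rw [dif_pos hu]
    refine ⟨fun e => ?_, fun x hx => ?_⟩
    · have := hχ ⟨u, hu⟩ (E.symm 1)
      rw [e, zero_mul, ← map_zero E] at this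
      have h0 := congrArg (fun a : Additive P => (a.toMul : G)) (E.injective this)
      simp only [hact, toMul_zero, OneMemClass.coe_one] at h0
      have h1 : E.symm 1 = 0 := by
        apply Additive.toMul.injective
        apply Subtype.ext
        simpa using conj_eq_one_iff.mp h0
      exact one_ne_zero (α := GaloisField p q) (by simpa using congrArg E h1)
    · rw [dif_pos (hnU u hu x hx), dif_pos hx, ← hχ]
      rfl
  · intro u hu v hv
    dsimp only
    rw [dif_pos (mul_mem hu hv), dif_pos hu, dif_pos hv, ← map_mul]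
    rfl
  · intro u hu v hv e
    simp only [SetLike.mem_coe] at hu hv
    simp only [dif_pos hu, dif_pos hv] at e
    by_contra hne
    have h1 : act ⟨u, hu⟩ ε = act ⟨v, hv⟩ ε := E.injective (by rw [hχ, hχ, e])
    have h2 : u * g₀ * u⁻¹ = v * g₀ * v⁻¹ := congrArg (fun a : Additive P => (a.toMul : G)) h1
    refine hg₀1 (hf.fpf (v⁻¹ * u) (mul_mem (inv_mem hv) hu) (fun e => hne ?_) g₀ hg₀P ?_)
    · exact (inv_mul_eq_one.mp e).symm
    · calc v⁻¹ * u * g₀ = v⁻¹ * (u * g₀ * u⁻¹) * u := by group
        _ = v⁻¹ * (v * g₀ * v⁻¹) * u := by rw [h2]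
        _ = g₀ * (v⁻¹ * u) := by group
  · intro x hx hxp
    dsimp only at hxp
    rw [dif_pos hx] at hxp
    -- the roots of `X ^ p - X` are the prime field
    have hroot : ∀ z : GaloisField p q, z ^ p = z → ∃ n : ℕ, z = (n : GaloisField p q) := by
      intro z hz
      have hb : z ∈ (⊥ : Subfield (GaloisField p q)) := (Subfield.mem_bot_iff_pow_eq_self _ p).mpr hz
      rw [← ZMod.fieldRange_castHom_eq_bot p] at hb
      obtain ⟨c, hc⟩ := hb
      exact ⟨c.val, by rw [← hc, ZMod.castHom_apply, ZMod.cast_eq_val]⟩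
    obtain ⟨n, hn⟩ := hroot _ hxp
    have h1 : E (Additive.ofMul ⟨x, hx⟩) = E (n • ε) := by rw [hn, map_nsmul, hE, nsmul_one]
    have h2 := congrArg (fun a : Additive P => (a.toMul : G)) (E.injective h1)
    simp only [toMul_ofMul, toMul_nsmul, SubgroupClass.coe_pow] at h2
    rw [h2]
    exact pow_mem hg₀ n

variable {S T V : Subgroup G}

/-- **Appendix C**: the final step. -/
theorem appendixC (h : Pair S T W₁ W₂ U V) (hf : Full S W₁ U W₂)
    (hQ : IsMulCommutative (Cfsg.fittingHallOf T)) {y : G} (hy : y ∈ Cfsg.fittingHallOf T)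
    (hyU : W₂.map (MulAut.conj y).toMonoidHom ≤ Subgroup.normalizer (U : Set G)) : False := by
  obtain ⟨F, _, _, f, ψ, hcard, hbij, hadd, hψ, hmul, hinj, hfix⟩ := hf.exists_field h.sideS
  haveI : Fact (Nat.card W₂).Prime := ⟨h.sideS.prime₂⟩
  haveI : Fact (Nat.card W₁).Prime := ⟨h.sideS.prime₁⟩
  refine absurd ?_ h.lt.not_ge
  exact Cfsg.Agent.S1472.result (Nat.card W₂) (Nat.card W₁) hf.coprime F hcard (Cfsg.fittingHallOf S) U
    (Cfsg.fittingHallOf T) f ψ hbij hadd
    ((TP.U_le h.sideS.typeP).trans Basic.le_normalizer_fittingHallOf) hψ hmul hinj hf.card_U hQ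
    (TP.coprime_fit_W₁ h.sideT.typeP)
    (fun x hx hxp => (Basic.le_normalizer_fittingHallOf (M := T))
      (TP.W₁_le h.sideT.typeP (hfix x hx hxp)))
    y hy (fun x hx hxp => hyU ⟨x, hfix x hx hxp, rfl⟩)

end CfsgLib.OddOrder.Final
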