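import Mathlib

set_option autoImplicit false

/-!
Arithmetic of the inequality.
-/

namespace CfsgLib.OddOrder.Final.Numeric

/-- Both sides with two irreducible members each. -/
theorem both {q p N N' : ℕ} (hq : 3 ≤ q) (hp : q + 2 ≤ p) (hN : 2 ≤ N) (hN' : 2 ≤ N') :
    (p : ℝ) / (p - 1 + q * N) + (q : ℝ) / (q - 1 + p * N') < 1 := by
  have h1 : (3 : ℝ) ≤ q := by exact_mod_cast hq
  have h2 : (q : ℝ) + 2 ≤ p := by exact_mod_cast hp
  have h3 : (p : ℝ) / (p - 1 + q * N) ≤ p / (p - 1 + q * 2) := by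
    apply div_le_div_of_nonneg_left (by linarith) (by linarith)
    have : (2 : ℝ) ≤ N := by exact_mod_cast hN
    nlinarith
  have h4 : (q : ℝ) / (q - 1 + p * N') ≤ q / (q - 1 + p * 2) := by
    apply div_le_div_of_nonneg_left (by linarith) (by linarith)
    have : (2 : ℝ) ≤ N' := by exact_mod_cast hN'
    nlinarith
  refine lt_of_le_of_lt (add_le_add h3 h4) ?_
  rw [div_add_div _ _ (by linarith) (by linarith),
    div_lt_one (mul_pos (by linarith) (by linarith))]
  nlinarith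

/-- Only the side with the larger complement has irreducible members. -/
theorem large_only {q p N' u v : ℕ} (hq : 3 ≤ q) (hp : q + 2 ≤ p) (hN' : 2 ≤ N') (hv : 2 * p + 1 ≤ v)
    (hu : p ^ 2 ≤ u) :
    (p : ℝ) / (p - 1) + (q : ℝ) / (q - 1 + p * N') + p / (4 * u) + q / (4 * v) < 2 := by
  have h1 : (3 : ℝ) ≤ q := by exact_mod_cast hq
  have h2 : (q : ℝ) + 2 ≤ p := by exact_mod_cast hp
  have e1 : (p : ℝ) / (p - 1) ≤ 5 / 4 := by rw [div_le_div_iff₀ (by linarith) (by norm_num)]; linarith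
  have e2 : (q : ℝ) / (q - 1 + p * N') ≤ 1 / 2 := by
    have : (2 : ℝ) ≤ N' := by exact_mod_cast hN'
    rw [div_le_div_iff₀ (by nlinarith) (by norm_num)]
    nlinarith
  have e3 : (p : ℝ) / (4 * u) ≤ 1 / 20 := by
    have : (p : ℝ) ^ 2 ≤ u := by exact_mod_cast hu
    rw [div_le_div_iff₀ (by nlinarith) (by norm_num)]
    nlinarith
  have e4 : (q : ℝ) / (4 * v) ≤ 1 / 8 := by
    have : 2 * (p : ℝ) + 1 ≤ v := by exact_mod_cast hv
    rw [div_le_div_iff₀ (by nlinarith) (by norm_num)]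
    nlinarith
  linarith

/-- The three shapes of the orbit count on the side with the smaller complement: `k (p - 1)` orbits of
regular pairs of size `u`, with `u ≡ 1 (mod 2 q)`. -/
def Shape (q p k u : ℕ) : Prop :=
  2 * q ∣ u - 1 ∧ 1 < u ∧
    ((3 ≤ k ∧ k * u = (p ^ q - 1) / (p - 1)) ∨ (4 ≤ k ∧ k * u = (p - 1) ^ (q - 1)) ∨
      (k = q + 1 ∧ (p ^ q - 1) / (p - 1) ≤ u))

theorem Shape.two_q_lt {q p k u : ℕ} (h : Shape q p k u) : 2 * q + 1 ≤ u := by
  obtain ⟨hd, h1, -⟩ := h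
  have := Nat.le_of_dvd (by omega) hd
  omega

theorem geom_ge {q p : ℕ} (hq : 3 ≤ q) (hp : 1 < p) : p ^ 2 + p + 1 ≤ (p ^ q - 1) / (p - 1) := by
  rw [← Nat.geomSum_eq hp]
  calc p ^ 2 + p + 1 = ∑ i ∈ Finset.range 3, p ^ i := by simp [Finset.sum_range_succ]; ring
    _ ≤ _ := Finset.sum_le_sum_of_subset (Finset.range_subset_range.mpr hq)

/-- The inequality `q/(q-1) + p/(k(p-1)) + p/(4u) < 2 - 1/108` for at most twenty orbit classes. -/
theorem small_k {q p k u : ℕ} (hqp : Nat.Prime q) (hpp : Nat.Prime p) (hq : 3 ≤ q) (hp : q + 2 ≤ p)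
    (hsh : Shape q p k u) (hk : k ≤ 20) :
    (q : ℝ) / (q - 1) + p / (k * ((p : ℝ) - 1)) + p / (4 * u) < 2 - 1 / 108 := by
  have hu7 := hsh.two_q_lt
  obtain ⟨hd, hu1, hsh'⟩ := hsh
  have hcase : (3 ≤ k ∧ (p ^ q - 1) / (p - 1) ≤ k * u ∧
        (p = 5 → q = 3 → k * u = 31 ∨ k = 4 ∧ 31 ≤ u)) ∨
      (4 ≤ k ∧ (p - 1) ^ (q - 1) ≤ k * u ∧ (p ≤ 13 → q = 3 → k * u = (p - 1) ^ 2)) := by
    rcases hsh' with ⟨h, e⟩ | ⟨h, e⟩ | ⟨h, e⟩
    · refine Or.inl ⟨h, e.ge, fun h5 h3 => Or.inl ?_⟩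
      subst h5 h3
      simpa using e
    · refine Or.inr ⟨h, e.ge, fun _ h3 => ?_⟩
      subst h3
      simpa using e
    · refine Or.inl ⟨by omega, e.trans (Nat.le_mul_of_pos_left u (by omega)), fun h5 h3 => Or.inr ?_⟩
      subst h5 h3
      exact ⟨h, by simpa using e⟩
  have h1 : (3 : ℝ) ≤ q := by exact_mod_cast hq
  have h2 : (q : ℝ) + 2 ≤ p := by exact_mod_cast hp
  have hu0 : (0 : ℝ) < u := by exact_mod_cast (show 0 < u by omega)
  have hk3 : 3 ≤ k := by rcases hcase with h | h <;> omega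
  have hk3' : (3 : ℝ) ≤ k := by exact_mod_cast hk3
  have hL : (p : ℝ) / (k * ((p : ℝ) - 1)) ≤ 5 / 12 := by
    rw [div_le_div_iff₀ (by nlinarith) (by norm_num)]
    nlinarith
  rcases lt_or_ge 4 q with hq5 | hq4
  · have hq5' : (5 : ℝ) ≤ q := by exact_mod_cast hq5
    have e1 : (q : ℝ) / (q - 1) ≤ 5 / 4 := by rw [div_le_div_iff₀ (by linarith) (by norm_num)]; linarith
    have hbig : (p - 1) ^ 4 ≤ k * u := by
      have hpow : (p - 1) ^ 4 ≤ (p - 1) ^ (q - 1) := Nat.pow_le_pow_right (by omega) (by omega)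
      rcases hcase with ⟨-, h, -⟩ | ⟨-, h, -⟩
      · refine le_trans ?_ h
        rw [← Nat.geomSum_eq (by omega)]
        refine le_trans hpow (le_trans (Nat.pow_le_pow_left (Nat.sub_le _ _) _) ?_)
        exact Finset.single_le_sum (fun i _ => Nat.zero_le (p ^ i)) (Finset.mem_range.mpr (by omega))
      · exact hpow.trans h
    have e2 : (p : ℝ) / (4 * u) ≤ 1 / 20 := by
      have h7 : (7 : ℝ) ≤ p := by linarith
      have h3 : ((p - 1 : ℕ) : ℝ) ^ 4 ≤ k * u := by exact_mod_cast hbig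
      rw [Nat.cast_sub (by omega), Nat.cast_one] at h3
      have h4 : (k : ℝ) * u ≤ 20 * u := by
        have : (k : ℝ) ≤ 20 := by exact_mod_cast hk
        nlinarith
      rw [div_le_div_iff₀ (by positivity) (by norm_num)]
      nlinarith [pow_le_pow_left₀ (by norm_num) (show (6 : ℝ) ≤ (p : ℝ) - 1 by linarith) 3]
    linarith
  have hq3 : q = 3 := by
    rcases (show q = 3 ∨ q = 4 by omega) with h | h
    · exact h
    · subst h; norm_num at hqp
  subst hq3
  suffices hs : (p : ℝ) / (k * ((p : ℝ) - 1)) + p / (4 * u) < 53 / 108 by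
    rw [show ((3 : ℕ) : ℝ) / (((3 : ℕ) : ℝ) - 1) = 3 / 2 by norm_num]
    linarith
  -- `p / (k (p - 1)) + p / (4 u) < 53/108`
  rcases le_or_gt p 13 with hp13 | hp13
  · have hu6 : 6 ∣ u - 1 := hd
    rcases (show p = 5 ∨ p = 7 ∨ p = 11 ∨ p = 13 by
      interval_cases p <;> first | omega | norm_num at hpp) with rfl | rfl | rfl | rfl
    · rcases hcase with ⟨h3, -, h⟩ | ⟨h4, -, h⟩
      · rcases h rfl rfl with h' | ⟨rfl, h'⟩
        · exfalso
          have : u ∣ 31 := ⟨k, by rw [← h']; ring⟩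
          rcases (Nat.dvd_prime (by norm_num)).mp this with e | e <;> subst e <;> omega
        · have h31 : (31 : ℝ) ≤ u := by exact_mod_cast h'
          rw [div_add_div _ _ (by norm_num) (by nlinarith), div_lt_iff₀ (mul_pos (by norm_num) (by nlinarith))]
          norm_num
          nlinarith
      · exfalso
        have h' := h (by norm_num) rfl
        norm_num at h'
        have hu16 : u ≤ 4 := by nlinarith
        omega
    · rcases hcase with ⟨h3, h, -⟩ | ⟨h4, -, h⟩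
      · norm_num at h
        simp only [Nat.cast_ofNat]
        have h' : (57 : ℝ) ≤ k * u := by exact_mod_cast h
        have h7 : (7 : ℝ) ≤ u := by exact_mod_cast hu7
        rw [div_add_div _ _ (by nlinarith) (by nlinarith), div_lt_iff₀ (mul_pos (by nlinarith) (by nlinarith))]
        rcases le_or_gt (k : ℝ) 8 with h8 | h8 <;> nlinarith
      · exfalso
        have h' := h (by norm_num) rfl
        norm_num at h'
        have hu9 : u ≤ 9 := by nlinarith
        interval_cases u <;> omega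
    · have h' : (100 : ℝ) ≤ k * u := by
        rcases hcase with ⟨-, h, -⟩ | ⟨-, h, -⟩ <;> norm_num at h <;> exact_mod_cast (show 100 ≤ k * u by omega)
      have h7 : (7 : ℝ) ≤ u := by exact_mod_cast hu7
      simp only [Nat.cast_ofNat]
      rcases (show k = 3 ∨ 4 ≤ k by omega) with rfl | hk4
      · rcases hcase with ⟨-, h, -⟩ | ⟨h, -, -⟩
        · norm_num at h
          have : (133 : ℝ) ≤ 3 * u := by exact_mod_cast h
          rw [div_add_div _ _ (by nlinarith) (by nlinarith), div_lt_iff₀ (mul_pos (by nlinarith) (by nlinarith))]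
          norm_num
          nlinarith
        · omega
      · have hk4' : (4 : ℝ) ≤ k := by exact_mod_cast hk4
        rw [div_add_div _ _ (by nlinarith) (by nlinarith), div_lt_iff₀ (mul_pos (by nlinarith) (by nlinarith))]
        rcases le_or_gt (k : ℝ) 14 with h8 | h8 <;> nlinarith
    · rcases hcase with ⟨h3, h, -⟩ | ⟨h4, -, h⟩
      · norm_num at h
        simp only [Nat.cast_ofNat]
        have h' : (183 : ℝ) ≤ k * u := by exact_mod_cast h
        have hk20 : (k : ℝ) ≤ 20 := by exact_mod_cast hk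
        rw [div_add_div _ _ (by nlinarith) (by nlinarith), div_lt_iff₀ (mul_pos (by nlinarith) (by nlinarith))]
        nlinarith [mul_nonneg (sub_nonneg.mpr hk3') (sub_nonneg.mpr hk20)]
      · exfalso
        have h' := h (by norm_num) rfl
        norm_num at h'
        have hdvd : u ∣ 144 := ⟨k, by rw [← h']; ring⟩
        have hu36 : u ≤ 36 := by nlinarith
        interval_cases u <;> omega
  · have hp17 : 17 ≤ p := by
      by_contra hh
      have := hpp
      interval_cases p <;> norm_num at this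
    have hR : (p - 1) ^ 2 ≤ k * u := by
      rcases hcase with ⟨-, h, -⟩ | ⟨-, h, -⟩
      · refine le_trans ?_ ((geom_ge le_rfl (by omega)).trans h)
        calc (p - 1) ^ 2 ≤ p ^ 2 := Nat.pow_le_pow_left (Nat.sub_le _ _) _
          _ ≤ _ := by omega
      · simpa using h
    have hR' : ((p : ℝ) - 1) ^ 2 ≤ k * u := by
      have : ((p - 1 : ℕ) : ℝ) ^ 2 ≤ k * u := by exact_mod_cast hR
      rwa [Nat.cast_sub (by omega), Nat.cast_one] at this
    have hp17' : (17 : ℝ) ≤ p := by exact_mod_cast hp17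
    have hk20 : (k : ℝ) ≤ 20 := by exact_mod_cast hk
    -- replace `1/u` by `k / (p - 1)²`
    have e1 : (p : ℝ) / (4 * u) ≤ p * k / (4 * ((p : ℝ) - 1) ^ 2) := by
      rw [div_le_div_iff₀ (by positivity) (by nlinarith)]
      nlinarith
    have e2 : (p : ℝ) / (k * ((p : ℝ) - 1)) ≤ 17 / (16 * k) := by
      rw [div_le_div_iff₀ (by nlinarith) (by positivity)]
      nlinarith
    have e3 : (p : ℝ) * k / (4 * ((p : ℝ) - 1) ^ 2) ≤ 17 * k / 1024 := by
      rw [div_le_div_iff₀ (by nlinarith) (by norm_num)]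
      nlinarith [mul_nonneg (show (0 : ℝ) ≤ (p : ℝ) - 17 by linarith) (show (0 : ℝ) ≤ 17 * p - 16 by linarith)]
    have e4 : (17 : ℝ) / (16 * k) + 17 * k / 1024 < 53 / 108 := by
      rw [div_add_div _ _ (by positivity) (by norm_num), div_lt_iff₀ (mul_pos (by nlinarith) (by norm_num))]
      nlinarith [mul_nonneg (sub_nonneg.mpr hk3') (sub_nonneg.mpr hk20)]
    linarith

/-- More than twenty orbit classes: the inequality with the loss factor `1/4`. -/
theorem large_k {q p k : ℕ} (hq : 3 ≤ q) (hp : q + 2 ≤ p) (hp5 : p ≠ 5) (hp6 : p ≠ 6) (hk : 20 < k) :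
    (4 : ℝ) / 3 * (1 / ((q : ℝ) - 1) + p / (k * ((p : ℝ) - 1))) + 4 * (p / (k * ((p : ℝ) - 1))) +
      1 / (p : ℝ) ^ 2 < 1 - 1 / 108 := by
  have h1 : (3 : ℝ) ≤ q := by exact_mod_cast hq
  have h2 : (7 : ℝ) ≤ p := by exact_mod_cast (show 7 ≤ p by omega)
  have h3 : (21 : ℝ) ≤ k := by exact_mod_cast hk
  have e1 : (1 : ℝ) / ((q : ℝ) - 1) ≤ 1 / 2 := by
    rw [div_le_div_iff₀ (by linarith) (by norm_num)]; linarith
  have e2 : (p : ℝ) / (k * ((p : ℝ) - 1)) ≤ 1 / 18 := by
    rw [div_le_div_iff₀ (by nlinarith) (by norm_num)]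
    nlinarith
  have e3 : (1 : ℝ) / (p : ℝ) ^ 2 ≤ 1 / 49 := by
    rw [div_le_div_iff₀ (by positivity) (by norm_num)]; nlinarith
  linarith

/-- More than twenty orbit classes do not occur for `p = 5`. -/
theorem Shape.ne_five {q p k u : ℕ} (hq : 3 ≤ q) (hp : q + 2 ≤ p) (h : Shape q p k u) (hk : 20 < k) :
    p ≠ 5 := by
  rintro rfl
  have hq3 : q = 3 := by omega
  subst hq3
  obtain ⟨hd, h1, hcase⟩ := h
  rcases hcase with ⟨-, h⟩ | ⟨-, h⟩ | ⟨h, -⟩ <;> [skip; skip; omega] <;> norm_num at h <;> nlinarith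

/-- The combination of the engine inequalities when one side is estimated with the loss factor `1/4`. -/
theorem combine {K iq ip tS tT mS mT d L lT r meT P2 c : ℝ} (hK : 0 < K)
    (e1 : K + (1 - iq) * (1 - ip) + mS + mT ≤ 1 + tS + tT) (e2 : (1 - iq) * (1 - ip) + mS + mT ≤ 1)
    (e3 : tS ≤ d + 4 / 3 * (mS - (iq - L * K)) + 4 * (L * K))
    (e4 : tT + (ip - lT * K) ≤ mT + meT / 4) (e5 : ip - lT * K ≤ mT) (hiK : iq * ip = K)
    (hlT : lT ≤ 1 + r) (hd : d ≤ P2 * K) (hm : meT ≤ 4 * (c * K))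
    (hn : 4 / 3 * (r + L) + 4 * L + P2 + c < 1) : False := by
  have h1 : lT * K ≤ (1 + r) * K := mul_le_mul_of_nonneg_right hlT hK.le
  have h2 : (4 / 3 * (r + L) + 4 * L + P2 + c) * K < 1 * K := mul_lt_mul_of_pos_right hn hK
  have h3 : (1 - iq) * (1 - ip) = 1 - iq - ip + K := by linear_combination hiK
  linarith

end CfsgLib.OddOrder.Final.Numeric
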