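import Cfsg.Agent.Lib.OddOrder.Final.Bound
import Cfsg.Agent.Lib.OddOrder.Final.Numeric
import Mathlib

set_option autoImplicit false

/-!
No irreducible members: the three contradictions. `W₁` is the smaller complement, that of the side `S`.
-/

namespace CfsgLib.OddOrder.Final.NoXi

open CfsgLib.Char
open Engine (tot mass meas)
open Test (Members weight)

variable {G : Type*} [Group G] [Fintype G] {W₁ W₂ S T : Subgroup G} [Fintype S] [Fintype T]
  {χ : (↥(W₁ ⊔ W₂) →* ℂˣ) → (G → ℂ)} {A B : Set G} {f g : ↥(W₁ ⊔ W₂) →* ℂˣ}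
  {ι κ ι' κ' : Type*} [Fintype ι] [Fintype κ] [Fintype ι'] [Fintype κ']
  {μ : ι → S → ℂ} {ξ : κ → S → ℂ} {μ' : ι' → T → ℂ} {ξ' : κ' → T → ℂ} {j₀ : ι} {j₀' : ι'} {δ δ' : ℂ} {q p : ℕ}

/-- The common situation. -/
structure Data (W₁ W₂ S T : Subgroup G) [Fintype S] [Fintype T] (χ : (↥(W₁ ⊔ W₂) →* ℂˣ) → (G → ℂ))
    (f g : ↥(W₁ ⊔ W₂) →* ℂˣ) (A B : Set G) (μ : ι → S → ℂ) (ξ : κ → S → ℂ) (μ' : ι' → T → ℂ)
    (ξ' : κ' → T → ℂ) (j₀ : ι) (j₀' : ι') (δ δ' : ℂ) (q p : ℕ) : Prop where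
  sides : Bound.Sides W₁ W₂ S T A B
  family : Cfsg.IsCyclicTIFamily W₁ W₂ χ
  left : ∀ w : ↥(W₁ ⊔ W₂), (w : G) ∈ W₂ → f w = 1
  right : ∀ w : ↥(W₁ ⊔ W₂), (w : G) ∈ W₁ → g w = 1
  left_ne : f ≠ 1
  right_ne : g ≠ 1
  cardq : Nat.card W₁ = q
  cardp : Nat.card W₂ = p
  q_ge : 3 ≤ q
  p_ge : q + 2 ≤ p
  mem : Members (χ (f * g)) ι κ μ ξ A q j₀ δ
  mem' : Members (χ (f * g)) ι' κ' μ' ξ' B p j₀' δ'
  cardμ : Fintype.card ι = p - 1
  cardμ' : Fintype.card ι' = q - 1

theorem weight_mul {ι κ : Type*} [Fintype ι] [Fintype κ] {q : ℕ} (hq : 0 < q) :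
    (q : ℝ) * weight ι κ q = Fintype.card ι + q * Fintype.card κ := by
  have : (q : ℝ) ≠ 0 := Nat.cast_ne_zero.mpr hq.ne'
  rw [weight]
  field_simp

/-- `loss · pq`. -/
theorem loss_eq {ι κ : Type*} [Fintype ι] [Fintype κ] {q p : ℕ} (hq : 0 < q) (hp : 0 < p) :
    1 / ((q : ℝ) ^ 2 * weight ι κ q) =
      ((p : ℝ) / (Fintype.card ι + q * Fintype.card κ)) * ((q : ℝ) * p)⁻¹ := by
  have h1 : (p : ℝ) ≠ 0 := Nat.cast_ne_zero.mpr hp.ne'
  rw [← weight_mul hq]
  field_simp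

variable (d : Data W₁ W₂ S T χ f g A B μ ξ μ' ξ' j₀ j₀' δ δ' q p)
include d

/-- **Both sides have irreducible members.** -/
theorem both (hN : 2 ≤ Fintype.card κ) (hN' : 2 ≤ Fintype.card κ') : False := by
  have hq := d.q_ge
  have hp := d.p_ge
  have h := Bound.both d.sides d.family (Bound.mul_ne_one d.left d.right d.left_ne)
    (Test.exists_test d.mem (by omega)) (Test.exists_test d.mem' (by omega))
  rw [d.cardq, d.cardp, loss_eq (p := p) (by omega) (by omega), loss_eq (p := q) (by omega) (by omega),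
    mul_comm (p : ℝ) (q : ℝ), d.cardμ, d.cardμ', Nat.cast_sub (by omega), Nat.cast_sub (by omega)] at h
  simp only [Nat.cast_one, one_div] at h
  have hn := Numeric.both hq hp hN hN'
  have hpos : (0 : ℝ) < ((q : ℝ) * p)⁻¹ := by
    have : (0 : ℝ) < q := by exact_mod_cast (show 0 < q by omega)
    have : (0 : ℝ) < p := by exact_mod_cast (show 0 < p by omega)
    positivity
  nlinarith

/-- **Only the side with the larger complement has irreducible members.** -/
theorem large_only (hN' : 2 ≤ Fintype.card κ') {u v : ℕ} (hv : 2 * p + 1 ≤ v) (hu : p ^ 2 ≤ u)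
    (hA : meas S A ≤ 1 / ((q : ℝ) * u)) (hB : meas T B ≤ 1 / ((p : ℝ) * v)) : False := by
  have hq := d.q_ge
  have hp := d.p_ge
  have hq0 : (0 : ℝ) < q := by exact_mod_cast (show 0 < q by omega)
  have hp0 : (0 : ℝ) < p := by exact_mod_cast (show 0 < p by omega)
  have hu0 : (0 : ℝ) < u := by exact_mod_cast (show 0 < u by nlinarith)
  have hv0 : (0 : ℝ) < v := by exact_mod_cast (show 0 < v by omega)
  have h := Bound.two_tests d.sides d.family d.left d.right d.left_ne d.right_ne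
    (Test.exists_test d.mem (by omega)) (Test.exists_test d.mem' (by omega))
  rw [d.cardq, d.cardp, loss_eq (p := p) (by omega) (by omega), loss_eq (p := q) (by omega) (by omega),
    mul_comm (p : ℝ) (q : ℝ), d.cardμ, d.cardμ', Nat.cast_sub (by omega), Nat.cast_sub (by omega)] at h
  simp only [Nat.cast_one, one_div] at h
  have hn := Numeric.large_only hq hp hN' hv hu
  have e : (p : ℝ) / ((p : ℝ) - 1 + q * Fintype.card κ) ≤ p / ((p : ℝ) - 1) := by
    apply div_le_div_of_nonneg_left hp0.le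
    · have : (5 : ℝ) ≤ p := by exact_mod_cast (show 5 ≤ p by omega)
      linarith
    · nlinarith
  have hm1 : meas S A ≤ 4 * (((p : ℝ) / (4 * u)) * ((q : ℝ) * p)⁻¹) := hA.trans (le_of_eq (by field_simp))
  have hm2 : meas T B ≤ 4 * (((q : ℝ) / (4 * v)) * ((q : ℝ) * p)⁻¹) := hB.trans (le_of_eq (by field_simp))
  have hpos : (0 : ℝ) < ((q : ℝ) * p)⁻¹ := by positivity
  nlinarith

/-- **Only the side with the smaller complement has irreducible members.** -/
theorem small_only (hqp : q.Prime) (hpp : p.Prime) {k u v : ℕ} (hsh : Numeric.Shape q p k u)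
    (hk : p - 1 + q * Fintype.card κ = k * (p - 1)) (hv : q ^ (p - 1) ≤ v)
    (hA : meas S A ≤ 1 / ((q : ℝ) * u)) (hB : meas T B ≤ 1 / ((p : ℝ) * v))
    (hoff : ∀ a : S, (a : G) ∉ A → a ≠ 1 → μ j₀ a = 0) (F : Subgroup S) (hAF : ∀ a : S, (a : G) ∈ A → a ∈ F)
    (hf : Cfsg.IsGeneralizedCharacter F fun a => χ (f * g) (a : S) - δ / q * μ j₀ a)
    (hd : ‖μ j₀ 1‖ / ((q : ℝ) * Nat.card S) ≤ 1 / ((q : ℝ) * (p : ℝ) ^ 3)) : False := by
  have hq := d.q_ge
  have hp := d.p_ge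
  have hq0 : (0 : ℝ) < q := by exact_mod_cast (show 0 < q by omega)
  have hp0 : (0 : ℝ) < p := by exact_mod_cast (show 0 < p by omega)
  have hu0 : (0 : ℝ) < u := by
    have := hsh.2.1
    exact_mod_cast (show 0 < u by omega)
  have hv0 : (0 : ℝ) < v := by
    exact_mod_cast (lt_of_lt_of_le (pow_pos (show 0 < q by omega) _) hv)
  have hp6 : p ≠ 6 := fun e => by rw [e] at hpp; norm_num at hpp
  have hk1 : ((p : ℝ) - 1 + q * Fintype.card κ) = k * ((p : ℝ) - 1) := by
    have := congrArg (Nat.cast : ℕ → ℝ) hk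
    push_cast [Nat.cast_sub (show 1 ≤ p by omega)] at this
    linarith
  have hpos : (0 : ℝ) < ((q : ℝ) * p)⁻¹ := by positivity
  have hvbig : (q : ℝ) / (4 * v) ≤ 1 / 108 := by
    have h4 : q ^ 3 * q ≤ v := by
      rw [← pow_succ]
      exact (Nat.pow_le_pow_right (by omega) (by omega)).trans hv
    have h3 : 3 ^ 3 * q ≤ v := (Nat.mul_le_mul_right _ (Nat.pow_le_pow_left hq 3)).trans h4
    have h' : (27 : ℝ) * q ≤ v := by exact_mod_cast (by simpa using h3)
    rw [div_le_div_iff₀ (by positivity) (by norm_num)]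
    linarith
  have hm2 : meas T B ≤ 4 * (((q : ℝ) / (4 * v)) * ((q : ℝ) * p)⁻¹) := hB.trans (le_of_eq (by field_simp))
  have hlT : (q : ℝ) / ((q : ℝ) - 1 + p * Fintype.card κ') ≤ q / ((q : ℝ) - 1) := by
    apply div_le_div_of_nonneg_left hq0.le
    · have : (3 : ℝ) ≤ q := by exact_mod_cast hq
      linarith
    · nlinarith
  rcases le_or_gt k 20 with hk20 | hk20
  · have h := Bound.two_tests d.sides d.family d.left d.right d.left_ne d.right_ne
      (Test.exists_test d.mem (by omega)) (Test.exists_test d.mem' (by omega))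
    rw [d.cardq, d.cardp, loss_eq (p := p) (by omega) (by omega), loss_eq (p := q) (by omega) (by omega),
      mul_comm (p : ℝ) (q : ℝ), d.cardμ, d.cardμ', Nat.cast_sub (by omega), Nat.cast_sub (by omega)] at h
    simp only [Nat.cast_one, one_div] at h
    rw [hk1] at h
    have hn := Numeric.small_k hqp hpp hq hp hsh hk20
    have hm1 : meas S A ≤ 4 * (((p : ℝ) / (4 * u)) * ((q : ℝ) * p)⁻¹) := hA.trans (le_of_eq (by field_simp))
    nlinarith
  · obtain ⟨Q, hQ1, hQ2, hQ3, hQ4, hQ5⟩ := Test.exists_test d.mem' (show 0 < p by omega)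
    have hne := Bound.mul_ne_one d.left d.right d.left_ne
    have hcl := IsGeneralizedCharacter.isClassFunction (VSet.family_props d.sides.selfNormalizing d.family hne).1
    have e1 := Bound.engine d.sides d.family d.left d.right d.left_ne d.right_ne
    have e2 := Bound.masses d.sides d.family hne
    have e3 := Test.small hcl d.sides.dadeA d.sides.stableA d.mem (show 0 < q by omega) hoff F hAF hf
      (ε := 1 / 4) (by norm_num) (by norm_num)
    have e4 := Engine.side d.sides.dadeB hcl hQ1 hQ2 hQ3 hQ4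
    have e5 := Engine.side_split d.sides.dadeB hcl hQ1 hQ2 hQ4
    have e6 : (0 : ℝ) ≤ (Nat.card T : ℝ)⁻¹ * ∑ a ∈ Engine.pts T B, ‖χ (f * g) (a : G) - Q a‖ ^ 2 := by positivity
    rw [hQ5] at e4 e5
    rw [d.cardq, d.cardp] at e1 e2
    rw [loss_eq (p := p) (by omega) (by omega), d.cardμ, Nat.cast_sub (by omega), Nat.cast_one, hk1] at e3
    rw [loss_eq (p := q) (by omega) (by omega), mul_comm (p : ℝ) (q : ℝ), d.cardμ', Nat.cast_sub (by omega),
      Nat.cast_one] at e4 e5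
    have hd' : ‖μ j₀ 1‖ / ((q : ℝ) * Nat.card S) ≤ (1 / (p : ℝ) ^ 2) * ((q : ℝ) * p)⁻¹ :=
      hd.trans (le_of_eq (by field_simp))
    have hp5 := hsh.ne_five hq hp hk20
    have hn := Numeric.large_k hq hp hp5 hp6 hk20
    have e7 : (q : ℝ)⁻¹ * (p : ℝ)⁻¹ = ((q : ℝ) * p)⁻¹ := (mul_inv _ _).symm
    have hq1 : (q : ℝ) / ((q : ℝ) - 1) = 1 + 1 / ((q : ℝ) - 1) := by
      have : (q : ℝ) - 1 ≠ 0 := by
        have : (3 : ℝ) ≤ q := by exact_mod_cast hq
        linarith
      field_simp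
      ring
    simp only [one_div] at e2 e3 e4 e5 hd' hn hq1 hvbig
    refine Numeric.combine (iq := (q : ℝ)⁻¹) (ip := (p : ℝ)⁻¹)
      (L := (p : ℝ) / (k * ((p : ℝ) - 1))) (tS := ‖tot S A (χ (f * g))‖) hpos ?_ e2 ?_ e4 (by linarith) e7
      (hlT.trans_eq hq1) hd' hm2 (by linarith)
    · simpa only [mul_inv] using e1
    · refine le_trans e3 ?_
      norm_num

end CfsgLib.OddOrder.Final.NoXi
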