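import Cfsg.Agent.Lib.OddOrder.Final.SideMembers
import Cfsg.Agent.Lib.OddOrder.Final.NoXi
import Cfsg.Agent.Lib.OddOrder.Final.Full

/-!
Both sides of the pair have the extremal shape: `C_U(P̄) = 1` and `U` is cyclic of order `(p^q-1)/(p-1)`.
-/

set_option autoImplicit false

namespace CfsgLib.OddOrder.Final.NoMembers

open CfsgLib.Char CfsgLib.Char.CyclicTI
open Grid (col Setup)
open SideMembers (ColFacts supSet)
open Engine (mem_orbit orbit)

variable {G : Type*} [Group G] [Fintype G] {S T W₁ W₂ U V : Subgroup G}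

/-- A side has a setup with the facts on its columns. -/
def HasSetup (M W₁ U W₂ : Subgroup G) [Fintype M] (χ : (↥(W₁ ⊔ W₂) →* ℂˣ) → (G → ℂ)) : Prop :=
  ∃ (A₀ : Set G) (R : G → Subgroup G) (μ : (↥(W₁ ⊔ W₂) →* ℂˣ) → (M → ℂ))
    (δ : (↥(W₁ ⊔ W₂) →* ℂˣ) → ℂ) (θf : SndChar W₁ W₂ → (↥⁅M, M⁆ → ℂ)),
    Setup M χ A₀ R μ δ ∧ Cfsg.typeA M ⊆ A₀ ∧ (∀ a ∈ Cfsg.typeA M, R a = ⊥) ∧ ColFacts M W₁ U W₂ μ θf

/-- The isomorphism of `W₂ ⊔ W₁` with `W₁ ⊔ W₂`. -/
def swapEquiv (W₁ W₂ : Subgroup G) : ↥(W₁ ⊔ W₂) ≃* ↥(W₂ ⊔ W₁) := MulEquiv.subgroupCongr (sup_comm W₁ W₂)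

omit [Fintype G] in
theorem swapEquiv_coe (w : ↥(W₁ ⊔ W₂)) : ((swapEquiv W₁ W₂ w : ↥(W₂ ⊔ W₁)) : G) = w := rfl

/-- The family in the other orientation. -/
def swapFamily (χ : (↥(W₁ ⊔ W₂) →* ℂˣ) → (G → ℂ)) : (↥(W₂ ⊔ W₁) →* ℂˣ) → (G → ℂ) :=
  fun ω => χ (ω.comp (swapEquiv W₁ W₂).toMonoidHom)

theorem orbit_mono {M : Subgroup G} {A A' : Set G} (h : A' ⊆ A) : orbit M A' ⊆ orbit M A := fun g hg => by
  obtain ⟨a, ha, x, e⟩ := mem_orbit.mp hg
  exact mem_orbit.mpr ⟨a, h ha, x, e⟩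

variable {N N' : Subgroup G} {Θ : Finset (↥⁅S, S⁆ → ℂ)} {Θ' : Finset (↥⁅T, T⁆ → ℂ)} {k k' ub ub' : ℕ}

theorem sides (hG : Cfsg.IsMinSimpleOddOrder G) (h : Pair S T W₁ W₂ U V)
    (hN : S ≤ Subgroup.normalizer (N : Set G)) (hN' : T ≤ Subgroup.normalizer (N' : Set G)) :
    Bound.Sides W₁ W₂ S T (supSet S N) (supSet T N') := by
  have h0 := h.sides hG
  exact ⟨h0.selfNormalizing, h0.nonempty, SideMembers.dade_supSet h0.dadeA hN,
    SideMembers.dade_supSet h0.dadeB hN',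
    SideMembers.stable_supSet hG h.sideS.coatom h.sideS.typeP,
    SideMembers.stable_supSet hG h.sideT.coatom h.sideT.typeP,
    h0.disjVA.mono_right (orbit_mono Set.inter_subset_left),
    h0.disjVB.mono_right (orbit_mono Set.inter_subset_left),
    h0.disjAB.mono (orbit_mono Set.inter_subset_left) (orbit_mono Set.inter_subset_left)⟩

theorem two_le_of_count {p q k N : ℕ} (hq : Odd q) (hp : 3 ≤ p) (hpo : Odd p) (hk : 3 ≤ k)
    (h : p - 1 + q * N = k * (p - 1)) : 2 ≤ N := by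
  have h3 : 3 * (p - 1) ≤ k * (p - 1) := Nat.mul_le_mul_right _ hk
  obtain ⟨a, rfl⟩ := hpo
  rw [Nat.add_sub_cancel] at h h3
  have hN0 : N ≠ 0 := by rintro rfl; omega
  have hN1 : N ≠ 1 := by
    rintro rfl
    obtain ⟨b, rfl⟩ := hq
    have h' : k * (2 * a) = 2 * (k * a) := by ring
    omega
  omega

theorem three_le_of_shape {q p k u : ℕ} (hq : 3 ≤ q) (h : Numeric.Shape q p k u) : 3 ≤ k := by
  rcases h.2.2 with ⟨h, -⟩ | ⟨h, -⟩ | ⟨h, -⟩ <;> omega

theorem two_mul_lt {q u : ℕ} (hd : 2 * q ∣ u - 1) (hu : 1 < u) : 2 * q + 1 ≤ u := by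
  have := Nat.le_of_dvd (by omega) hd
  omega

variable [Fintype S] [Fintype T]

/-- **Neither side has irreducible members.** -/
theorem k_eq_one (hG : Cfsg.IsMinSimpleOddOrder G) (h : Pair S T W₁ W₂ U V)
    {χ : (↥(W₁ ⊔ W₂) →* ℂˣ) → (G → ℂ)} (hχ : Cfsg.IsCyclicTIFamily W₁ W₂ χ)
    (hS : HasSetup S W₁ U W₂ χ) (hT : HasSetup T W₂ V W₁ (swapFamily χ))
    (hs : SideChars S W₁ U W₂ N Θ k ub) (hs' : SideChars T W₂ V W₁ N' Θ' k' ub') :
    k = 1 ∧ k' = 1 := by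
  classical
  obtain ⟨A₀, R, μ, δ, θf, hset, hA₀, hR, hc⟩ := hS
  obtain ⟨A₀', R', μ', δ', θf', hset', hA₀', hR', hc'⟩ := hT
  have hD := (h.sides hG).dadeA
  have hD' := (h.sides hG).dadeB
  obtain ⟨j₀, kS, ε, Ξ, hkS, hmem, hcard, hcount, hdeg, hoff, hgen⟩ := SideMembers.exists_members hs
    h.sideS.typeP hset h.sideS.prime₁ h.sideS.prime₂ hD hA₀ hR (fun x hx => by
      simpa using TP.vset_notMem_derived hG h.sideS.coatom h.sideS.typeP (g := 1) hx) hc
  obtain ⟨j₀', kT, ε', Ξ', hkT, hmem', hcard', hcount', -, -, -⟩ := SideMembers.exists_members hs'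
    h.sideT.typeP hset' h.sideT.prime₁ h.sideT.prime₂ hD' hA₀' hR' (fun x hx => by
      simpa using TP.vset_notMem_derived hG h.sideT.coatom h.sideT.typeP (g := 1) hx) hc'
  haveI := finite_hom (W₁ := W₁) (W₂ := W₂)
  haveI := finite_hom (W₁ := W₂) (W₂ := W₁)
  cases nonempty_fintype {g : SndChar W₁ W₂ // g.1 ≠ 1}
  cases nonempty_fintype {g : SndChar W₂ W₁ // g.1 ≠ 1}
  -- the member
  set e := swapEquiv W₁ W₂ with he
  set f : ↥(W₁ ⊔ W₂) →* ℂˣ := kT.1.comp e.toMonoidHom with hf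
  have hfl : ∀ w : ↥(W₁ ⊔ W₂), (w : G) ∈ W₂ → f w = 1 := fun w hw => kT.2 (e w) hw
  have hf1 : f ≠ 1 := fun c => hkT (MonoidHom.ext fun w => by
    have := DFunLike.congr_fun c (e.symm w)
    simpa [hf] using this)
  set g' : FstChar W₂ W₁ := ⟨kS.1.comp e.symm.toMonoidHom, fun w hw => kS.2 _ hw⟩ with hg'
  have hswap : swapFamily χ (g'.1 * kT.1) = χ (f * kS.1) := by
    show χ ((g'.1 * kT.1).comp e.toMonoidHom) = _
    congr 1
    refine MonoidHom.ext fun w => ?_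
    simp only [hg', hf, MonoidHom.comp_apply, MonoidHom.mul_apply, MulEquiv.coe_toMonoidHom,
      MulEquiv.symm_apply_apply]
    exact mul_comm _ _
  have hm' := hmem' g'
  rw [hswap] at hm'
  have hoddW : ∀ H : Subgroup G, Odd (Nat.card H) := fun H =>
    hG.1.of_dvd_nat (Subgroup.card_subgroup_dvd_card H)
  set q := Nat.card W₁ with hqd
  set p := Nat.card W₂ with hpd
  have hq : 3 ≤ q := by
    have := h.sideS.prime₁.two_le; obtain ⟨a, ha⟩ := hoddW W₁; omega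
  have hp : q + 2 ≤ p := by
    have := h.lt; obtain ⟨a, ha⟩ := hoddW W₁; obtain ⟨b, hb⟩ := hoddW W₂; omega
  have d : NoXi.Data W₁ W₂ S T χ f kS.1 (supSet S N) (supSet T N')
      (fun i : {g : SndChar W₁ W₂ // g.1 ≠ 1} => col μ i.1.1) (fun x : ↥Ξ => (x : S → ℂ))
      (fun i : {g : SndChar W₂ W₁ // g.1 ≠ 1} => col μ' i.1.1) (fun x : ↥Ξ' => (x : T → ℂ))
      j₀ j₀' ε ε' q p :=
    ⟨sides hG h hs.normal hs'.normal, hχ, hfl, kS.2, hf1, hkS, rfl, rfl, hq, hp, hmem ⟨f, hfl⟩, hm',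
      (Nat.card_eq_fintype_card).symm.trans hcard, (Nat.card_eq_fintype_card).symm.trans hcard'⟩
  have hA := SideMembers.meas_supSet h.sideS.typeP hs
  have hB := SideMembers.meas_supSet h.sideT.typeP hs'
  have two : k ≠ 1 → 2 ≤ Fintype.card ↥Ξ := fun hk => by
    rw [Fintype.card_coe]
    exact two_le_of_count (hoddW W₁) (by omega) (hoddW W₂)
      (three_le_of_shape hq (hs.shape.resolve_left fun e => hk e.1)) hcount
  have two' : k' ≠ 1 → 2 ≤ Fintype.card ↥Ξ' := fun hk => by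
    rw [Fintype.card_coe]
    exact two_le_of_count (hoddW W₂) hq (hoddW W₁)
      (three_le_of_shape (by omega) (hs'.shape.resolve_left fun e => hk e.1)) hcount'
  by_cases hk : k = 1
  · refine ⟨hk, by_contra fun hk' => ?_⟩
    obtain ⟨-, -, hub, -, hgeom, -⟩ := hs.shape.resolve_right fun e => by
      have := three_le_of_shape hq e; omega
    refine NoXi.large_only d (two' hk') (two_mul_lt hs'.ub_dvd hs'.one_lt) ?_ hA hB
    calc p ^ 2 ≤ p ^ 2 + p + 1 := by omega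
      _ ≤ (p ^ q - 1) / (p - 1) := Numeric.geom_ge hq (by omega)
      _ = ub := (hub.trans hgeom).symm
  · exfalso
    by_cases hk' : k' = 1
    swap
    · exact NoXi.both d (two hk) (two' hk')
    obtain ⟨-, -, hub', -, hgeom', -⟩ := hs'.shape.resolve_right fun e => by
      have := three_le_of_shape (q := p) (by omega) e; omega
    have hsh := hs.shape.resolve_left fun e => hk e.1
    refine NoXi.small_only d h.sideS.prime₁ h.sideS.prime₂ hsh (by rw [Fintype.card_coe]; exact hcount)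
      (v := ub') ?_ hA hB hoff (N.subgroupOf S) (fun a ha => Subgroup.mem_subgroupOf.mpr ha.2)
      (hgen _ (Grid.isGeneralizedCharacter_member hχ _)) ?_
    · rw [hub', hgeom', ← Nat.geomSum_eq (by omega)]
      exact Finset.single_le_sum (fun i _ => Nat.zero_le (q ^ i)) (Finset.mem_range.mpr (by omega))
    · have hcM : Nat.card S = q * ub * Nat.card N := by
        rw [TP.card_eq h.sideS.typeP, hs.card_derived]; ring
      have hNp : p ^ 3 ≤ Nat.card N :=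
        ((Nat.pow_le_pow_right (by omega) hq).trans hs.pow_le).trans
          (Nat.le_of_dvd Nat.card_pos (Subgroup.card_dvd_of_le hs.fit_le))
      show ‖col μ j₀.1.1 1‖ / _ ≤ _
      rw [hdeg, norm_mul, Complex.norm_natCast, Complex.norm_natCast, hcM]
      have hq0 : (0 : ℝ) < q := by exact_mod_cast (show 0 < q by omega)
      have hu0 : (0 : ℝ) < ub := Nat.cast_pos.mpr (lt_trans zero_lt_one hs.one_lt)
      have hp0 : (0 : ℝ) < p := by exact_mod_cast (show 0 < p by omega)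
      have hN0 : ((p : ℝ) ^ 3) ≤ Nat.card N := by exact_mod_cast hNp
      push_cast
      have hNc : (0 : ℝ) < Nat.card N := Nat.cast_pos.mpr Nat.card_pos
      rw [div_le_div_iff₀ (by positivity) (by positivity)]
      nlinarith [mul_le_mul_of_nonneg_left hN0 (by positivity : (0 : ℝ) ≤ q * q * ub)]

omit [Fintype G] in
/-- A Type II side without irreducible members has the extremal shape. -/
theorem full_of_k_one [Finite G] {M W₁ U W₂ N : Subgroup G} {Θ : Finset (↥⁅M, M⁆ → ℂ)} {k ub : ℕ}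
    (hG : Cfsg.IsMinSimpleOddOrder G) (h : Side M W₁ U W₂) (hII : Cfsg.IsOfTypeII M)
    (hs : SideChars M W₁ U W₂ N Θ k ub) (hk : k = 1) : Full M W₁ U W₂ := by
  have hq : 3 ≤ Nat.card W₁ := by
    have := h.prime₁.two_le
    obtain ⟨a, ha⟩ := hG.1.of_dvd_nat (Subgroup.card_subgroup_dvd_card W₁)
    omega
  obtain ⟨-, -, -, hcyc, hgeom, hcop, -, hfree, -⟩ := hs.shape.resolve_right fun e => by
    have := three_le_of_shape hq e; omega
  have hcard := h.card_fit hG hII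
  refine ⟨h.elementary hG hII, hcard, hcyc, ?_, fun u hu hu1 x hx hc => ?_, hgeom ▸ hcop⟩
  · rw [hgeom, ← Nat.geomSum_eq h.prime₂.two_le]
    have hg := geom_sum_mul_add (Nat.card W₂ - 1) (Nat.card W₁)
    rw [Nat.sub_add_cancel h.prime₂.one_lt.le] at hg
    omega
  · exact Subgroup.mem_bot.mp ((hfree hcard u hu hu1).le
      ⟨hx, Subgroup.mem_centralizer_singleton_iff.mpr hc.symm⟩)

end CfsgLib.OddOrder.Final.NoMembers
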