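import Cfsg.Agent.Lib.OddOrder.Final.FullAny
import Cfsg.Agent.Lib.OddOrder.Final.NoMembers
import Cfsg.Agent.Lib.OddOrder.Final.GridCols
import Cfsg.Agent.S1502

/-!
Both sides of the pair have the extremal shape, given the characters of the two sides.
-/

set_option autoImplicit false

namespace CfsgLib.OddOrder.Final

open CfsgLib.Char CfsgLib.Char.CyclicTI

variable {G : Type*} [Group G]

/-- The existence of the characters of a side, as used below. -/
def HasSideChars (M W₁ U W₂ : Subgroup G) : Prop :=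
  ∃ (N : Subgroup G) (Θ : Finset (↥⁅M, M⁆ → ℂ)) (k ub : ℕ), SideChars M W₁ U W₂ N Θ k ub

variable {S T M W₁ W₂ U V : Subgroup G}

/-- A setup with column facts for the side. -/
theorem hasSetup [Fintype G] [Fintype M] (hG : Cfsg.IsMinSimpleOddOrder G) (h : Side M W₁ U W₂)
    {χ : (↥(W₁ ⊔ W₂) →* ℂˣ) → (G → ℂ)} (hχ : Cfsg.IsCyclicTIFamily W₁ W₂ χ) :
    NoMembers.HasSetup M W₁ U W₂ χ := by
  obtain ⟨μ, δ, hset, hm⟩ := Grid.exists_setup hG h.coatom h.typeP h.prime₂ hχ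
  exact ⟨_, _, μ, δ, Grid.resCol μ, hset, fun a ha => Or.inl ha, fun _ _ => rfl,
    Grid.colFacts hG h.coatom h.typeP hset hm⟩

/-- **Both sides have the extremal shape.** -/
theorem Pair.full [Finite G] (hG : Cfsg.IsMinSimpleOddOrder G) (h : Pair S T W₁ W₂ U V)
    (hS : HasSideChars S W₁ U W₂) (hT : HasSideChars T W₂ V W₁) :
    Full S W₁ U W₂ ∧ Full T W₂ V W₁ := by
  classical
  haveI := Fintype.ofFinite G
  haveI := Fintype.ofFinite S
  haveI := Fintype.ofFinite T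
  obtain ⟨χ, hχ⟩ := Cfsg.Agent.S1502.result W₁ W₂ h.sideS.typeP.selfNormalizing
    (hG.1.of_dvd_nat (Subgroup.card_subgroup_dvd_card _))
  obtain ⟨N, Θ, k, ub, hs⟩ := hS
  obtain ⟨N', Θ', k', ub', hs'⟩ := hT
  obtain ⟨hk, hk'⟩ := NoMembers.k_eq_one hG h hχ (hasSetup hG h.sideS hχ)
    (hasSetup hG h.sideT (χ := NoMembers.swapFamily χ) (Grid.swap_family hχ)) hs hs'
  have odd3 : ∀ {H : Subgroup G}, (Nat.card H).Prime → 3 ≤ Nat.card H := fun {H} hp => by
    obtain ⟨a, ha⟩ := hG.1.of_dvd_nat (Subgroup.card_subgroup_dvd_card H)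
    have := hp.two_le
    omega
  have key : ∀ {M W₁ U W₂ N : Subgroup G} {Θ : Finset (↥⁅M, M⁆ → ℂ)} {k ub : ℕ}, Side M W₁ U W₂ →
      SideChars M W₁ U W₂ N Θ k ub → k = 1 → Full M W₁ U W₂ := by
    intro M W₁ U W₂ N Θ k ub hside hsc hk
    obtain ⟨-, -, -, hcyc, hgeom, hcop, hfaith, hfree, hPU⟩ := hsc.shape.resolve_right fun e => by
      have := NoMembers.three_le_of_shape (odd3 hside.prime₁) e; omega
    exact hside.full_of_shape hG hcyc hgeom hcop hfaith hfree hPU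
  exact ⟨key h.sideS hs hk, key h.sideT hs' hk'⟩

end CfsgLib.OddOrder.Final
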