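import Cfsg.Agent.Lib.OddOrder.Final.GridXf
import Cfsg.Agent.Lib.OddOrder.Final.PairSets
import Cfsg.Agent.S1511

set_option autoImplicit false

/-!
The exceptional characters of a maximal subgroup of type P form a `Grid.Setup`.
-/

namespace CfsgLib.OddOrder.Final.Grid

open CfsgLib.Char CfsgLib.Char.CyclicTI

/-! ### Generic lemmas -/

/-- An irreducible character with a normal subgroup outside its kernel vanishes at the elements centralizing
nothing of that subgroup. -/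
theorem eq_zero_of_free {L : Type*} [Group L] [Finite L] {θ : L → ℂ} (hθ : Cfsg.IsIrrCharacter L θ)
    (H : Subgroup L) [hH : H.Normal] (hker : ∃ y ∈ H, θ y ≠ θ 1) {x : L}
    (hfree : ∀ y ∈ H, y * x = x * y → y = 1) : θ x = 0 := by
  classical
  cases nonempty_fintype L
  obtain ⟨n, ρ, hρ, rfl⟩ := hθ
  haveI := hρ
  set E : Module.End ℂ (Fin n → ℂ) := ∑ h : H, ρ (h : L) with hE
  have hmulE : ∀ h₀ : H, ρ (h₀ : L) * E = E := fun h₀ => by
    rw [hE, Finset.mul_sum]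
    refine Fintype.sum_equiv (Equiv.mulLeft h₀) _ _ fun h => ?_
    rw [← map_mul]; rfl
  have hcomm : ∀ y : L, E ∘ₗ ρ y = ρ y ∘ₗ E := by
    intro y
    show E * ρ y = ρ y * E
    rw [hE, Finset.mul_sum, Finset.sum_mul]
    refine Fintype.sum_equiv
      { toFun := fun h : H => (⟨y⁻¹ * h * y, by simpa using hH.conj_mem _ h.2 y⁻¹⟩ : H)
        invFun := fun h => ⟨y * h * y⁻¹, hH.conj_mem _ h.2 y⟩
        left_inv := fun h => Subtype.ext (by simp [mul_assoc])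
        right_inv := fun h => Subtype.ext (by simp [mul_assoc]) } _ _ fun h => ?_
    rw [← map_mul, ← map_mul]
    exact congrArg ρ (by simp [mul_assoc])
  obtain ⟨c, hc⟩ := exists_eq_smul_of_commute ρ E hcomm
  have hc0 : c = 0 := by
    by_contra hne
    obtain ⟨y, hy, hy1⟩ := hker
    refine hy1 ?_
    have h2 : c • ρ y = c • (LinearMap.id : Module.End ℂ (Fin n → ℂ)) := by
      calc c • ρ y = ρ y * E := by rw [hc]; ext v; simp
        _ = _ := by rw [hmulE ⟨y, hy⟩, hc]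
    rw [(char_eq_finrank_iff ρ y).2 (smul_right_injective _ hne h2), Representation.char_one]
  rw [hc0, zero_smul] at hc
  have hinj : Function.Injective fun h : H => (⟨x⁻¹ * h * x * (h : L)⁻¹,
      H.mul_mem (by simpa using hH.conj_mem _ h.2 x⁻¹) (H.inv_mem h.2)⟩ : H) := by
    intro a b hab
    have e : x⁻¹ * (a : L) * x * (a : L)⁻¹ = x⁻¹ * (b : L) * x * (b : L)⁻¹ := congrArg Subtype.val hab
    have e1 : ((b : L)⁻¹ * a) * x = x * ((b : L)⁻¹ * a) := by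
      have e2 : (a : L) * x * (a : L)⁻¹ = (b : L) * x * (b : L)⁻¹ := by
        simpa [mul_assoc] using congrArg (x * ·) e
      calc ((b : L)⁻¹ * a) * x = (b : L)⁻¹ * ((a : L) * x * (a : L)⁻¹) * a := by group
        _ = _ := by rw [e2]; group
    exact Subtype.ext (inv_mul_eq_one.mp (hfree _ (H.mul_mem (H.inv_mem b.2) a.2) e1)).symm
  have hsurj := Finite.injective_iff_surjective.mp hinj
  have hconst : ∀ h : H, ρ.character (x * h) = ρ.character x := by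
    intro h
    obtain ⟨a, rfl⟩ := hsurj h
    show ρ.character (x * (x⁻¹ * a * x * (a : L)⁻¹)) = _
    rw [show x * (x⁻¹ * (a : L) * x * (a : L)⁻¹) = a * x * (a : L)⁻¹ by group, Representation.char_conj]
  have h0 : ∑ h : H, ρ.character (x * h) = 0 := by
    calc ∑ h : H, ρ.character (x * h) = LinearMap.trace ℂ _ (ρ x * E) := by
          simp [hE, Finset.mul_sum, Representation.character, map_sum, map_mul]
      _ = 0 := by rw [hc, mul_zero, map_zero]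
  simp only [hconst, Finset.sum_const, Finset.card_univ, nsmul_eq_mul, mul_eq_zero] at h0
  exact h0.resolve_left (Nat.cast_ne_zero.mpr Fintype.card_ne_zero)

/-- The conjugates of the regular part of a trivial intersection set exhaust the complement of the kernel. -/
theorem exists_conj_of_notMem {L : Type*} [Group L] [Finite L] (K W W₂ : Subgroup L) [hK : K.Normal]
    (hWK : W ⊓ K = W₂) (hcard : Nat.card L * Nat.card W₂ = Nat.card K * Nat.card W)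
    (hTI : ∀ g y : L, y ∈ W → y ∉ W₂ → g * y * g⁻¹ ∈ W → g * y * g⁻¹ ∉ W₂ → g ∈ W)
    {x : L} (hx : x ∉ K) : ∃ y : L, ∃ w ∈ W, w ∉ W₂ ∧ y * w * y⁻¹ = x := by
  classical
  cases nonempty_fintype L
  set S : Finset L := Finset.univ.filter (fun w => w ∈ W ∧ w ∉ W₂) with hS
  set T : Finset L := Finset.univ.filter (fun g => g ∉ K) with hT
  have hmem : ∀ w ∈ S, w ∉ K := fun w hw hk => (Finset.mem_filter.mp hw).2.2
    (hWK.le ⟨(Finset.mem_filter.mp hw).2.1, hk⟩)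
  have hsub : (Finset.univ ×ˢ S).image (fun p : L × L => p.1 * p.2 * p.1⁻¹) ⊆ T := by
    intro z hz
    obtain ⟨⟨y, w⟩, hp, rfl⟩ := Finset.mem_image.mp hz
    refine Finset.mem_filter.mpr ⟨Finset.mem_univ _, fun hk => hmem w (Finset.mem_product.mp hp).2 ?_⟩
    have h1 := hK.conj_mem _ hk y⁻¹
    simpa [mul_assoc] using h1
  have hfib : ∀ z ∈ (Finset.univ ×ˢ S).image (fun p : L × L => p.1 * p.2 * p.1⁻¹),
      ((Finset.univ ×ˢ S).filter fun p : L × L => p.1 * p.2 * p.1⁻¹ = z).card ≤ Nat.card W := by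
    intro z hz
    obtain ⟨⟨y, w⟩, hp, rfl⟩ := Finset.mem_image.mp hz
    rw [Nat.card_eq_fintype_card, Fintype.card_subtype]
    refine Finset.card_le_card_of_injOn (fun p => y⁻¹ * p.1) (fun p hp' => ?_) fun p hp' p' hp'' e => ?_
    · obtain ⟨hpS, hpe⟩ := Finset.mem_filter.mp hp'
      obtain ⟨hw₀, hw₂⟩ := (Finset.mem_filter.mp (Finset.mem_product.mp hpS).2).2
      obtain ⟨hv₀, hv₂⟩ := (Finset.mem_filter.mp (Finset.mem_product.mp hp).2).2
      have he : (y⁻¹ * p.1) * p.2 * (y⁻¹ * p.1)⁻¹ = w := by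
        rw [show (y⁻¹ * p.1) * p.2 * (y⁻¹ * p.1)⁻¹ = y⁻¹ * (p.1 * p.2 * p.1⁻¹) * y by group, hpe]
        group
      exact Finset.mem_filter.mpr ⟨Finset.mem_univ _, hTI _ p.2 hw₀ hw₂ (he.symm ▸ hv₀) (he.symm ▸ hv₂)⟩
    · have h1 : p.1 = p'.1 := mul_left_cancel e
      have h2 := ((Finset.mem_filter.mp hp').2).trans (Finset.mem_filter.mp hp'').2.symm
      rw [h1] at h2
      exact Prod.ext h1 (mul_left_cancel (mul_right_cancel h2))
  have hle := Finset.card_le_mul_card_image (f := fun p : L × L => p.1 * p.2 * p.1⁻¹) _ _ hfib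
  have hScard : S.card + Nat.card W₂ = Nat.card W := by
    have h2 : Finset.univ.filter (· ∈ W₂) ⊆ Finset.univ.filter (· ∈ W) := fun a ha =>
      Finset.mem_filter.mpr ⟨Finset.mem_univ _, (hWK.ge (Finset.mem_filter.mp ha).2).1⟩
    have e : S = Finset.univ.filter (· ∈ W) \ Finset.univ.filter (· ∈ W₂) := by ext; simp [hS]
    rw [e, Finset.card_sdiff_of_subset h2, Nat.card_eq_fintype_card, Nat.card_eq_fintype_card,
      Fintype.card_subtype, Fintype.card_subtype]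
    have := Finset.card_le_card h2
    omega
  have hTcard : T.card + Nat.card K = Nat.card L := by
    rw [hT, Nat.card_eq_fintype_card, Fintype.card_subtype, Nat.card_eq_fintype_card, ← Finset.card_univ]
    have := Finset.card_filter_add_card_filter_not (s := (Finset.univ : Finset L)) (fun g => g ∈ K)
    omega
  have heq : (Finset.univ ×ˢ S).image (fun p : L × L => p.1 * p.2 * p.1⁻¹) = T := by
    refine Finset.eq_of_subset_of_card_le hsub ?_
    rw [Finset.card_product, Finset.card_univ, ← Nat.card_eq_fintype_card] at hle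
    set i := ((Finset.univ ×ˢ S).image fun p : L × L => p.1 * p.2 * p.1⁻¹).card
    refine Nat.le_of_mul_le_mul_left ?_ (Nat.card_pos (α := W))
    have e1 : Nat.card L * S.card + Nat.card L * Nat.card W₂ = Nat.card L * Nat.card W := by rw [← mul_add, hScard]
    have e2 : Nat.card W * T.card + Nat.card W * Nat.card K = Nat.card W * Nat.card L := by rw [← mul_add, hTcard]
    nlinarith
  have hxT : x ∈ T := Finset.mem_filter.mpr ⟨Finset.mem_univ _, hx⟩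
  rw [← heq] at hxT
  obtain ⟨⟨y, w⟩, hp, e⟩ := Finset.mem_image.mp hxT
  obtain ⟨h1, h2⟩ := (Finset.mem_filter.mp (Finset.mem_product.mp hp).2).2
  exact ⟨y, w, h1, h2, e⟩

/-! ### The constructor -/

variable {G : Type*} [Group G] [Fintype G] {M W₁ U W₂ : Subgroup G} [Fintype M]

/-- An irreducible character of `M` with `M_F` outside its kernel vanishes on `M'` off `A(M)` and `1`. -/
theorem supp_irr (hG : Cfsg.IsMinSimpleOddOrder G) (hM : IsCoatom M) (hP : Cfsg.IsTypePWith M W₁ U W₂)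
    {θ : M → ℂ} (hθ : Cfsg.IsIrrCharacter M θ)
    (hker : ∃ y : M, (y : G) ∈ Cfsg.fittingHallOf M ∧ θ y ≠ θ 1) {x : M} (hxK : (x : G) ∈ ⁅M, M⁆)
    (hx1 : x ≠ 1) (hxA : (x : G) ∉ Cfsg.typeA M) : θ x = 0 := by
  have hsub : (Cfsg.fittingHallOf M).subgroupOf M = Cfsg.fittingHall M := by
    rw [Subgroup.subgroupOf, Cfsg.fittingHallOf, Subgroup.comap_map_eq_self_of_injective M.subtype_injective]
  haveI : ((Cfsg.fittingHallOf M).subgroupOf M).Normal := hsub ▸ Cfsg.fittingHall_normal M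
  obtain ⟨y, hy, hy1⟩ := hker
  refine eq_zero_of_free hθ ((Cfsg.fittingHallOf M).subgroupOf M) ⟨y, Subgroup.mem_subgroupOf.mpr hy, hy1⟩
    fun z hz hzx => ?_
  by_contra hz1
  rw [TP.typeA_eq hG hM hP] at hxA
  refine hxA ⟨hxK, fun e => hx1 (Subtype.ext e), z, TP.fit_le_core hG hM hP (Subgroup.mem_subgroupOf.mp hz),
    fun e => hz1 (Subtype.ext e), (congrArg Subtype.val hzx).symm⟩

/-- What the constructor gives besides the `Setup`. -/
structure Members (M : Subgroup G) [Fintype M] (μ : (↥(W₁ ⊔ W₂) →* ℂˣ) → (M → ℂ))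
    (δ : (↥(W₁ ⊔ W₂) →* ℂˣ) → ℂ) : Prop where
  res : ∀ (f : FstChar W₁ W₂) (g : SndChar W₁ W₂) (x : M), (x : G) ∈ ⁅M, M⁆ → μ (f.1 * g.1) x = μ g.1 x
  off : ∀ (g : SndChar W₁ W₂) (x : M), (x : G) ∉ ⁅M, M⁆ → col μ g.1 x = 0
  not_kernel : ∀ g : SndChar W₁ W₂, g.1 ≠ 1 → ∃ y : M, (y : G) ∈ Cfsg.fittingHallOf M ∧ μ g.1 y ≠ μ g.1 1
  congr : ∀ ω, ∃ n : ℤ, μ ω 1 - δ ω = n * (Nat.card W₁ : ℂ)
  degree : ∀ g g' : SndChar W₁ W₂, g.1 ≠ 1 → g'.1 ≠ 1 → μ g.1 1 = μ g'.1 1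
  col_eq : ∀ (g : SndChar W₁ W₂) (x : M), (x : G) ∈ ⁅M, M⁆ → col μ g.1 x = (Nat.card W₁ : ℂ) * μ g.1 x
  supp_A : ∀ g g' : SndChar W₁ W₂, g.1 ≠ 1 → g'.1 ≠ 1 → ∀ x : M, (x : G) ∉ Cfsg.typeA M →
    col μ g.1 x = col μ g'.1 x
  norm_off : ∀ ω, ∀ x : M, (x : G) ∉ ⁅M, M⁆ → μ ω x * (starRingEnd ℂ) (μ ω x) = 1

/-- **The exceptional characters of a subgroup of type P.** -/
theorem exists_setup (hG : Cfsg.IsMinSimpleOddOrder G) (hM : IsCoatom M) (hP : Cfsg.IsTypePWith M W₁ U W₂)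
    (hp : (Nat.card W₂).Prime) {χ : (↥(W₁ ⊔ W₂) →* ℂˣ) → (G → ℂ)} (hχ : Cfsg.IsCyclicTIFamily W₁ W₂ χ) :
    ∃ (μ : (↥(W₁ ⊔ W₂) →* ℂˣ) → (M → ℂ)) (δ : (↥(W₁ ⊔ W₂) →* ℂˣ) → ℂ),
      Setup M χ (Cfsg.typeA0 M) (fun _ => ⊥) μ δ ∧ Members M μ δ := by
  classical
  have hW := hP.selfNormalizing
  have hW₁M : W₁ ≤ M := TP.W₁_le hP
  have hW₂M : W₂ ≤ M := TP.W₂_le_M hP
  have hW₂d : W₂ ≤ ⁅M, M⁆ := TP.W₂_le_derived hP
  have hle : W₁ ⊔ W₂ ≤ M := sup_le hW₁M hW₂M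
  have hodd : Odd (Nat.card ↥(W₁ ⊔ W₂)) := hG.1.of_dvd_nat (Subgroup.card_subgroup_dvd_card _)
  set K : Subgroup M := (⁅M, M⁆ : Subgroup G).subgroupOf M with hKdef
  haveI hKn : K.Normal := Subgroup.normal_subgroupOf_of_le_normalizer DadeSets.derived_normal
  set w₁ : Subgroup M := W₁.subgroupOf M with hw₁
  set w₂ : Subgroup M := W₂.subgroupOf M with hw₂
  have hKw : K ⊓ w₁ = ⊥ := by
    rw [eq_bot_iff]
    rintro x ⟨h1, h2⟩
    have : (x : G) ∈ ⁅M, M⁆ ⊓ W₁ := ⟨h1, h2⟩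
    rw [hP.W₁_compl.2.2.1, Subgroup.mem_bot] at this
    exact Subgroup.mem_bot.mpr (Subtype.ext this)
  have hKw' : K ⊔ w₁ = ⊤ := by
    rw [eq_top_iff]
    intro m _
    obtain ⟨a, ha, b, hb, e⟩ := hP.W₁_compl.2.2.2 (m : G) m.2
    rw [show m = (⟨a, derived_le M ha⟩ : M) * ⟨b, hW₁M hb⟩ from Subtype.ext e]
    exact mul_mem (Subgroup.mem_sup_left ha) (Subgroup.mem_sup_right hb)
  haveI := hP.W₁_cyclic
  have hw₁c : IsCyclic w₁ :=
    isCyclic_of_surjective (Subgroup.subgroupOfEquivOfLe hW₁M).symm.toMonoidHom (MulEquiv.surjective _)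
  haveI : IsCyclic W₂ := by
    haveI := Fact.mk hp
    exact isCyclic_of_prime_card rfl
  have hw₂c : IsCyclic w₂ :=
    isCyclic_of_surjective (Subgroup.subgroupOfEquivOfLe hW₂M).symm.toMonoidHom (MulEquiv.surjective _)
  have hbot : ∀ {X : Subgroup G}, X ≤ M → X ≠ ⊥ → X.subgroupOf M ≠ ⊥ := fun {X} hX hne e => hne (by
    rw [eq_bot_iff]
    intro x hx
    have : (⟨x, hX hx⟩ : M) ∈ X.subgroupOf M := hx
    rw [e, Subgroup.mem_bot] at this
    exact Subgroup.mem_bot.mpr (congrArg Subtype.val this))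
  have hHall : Nat.Coprime (Nat.card w₁) w₁.index := by
    rw [Nat.card_congr (Subgroup.subgroupOfEquivOfLe hW₁M).toEquiv]
    exact hP.W₁_hall
  have hC : ∀ x ∈ w₁, x ≠ 1 → K ⊓ Subgroup.centralizer ({x} : Set M) = w₂ := by
    intro x hx hx1
    have e := hP.W₂_centralizer (x : G) hx (fun e => hx1 (Subtype.ext e))
    ext z
    constructor
    · rintro ⟨h1, h2⟩
      show (z : G) ∈ W₂
      rw [← e]
      exact ⟨h1, Subgroup.mem_centralizer_singleton_iff.mpr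
        (congrArg Subtype.val (Subgroup.mem_centralizer_singleton_iff.mp h2))⟩
    · intro hz
      have hz' : (z : G) ∈ ⁅M, M⁆ ⊓ Subgroup.centralizer ({(x : G)} : Set G) := e.ge hz
      exact ⟨hz'.1, Subgroup.mem_centralizer_singleton_iff.mpr
        (Subtype.ext (Subgroup.mem_centralizer_singleton_iff.mp hz'.2))⟩
  have hw₂K : w₂ ≤ K := fun z hz => hW₂d hz
  have hsup : w₁ ⊔ w₂ = (W₁ ⊔ W₂).subgroupOf M := (Subgroup.subgroupOf_sup hW₁M hW₂M).symm
  have hmem : ∀ z : ↥(w₁ ⊔ w₂), ((z : M) : G) ∈ W₁ ⊔ W₂ := fun z =>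
    Subgroup.mem_subgroupOf.mp (hsup.le z.2)
  let e₀ : ↥(w₁ ⊔ w₂) →* ↥(W₁ ⊔ W₂) := (M.subtype.comp (w₁ ⊔ w₂).subtype).codRestrict _ hmem
  have he₀ : Function.Bijective e₀ := by
    refine ⟨fun a b hab => Subtype.ext (Subtype.ext (congrArg Subtype.val hab :)), fun w => ?_⟩
    exact ⟨⟨⟨w, hle w.2⟩, hsup.ge (Subgroup.mem_subgroupOf.mpr w.2)⟩, rfl⟩
  obtain ⟨e, hee⟩ : ∃ e : ↥(w₁ ⊔ w₂) ≃* ↥(W₁ ⊔ W₂), ∀ z, ((e z : ↥(W₁ ⊔ W₂)) : G) = ((z : M) : G) :=
    ⟨MulEquiv.ofBijective e₀ he₀, fun _ => rfl⟩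
  have hesym : ∀ w : ↥(W₁ ⊔ W₂), (e.symm w : M) = ⟨w, hle w.2⟩ := fun w => Subtype.ext (by
    rw [← hee, e.apply_symm_apply])
  have hodd' : Odd (Nat.card ↥(w₁ ⊔ w₂)) := by rwa [Nat.card_congr e.toEquiv]
  obtain ⟨μ₀, δ₀, hinj, hirr, hsign, hind, hval, hoth, hcongr⟩ := Cfsg.Agent.S1511.result K w₁ w₂ hKw hKw'
    (hbot hW₁M hW.1) hw₁c hHall (hbot hW₂M hW.2.1) hw₂c hw₂K hC hodd'
  set μ : (↥(W₁ ⊔ W₂) →* ℂˣ) → (M → ℂ) := fun ω => μ₀ (ω.comp e.toMonoidHom) with hμ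
  set δ : (↥(W₁ ⊔ W₂) →* ℂˣ) → ℂ := fun ω => δ₀ (ω.comp e.toMonoidHom) with hδ
  have hvalue : ∀ ω, ∀ w : ↥(W₁ ⊔ W₂), (w : G) ∉ W₂ → μ ω ⟨w, hle w.2⟩ = δ ω * (ω w : ℂ) := by
    intro ω w hw
    have := hval (ω.comp e.toMonoidHom) (e.symm w) (fun h' => hw (by
      rw [hesym] at h'; exact h'))
    rw [hesym] at this
    rw [hμ, hδ]
    simpa using this
  have hother : ∀ θ : M → ℂ, Cfsg.IsIrrCharacter M θ → (∀ ω, θ ≠ μ ω) →
      ∀ w : ↥(W₁ ⊔ W₂), (w : G) ∉ W₂ → θ ⟨w, hle w.2⟩ = 0 := by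
    intro θ hθ hne w hw
    have h2 : ∀ ω₀, θ ≠ μ₀ ω₀ := fun ω₀ hc => hne (ω₀.comp e.symm.toMonoidHom) (by
      rw [hμ]
      simpa [MonoidHom.comp_assoc, MulEquiv.coe_monoidHom_symm_comp_coe_monoidHom] using hc)
    have := hoth θ hθ h2 (e.symm w) (fun h' => hw (by rw [hesym] at h'; exact h'))
    rwa [hesym] at this
  -- the values on the kernel
  have hrow : ∀ (f : FstChar W₁ W₂) (g : SndChar W₁ W₂), δ (f.1 * g.1) = δ g.1 ∧
      ∀ x : M, (x : G) ∈ ⁅M, M⁆ → μ (f.1 * g.1) x = μ g.1 x := by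
    intro f g
    obtain ⟨h1, h2⟩ := hind ((f.1 * g.1).comp e.toMonoidHom) (g.1.comp e.toMonoidHom) fun w hw => by
      simp only [MonoidHom.comp_apply, MonoidHom.mul_apply]
      rw [f.2 (e.toMonoidHom w) (by show ((e w : ↥(W₁ ⊔ W₂)) : G) ∈ W₂; rw [hee]; exact hw), one_mul]
    refine ⟨h1, fun x hx => ?_⟩
    have h3 := congrFun h2 x
    rw [Pi.smul_apply, Pi.sub_apply, smul_eq_mul, indFun_def, Finset.sum_eq_zero fun y _ => ?_, mul_zero] at h3
    · have hne : δ₀ ((f.1 * g.1).comp e.toMonoidHom) ≠ 0 := by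
        rcases hsign ((f.1 * g.1).comp e.toMonoidHom) with e' | e' <;> rw [e'] <;> norm_num
      exact sub_eq_zero.mp ((mul_eq_zero.mp h3.symm).resolve_left hne)
    · by_cases hy : y⁻¹ * x * y ∈ w₁ ⊔ w₂
      · rw [extendByZero_apply_mem _ _ hy]
        have hK' : y⁻¹ * x * y ∈ K := by simpa using hKn.conj_mem x hx y⁻¹
        have hw2' : ((y⁻¹ * x * y : M) : G) ∈ W₂ := by
          have hm : ((y⁻¹ * x * y : M) : G) ∈ W₁ ⊔ W₂ := hmem ⟨_, hy⟩
          have hn : W₁ ≤ Subgroup.normalizer (W₂ : Set G) := le_trans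
            (fun a ha => Subgroup.mem_centralizer_iff.mpr fun b hb => (hW.2.2.2.1 a ha b hb).symm)
            (Subgroup.centralizer_le_normalizer _)
          rw [← SetLike.mem_coe, Subgroup.coe_mul_of_left_le_normalizer_right W₁ W₂ hn] at hm
          obtain ⟨a, ha, b, hb, hab⟩ := hm
          have hab' : a * b = ((y⁻¹ * x * y : M) : G) := hab
          have ha' : a ∈ ⁅M, M⁆ ⊓ W₁ := ⟨by
            rw [show a = ((y⁻¹ * x * y : M) : G) * b⁻¹ by rw [← hab', mul_inv_cancel_right]]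
            exact (⁅M, M⁆ : Subgroup G).mul_mem hK' ((⁅M, M⁆ : Subgroup G).inv_mem (hW₂d hb)), ha⟩
          rw [hP.W₁_compl.2.2.1, Subgroup.mem_bot] at ha'
          rw [← hab', ha', one_mul]
          exact hb
        simp only [MonoidHom.comp_apply, MonoidHom.mul_apply]
        rw [f.2 (e.toMonoidHom ⟨_, hy⟩) (by show ((e ⟨_, hy⟩ : ↥(W₁ ⊔ W₂)) : G) ∈ W₂; rw [hee]; exact hw2'), one_mul, sub_self]
      · rw [extendByZero_apply_notMem _ _ hy]
  have hgal : ∀ (g g' : SndChar W₁ W₂), g.1 ≠ 1 → g'.1 ≠ 1 → δ g.1 = δ g'.1 ∧ μ g.1 1 = μ g'.1 1 := by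
    intro g g' hg hg'
    obtain ⟨σ, hσ⟩ := exists_galois hW (Or.inr ⟨rfl, rfl⟩) hp g.2 g'.2 hg hg'
    obtain ⟨h1, h2⟩ := map_mu_of hW hodd hle (μ := μ) (δ := δ) (fun ω => hirr _) (fun ω => hsign _) hvalue hother σ g.1
    rw [show gal σ g.1 = g'.1 from hσ] at h1 h2
    refine ⟨h2.symm, ?_⟩
    rw [← congrFun h1 1]
    obtain ⟨n, -, hn⟩ := IsIrrCharacter.apply_one_eq (hirr (g.1.comp e.toMonoidHom))
    show μ g.1 1 = σ (μ g.1 1)
    rw [show μ g.1 1 = (n : ℂ) from hn, map_natCast]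
  have hnk : ∀ g : SndChar W₁ W₂, g.1 ≠ 1 →
      ∃ y : M, (y : G) ∈ Cfsg.fittingHallOf M ∧ μ g.1 y ≠ μ g.1 1 := by
    intro g hg
    by_contra hn
    push Not at hn
    obtain ⟨a, ha, ha1⟩ := (Subgroup.bot_or_exists_ne_one W₁).resolve_left hW.1
    refine hg (hom_eq_one _ g.2 fun w hw => ?_)
    set a' : ↥(W₁ ⊔ W₂) := ⟨a, Subgroup.mem_sup_left ha⟩
    have ha2 : (a : G) ∉ W₂ := fun h' => ha1 (Subgroup.mem_bot.mp (hW.2.2.1.le ⟨ha, h'⟩))
    have hwa : ((w * a' : ↥(W₁ ⊔ W₂)) : G) ∉ W₂ := fun h' => ha2 ((Subgroup.mul_mem_cancel_left W₂ hw).mp h')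
    have e1 := IsCharacter.apply_mul_of_mem_ker (IsIrrCharacter.isCharacter (hirr (g.1.comp e.toMonoidHom)))
      (a := (⟨w, hle w.2⟩ : M)) (hn _ (TP.W₂_le_fit hP hw)) (⟨a, hle a'.2⟩ : M)
    have e2 : μ g.1 ⟨((w * a' : ↥(W₁ ⊔ W₂)) : G), hle (w * a').2⟩ = μ g.1 ⟨a, hle a'.2⟩ := e1
    rw [hvalue _ _ hwa, show μ g.1 ⟨a, hle a'.2⟩ = δ g.1 * (g.1 a' : ℂ) from hvalue _ a' ha2, map_mul,
      Units.val_mul] at e2
    have hne : δ g.1 ≠ 0 := by
      show δ₀ (g.1.comp e.toMonoidHom) ≠ 0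
      rcases hsign (g.1.comp e.toMonoidHom) with e' | e' <;> rw [e'] <;> norm_num
    exact Units.ext (by
      have e3 := mul_left_cancel₀ hne e2
      rw [Units.val_one]
      exact mul_right_cancel₀ (Units.ne_zero _) (by rw [one_mul]; exact e3))
  -- outside the kernel
  have hconj : ∀ x : M, (x : G) ∉ ⁅M, M⁆ → ∃ y : M, ∃ w : ↥(W₁ ⊔ W₂), (w : G) ∉ W₂ ∧
      y * ⟨w, hle w.2⟩ * y⁻¹ = x := by
    intro x hx
    have hW' : Cfsg.IsSelfNormalizingCyclic w₁ w₂ :=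
      Cfsg.Agent.S1510.selfNormalizing K w₁ w₂ hKw hKw' (hbot hW₁M hW.1) hw₁c hHall (hbot hW₂M hW.2.1) hw₂c
        hw₂K hC
    have hcard : Nat.card M * Nat.card w₂ = Nat.card K * Nat.card ↥(w₁ ⊔ w₂) := by
      rw [TP.card_eq hP, Nat.card_congr e.toEquiv, VSet.card_sup hW,
        Nat.card_congr (Subgroup.subgroupOfEquivOfLe hW₂M).toEquiv,
        Nat.card_congr (Subgroup.subgroupOfEquivOfLe (derived_le M)).toEquiv]
      ring
    have hWK : (w₁ ⊔ w₂) ⊓ K = w₂ := by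
      refine le_antisymm ?_ (le_inf le_sup_right hw₂K)
      rintro z ⟨hz, hzK⟩
      haveI : IsCyclic ↥(w₁ ⊔ w₂) := hW'.2.2.2.2.1
      have hn : w₁ ≤ Subgroup.normalizer (w₂ : Set M) := le_trans
        (fun a ha => Subgroup.mem_centralizer_iff.mpr fun b hb => (hW'.2.2.2.1 a ha b hb).symm)
        (Subgroup.centralizer_le_normalizer _)
      have hz' : z ∈ ((w₁ ⊔ w₂ : Subgroup M) : Set M) := hz
      rw [Subgroup.coe_mul_of_left_le_normalizer_right w₁ w₂ hn] at hz'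
      obtain ⟨a, ha, b, hb, hab⟩ := hz'
      have hab' : a * b = z := hab
      have ha' : a ∈ K ⊓ w₁ := ⟨by
        rw [show a = z * b⁻¹ by rw [← hab', mul_inv_cancel_right]]
        exact K.mul_mem hzK (K.inv_mem (hw₂K hb)), ha⟩
      rw [hKw, Subgroup.mem_bot] at ha'
      rw [← hab', ha', one_mul]
      exact hb
    obtain ⟨y, w, hw, hw2', he⟩ := exists_conj_of_notMem K (w₁ ⊔ w₂) w₂ hWK hcard (fun g z h1 h2 h3 h4 =>
      PrimeAction.ti_of_notMem_snd K w₁ w₂ hKw hKw' hHall hw₂K hC hW' g z ⟨h1, h2⟩ ⟨h3, h4⟩) (x := x) hx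
    refine ⟨y, e ⟨w, hw⟩, fun h' => hw2' ?_, ?_⟩
    · rw [hee] at h'; exact h'
    · rw [show (⟨((e ⟨w, hw⟩ : ↥(W₁ ⊔ W₂)) : G), hle (e ⟨w, hw⟩).2⟩ : M) = w from Subtype.ext (hee _)]
      exact he
  have hcls : ∀ ω, ∀ (y : M) (z : M), μ ω (y * z * y⁻¹) = μ ω z := fun ω y z =>
    IsIrrCharacter.isClassFunction (hirr _) z y
  have hoff : ∀ (g : SndChar W₁ W₂) (x : M), (x : G) ∉ ⁅M, M⁆ → col μ g.1 x = 0 := by
    intro g x hx
    haveI := finite_hom (W₁ := W₁) (W₂ := W₂)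
    cases nonempty_fintype (FstChar W₁ W₂)
    obtain ⟨y, w, hw, rfl⟩ := hconj x hx
    rw [col_eq_sum, Finset.sum_apply, Finset.sum_congr rfl fun f _ => (hcls (f.1 * g.1) y _).trans
      ((hvalue _ w hw).trans (show δ (f.1 * g.1) * ((f.1 * g.1) w : ℂ) = (δ g.1 * (g.1 w : ℂ)) * (f.1 w : ℂ) by
        rw [(hrow f g).1, MonoidHom.mul_apply, Units.val_mul]; ring)), ← Finset.mul_sum, sum_fst hW hw, mul_zero]
  have hcolK : ∀ (g : SndChar W₁ W₂) (x : M), (x : G) ∈ ⁅M, M⁆ →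
      col μ g.1 x = (Nat.card W₁ : ℂ) * μ g.1 x := by
    intro g x hx
    haveI := finite_hom (W₁ := W₁) (W₂ := W₂)
    cases nonempty_fintype (FstChar W₁ W₂)
    rw [col_eq_sum, Finset.sum_apply, Finset.sum_congr rfl fun f _ => (hrow f g).2 x hx, Finset.sum_const,
      Finset.card_univ, nsmul_eq_mul, ← Nat.card_eq_fintype_card, (card_fstChar hW).1]
  have hK0 : ∀ g : SndChar W₁ W₂, g.1 ≠ 1 → ∀ x : M, (x : G) ∈ ⁅M, M⁆ → x ≠ 1 → (x : G) ∉ Cfsg.typeA M →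
      μ g.1 x = 0 := fun g hg x hx hx1 hA => supp_irr hG hM hP (hirr _) (hnk g hg) hx hx1 hA
  refine ⟨μ, δ,
    { selfNormalizing := hW
      odd := hodd
      family := hχ
      dade := TP.dade hG hM hP (Or.inr (Or.inr rfl))
      le := hle
      vset_sub := fun v hv => Or.inr ⟨TP.not_typeI hG hM hP, W₁, U, W₂, hP, 1, M.one_mem, v,
        (mem_vset.mp hv).1, (mem_vset.mp hv).2.1, (mem_vset.mp hv).2.2, by simp⟩
      irr := fun ω => hirr _
      inj := fun a b hab => MonoidHom.ext fun w => by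
        have := DFunLike.congr_fun (hinj hab) (e.symm w)
        simpa using this
      sign := fun ω => hsign _
      value := hvalue
      other := hother
      const := fun f f' g g' hg hg' => by rw [(hrow f g).1, (hrow f' g').1, (hgal g g' hg hg').1]
      supp := fun f g g' hg hg' x hx => ?_ },
    { res := fun f g x hx => (hrow f g).2 x hx
      off := hoff
      not_kernel := hnk
      congr := fun ω => ?_
      degree := fun g g' hg hg' => (hgal g g' hg hg').2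
      col_eq := hcolK
      supp_A := fun g g' hg hg' x hx => ?_
      norm_off := fun ω x hx => ?_ }⟩
  · by_cases hxK : (x : G) ∈ ⁅M, M⁆
    · rw [(hrow f g).2 x hxK, (hrow f g').2 x hxK]
      by_cases hx1 : x = 1
      · subst hx1; exact (hgal g g' hg hg').2
      · rw [hK0 g hg x hxK hx1 fun h' => hx (Or.inl h'), hK0 g' hg' x hxK hx1 fun h' => hx (Or.inl h')]
    · obtain ⟨y, w, hw, rfl⟩ := hconj x hxK
      rw [hcls, hcls, hvalue _ w hw, hvalue _ w hw, (hrow f g).1, (hrow f g').1, (hgal g g' hg hg').1]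
      have hw1 : (w : G) ∈ W₁ := by
        by_contra h1
        exact hx (Or.inr ⟨TP.not_typeI hG hM hP, W₁, U, W₂, hP, y, y.2, w, w.2, h1, hw, rfl⟩)
      rw [MonoidHom.mul_apply, MonoidHom.mul_apply, g.2 w hw1, g'.2 w hw1]
  · obtain ⟨n, hn⟩ := hcongr (ω.comp e.toMonoidHom)
    exact ⟨n, by rw [hμ, hδ, hn, Nat.card_congr (Subgroup.subgroupOfEquivOfLe hW₁M).toEquiv]⟩
  · by_cases hxK : (x : G) ∈ ⁅M, M⁆
    · rw [hcolK g x hxK, hcolK g' x hxK]
      by_cases hx1 : x = 1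
      · subst hx1; rw [(hgal g g' hg hg').2]
      · rw [hK0 g hg x hxK hx1 hx, hK0 g' hg' x hxK hx1 hx]
    · rw [hoff g x hxK, hoff g' x hxK]
  · obtain ⟨y, w, hw, rfl⟩ := hconj x hx
    rw [hcls, hvalue _ w hw, map_mul, mul_mul_mul_comm]
    have hfin : IsOfFinOrder (ω w) := ω.isOfFinOrder (isOfFinOrder_of_finite w)
    have h1 : ‖((ω w : ℂˣ) : ℂ)‖ = 1 := Complex.norm_eq_one_of_pow_eq_one
      (show ((ω w : ℂˣ) : ℂ) ^ orderOf (ω w) = 1 by
        rw [← Units.val_pow_eq_pow_val, pow_orderOf_eq_one, Units.val_one]) hfin.orderOf_pos.ne'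
    rw [Complex.mul_conj', Complex.mul_conj', h1]
    rcases hsign (ω.comp e.toMonoidHom) with e' | e' <;>
      · rw [show δ ω = δ₀ (ω.comp e.toMonoidHom) from rfl, e']
        norm_num

variable {μ : (↥(W₁ ⊔ W₂) →* ℂˣ) → (M → ℂ)} {δ : (↥(W₁ ⊔ W₂) →* ℂˣ) → ℂ}

/-- An irreducible character induced from `M'` of the degree of a member is a partner, also on `A(M)`. -/
theorem partner_of (hG : Cfsg.IsMinSimpleOddOrder G) (hM : IsCoatom M) (hP : Cfsg.IsTypePWith M W₁ U W₂)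
    (hm : Members M μ δ) (hirrμ : ∀ ω, Cfsg.IsIrrCharacter M (μ ω))
    (g : SndChar W₁ W₂) (hg : g.1 ≠ 1) {ξ : M → ℂ} (hξ : Cfsg.IsIrrCharacter M ξ)
    (hoff : ∀ x : M, (x : G) ∉ ⁅M, M⁆ → ξ x = 0)
    (hker : ∃ y : M, (y : G) ∈ Cfsg.fittingHallOf M ∧ ξ y ≠ ξ 1) (hdeg : ξ 1 = col μ g.1 1) :
    (∀ x : M, (x : G) ∉ Cfsg.typeA M → col μ g.1 x = ξ x) ∧ Partner M (Cfsg.typeA0 M) μ g ξ := by
  have hsupp : ∀ x : M, (x : G) ∉ Cfsg.typeA M → col μ g.1 x = ξ x := by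
    intro x hx
    by_cases hxK : (x : G) ∈ ⁅M, M⁆
    · by_cases hx1 : x = 1
      · rw [hx1, hdeg]
      · rw [hm.col_eq g x hxK, supp_irr hG hM hP (hirrμ _) (hm.not_kernel g hg) hxK hx1 hx, mul_zero,
          supp_irr hG hM hP hξ hker hxK hx1 hx]
    · rw [hm.off g x hxK, hoff x hxK]
  refine ⟨hsupp, hξ, fun x hx => hoff x fun hd => ?_, fun x hx => hsupp x fun h' => hx (Or.inl h')⟩
  have := TP.vset_notMem_derived hG hM hP hx (g := 1)
  simp only [one_mul, inv_one, mul_one] at this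
  exact this hd

open scoped Classical in
/-- **The grid of `Ind_{M'}^M 1 - ζ`** for a core equal to `M'`. -/
theorem xf_ind (hG : Cfsg.IsMinSimpleOddOrder G) (hM : IsCoatom M) (hP : Cfsg.IsTypePWith M W₁ U W₂)
    (hcore : Cfsg.typeCore M = ⁅M, M⁆) (hw : (Nat.card W₁).Prime) (hp : (Nat.card W₂).Prime)
    {χ : (↥(W₁ ⊔ W₂) →* ℂˣ) → (G → ℂ)} (h : Setup M χ (Cfsg.typeA0 M) (fun _ => ⊥) μ δ) {ζ : M → ℂ}
    (hζ : Cfsg.IsIrrCharacter M ζ) (hoff : ∀ x : M, (x : G) ∉ ⁅M, M⁆ → ζ x = 0) (hdeg : ζ 1 = Nat.card W₁) :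
    ((∀ (f : FstChar W₁ W₂) (g : SndChar W₁ W₂),
        Cfsg.classInner (Cfsg.dadeIsometry (Cfsg.typeA0 M) M (fun _ => ⊥)
          ((fun x : M => if (x : G) ∈ ⁅M, M⁆ then (Nat.card W₁ : ℂ) else 0) - ζ)) (χ (f.1 * g.1)) =
          if g = snd₀ W₁ W₂ then 1 else 0) ∧
      Signed G (col χ 1 - Cfsg.dadeIsometry (Cfsg.typeA0 M) M (fun _ => ⊥)
          ((fun x : M => if (x : G) ∈ ⁅M, M⁆ then (Nat.card W₁ : ℂ) else 0) - ζ)) ∧
      ∀ (f : FstChar W₁ W₂) (g : SndChar W₁ W₂),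
        Cfsg.classInner (col χ 1 - Cfsg.dadeIsometry (Cfsg.typeA0 M) M (fun _ => ⊥)
          ((fun x : M => if (x : G) ∈ ⁅M, M⁆ then (Nat.card W₁ : ℂ) else 0) - ζ)) (χ (f.1 * g.1)) = 0) ∨
    (Nat.card W₂ < Nat.card W₁ ∧ ∀ (f : FstChar W₁ W₂) (g : SndChar W₁ W₂),
        Cfsg.classInner (Cfsg.dadeIsometry (Cfsg.typeA0 M) M (fun _ => ⊥)
          ((fun x : M => if (x : G) ∈ ⁅M, M⁆ then (Nat.card W₁ : ℂ) else 0) - ζ)) (χ (f.1 * g.1)) =
          if f = fst₀ W₁ W₂ then 1 else 0) := by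
  set K : Subgroup M := (⁅M, M⁆ : Subgroup G).subgroupOf M with hKdef
  haveI hKn : K.Normal := Subgroup.normal_subgroupOf_of_le_normalizer DadeSets.derived_normal
  set P : M → ℂ := fun x => if (x : G) ∈ ⁅M, M⁆ then (Nat.card W₁ : ℂ) else 0 with hPdef
  have hVK : ∀ x : M, (x : G) ∈ vset W₁ W₂ → (x : G) ∉ ⁅M, M⁆ := fun x hx => by
    simpa using TP.vset_notMem_derived hG hM hP hx (g := 1)
  have hidx : (Nat.card M : ℂ) = (Nat.card K : ℂ) * Nat.card W₁ := by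
    rw [Nat.card_congr (Subgroup.subgroupOfEquivOfLe (derived_le M)).toEquiv]
    exact_mod_cast TP.card_eq hP
  have hK0 : (Nat.card K : ℂ) ≠ 0 := Nat.cast_ne_zero.mpr Nat.card_pos.ne'
  have hind : P = Cfsg.indFun K (fun _ => 1) := by
    funext x
    by_cases hx : (x : G) ∈ ⁅M, M⁆
    · rw [hPdef]; dsimp only
      rw [if_pos hx, show x = ((⟨x, hx⟩ : K) : M) from rfl, indFun_apply_of_normal, Finset.sum_const,
        Finset.card_univ, nsmul_eq_mul, mul_one, ← Nat.card_eq_fintype_card, hidx, inv_mul_cancel_left₀ hK0]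
    · rw [hPdef]; dsimp only
      rw [if_neg hx, indFun_eq_zero_of_normal K _ (g := x) hx]
  have hsum : ∀ φ : M → ℂ, (∀ x : M, (x : G) ∉ ⁅M, M⁆ → φ x = 0) →
      ∀ x, P x * φ x = (Nat.card W₁ : ℂ) * φ x := fun φ hφ x => by
    by_cases hx : (x : G) ∈ ⁅M, M⁆
    · rw [hPdef]; simp [hx]
    · rw [hφ x hx, mul_zero, mul_zero]
  have hPsum : ∑ x : M, P x = Nat.card M := by
    rw [hPdef, ← Finset.sum_filter, Finset.sum_const, nsmul_eq_mul, hidx]
    congr 2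
    rw [← Fintype.card_subtype, ← Nat.card_eq_fintype_card]
    rfl
  have hM0 : (Nat.card M : ℂ) ≠ 0 := Nat.cast_ne_zero.mpr Nat.card_pos.ne'
  have hζne : ζ ≠ fun _ => 1 := fun e => by
    obtain ⟨v, hv⟩ := vset_nonempty h.selfNormalizing
    have := hoff ⟨v, h.le (mem_vset.mp hv).1⟩ (hVK ⟨v, h.le (mem_vset.mp hv).1⟩ hv)
    rw [e] at this
    exact one_ne_zero this
  refine h.xf hw hp (ζ := ζ) ?_ (fun σ x => ?_) (fun x hx => if_neg (hVK x hx))
    (fun x hx => hoff x (hVK x hx)) ?_ ?_ ?_ hζ fun x hx => ?_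
  · rw [hind]
    exact IsCharacter.isGeneralizedCharacter (IsCharacter.indFun K isCharacter_one)
  · rw [hPdef]
    dsimp only
    split_ifs <;> simp
  · rw [Cfsg.classInner]
    rw [show ∑ x : M, P x * (starRingEnd ℂ) (P x) = (Nat.card W₁ : ℂ) * ∑ x : M, P x by
      rw [Finset.mul_sum]
      refine Finset.sum_congr rfl fun x _ => ?_
      rw [hPdef]; dsimp only
      split_ifs <;> simp, hPsum]
    field_simp
  · rw [classInner_fun_one_right, hPsum, inv_mul_cancel₀ hM0]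
  · have h1 : Cfsg.classInner P ζ = (Nat.card W₁ : ℂ) * (starRingEnd ℂ) (Cfsg.classInner ζ fun _ => 1) := by
      rw [classInner_fun_one_right, map_mul, map_inv₀, map_natCast, map_sum, Cfsg.classInner,
        Finset.sum_congr rfl fun x _ => hsum (fun y => (starRingEnd ℂ) (ζ y))
          (fun y hy => by rw [hoff y hy, map_zero]) x, ← Finset.mul_sum]
      ring
    rw [h1, classInner_irr_ne hζ isIrrCharacter_one hζne, map_zero, mul_zero]
  · by_cases hxK : (x : G) ∈ ⁅M, M⁆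
    · by_cases hx1 : x = 1
      · rw [hx1, hdeg]; exact if_pos (one_mem _)
      · refine absurd (Or.inl ?_) hx
        rw [TP.typeA_eq hG hM hP]
        exact ⟨hxK, fun e => hx1 (Subtype.ext e), x, hcore ▸ hxK, fun e => hx1 (Subtype.ext e), rfl⟩
    · rw [hoff x hxK]; exact if_neg hxK

/-- Swapping the factors of a cyclic TI family. -/
theorem swap_family {χ : (↥(W₁ ⊔ W₂) →* ℂˣ) → (G → ℂ)} (hχ : Cfsg.IsCyclicTIFamily W₁ W₂ χ) :
    Cfsg.IsCyclicTIFamily W₂ W₁ fun ω =>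
      χ (ω.comp (MulEquiv.subgroupCongr (sup_comm W₁ W₂)).toMonoidHom) := by
  set e := MulEquiv.subgroupCongr (sup_comm W₁ W₂) with he
  have hinj : Function.Injective fun ω : ↥(W₂ ⊔ W₁) →* ℂˣ => ω.comp e.toMonoidHom := fun a b hab =>
    MonoidHom.ext fun w => by simpa using DFunLike.congr_fun hab (e.symm w)
  refine ⟨fun ω => hχ.irr_or_neg _, fun ω ω' => ?_, hχ.map_one, fun ω w h1 h2 => ?_,
    fun φ ψ hφ hψ h2 h1 => ?_⟩
  · rw [hχ.orthonormal]
    by_cases hωω : ω = ω'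
    · rw [if_pos hωω, if_pos (congrArg (fun t => MonoidHom.comp t e.toMonoidHom) hωω)]
    · rw [if_neg hωω, if_neg fun e' => hωω (hinj e')]
  · have := hχ.eq_on (ω.comp e.toMonoidHom) (e.symm w) h2 h1
    rw [show ((e.symm w : ↥(W₁ ⊔ W₂)) : G) = (w : G) from rfl, MonoidHom.comp_apply] at this
    simpa using this
  · have hne : ∀ {t : ↥(W₂ ⊔ W₁) →* ℂˣ}, t ≠ 1 → t.comp e.toMonoidHom ≠ 1 := fun ht e' => ht (hinj e')
    have := hχ.induced_eq (ψ.comp e.toMonoidHom) (φ.comp e.toMonoidHom) (hne hψ) (hne hφ)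
      (fun w hw => h1 (e w) hw) (fun w hw => h2 (e w) hw)
    funext g
    have e2 : φ.comp e.toMonoidHom * ψ.comp e.toMonoidHom = ψ.comp e.toMonoidHom * φ.comp e.toMonoidHom :=
      MonoidHom.ext fun _ => mul_comm _ _
    have hg := congrFun this g
    rw [← e2] at hg
    refine Eq.trans ?_ (hg.trans (by rw [MonoidHom.mul_comp]; ring))
    simp only [Cfsg.indFun, show Nat.card ↥(W₂ ⊔ W₁) = Nat.card ↥(W₁ ⊔ W₂) by rw [sup_comm]]
    congr 1
    refine Finset.sum_congr rfl fun y _ => ?_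
    by_cases hy : y⁻¹ * g * y ∈ W₁ ⊔ W₂
    · have hy' : y⁻¹ * g * y ∈ W₂ ⊔ W₁ := by rwa [sup_comm]
      rw [extendByZero_apply_mem _ _ hy, extendByZero_apply_mem _ _ hy']
      simp only [MonoidHom.comp_apply, MulEquiv.coe_toMonoidHom]
      rw [show e ⟨y⁻¹ * g * y, hy⟩ = ⟨y⁻¹ * g * y, hy'⟩ from rfl]
      ring
    · rw [extendByZero_apply_notMem _ _ hy, extendByZero_apply_notMem _ _ (by rwa [sup_comm])]

end CfsgLib.OddOrder.Final.Grid
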