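import Cfsg.Agent.Lib.OddOrder.Final.Assembly
import Cfsg.Agent.Lib.OddOrder.Final.GridSetup
import Cfsg.Agent.Lib.OddOrder.Final.NeighbourFam
import Cfsg.Agent.Lib.Char.CyclicTIGalois
import Cfsg.Agent.S1508
import Cfsg.Agent.S1389
import Cfsg.Agent.S1502

/-!
The side with the smaller complement is of Type II: for Type III the family of the linear characters of `M'/M_F`
would have too much mass on the elements outside the three supports.
-/

set_option autoImplicit false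

open scoped ComplexConjugate

namespace CfsgLib.OddOrder.Final.DOne

open CfsgLib.Char CfsgLib.Char.CyclicTI
open Engine (orbit mem_orbit meas)
open Grid (col fst₀ snd₀)

/-- A grid `x i + y l` of squared norm at most `|ι| + 1` with corner `1` is the first column. -/
theorem one_col {ι κ : Type*} [Fintype ι] [Fintype κ] [DecidableEq κ] (hι : 3 ≤ Fintype.card ι)
    (hlt : Fintype.card ι + 2 ≤ Fintype.card κ) (a : ι → κ → ℤ) (x : ι → ℤ) (y : κ → ℤ)
    (ha : ∀ i l, a i l = x i + y l) (i₀ : ι) (l₀ : κ) (h00 : a i₀ l₀ = 1)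
    (hsum : ∑ i, ∑ l, a i l ^ 2 ≤ (Fintype.card ι : ℤ) + 1) : ∀ i l, a i l = if l = l₀ then 1 else 0 := by
  classical
  obtain ⟨l₁, hl₁⟩ : ∃ l, ∀ i, a i l = 0 := by
    by_contra hn
    push Not at hn
    choose f hf using hn
    have h1 : (Fintype.card κ : ℤ) ≤ ∑ i, ∑ l, a i l ^ 2 := by
      rw [Finset.sum_comm]
      calc (Fintype.card κ : ℤ) = ∑ _l : κ, (1 : ℤ) := by simp
        _ ≤ ∑ l, ∑ i, a i l ^ 2 := Finset.sum_le_sum fun l _ => le_trans
          (sq_pos_iff.mpr (hf l) : 0 < a (f l) l ^ 2)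
          (Finset.single_le_sum (f := fun i => a i l ^ 2) (fun i _ => sq_nonneg _) (Finset.mem_univ (f l)))
    omega
  have hconst : ∀ i l, a i l = a i₀ l := fun i l => by
    linarith [ha i l, ha i₀ l, ha i l₁, ha i₀ l₁, hl₁ i, hl₁ i₀]
  have hsum' : (Fintype.card ι : ℤ) * ∑ l, a i₀ l ^ 2 ≤ (Fintype.card ι : ℤ) + 1 := by
    refine le_trans (le_of_eq ?_) hsum
    rw [Finset.sum_congr rfl fun i _ => Finset.sum_congr rfl fun l _ => by rw [hconst i l], Finset.sum_const,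
      Finset.card_univ, nsmul_eq_mul]
  intro i l
  rw [hconst]
  split_ifs with h
  · rw [h, h00]
  · by_contra hne
    have h2 : (2 : ℤ) ≤ ∑ l, a i₀ l ^ 2 := le_trans (by
      rw [Finset.sum_pair (Ne.symm h), h00]
      linarith [(sq_pos_iff.mpr hne : 0 < a i₀ l ^ 2)])
      (Finset.sum_le_sum_of_subset_of_nonneg (Finset.subset_univ ({l₀, l} : Finset κ)) fun _ _ _ => sq_nonneg _)
    have h3 : (Fintype.card ι : ℤ) * 2 ≤ (Fintype.card ι : ℤ) * ∑ l, a i₀ l ^ 2 :=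
      mul_le_mul_of_nonneg_left h2 (by positivity)
    omega

variable {G : Type*} [Group G] [Fintype G] {W₁ W₂ : Subgroup G} {χ : (↥(W₁ ⊔ W₂) →* ℂˣ) → (G → ℂ)}
  {X : Set G} {n : ℕ} {Φ : G → ℂ} {ψ : Fin n → G → ℂ} {d : Fin n → ℕ} {i₀ : Fin n} {c : Fin n → Fin n}

/-- A family avoiding the regular elements is orthogonal to the members, and its first member is the column
outside the support. -/
theorem eq_col (hW : Cfsg.IsSelfNormalizingCyclic W₁ W₂) (hodd : Odd (Nat.card ↥(W₁ ⊔ W₂)))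
    (hχ : Cfsg.IsCyclicTIFamily W₁ W₂ χ) (F : Neighbour.Fam X (Nat.card W₁) Φ ψ d i₀ c)
    (hX : ∀ v ∈ vset W₁ W₂, v ∉ X) (hlt : Nat.card W₁ + 2 ≤ Nat.card W₂)
    (hN : Nat.card W₁ + 2 < Neighbour.wt d) {g : G} (hg : g ∉ X) : ψ i₀ g = col χ 1 g := by
  classical
  haveI := finite_hom (W₁ := W₁) (W₂ := W₂)
  cases nonempty_fintype (FstChar W₁ W₂)
  cases nonempty_fintype (SndChar W₁ W₂)
  obtain ⟨hc1, hc2⟩ := card_fstChar hW
  rw [Nat.card_eq_fintype_card (α := FstChar W₁ W₂)] at hc1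
  rw [Nat.card_eq_fintype_card (α := SndChar W₁ W₂)] at hc2
  obtain ⟨h31, -, -, -⟩ := Grid.three_le hW hodd
  have hψ : Signed G (ψ i₀) := by
    obtain ⟨z, φ, hz, e⟩ := CharDeep.GenChar.exists_sign_irr (F.gen i₀) (F.norm_one i₀)
    rcases hz with rfl | rfl
    · exact Or.inl (by rw [e]; simpa using φ.2)
    · exact Or.inr (by rw [e]; simpa using φ.2)
  have horth : ∀ ω, Cfsg.classInner (ψ i₀) (χ ω) = 0 := by
    intro ω
    by_contra hne
    have hψω : ∃ z : ℂ, (z = 1 ∨ z = -1) ∧ ψ i₀ = z • χ ω := by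
      rcases Signed.eq_or_eq_neg hψ (hχ.irr_or_neg ω) hne with e | e
      · exact ⟨1, Or.inl rfl, by rw [e, one_smul]⟩
      · exact ⟨-1, Or.inr rfl, by rw [e, neg_one_smul]⟩
    obtain ⟨z, hz, e⟩ := hψω
    have hcz : conj z = z := by rcases hz with rfl | rfl <;> simp
    have hz0 : z ≠ 0 := by rcases hz with rfl | rfl <;> simp
    have hreal : ∀ v : ↥(W₁ ⊔ W₂), (v : G) ∉ W₁ → (v : G) ∉ W₂ → ω v = 1 := by
      intro v h1 h2
      have hv : (v : G) ∈ vset W₁ W₂ := mem_vset.mpr ⟨v.2, h1, h2⟩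
      have h3 := F.conj_mem i₀ (v : G)
      rw [F.diff_van (c i₀) _ (hX _ hv), F.conj_weight, F.weight_zero, Nat.cast_one, one_mul, e, Pi.smul_apply,
        smul_eq_mul, map_mul, hcz, hχ.eq_on ω v h1 h2] at h3
      have h4 := mul_left_cancel₀ hz0 h3
      obtain ⟨r, hr⟩ := Complex.conj_eq_iff_real.mp h4
      have hpow : (ω v : ℂ) ^ Nat.card ↥(W₁ ⊔ W₂) = 1 := by
        rw [← Units.val_pow_eq_pow_val, ← map_pow, pow_card_eq_one', map_one, Units.val_one]
      rw [hr] at hpow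
      have hr1 : r ^ Nat.card ↥(W₁ ⊔ W₂) = 1 := by exact_mod_cast hpow
      exact Units.ext (by rw [hr, hodd.pow_injective (hr1.trans (one_pow _).symm), Units.val_one]; simp)
    have hω : ω = 1 := by
      obtain ⟨v, hv⟩ := Grid.vset_nonempty hW
      obtain ⟨hv0, hv1, hv2⟩ := mem_vset.mp hv
      refine (Grid.eq_of_value hW hodd (c := 1) (c' := 1) one_ne_zero one_ne_zero fun w hw => ?_).1
      by_cases hw1 : (w : G) ∈ W₁
      · obtain ⟨b, hb, hb1⟩ := (Subgroup.bot_or_exists_ne_one W₂).resolve_left hW.2.1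
        set b' : ↥(W₁ ⊔ W₂) := ⟨b, Subgroup.mem_sup_right hb⟩
        set b2 : ↥(W₁ ⊔ W₂) := ⟨b * b, Subgroup.mem_sup_right (W₂.mul_mem hb hb)⟩
        have hne : ∀ t : ↥(W₁ ⊔ W₂), (t : G) ∈ W₂ → (t : G) ≠ 1 → ω (w * t) = 1 := fun t ht ht1 => by
          refine hreal _ (fun h' => ht1 ?_) fun h' => hw ?_
          · exact Subgroup.mem_bot.mp (hW.2.2.1.le ⟨(Subgroup.mul_mem_cancel_left W₁ hw1).mp h', ht⟩)
          · exact (Subgroup.mul_mem_cancel_right W₂ ht).mp h'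
        have hbb : (b2 : G) ≠ 1 := fun e2 => hb1 (by
          have h2 : orderOf b ∣ 2 := orderOf_dvd_of_pow_eq_one (by rw [sq]; exact e2)
          rcases (Nat.dvd_prime Nat.prime_two).mp h2 with h5 | h5
          · exact orderOf_eq_one_iff.mp h5
          · have h6 : Odd (orderOf b) := hodd.of_dvd_nat
              (Subgroup.orderOf_dvd_natCard _ (Subgroup.mem_sup_right hb))
            rw [h5] at h6
            exact absurd h6 (by decide))
        have h7 := hne b' hb hb1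
        have h8 := hne b2 (W₂.mul_mem hb hb) hbb
        rw [show b2 = b' * b' from Subtype.ext rfl, ← mul_assoc, map_mul, h7, one_mul] at h8
        rw [map_mul, h8, mul_one] at h7
        simp [h7]
      · simp [hreal w hw1 hw]
    have h5 := F.orth_one i₀
    rw [e, hω, hχ.map_one, classInner_smul_left, Neighbour.inner_one_one, mul_one] at h5
    exact hz0 h5
  obtain ⟨a, ha⟩ := Grid.exists_grid hW hχ F.gen_Φ
  have hΦV : ∀ v ∈ vset W₁ W₂, Φ v = 0 := fun v hv => F.van v (hX v hv)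
  have hlin : ∀ i l, a i l = a i (snd₀ W₁ W₂) +
      (a (fst₀ W₁ W₂) l - a (fst₀ W₁ W₂) (snd₀ W₁ W₂)) := fun i l => by
    have e := Grid.coef_mul hW hχ (IsGeneralizedCharacter.isClassFunction F.gen_Φ) hΦV i l
    have e1 := ha i (snd₀ W₁ W₂)
    have e2 := ha (fst₀ W₁ W₂) l
    have e3 := ha (fst₀ W₁ W₂) (snd₀ W₁ W₂)
    rw [show i.1 * (snd₀ W₁ W₂).1 = i.1 from Grid.hom_mul_one' _] at e1
    rw [show (fst₀ W₁ W₂).1 * l.1 = l.1 from Grid.hom_one_mul' _] at e2
    rw [show (fst₀ W₁ W₂).1 * (snd₀ W₁ W₂).1 = 1 from Grid.hom_mul_one' _] at e3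
    rw [ha, e1, e2, e3] at e
    have e' : a i l = a i (snd₀ W₁ W₂) + a (fst₀ W₁ W₂) l - a (fst₀ W₁ W₂) (snd₀ W₁ W₂) := by exact_mod_cast e
    linarith
  have h00 : a (fst₀ W₁ W₂) (snd₀ W₁ W₂) = 1 := by
    have e := ha (fst₀ W₁ W₂) (snd₀ W₁ W₂)
    rw [show (fst₀ W₁ W₂).1 * (snd₀ W₁ W₂).1 = 1 from Grid.hom_mul_one' _, hχ.map_one, F.inner_one] at e
    exact_mod_cast e.symm
  have hb := Grid.bessel hW hχ F.gen_Φ ha (N := Nat.card W₁ + 1) (by rw [F.norm]; push_cast; rfl)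
  have hcol := one_col (by omega) (by omega) a (fun i => a i (snd₀ W₁ W₂))
    (fun l => a (fst₀ W₁ W₂) l - a (fst₀ W₁ W₂) (snd₀ W₁ W₂)) hlin (fst₀ W₁ W₂) (snd₀ W₁ W₂) h00
    (le_trans hb.1 (by rw [hc1]; push_cast; rfl))
  have hD : (∑ f, ∑ l, (a f l : ℂ) • χ (f.1 * l.1)) = col χ 1 := by
    rw [Grid.col_eq_sum]
    refine Finset.sum_congr rfl fun f _ => ?_
    rw [Finset.sum_eq_single (snd₀ W₁ W₂) (fun l _ hl => by simp [hcol, hl]) (by simp), hcol, if_pos rfl]
    simp [snd₀]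
  have hsq : ∑ f, ∑ l, a f l ^ 2 + 1 = ((Nat.card W₁ + 1 : ℕ) : ℤ) := by
    rw [Finset.sum_congr rfl fun f _ => Finset.sum_eq_single (snd₀ W₁ W₂)
      (fun l _ hl => by simp [hcol, hl]) (by simp)]
    simp [hcol, hc1]
  obtain ⟨hs, -⟩ := hb.2.2 hsq
  rw [hD] at hs
  have hone : Cfsg.classInner (col χ 1 - Φ) (ψ i₀) = 1 := by
    rw [classInner_sub_left, F.coef_eq hN, if_pos rfl, Grid.col_eq_sum, classInner_sum_left,
      Finset.sum_eq_zero fun f _ => by rw [← classInner_conj_symm, horth, map_zero]]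
    ring
  have heq : col χ 1 - Φ = ψ i₀ := by
    rcases Signed.eq_or_eq_neg hs hψ (by rw [hone]; exact one_ne_zero) with e | e
    · exact e
    · rw [e, classInner_neg_left, hψ.classInner_self] at hone
      norm_num at hone
  rw [← heq, Pi.sub_apply, F.van g hg, sub_zero]

/-- The column is non-zero at the elements of order prime to `|W₁|`. -/
theorem col_ne_zero (hW : Cfsg.IsSelfNormalizingCyclic W₁ W₂) (hodd : Odd (Nat.card ↥(W₁ ⊔ W₂)))
    (hχ : Cfsg.IsCyclicTIFamily W₁ W₂ χ) (hq : (Nat.card W₁).Prime) {g : G}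
    (hg : (orderOf g).Coprime (Nat.card W₁)) : col χ 1 g ≠ 0 := by
  classical
  haveI := finite_hom (W₁ := W₁) (W₂ := W₂)
  cases nonempty_fintype (FstChar W₁ W₂)
  obtain ⟨hc1, -⟩ := card_fstChar hW
  rw [Nat.card_eq_fintype_card (α := FstChar W₁ W₂)] at hc1
  obtain ⟨h3, -, -, -⟩ := Grid.three_le hW hodd
  have hint : ∀ f : FstChar W₁ W₂, ∃ m : ℤ, χ f.1 g = m := fun f => by
    refine Cfsg.Agent.S1508.result W₁ W₂ hW hodd χ hχ f.1 g (hg.coprime_dvd_right ?_)
    refine orderOf_dvd_of_pow_eq_one (hom_eq_one _ (fun w hw => ?_) fun w hw => ?_)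
    · rw [MonoidHom.pow_apply, ← map_pow, show w ^ Nat.card W₁ = 1 from Subtype.ext
        (by simpa using orderOf_dvd_iff_pow_eq_one.mp (Subgroup.orderOf_dvd_natCard W₁ hw)), map_one]
    · rw [MonoidHom.pow_apply, f.2 w hw, one_pow]
  obtain ⟨f₁, hf₁⟩ : ∃ f₁ : FstChar W₁ W₂, f₁ ≠ fst₀ W₁ W₂ :=
    Fintype.exists_ne_of_one_lt_card (by omega) _
  obtain ⟨m, hm⟩ := hint f₁
  have hall : ∀ f : FstChar W₁ W₂, f ≠ fst₀ W₁ W₂ → χ f.1 g = m := fun f hf => by
    obtain ⟨σ, hσ⟩ := Grid.exists_galois hW (Or.inl ⟨rfl, rfl⟩) hq f₁.2 f.2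
      (fun e => hf₁ (Subtype.ext e)) (fun e => hf (Subtype.ext e))
    rw [← hσ, ← family_map hW hodd hχ σ, hm, map_intCast]
  rw [Grid.col_eq_sum, Finset.sum_apply, ← Finset.add_sum_erase _ _ (Finset.mem_univ (fst₀ W₁ W₂)),
    show (fst₀ W₁ W₂).1 * 1 = 1 from Grid.hom_mul_one' _, hχ.map_one,
    Finset.sum_congr rfl fun f hf => by rw [Grid.hom_mul_one', hall f (Finset.ne_of_mem_erase hf)],
    Finset.sum_const, Finset.card_erase_of_mem (Finset.mem_univ _), Finset.card_univ, hc1, nsmul_eq_mul]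
  intro h0
  obtain ⟨b, hb⟩ : ∃ b, Nat.card W₁ - 1 = 2 * b := by
    obtain ⟨t, ht⟩ := hodd.of_dvd_nat (Subgroup.card_dvd_of_le (le_sup_left : W₁ ≤ W₁ ⊔ W₂))
    exact ⟨t, by omega⟩
  rw [hb] at h0
  have h1 : ((1 + (2 * b : ℕ) * m : ℤ) : ℂ) = ((0 : ℤ) : ℂ) := by push_cast; push_cast at h0; exact h0
  have h2 : 1 + (2 * b : ℕ) * m = 0 := Int.cast_injective h1
  push_cast at h2
  have h3' : (2 : ℤ) ∣ 1 := ⟨-((b : ℤ) * m), by linarith⟩
  norm_num at h3'

variable {S T U V : Subgroup G}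

/-- An element outside the conjugates of the regular part and of `A(T)` has order prime to `q`. -/
theorem coprime_order' (hG : Cfsg.IsMinSimpleOddOrder G) (hsS : Side S W₁ U W₂) (hsT : Side T W₂ V W₁)
    (hne : Nat.card W₁ ≠ Nat.card W₂) (hT : Cfsg.IsOfTypeII T)
    {g : G} (hV : g ∉ orbit (W₁ ⊔ W₂) (vset W₁ W₂)) (hA : g ∉ orbit T (Cfsg.typeA T)) :
    (orderOf g).Coprime (Nat.card W₁) := by
  classical
  rw [Nat.coprime_comm]
  refine hsS.prime₁.coprime_iff_not_dvd.mpr fun hdvd => ?_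
  set q := Nat.card W₁ with hqd
  haveI : Fact q.Prime := ⟨hsS.prime₁⟩
  set y := g ^ (orderOf g / q) with hy
  have hyo : orderOf y = q := orderOf_pow_orderOf_div (orderOf_pos g).ne' hdvd
  have hcard := hsT.card_fit hG hT
  obtain ⟨-, hhall, -⟩ := Cfsg.Agent.S1389.result hG T hsT.coatom
  set Q := Cfsg.fittingHallOf T with hQd
  let PQ : Sylow q G := Sylow.ofCard Q (by
    rw [hcard]
    have hd : ∀ t, q ^ t ∣ Nat.card Q → t ≤ Nat.card W₂ := fun t ht => by
      rw [hcard] at ht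
      exact (Nat.pow_dvd_pow_iff_le_right hsS.prime₁.one_lt).mp ht
    have hne : Nat.card G ≠ 0 := Nat.card_pos.ne'
    congr 1
    rw [← Subgroup.card_mul_index Q, Nat.factorization_mul Nat.card_pos.ne' Subgroup.index_ne_zero_of_finite,
      Finsupp.add_apply, hcard, hsS.prime₁.factorization_pow, Finsupp.single_eq_same,
      Nat.factorization_eq_zero_of_not_dvd, add_zero]
    intro hi
    refine hsS.prime₁.ne_one (Nat.eq_one_of_dvd_coprimes hhall ?_ hi)
    rw [hcard]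
    exact dvd_pow_self q hsT.prime₁.ne_zero)
  obtain ⟨P, hP⟩ := (IsPGroup.of_card (p := q) (G := Subgroup.zpowers y) (n := 1)
    (by rw [Nat.card_zpowers, hyo, pow_one])).exists_le_sylow
  obtain ⟨x, hx⟩ := MulAction.exists_smul_eq G P PQ
  have hyQ : x * y * x⁻¹ ∈ Q := by
    have h1 : x * y * x⁻¹ ∈ ((x • P : Sylow q G) : Subgroup G) := by
      rw [Sylow.coe_subgroup_smul]
      exact ⟨y, hP (Subgroup.mem_zpowers y), rfl⟩
    rw [hx] at h1
    exact h1
  set g' := x * g * x⁻¹ with hg'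
  set y' := x * y * x⁻¹ with hy'
  have hy1 : y' ≠ 1 := fun e => by
    rw [hy', conj_eq_one_iff] at e
    rw [e, orderOf_one] at hyo
    exact hsS.prime₁.ne_one hyo.symm
  have hcore := Side.typeCore_II hG hsT hT
  have hcomm : g' * y' = y' * g' :=
    DadeSets.conj_commute (m := x) ((Commute.refl g).pow_right (orderOf g / q)).eq
  have hyA : y' ∈ Cfsg.typeA T := TP.typeA1_sub hG hsT.coatom hsT.typeP
    ⟨hcore.symm ▸ hyQ, hy1⟩
  have hgT : g' ∈ T := TP.centralizer_le hG hsT.coatom hsT.typeP (Or.inl hyA)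
    (Subgroup.mem_centralizer_singleton_iff.mpr hcomm)
  have hgo : orderOf g' = orderOf g := orderOf_conj x g
  have hgd : g' ∉ ⁅T, T⁆ := fun hd => hA (mem_orbit.mpr ⟨⟨g', hgT⟩, by
    rw [TP.typeA_eq hG hsT.coatom hsT.typeP]
    refine ⟨hd, fun (e : g' = 1) => hy1 ?_, y', hcore.symm ▸ hyQ, hy1, hcomm⟩
    have e' : g = 1 := conj_eq_one_iff.mp (show x * g * x⁻¹ = 1 from e)
    show x * y * x⁻¹ = 1
    rw [hy, e', one_pow, mul_one, mul_inv_cancel], x, rfl⟩)
  -- the `p`-part of `g'` is conjugate into `W₂`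
  set p := Nat.card W₂ with hpd
  have hp : p ∣ orderOf g' := by
    by_contra hn
    refine hgd ?_
    have hpc : (orderOf g').Coprime p := Nat.coprime_comm.mp (hsS.prime₂.coprime_iff_not_dvd.mpr hn)
    obtain ⟨a, ha, b, hb, e⟩ := hsT.typeP.W₁_compl.2.2.2 g' hgT
    have hidx : (⁅T, T⁆.subgroupOf T).index = p := Basic.IsComplIn.relIndex_left hsT.typeP.W₁_compl
    haveI : (⁅T, T⁆.subgroupOf T).Normal :=
      Subgroup.normal_subgroupOf_of_le_normalizer DadeSets.derived_normal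
    have h1 : ((⟨g', hgT⟩ : T) : T ⧸ ⁅T, T⁆.subgroupOf T) = 1 := by
      refine orderOf_eq_one_iff.mp (Nat.eq_one_of_dvd_coprimes hpc ?_ ?_)
      · refine (orderOf_map_dvd (QuotientGroup.mk' (⁅T, T⁆.subgroupOf T)) (⟨g', hgT⟩ : T)).trans ?_
        rw [← Subgroup.orderOf_coe]
      · rw [← hidx, Subgroup.index_eq_card]
        exact orderOf_dvd_natCard _
    exact Subgroup.mem_subgroupOf.mp ((QuotientGroup.eq_one_iff (⟨g', hgT⟩ : T)).mp h1)
  set z := g' ^ (orderOf g' / p)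
  have hzo : orderOf z = p := orderOf_pow_orderOf_div (orderOf_pos g').ne' hp
  obtain ⟨s, hs, hsz⟩ := TP.exists_conj_W₁ hG hsT.coatom hsT.typeP hsT.prime₁
    (pow_mem hgT _) hzo
  have hz1 : s * z * s⁻¹ ≠ 1 := fun e => by
    rw [conj_eq_one_iff] at e
    rw [e, orderOf_one] at hzo
    exact hsS.prime₂.ne_one hzo.symm
  set g'' := s * g' * s⁻¹ with hg''
  have hcz : (s * z * s⁻¹) * g'' = g'' * (s * z * s⁻¹) :=
    DadeSets.conj_commute (m := s) ((Commute.refl g').pow_left (orderOf g' / p)).eq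
  obtain ⟨a, ha, b, hb, e⟩ := hsT.typeP.W₁_compl.2.2.2 g'' (mul_mem (mul_mem hs hgT) (inv_mem hs))
  haveI := hsT.typeP.W₁_cyclic
  have hbz : (s * z * s⁻¹) * b = b * (s * z * s⁻¹) :=
    congrArg (fun w : W₂ => (w : G)) (IsCyclic.commGroup.mul_comm (⟨_, hsz⟩ : W₂) ⟨b, hb⟩)
  have haz : (s * z * s⁻¹) * a = a * (s * z * s⁻¹) := by
    have h1 : (s * z * s⁻¹) * (a * b) = a * b * (s * z * s⁻¹) := by rw [← e]; exact hcz
    have h2 : (s * z * s⁻¹) * a * b = a * (s * z * s⁻¹) * b := by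
      rw [mul_assoc, h1, mul_assoc, ← hbz, ← mul_assoc]
    exact mul_right_cancel h2
  have haW := TP.eq_of_mem_derived hsT.typeP hsz hz1 ha haz
  have hmem : g'' ∈ W₁ ⊔ W₂ := e ▸ mul_mem (Subgroup.mem_sup_left haW) (Subgroup.mem_sup_right hb)
  have hgo'' : orderOf g'' = orderOf g := (orderOf_conj s g').trans hgo
  have hqp : q.Coprime p := (Nat.coprime_primes hsS.prime₁ hsS.prime₂).mpr hne
  have hv : g'' ∈ vset W₁ W₂ := by
    refine mem_vset.mpr ⟨hmem, fun h1 => ?_, fun h1 => ?_⟩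
    · refine hsS.prime₂.ne_one (Nat.eq_one_of_dvd_coprimes hqp ?_ dvd_rfl)
      exact hp.trans ((orderOf_conj s g') ▸ Subgroup.orderOf_dvd_natCard W₁ h1)
    · refine hsS.prime₁.ne_one (Nat.eq_one_of_dvd_coprimes hqp dvd_rfl ?_)
      exact hdvd.trans (hgo'' ▸ Subgroup.orderOf_dvd_natCard W₂ h1)
  refine hV (mem_orbit.mpr ⟨⟨g'', hmem⟩, hv, s * x, ?_⟩)
  simp only [hg'', hg']
  group

/-- Outside the three supports every order is prime to `q`. -/
theorem coprime_order (hG : Cfsg.IsMinSimpleOddOrder G) (h : Pair S T W₁ W₂ U V) (hT : Cfsg.IsOfTypeII T)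
    {g : G} (hV : g ∉ orbit (W₁ ⊔ W₂) (vset W₁ W₂)) (hA : g ∉ orbit T (Cfsg.typeA T)) :
    (orderOf g).Coprime (Nat.card W₁) :=
  coprime_order' hG h.sideS h.sideT h.lt.ne hT hV hA

theorem card_orbit {M : Subgroup G} {A : Set G} (hD : Cfsg.DadeHypothesis A M fun _ => ⊥) :
    ((orbit M A).card : ℝ) = meas M A * Nat.card G := by
  have h := Engine.sum_orbit hD (fun _ => (1 : ℝ)) fun _ _ => rfl
  rw [Finset.sum_const, Finset.sum_const, nsmul_eq_mul, nsmul_eq_mul, mul_one, mul_one] at h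
  rw [meas, ← h]
  field_simp

/-- The final inequality. -/
theorem arith {q p u v N : ℝ} (hq : 3 ≤ q) (hp : q + 2 ≤ p) (hu : p ^ 2 + p ≤ u - 1) (hv : 2 * p + 1 ≤ v)
    (hN : q * p * (2 * p + 1) ≤ N) :
    1 < (u - 1) / q * (1 / p - 1 / (q * p) - 1 / (p * v) - 1 / N) := by
  have hp0 : 0 < p := by linarith
  have hq0 : 0 < q := by linarith
  have h1 : 1 / (p * v) ≤ 1 / (p * (2 * p + 1)) :=
    one_div_le_one_div_of_le (by nlinarith) (mul_le_mul_of_nonneg_left hv hp0.le)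
  have h2 : 1 / N ≤ 1 / (q * p * (2 * p + 1)) := one_div_le_one_div_of_le (by positivity) hN
  have h3 : 1 / p - 1 / (q * p) - 1 / (p * (2 * p + 1)) - 1 / (q * p * (2 * p + 1)) ≤
      1 / p - 1 / (q * p) - 1 / (p * v) - 1 / N := by linarith
  have h4 : 1 / p - 1 / (q * p) - 1 / (p * (2 * p + 1)) - 1 / (q * p * (2 * p + 1)) =
      (2 * p * q - 2 * p - 2) / (q * p * (2 * p + 1)) := by field_simp; ring
  have h5 : 0 ≤ (2 * p * q - 2 * p - 2) / (q * p * (2 * p + 1)) := div_nonneg (by nlinarith) (by positivity)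
  have h6 : (p ^ 2 + p) / q ≤ (u - 1) / q := by gcongr
  have h7 : 1 < (p ^ 2 + p) / q * ((2 * p * q - 2 * p - 2) / (q * p * (2 * p + 1))) := by
    rw [div_mul_div_comm, one_lt_div (by positivity)]
    have h8 : (p + 1) * (2 * p * q - 2 * p - 2) > q * q * (2 * p + 1) := by
      nlinarith [mul_nonneg (sub_nonneg.mpr hp) (by nlinarith : (0 : ℝ) ≤ 2 * p * (q - 1)),
        mul_nonneg (sub_nonneg.mpr hq) hp0.le]
    nlinarith [mul_lt_mul_of_pos_left h8 hp0]
  calc (1 : ℝ) < _ := h7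
    _ ≤ (u - 1) / q * (1 / p - 1 / (q * p) - 1 / (p * v) - 1 / N) :=
      mul_le_mul h6 (by rw [← h4]; exact h3) h5 (le_trans (by positivity) h6)

/-- **D1.** The small side with full `U` is of Type II. -/
theorem typeII (hG : Cfsg.IsMinSimpleOddOrder G) (h : Pair S T W₁ W₂ U V)
    (hU : IsCyclic U) (hgeom : Nat.card U = (Nat.card W₂ ^ Nat.card W₁ - 1) / (Nat.card W₂ - 1))
    (hT : Cfsg.IsOfTypeII T → Full T W₂ V W₁) : Cfsg.IsOfTypeII S := by
  classical
  by_contra hII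
  have hTII := h.typeII.resolve_left hII
  have hFT := hT hTII
  have hUc : IsMulCommutative U := by haveI := hU; exact ⟨⟨fun a b => IsCyclic.commGroup.mul_comm a b⟩⟩
  have hIII : Cfsg.IsOfTypeIII S := by
    rcases h.sideS.types.resolve_left hII with h3 | ⟨W', X', Y', hP', -, -, -, hX, -⟩
    · exact h3
    exfalso
    refine hX ?_
    have hsol : Group.IsSolvable ↥⁅S, S⁆ :=
      hG.2.2.2 _ fun e => h.sideS.coatom.1 (top_le_iff.mp (e ▸ derived_le S))
    have hcop : ∀ {W X Y : Subgroup G}, Cfsg.IsTypePWith S W X Y →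
        (Nat.card (Cfsg.fittingHallOf S)).Coprime ((Cfsg.fittingHallOf S).relIndex ⁅S, S⁆) := fun hP => by
      rw [Basic.IsComplIn.relIndex_left hP.U_compl]; exact TP.coprime_fit_U hP
    obtain ⟨a, -, e⟩ := Coprime.hall_conj hsol (TypeP.hall_of_compl (hcop h.sideS.typeP) h.sideS.typeP.U_compl)
      (TypeP.hall_of_compl (hcop h.sideS.typeP) hP'.U_compl)
    rw [← e]
    exact Subgroup.map_isMulCommutative U _
  obtain ⟨n, Φ, ψ, d, i₀, c, F, hw⟩ := Neighbour.fam_typeIII hG h.sideS.coatom h.sideS.typeP hUc h.sideS.U_ne hIII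
  set q := Nat.card W₁ with hqd
  set p := Nat.card W₂ with hpd
  have hW := h.sideS.typeP.selfNormalizing
  have hodd : Odd (Nat.card ↥(W₁ ⊔ W₂)) := hG.1.of_dvd_nat (Subgroup.card_subgroup_dvd_card _)
  obtain ⟨hq3, -, hqo, hpo⟩ := Grid.three_le hW hodd
  have hlt := h.lt
  have hp2 : q + 2 ≤ p := by obtain ⟨a, ha⟩ := hqo; obtain ⟨b, hb⟩ := hpo; omega
  obtain ⟨χ, hχ⟩ := Cfsg.Agent.S1502.result W₁ W₂ hW hodd
  have hu : p ^ 2 + p + 1 ≤ Nat.card U := hgeom.symm ▸ (by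
    rw [← Nat.geomSum_eq h.sideS.prime₂.two_le]
    calc p ^ 2 + p + 1 = ∑ i ∈ Finset.range 3, p ^ i := by simp [Finset.sum_range_succ]; ring
      _ ≤ _ := Finset.sum_le_sum_of_subset (Finset.range_subset_range.mpr hq3))
  have hwt : q + 2 < Neighbour.wt d := by
    have h3 : (q + 3) * q ≤ Nat.card U - 1 := by
      have : (q + 3) * q ≤ (p + 1) * p := Nat.mul_le_mul (by omega) (by omega)
      have h4 : (p + 1) * p = p ^ 2 + p := by ring
      omega
    rw [← hw] at h3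
    have := Nat.le_of_mul_le_mul_right h3 (by omega)
    omega
  have hcore := Side.typeCore_34 hII h.sideS
  have hX : ∀ g, g ∈ Dade.supp (Cfsg.typeA1 S) S (fun _ => (⊥ : Subgroup G)) ↔
      g ∈ orbit S (Cfsg.typeA1 S) := fun g => by simp [orbit]
  have hA1 : Cfsg.typeA1 S = Cfsg.typeA S := by
    refine Set.Subset.antisymm (fun a ha => TP.typeA1_sub hG h.sideS.coatom h.sideS.typeP ha) fun a ha => ?_
    rw [TP.typeA_eq hG h.sideS.coatom h.sideS.typeP] at ha
    exact ⟨hcore.symm ▸ ha.1, ha.2.1⟩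
  have hsides := h.sides hG
  have hXV : ∀ v ∈ vset W₁ W₂, v ∉ Dade.supp (Cfsg.typeA1 S) S (fun _ => (⊥ : Subgroup G)) := fun v hv hm => by
    refine Finset.disjoint_left.mp hsides.disjVA
      (mem_orbit.mpr ⟨⟨v, (mem_vset.mp hv).1⟩, hv, 1, (by group : (1 : G) * v * 1⁻¹ = v)⟩) ?_
    rw [← hA1]
    exact (hX v).mp hm
  -- the remaining elements
  set oV := orbit (W₁ ⊔ W₂) (vset W₁ W₂)
  set oS := orbit S (Cfsg.typeA S)
  set oT := orbit T (Cfsg.typeA T)
  set Z : Finset G := Finset.univ \ (insert 1 (oV ∪ oS ∪ oT))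
  have hval : ∀ g ∈ Z, 1 ≤ ‖ψ i₀ g‖ ^ 2 ∨ ψ i₀ g ≠ 0 := fun g hg => by
    simp only [Z, Finset.mem_sdiff, Finset.mem_insert, Finset.mem_union, not_or] at hg
    obtain ⟨-, hg1, ⟨hgV, hgS⟩, hgT⟩ := hg
    right
    rw [eq_col hW hodd hχ F hXV hp2 hwt fun hm => hgS (by
      have h' := (hX g).mp hm
      rwa [hA1] at h')]
    exact col_ne_zero hW hodd hχ h.sideS.prime₁ (coprime_order hG h hTII hgV hgT)
  have hZX : ∀ g ∈ Z, g ∉ Dade.supp (Cfsg.typeA1 S) S (fun _ => (⊥ : Subgroup G)) := fun g hg hm => by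
    simp only [Z, Finset.mem_sdiff, Finset.mem_insert, Finset.mem_union, not_or] at hg
    have h' := (hX g).mp hm
    rw [hA1] at h'
    exact hg.2.2.1.2 h'
  have hZpow : ∀ g ∈ Z, ∀ k : ℕ, k.Coprime (orderOf g) → g ^ k ∈ Z := by
    intro g hg k hk
    simp only [Z, Finset.mem_sdiff, Finset.mem_univ, true_and, Finset.mem_insert, Finset.mem_union, not_or] at hg ⊢
    obtain ⟨m, hm⟩ := exists_pow_eq_self_of_coprime hk
    obtain ⟨hg1, ⟨hgV, hgS⟩, hgT⟩ := hg
    have hco : ∀ {M : Subgroup G} {A : Set G}, (∀ a ∈ A, ∀ j : ℕ, j.Coprime (orderOf a) → a ^ j ∈ A) →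
        g ^ k ∈ orbit M A → g ∈ orbit M A := fun {M A} hA hgk => by
      have hmc : m.Coprime (orderOf (g ^ k)) := by
        have h1 : orderOf ((g ^ k) ^ m) = orderOf (g ^ k) := by rw [hm, Nat.Coprime.orderOf_pow hk.symm]
        rw [orderOf_pow] at h1
        exact Nat.coprime_comm.mp ((Nat.div_eq_self.mp h1).resolve_left (orderOf_pos _).ne')
      simpa [hm] using Engine.orbit_pow hA hgk hmc
    refine ⟨fun e => hg1 (by rw [← hm, e, one_pow]), ⟨fun h' => hgV (hco (fun a ha j hj => VSet.pow_mem ha hj) h'),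
      fun h' => hgS (hco hsides.stableA h')⟩, fun h' => hgT (hco hsides.stableB h')⟩
  have hmass := F.mass_out Z hZX
  have hZle : (Z.card : ℝ) ≤ ∑ g ∈ Z, ‖ψ i₀ g‖ ^ 2 := by
    have h1 := GaloisMass.card_ne_zero_le (F.gen i₀) Z hZpow
    refine le_trans (le_of_eq ?_) h1
    congr 1
    rw [Finset.filter_true_of_mem fun g hg => ?_]
    rcases hval g hg with h2 | h2
    · intro e; rw [e] at h2; norm_num at h2
    · exact h2
  have hGc : (Nat.card G : ℝ) ≤ Z.card + (1 + oV.card + oS.card + oT.card) := by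
    have h1 : (Finset.univ : Finset G).card ≤ Z.card + (insert 1 (oV ∪ oS ∪ oT)).card := by
      simp only [Z]
      exact Finset.card_le_card_sdiff_add_card
    have h2 := Finset.card_insert_le (1 : G) (oV ∪ oS ∪ oT)
    have h3 := Finset.card_union_le (oV ∪ oS) oT
    have h4 := Finset.card_union_le oV oS
    rw [Finset.card_univ, ← Nat.card_eq_fintype_card] at h1
    exact_mod_cast (show Nat.card G ≤ Z.card + (1 + oV.card + oS.card + oT.card) by omega)
  have hV0 := card_orbit (VSet.dade hW h.nonempty_vset)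
  have hS0 := card_orbit hsides.dadeA
  have hT0 := card_orbit hsides.dadeB
  rw [VSet.meas_vset hW] at hV0
  -- the measures of the supports
  have hmS : meas S (Cfsg.typeA S) ≤ 1 / (q : ℝ) := by
    have h1 : (Engine.pts S (Cfsg.typeA S)).card ≤ Nat.card ↥⁅S, S⁆ := by
      rw [Nat.card_eq_fintype_card, ← Finset.card_univ]
      refine Finset.card_le_card_of_injOn (fun a => if hh : (a : G) ∈ ⁅S, S⁆ then ⟨a, hh⟩ else 1)
        (fun _ _ => Finset.mem_univ _) fun a ha b hb e => ?_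
      have hm : ∀ z : S, z ∈ Engine.pts S (Cfsg.typeA S) → (z : G) ∈ ⁅S, S⁆ := fun z hz => by
        have hz' := Engine.mem_pts.mp hz
        rw [TP.typeA_eq hG h.sideS.coatom h.sideS.typeP] at hz'
        exact hz'.1
      simp only [dif_pos (hm a ha), dif_pos (hm b hb)] at e
      exact Subtype.ext (congrArg (fun z : ↥⁅S, S⁆ => (z : G)) e)
    rw [meas, TP.card_eq h.sideS.typeP]
    push_cast
    rw [inv_mul_le_iff₀ (mul_pos (by norm_cast; exact Nat.card_pos) (Nat.cast_pos.mpr Nat.card_pos))]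
    calc ((Engine.pts S (Cfsg.typeA S)).card : ℝ) ≤ Nat.card ↥⁅S, S⁆ := Nat.cast_le.mpr h1
      _ = _ := by rw [hqd]; field_simp
  have hmT : meas T (Cfsg.typeA T) ≤ 1 / ((p : ℝ) * Nat.card V) := by
    have h1 : (Engine.pts T (Cfsg.typeA T)).card ≤ Nat.card ↥(Cfsg.fittingHallOf T) := by
      rw [Nat.card_eq_fintype_card, ← Finset.card_univ]
      refine Finset.card_le_card_of_injOn (fun a => if hh : (a : G) ∈ Cfsg.fittingHallOf T then ⟨a, hh⟩ else 1)
        (fun _ _ => Finset.mem_univ _) fun a ha b hb e => ?_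
      have hm : ∀ z : T, z ∈ Engine.pts T (Cfsg.typeA T) → (z : G) ∈ Cfsg.fittingHallOf T := fun z hz => by
        have hz' := Engine.mem_pts.mp hz
        rw [TP.typeA_eq hG h.sideT.coatom h.sideT.typeP, Side.typeCore_II hG h.sideT hTII] at hz'
        obtain ⟨hzd, -, x, hx, hx1, hc⟩ := hz'
        obtain ⟨f, hf, v, hv, e⟩ := h.sideT.typeP.U_compl.2.2.2 _ hzd
        have hv1 : v = 1 := by
          by_contra hne
          refine hx1 (hFT.fpf v hv hne x hx ?_)
          have hfx : f * x = x * f :=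
            congrArg (fun z : ↥(Cfsg.fittingHallOf T) => (z : G)) (hFT.elementary.1.is_comm.comm ⟨f, hf⟩ ⟨x, hx⟩)
          have h3 : f * (v * x) = f * (x * v) := by
            rw [← mul_assoc, ← e, hc, e, ← mul_assoc, ← mul_assoc, hfx]
          exact mul_left_cancel h3
        rw [e, hv1, mul_one]
        exact hf
      simp only [dif_pos (hm a ha), dif_pos (hm b hb)] at e
      exact Subtype.ext (congrArg (fun z : ↥(Cfsg.fittingHallOf T) => (z : G)) e)
    rw [meas, TP.card_eq h.sideT.typeP, TP.card_derived h.sideT.typeP]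
    push_cast
    rw [inv_mul_le_iff₀ (mul_pos (mul_pos (Nat.cast_pos.mpr Nat.card_pos) (Nat.cast_pos.mpr Nat.card_pos)) (Nat.cast_pos.mpr Nat.card_pos))]
    calc ((Engine.pts T (Cfsg.typeA T)).card : ℝ) ≤ Nat.card ↥(Cfsg.fittingHallOf T) := Nat.cast_le.mpr h1
      _ = _ := by rw [hpd]; field_simp
  -- arithmetic
  have hv2 : 2 * p + 1 ≤ Nat.card V := by
    have h1 := (TP.fpf h.sideT.typeP)
    have h2 : Nat.card V ≡ 1 [MOD p] := (Full.toNeighbour h.sideT hFT).U_mod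
    have h3 : 1 < Nat.card V := (Subgroup.one_lt_card_iff_ne_bot V).mpr h.sideT.U_ne
    obtain ⟨t, ht⟩ := (Nat.modEq_iff_dvd' (by omega)).mp h2.symm
    obtain ⟨b, hb⟩ := hpo
    obtain ⟨c', hc'⟩ := hG.1.of_dvd_nat (Subgroup.card_subgroup_dvd_card V)
    have ht0 : t ≠ 0 := by rintro rfl; omega
    have ht1 : t ≠ 1 := by rintro rfl; omega
    have : p * 2 ≤ p * t := Nat.mul_le_mul_left p (by omega)
    omega
  have hGbig : q * p * (2 * p + 1) ≤ Nat.card G := by
    have h1 := Subgroup.card_le_card_group T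
    rw [TP.card_eq h.sideT.typeP, TP.card_derived h.sideT.typeP, hFT.card_fit] at h1
    refine le_trans ?_ h1
    rw [← hqd, ← hpd]
    calc q * p * (2 * p + 1) ≤ q ^ p * Nat.card V * p := by
          rw [mul_right_comm]
          exact Nat.mul_le_mul_right _ (Nat.mul_le_mul (Nat.le_self_pow (by omega) q) hv2)
      _ = _ := rfl
  have hq3' : (3 : ℝ) ≤ q := by exact_mod_cast hq3
  have hp2' : (q : ℝ) + 2 ≤ p := by exact_mod_cast hp2
  have hu' : (p : ℝ) ^ 2 + p ≤ (Nat.card U : ℝ) - 1 := by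
    have h1 : ((p : ℝ) ^ 2 + p + 1) ≤ Nat.card U := by exact_mod_cast hu
    linarith
  have hA := arith hq3' hp2' hu' (v := Nat.card V) (N := Nat.card G) (by exact_mod_cast hv2)
    (by exact_mod_cast hGbig)
  have hwr : (Neighbour.wt d : ℝ) = ((Nat.card U : ℝ) - 1) / q := by
    rw [eq_div_iff (by positivity)]
    have h1 : ((Neighbour.wt d * q : ℕ) : ℝ) = ((Nat.card U - 1 : ℕ) : ℝ) := by rw [hw]
    push_cast [Nat.cast_sub (show 1 ≤ Nat.card U by omega)] at h1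
    linarith
  rw [← hwr] at hA
  have hG0 : (0 : ℝ) < Nat.card G := Nat.cast_pos.mpr Nat.card_pos
  have hw0 : (0 : ℝ) ≤ Neighbour.wt d := Nat.cast_nonneg _
  have hlow : (1 / (p : ℝ) - 1 / ((q : ℝ) * p) - 1 / ((p : ℝ) * Nat.card V) - 1 / (Nat.card G : ℝ)) * Nat.card G ≤
      Z.card := by
    have h5 : (1 / (Nat.card G : ℝ)) * Nat.card G = 1 := by field_simp
    have h6 := mul_le_mul_of_nonneg_right hmS hG0.le
    have h7 := mul_le_mul_of_nonneg_right hmT hG0.le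
    have h8 : (1 - (q : ℝ)⁻¹) * (1 - (p : ℝ)⁻¹) = 1 - 1 / (q : ℝ) - 1 / p + 1 / (q * p) := by field_simp; ring
    rw [h8] at hV0
    nlinarith
  have h9 : (Neighbour.wt d : ℝ) *
      ((1 / (p : ℝ) - 1 / ((q : ℝ) * p) - 1 / ((p : ℝ) * Nat.card V) - 1 / (Nat.card G : ℝ)) * Nat.card G) ≤
      Nat.card G := (mul_le_mul_of_nonneg_left (hlow.trans hZle) hw0).trans hmass
  rw [← mul_assoc] at h9
  nlinarith

end CfsgLib.OddOrder.Final.DOne
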