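import Cfsg.Agent.Lib.OddOrder.Final.GaloisMass
import Cfsg.Agent.Lib.Char.DadeGen
import Cfsg.Agent.Lib.Char.Induced
import Cfsg.Agent.Lib.Char.Orth
import Mathlib

set_option autoImplicit false

/-!
The inequality for a virtual character of norm one on three disjoint unions of conjugates of TI sets.

For a TI set `A` with normaliser `M` (Dade hypothesis with trivial subgroups) we write
`tot c = |M|⁻¹ ∑_A c` and `mass c = |M|⁻¹ ∑_A ‖c‖²`: these are the mean and the squared mass of a class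
function on the conjugates of `A`, normalised by `|G|`.
-/

open scoped ComplexConjugate

namespace CfsgLib.OddOrder.Final.Engine

open CfsgLib.Char

variable {G : Type*} [Group G]

open scoped Classical in
/-- The members of `A` in `M`. -/
noncomputable def pts [Finite G] (M : Subgroup G) (A : Set G) : Finset M :=
  haveI := Fintype.ofFinite M
  Finset.univ.filter fun a : M => (a : G) ∈ A

/-- `|M|⁻¹ ∑_A c`. -/
noncomputable def tot [Finite G] (M : Subgroup G) (A : Set G) (c : G → ℂ) : ℂ :=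
  (Nat.card M : ℂ)⁻¹ * ∑ a ∈ pts M A, c a

/-- `|M|⁻¹ ∑_A ‖c‖²`. -/
noncomputable def mass [Finite G] (M : Subgroup G) (A : Set G) (c : G → ℂ) : ℝ :=
  (Nat.card M : ℝ)⁻¹ * ∑ a ∈ pts M A, ‖c a‖ ^ 2

/-- `|A| / |M|`. -/
noncomputable def meas [Finite G] (M : Subgroup G) (A : Set G) : ℝ :=
  (Nat.card M : ℝ)⁻¹ * (pts M A).card

theorem mem_pts [Finite G] {M : Subgroup G} {A : Set G} {a : M} : a ∈ pts M A ↔ (a : G) ∈ A := by
  simp [pts]

variable [Fintype G] {M : Subgroup G} {A : Set G}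

open scoped Classical in
/-- The conjugates of `A`. -/
noncomputable def orbit (M : Subgroup G) (A : Set G) : Finset G :=
  Finset.univ.filter (· ∈ Dade.supp A M fun _ => ⊥)

theorem mem_orbit {g : G} : g ∈ orbit M A ↔ ∃ a : M, (a : G) ∈ A ∧ ∃ x : G, x * g * x⁻¹ = a := by
  classical
  unfold orbit
  rw [Finset.mem_filter]
  simp only [Finset.mem_univ, true_and]
  constructor
  · rintro ⟨a, ha, x, u, hu, e⟩
    rw [Subgroup.mem_bot.mp hu, mul_one] at e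
    exact ⟨a, ha, x, e⟩
  · rintro ⟨a, ha, x, e⟩
    exact ⟨a, ha, x, 1, Subgroup.one_mem _, by rw [mul_one, e]⟩

omit [Fintype G] in
theorem avg_bot {K : Type*} [Field K] {_ : Fintype (⊥ : Subgroup G)} (F : G → K) (a : G) :
    ((Nat.card (⊥ : Subgroup G) : K))⁻¹ * ∑ u : (⊥ : Subgroup G), F (a * u) = F a := by
  rw [Nat.card_eq_one_iff_unique.mpr ⟨inferInstance, inferInstance⟩, Nat.cast_one, inv_one, one_mul,
    Fintype.sum_subsingleton _ (1 : (⊥ : Subgroup G))]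
  simp

theorem orbit_pow (hA : ∀ a ∈ A, ∀ k : ℕ, k.Coprime (orderOf a) → a ^ k ∈ A) {g : G}
    (hg : g ∈ orbit M A) {k : ℕ} (hk : k.Coprime (orderOf g)) : g ^ k ∈ orbit M A := by
  obtain ⟨a, ha, x, e⟩ := mem_orbit.mp hg
  have ho : orderOf (a : G) = orderOf g := by
    rw [← e, ← MulAut.conj_apply, MulEquiv.orderOf_eq]
  refine mem_orbit.mpr ⟨a ^ k, by simpa using hA _ ha k (ho ▸ hk), x, ?_⟩
  rw [SubmonoidClass.coe_pow, ← e, conj_pow]

theorem sum_orbit {K : Type*} [Field K] [CharZero K] (hD : Cfsg.DadeHypothesis A M fun _ => ⊥)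
    (F : G → K) (hF : ∀ g y : G, F (y * g * y⁻¹) = F g) :
    (Nat.card G : K)⁻¹ * ∑ g ∈ orbit M A, F g = (Nat.card M : K)⁻¹ * ∑ a ∈ pts M A, F a := by
  classical
  haveI := Fintype.ofFinite M
  have h := Dade.sum_supp hD F hF
  simp only [avg_bot] at h
  have hG : (Nat.card G : K) ≠ 0 := Nat.cast_ne_zero.mpr Nat.card_pos.ne'
  have hM : (Nat.card M : K) ≠ 0 := Nat.cast_ne_zero.mpr Nat.card_pos.ne'
  rw [inv_mul_eq_iff_eq_mul₀ hG, mul_left_comm, eq_inv_mul_iff_mul_eq₀ hM]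
  unfold orbit pts
  convert h using 3
  ext a
  simp

theorem sum_orbit_eq_tot (hD : Cfsg.DadeHypothesis A M fun _ => ⊥) {c : G → ℂ} (hc : Cfsg.IsClassFunction G c) :
    (Nat.card G : ℂ)⁻¹ * ∑ g ∈ orbit M A, c g = tot M A c := sum_orbit hD c fun g y => hc g y

theorem sum_orbit_eq_mass (hD : Cfsg.DadeHypothesis A M fun _ => ⊥) {c : G → ℂ} (hc : Cfsg.IsClassFunction G c) :
    (Nat.card G : ℝ)⁻¹ * ∑ g ∈ orbit M A, ‖c g‖ ^ 2 = mass M A c :=
  sum_orbit hD (fun g => ‖c g‖ ^ 2) fun g y => by simp only [hc g y]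

open scoped Classical in
/-- **The engine.** Three disjoint orbits and a virtual character of norm one orthogonal to `1`. -/
theorem three {M₁ M₂ M₃ : Subgroup G} {A₁ A₂ A₃ : Set G}
    (h₁ : Cfsg.DadeHypothesis A₁ M₁ fun _ => ⊥) (h₂ : Cfsg.DadeHypothesis A₂ M₂ fun _ => ⊥)
    (h₃ : Cfsg.DadeHypothesis A₃ M₃ fun _ => ⊥)
    (d₁₂ : Disjoint (orbit M₁ A₁) (orbit M₂ A₂)) (d₁₃ : Disjoint (orbit M₁ A₁) (orbit M₃ A₃))
    (d₂₃ : Disjoint (orbit M₂ A₂) (orbit M₃ A₃))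
    (s₁ : ∀ a ∈ A₁, ∀ k : ℕ, k.Coprime (orderOf a) → a ^ k ∈ A₁)
    (s₂ : ∀ a ∈ A₂, ∀ k : ℕ, k.Coprime (orderOf a) → a ^ k ∈ A₂)
    (s₃ : ∀ a ∈ A₃, ∀ k : ℕ, k.Coprime (orderOf a) → a ^ k ∈ A₃)
    {c : G → ℂ} (hc : Cfsg.IsGeneralizedCharacter G c) (hn : Cfsg.classInner c c = 1)
    (h0 : Cfsg.classInner c (fun _ => 1) = 0) :
    ‖tot M₁ A₁ c + tot M₂ A₂ c + tot M₃ A₃ c‖ + mass M₁ A₁ c + mass M₂ A₂ c + mass M₃ A₃ c ≤ 1 := by
  have hcf := IsGeneralizedCharacter.isClassFunction hc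
  set U := orbit M₁ A₁ ∪ orbit M₂ A₂ ∪ orbit M₃ A₃ with hU
  have hUd : Disjoint (orbit M₁ A₁ ∪ orbit M₂ A₂) (orbit M₃ A₃) := Finset.disjoint_union_left.mpr ⟨d₁₃, d₂₃⟩
  set Y := Finset.univ \ U with hY
  have hUpow : ∀ g ∈ U, ∀ k : ℕ, k.Coprime (orderOf g) → g ^ k ∈ U := by
    intro g hg k hk
    simp only [hU, Finset.mem_union] at hg ⊢
    rcases hg with (hg | hg) | hg
    · exact Or.inl (Or.inl (orbit_pow s₁ hg hk))
    · exact Or.inl (Or.inr (orbit_pow s₂ hg hk))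
    · exact Or.inr (orbit_pow s₃ hg hk)
  have hYpow : ∀ g ∈ Y, ∀ k : ℕ, k.Coprime (orderOf g) → g ^ k ∈ Y := by
    intro g hg k hk
    refine Finset.mem_sdiff.mpr ⟨Finset.mem_univ _, fun h => (Finset.mem_sdiff.mp hg).2 ?_⟩
    obtain ⟨m, hm⟩ := exists_pow_eq_self_of_coprime hk
    obtain ⟨m', hm', hco⟩ : ∃ m' : ℕ, (g ^ k) ^ m' = g ∧ m'.Coprime (orderOf (g ^ k)) := by
      refine ⟨m, hm, ?_⟩
      have h1 : orderOf ((g ^ k) ^ m) = orderOf (g ^ k) := by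
        rw [hm, Nat.Coprime.orderOf_pow hk.symm]
      rw [orderOf_pow] at h1
      exact (Nat.coprime_comm.mp ((Nat.div_eq_self.mp h1).resolve_left (orderOf_pos _).ne'))
    have := hUpow _ h m' hco
    rwa [hm'] at this
  have hY1 := GaloisMass.norm_sum_le hc Y hYpow
  have hsplit : ∀ {K : Type} [Field K] [CharZero K] (F : G → K), ∑ g, F g =
      ∑ g ∈ Y, F g + (∑ g ∈ orbit M₁ A₁, F g + ∑ g ∈ orbit M₂ A₂, F g + ∑ g ∈ orbit M₃ A₃, F g) := by
    intro K _ _ F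
    rw [← Finset.sum_union d₁₂, ← Finset.sum_union hUd, ← hU, hY, Finset.sum_sdiff (Finset.subset_univ _)]
  have hG : (Nat.card G : ℂ) ≠ 0 := Nat.cast_ne_zero.mpr Nat.card_pos.ne'
  have hsum : ∑ g, c g = 0 := by
    simpa [Cfsg.classInner, hG] using h0
  have htot : tot M₁ A₁ c + tot M₂ A₂ c + tot M₃ A₃ c = -((Nat.card G : ℂ)⁻¹ * ∑ g ∈ Y, c g) := by
    rw [← sum_orbit_eq_tot h₁ hcf, ← sum_orbit_eq_tot h₂ hcf, ← sum_orbit_eq_tot h₃ hcf]
    have := hsplit c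
    rw [hsum] at this
    linear_combination (-(Nat.card G : ℂ)⁻¹) * this
  have hmass : mass M₁ A₁ c + mass M₂ A₂ c + mass M₃ A₃ c + (Nat.card G : ℝ)⁻¹ * ∑ g ∈ Y, ‖c g‖ ^ 2 = 1 := by
    rw [← sum_orbit_eq_mass h₁ hcf, ← sum_orbit_eq_mass h₂ hcf, ← sum_orbit_eq_mass h₃ hcf]
    rw [classInner_self, Complex.ofReal_eq_one, hsplit] at hn
    linear_combination hn
  rw [htot, norm_neg, norm_mul, norm_inv, Complex.norm_natCast]
  have hle := mul_le_mul_of_nonneg_left hY1 (by positivity : (0 : ℝ) ≤ (Nat.card G : ℝ)⁻¹)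
  linarith

open scoped Classical in
/-- A test function with norm equal to its inner product with `c` accounts for that much mass. -/
theorem side_split [Fintype M] (hD : Cfsg.DadeHypothesis A M fun _ => ⊥) {c : G → ℂ}
    (hc : Cfsg.IsClassFunction G c) {P : M → ℂ} (hP : Cfsg.IsClassFunction M P)
    (hPA : ∀ a : M, (a : G) ∉ A → P a = 0)
    (hpair : Cfsg.classInner (Cfsg.dadeIsometry A M (fun _ => ⊥) P) c = Cfsg.classInner P P) :
    mass M A c = (Cfsg.classInner P P).re + (Nat.card M : ℝ)⁻¹ * ∑ a ∈ pts M A, ‖c a - P a‖ ^ 2 := by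
  have hM : (Nat.card M : ℂ) ≠ 0 := Nat.cast_ne_zero.mpr Nat.card_pos.ne'
  have hsub : ∀ f : M → ℂ, ∑ a ∈ pts M A, P a * f a = ∑ a, P a * f a := fun f =>
    Finset.sum_subset (Finset.subset_univ _) fun a _ ha => by rw [hPA a fun h => ha (mem_pts.mpr h), zero_mul]
  have h1 : ∑ a ∈ pts M A, P a * conj (c a - P a) = 0 := by
    rw [Dade.classInner_dade' hD hP hPA hc (fun a => c a) fun a _ => (avg_bot c _).symm] at hpair
    unfold Cfsg.classInner at hpair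
    rw [hsub]
    simp only [map_sub, mul_sub, Finset.sum_sub_distrib]
    rw [sub_eq_zero]
    exact mul_left_cancel₀ (inv_ne_zero hM) hpair
  have h2 : ∀ a : M, ‖c a‖ ^ 2 = ‖P a‖ ^ 2 + ‖c a - P a‖ ^ 2 + 2 * (P a * conj (c a - P a)).re := by
    intro a
    simp only [← Complex.normSq_eq_norm_sq, Complex.normSq_apply, Complex.mul_re, Complex.sub_re, Complex.sub_im,
      Complex.conj_re, Complex.conj_im]
    ring
  have h3 : ∑ a ∈ pts M A, ‖P a‖ ^ 2 = ∑ a, ‖P a‖ ^ 2 :=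
    Finset.sum_subset (Finset.subset_univ _) fun a _ ha => by simp [hPA a fun h => ha (mem_pts.mpr h)]
  rw [mass, Finset.sum_congr rfl fun a _ => h2 a, Finset.sum_add_distrib, Finset.sum_add_distrib,
    ← Finset.mul_sum, ← Complex.re_sum, h1, Complex.zero_re, mul_zero, add_zero, h3, classInner_self,
    Complex.ofReal_re]
  ring

open scoped Classical in
/-- **The bound on the mean**, `‖tot‖ ≤ (mass - ‖P‖²) + meas / 4`. -/
theorem side [Fintype M] (hD : Cfsg.DadeHypothesis A M fun _ => ⊥) {c : G → ℂ}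
    (hc : Cfsg.IsClassFunction G c) {P : M → ℂ} (hP : Cfsg.IsClassFunction M P)
    (hPA : ∀ a : M, (a : G) ∉ A → P a = 0) (hP0 : ∑ a, P a = 0)
    (hpair : Cfsg.classInner (Cfsg.dadeIsometry A M (fun _ => ⊥) P) c = Cfsg.classInner P P) :
    ‖tot M A c‖ + (Cfsg.classInner P P).re ≤ mass M A c + meas M A / 4 := by
  rw [side_split hD hc hP hPA hpair]
  have h0 : ∑ a ∈ pts M A, P a = 0 := by
    rw [Finset.sum_subset (Finset.subset_univ _) fun a _ ha => hPA a fun h => ha (mem_pts.mpr h), hP0]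
  have h1 : tot M A c = (Nat.card M : ℂ)⁻¹ * ∑ a ∈ pts M A, (c a - P a) := by
    rw [Finset.sum_sub_distrib, h0, sub_zero, tot]
  have h2 : ‖∑ a ∈ pts M A, (c a - P a)‖ ≤ ∑ a ∈ pts M A, (‖c a - P a‖ ^ 2 + 1 / 4) :=
    (norm_sum_le _ _).trans (Finset.sum_le_sum fun a _ => by nlinarith [sq_nonneg (‖c a - P a‖ - 1 / 2)])
  rw [Finset.sum_add_distrib, Finset.sum_const, nsmul_eq_mul] at h2
  have hM : (0 : ℝ) ≤ (Nat.card M : ℝ)⁻¹ := by positivity
  rw [h1, norm_mul, norm_inv, Complex.norm_natCast, meas]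
  have h3 := mul_le_mul_of_nonneg_left h2 hM
  linarith

open scoped Classical in
/-- **The bound on the mean with a comparison character** `θ`: the excess `c - θ` is a virtual character
of a subgroup containing `A`. -/
theorem side_small [Fintype M] (hD : Cfsg.DadeHypothesis A M fun _ => ⊥) {c : G → ℂ}
    (hc : Cfsg.IsClassFunction G c) {P : M → ℂ} (hP : Cfsg.IsClassFunction M P)
    (hPA : ∀ a : M, (a : G) ∉ A → P a = 0)
    (hpair : Cfsg.classInner (Cfsg.dadeIsometry A M (fun _ => ⊥) P) c = Cfsg.classInner P P)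
    (F : Subgroup M) (hAF : ∀ a : M, (a : G) ∈ A → a ∈ F)
    (hs : ∀ a ∈ A, ∀ k : ℕ, k.Coprime (orderOf a) → a ^ k ∈ A)
    (θ : M → ℂ) (hf : Cfsg.IsGeneralizedCharacter F fun a => c (a : M) - θ a) {ε : ℝ} (hε : 0 < ε) (hε1 : ε < 1) :
    ‖tot M A c‖ ≤ ‖(Nat.card M : ℂ)⁻¹ * ∑ a ∈ pts M A, θ a‖ +
      (1 - ε)⁻¹ * (mass M A c - (Cfsg.classInner P P).re) +
      ε⁻¹ * ((Nat.card M : ℝ)⁻¹ * ∑ a ∈ pts M A, ‖P a - θ a‖ ^ 2) := by
  rw [side_split hD hc hP hPA hpair, add_sub_cancel_left]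
  haveI : Finite F := inferInstance
  set Y : Finset F := (pts M A).subtype (· ∈ F) with hY
  have hYsum : ∀ {K : Type} [AddCommMonoid K] (f : M → K), ∑ a ∈ Y, f (a : M) = ∑ a ∈ pts M A, f a := by
    intro K _ f
    rw [hY, Finset.sum_subtype_eq_sum_filter]
    exact Finset.sum_congr (Finset.filter_true_of_mem fun a ha => hAF a (mem_pts.mp ha)) fun _ _ => rfl
  have hYpow : ∀ a ∈ Y, ∀ k : ℕ, k.Coprime (orderOf a) → a ^ k ∈ Y := by
    intro a ha k hk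
    rw [hY, Finset.mem_subtype, mem_pts] at ha ⊢
    push_cast
    exact hs _ ha k (by rwa [Subgroup.orderOf_coe, Subgroup.orderOf_coe])
  have h1 := GaloisMass.norm_sum_le hf Y hYpow
  rw [hYsum (fun a => c a - θ a), hYsum (fun a => ‖c a - θ a‖ ^ 2)] at h1
  have hε2 : (0 : ℝ) < 1 - ε := sub_pos.mpr hε1
  have h2 : ∀ a : M, ‖c a - θ a‖ ^ 2 ≤ (1 - ε)⁻¹ * ‖c a - P a‖ ^ 2 + ε⁻¹ * ‖P a - θ a‖ ^ 2 := by
    intro a
    have ht : ‖c a - θ a‖ ≤ ‖c a - P a‖ + ‖P a - θ a‖ := norm_sub_le_norm_sub_add_norm_sub _ _ _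
    refine (pow_le_pow_left₀ (norm_nonneg _) ht 2).trans ?_
    set x := ‖c a - P a‖
    set y := ‖P a - θ a‖
    rw [← sub_nonneg, show (1 - ε)⁻¹ * x ^ 2 + ε⁻¹ * y ^ 2 - (x + y) ^ 2 =
      (ε * x - (1 - ε) * y) ^ 2 / (ε * (1 - ε)) by field_simp; ring]
    positivity
  have h3 := h1.trans (Finset.sum_le_sum fun a _ => h2 a)
  rw [Finset.sum_add_distrib, ← Finset.mul_sum, ← Finset.mul_sum] at h3
  have hM : (0 : ℝ) ≤ (Nat.card M : ℝ)⁻¹ := by positivity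
  have h4 : tot M A c = (Nat.card M : ℂ)⁻¹ * ∑ a ∈ pts M A, θ a +
      (Nat.card M : ℂ)⁻¹ * ∑ a ∈ pts M A, (c a - θ a) := by
    rw [Finset.sum_sub_distrib, tot]; ring
  rw [h4]
  refine (norm_add_le _ _).trans ?_
  rw [norm_mul _ (∑ a ∈ pts M A, (c a - θ a)), norm_inv, Complex.norm_natCast]
  have h5 := mul_le_mul_of_nonneg_left h3 hM
  linarith

end CfsgLib.OddOrder.Final.Engine
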