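import Cfsg.Agent.Lib.OddOrder.Final.Full
import Cfsg.Agent.Lib.Coprime.Abelian
import Cfsg.Agent.Lib.Solvable.FrattiniFitting
import Cfsg.Agent.Lib.Fusion.Thompson
import Cfsg.Agent.Lib.BrauerSuzuki.Derived
import Mathlib

/-!
A side of Type II, III or IV with `U` cyclic of order `(p^q-1)/(p-1)`, faithful on `P = M_F`, and `P = [P,U]`
has the extremal shape: `P` is elementary abelian of order `p ^ q`.
-/

set_option autoImplicit false

namespace CfsgLib.OddOrder.Final

open scoped commutatorElement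

namespace FullAny

/-- With central commutator subgroup inside a group of prime order, the centre has square index. -/
theorem exists_sq_index_center {r : ℕ} (hr : r.Prime) :
    ∀ (n : ℕ) (H : Type*) [Group H] [Finite H], Nat.card H = n → ∀ N : Subgroup H, N ≤ Subgroup.center H →
      Nat.card N = r → (∀ a b : H, ⁅a, b⁆ ∈ N) → ∃ m, (Subgroup.center H).index = m ^ 2 := by
  intro n
  induction n using Nat.strong_induction_on with
  | _ n ih =>
    intro H _ _ hn N hNZ hN hc
    by_cases htop : Subgroup.center H = ⊤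
    · exact ⟨1, by rw [htop, Subgroup.index_top, one_pow]⟩
    let φ : H → H →* N := fun x => MonoidHom.mk' (fun y => ⟨⁅x, y⁆, hc x y⟩) fun a b => Subtype.ext (by
      show ⁅x, a * b⁆ = ⁅x, a⁆ * ⁅x, b⁆
      have h1 : a * ⁅x, b⁆ * a⁻¹ = ⁅x, b⁆ := by
        rw [Subgroup.mem_center_iff.mp (hNZ (hc x b)) a, mul_inv_cancel_right]
      conv_rhs => rw [← h1]
      simp only [commutatorElement_def]; group)
    have hφ : ∀ x y, φ x y = 1 ↔ x * y = y * x := fun x y => by
      rw [← commutatorElement_eq_one_iff_mul_comm]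
      exact ⟨fun e => congrArg Subtype.val e, fun e => Subtype.ext e⟩
    obtain ⟨x, hx⟩ := not_forall.mp (fun h => htop (top_le_iff.mp fun z _ => h z))
    obtain ⟨y, hxy⟩ := not_forall.mp (fun h => hx (Subgroup.mem_center_iff.mpr h))
    haveI := Fact.mk hr
    let ψ : H →* N × N := (φ x).prod (φ y)
    have h1 : φ x y ≠ 1 := fun e => hxy ((hφ x y).mp e).symm
    have h2 : φ y x ≠ 1 := fun e => hxy ((hφ y x).mp e)
    have gen : ∀ a : N, a ≠ 1 → Subgroup.zpowers a = ⊤ := fun a ha => by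
      refine Subgroup.eq_top_of_card_eq _ ?_
      rw [Nat.card_zpowers, hN]
      exact orderOf_eq_prime (by rw [← hN]; exact pow_card_eq_one') ha
    have himg : ∀ K : Subgroup H, x ∈ K → y ∈ K → K.map ψ = ⊤ := by
      intro K hxK hyK
      refine top_le_iff.mp fun ab _ => ?_
      obtain ⟨a, b⟩ := ab
      obtain ⟨i, hi⟩ : a ∈ Subgroup.zpowers (φ x y) := by rw [gen _ h1]; trivial
      obtain ⟨j, hj⟩ : b ∈ Subgroup.zpowers (φ y x) := by rw [gen _ h2]; trivial
      refine ⟨y ^ i * x ^ j, mul_mem (zpow_mem hyK i) (zpow_mem hxK j), ?_⟩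
      have hxx : φ x x = 1 := (hφ x x).mpr rfl
      have hyy : φ y y = 1 := (hφ y y).mpr rfl
      simp only at hi hj
      simp [ψ, MonoidHom.prod_apply, map_mul, map_zpow, hxx, hyy, hi, hj]
    have hsurj : Function.Surjective ψ := fun ab => by
      obtain ⟨z, -, hz⟩ := (himg ⊤ trivial trivial).ge (Subgroup.mem_top ab)
      exact ⟨z, hz⟩
    have hidx : ψ.ker.index = r ^ 2 := by
      rw [Subgroup.index_ker, MonoidHom.range_eq_top.mpr hsurj, Subgroup.card_top, Nat.card_prod, hN, sq]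
    have hZC : Subgroup.center H ≤ ψ.ker := fun z hz => by
      rw [MonoidHom.mem_ker]
      exact Prod.ext ((hφ x z).mpr (Subgroup.mem_center_iff.mp hz x)) ((hφ y z).mpr (Subgroup.mem_center_iff.mp hz y))
    have hlt : Nat.card ψ.ker < n := by
      rw [← hn, ← ψ.ker.card_mul_index, hidx]
      exact lt_mul_of_one_lt_right Nat.card_pos (Nat.one_lt_pow two_ne_zero hr.one_lt)
    have hcen : Subgroup.center ψ.ker = (Subgroup.center H).subgroupOf ψ.ker := by
      refine le_antisymm (fun z hz => ?_) fun z hz => Subgroup.mem_center_iff.mpr fun w =>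
        Subtype.ext (Subgroup.mem_center_iff.mp (Subgroup.mem_subgroupOf.mp hz) w)
      rw [Subgroup.mem_subgroupOf, Subgroup.mem_center_iff]
      have hz' := MonoidHom.mem_ker.mp z.2
      have hK : (φ (z : H)).ker = ⊤ := by
        have hmem : ψ.ker ≤ (φ (z : H)).ker := fun w hw => (hφ (z : H) w).mpr
          (congrArg Subtype.val (Subgroup.mem_center_iff.mp hz ⟨w, hw⟩)).symm
        rw [← Subgroup.comap_map_eq_self hmem, himg _ ?_ ?_, Subgroup.comap_top]
        · exact (hφ (z : H) x).mpr ((hφ x z).mp (Prod.ext_iff.mp hz').1).symm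
        · exact (hφ (z : H) y).mpr ((hφ y z).mp (Prod.ext_iff.mp hz').2).symm
      exact fun w => ((hφ (z : H) w).mp (MonoidHom.mem_ker.mp (hK.ge (Subgroup.mem_top w)))).symm
    have hNC : N ≤ ψ.ker := hNZ.trans hZC
    obtain ⟨m, hm⟩ := ih _ hlt ψ.ker rfl (N.subgroupOf ψ.ker)
      (by rw [hcen]; exact fun w hw => Subgroup.mem_subgroupOf.mpr (hNZ (Subgroup.mem_subgroupOf.mp hw)))
      (by rw [Nat.card_congr (Subgroup.subgroupOfEquivOfLe hNC).toEquiv, hN])
      fun a b => Subgroup.mem_subgroupOf.mpr (hc a b)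
    refine ⟨m * r, ?_⟩
    rw [← Subgroup.relIndex_mul_index hZC, Subgroup.relIndex, ← hcen, hm, hidx, mul_pow]

variable {G : Type*} [Group G] [Finite G]

theorem eq_of_commutator_sup {P A : Subgroup G} [Group.IsNilpotent P] (hA : A ≤ P) (h : P ≤ A ⊔ ⁅P, P⁆) :
    A = P := by
  refine le_antisymm hA (Subgroup.subgroupOf_eq_top.mp (frattini_nongenerating (eq_top_iff.mpr fun x _ => ?_)))
  have h1 : A.subgroupOf P ⊔ commutator P = ⊤ := by
    apply Subgroup.map_injective P.subtype_injective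
    rw [Subgroup.map_sup, Subgroup.map_subgroupOf_eq_of_le hA, Subgroup.map_subtype_commutator,
      ← MonoidHom.range_eq_map, Subgroup.range_subtype]
    exact le_antisymm (sup_le hA (Subgroup.commutator_le_self P)) h
  exact sup_le_sup_left CfsgLib.Solvable.FrattiniFitting.commutator_le_frattini _ (h1.ge (Subgroup.mem_top x))

/-- `[X, U] = 1` and `[Y, U] ≤ X` for subgroups of `P` whose mutual commutator is fixed by `U` give `[X, [P,U]] = 1`. -/
theorem centralized_of_fixed {P U X : Subgroup G} (hPU : P ≤ ⁅P, U⁆) (hX : U ≤ Subgroup.centralizer (X : Set G))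
    (hXP : U ≤ Subgroup.centralizer ((⁅X, P⁆ : Subgroup G) : Set G)) :
    X ≤ Subgroup.centralizer (P : Set G) := by
  have h1 : ⁅⁅U, X⁆, P⁆ = ⊥ := by
    rw [Subgroup.commutator_eq_bot_iff_le_centralizer.mpr hX, Subgroup.commutator_bot_left]
  have h2 : ⁅⁅X, P⁆, U⁆ = ⊥ := by
    rw [Subgroup.commutator_comm, Subgroup.commutator_eq_bot_iff_le_centralizer.mpr hXP]
  have h3 : ⁅⁅P, U⁆, X⁆ = ⊥ := Subgroup.commutator_commutator_eq_bot_of_rotate h1 h2
  have h4 : ⁅P, X⁆ = ⊥ := le_bot_iff.mp ((Subgroup.commutator_mono hPU le_rfl).trans h3.le)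
  rw [Subgroup.commutator_comm] at h4
  exact Subgroup.commutator_eq_bot_iff_le_centralizer.mp h4

variable {M W₁ U W₂ : Subgroup G}

theorem le_normalizer_of_forall {H K : Subgroup G} (h : ∀ g ∈ K, ∀ x ∈ H, g * x * g⁻¹ ∈ H) :
    K ≤ Subgroup.normalizer (H : Set G) := fun g hg => Subgroup.mem_normalizer_iff.mpr fun x =>
  ⟨h g hg x, fun hx => by simpa [mul_assoc] using h _ (inv_mem hg) _ hx⟩

/-- The fixed point formula without assuming that `U` has no fixed point. -/
theorem card_formula (hG : Cfsg.IsMinSimpleOddOrder G) (h : Side M W₁ U W₂)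
    (hW : W₂ ⊓ Subgroup.centralizer (U : Set G) = ⊥) (H : Subgroup G) (hH : H ≤ Cfsg.fittingHallOf M)
    (hn : U ⊔ W₁ ≤ Subgroup.normalizer (H : Set G)) :
    Nat.card H = Nat.card ↥(H ⊓ W₂) ^ Nat.card W₁ *
      Nat.card ↥(H ⊓ Subgroup.centralizer (U : Set G)) := by
  have hP := h.typeP
  have e := Cfsg.Agent.S1545.result U W₁ H h.U_ne hP.W₁_ne (TP.U_inf_W₁ hP)
    (fun e he u hu => (Subgroup.mem_normalizer_iff.mp (hP.U_normal he) u).mp hu) (TP.fpf hP)
    (fun x hx y hy => (Subgroup.mem_normalizer_iff.mp (hn hx) y).mp hy)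
    (le_bot_iff.mp ((inf_le_inf_right _ hH).trans (TP.sup_inf hP).le))
    (hG.2.2.2 H fun e => h.coatom.1 (top_le_iff.mp (e ▸ hH.trans Basic.fittingHallOf_le)))
    (by rw [TP.card_sup hP]
        exact ((TP.coprime_fit_U hP).mul_right (TP.coprime_fit_W₁ hP)).coprime_dvd_left
          (Subgroup.card_dvd_of_le hH))
  have h1 : H ⊓ Subgroup.centralizer (W₁ : Set G) = H ⊓ W₂ := by
    rw [← TP.inf_centralizer_W₁ hP, ← inf_assoc, inf_eq_left.mpr hH]
  have h2 : H ⊓ Subgroup.centralizer ((U ⊔ W₁ : Subgroup G) : Set G) = ⊥ := by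
    refine le_bot_iff.mp (le_trans (fun x hx => ?_) hW.le)
    have hxU := Subgroup.centralizer_le (show (U : Set G) ⊆ (U ⊔ W₁ : Subgroup G) from
      fun y hy => Subgroup.mem_sup_left hy) hx.2
    have hxW := Subgroup.centralizer_le (show (W₁ : Set G) ⊆ (U ⊔ W₁ : Subgroup G) from
      fun y hy => Subgroup.mem_sup_right hy) hx.2
    exact ⟨(h1.le ⟨hx.1, hxW⟩).2, hxU⟩
  rwa [h2, Subgroup.card_bot, one_pow, one_mul, h1] at e

/-- `P = [P, U]`, `U` cyclic faithful of order `(p^q-1)/(p-1)`: `U` has no fixed point on `P`, `P` abelian. -/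
theorem abelian_fpf (hG : Cfsg.IsMinSimpleOddOrder G) (h : Side M W₁ U W₂) (hcyc : IsCyclic U)
    (hgeom : Nat.card U * (Nat.card W₂ - 1) = Nat.card W₂ ^ Nat.card W₁ - 1)
    (hfaith : U ⊓ Subgroup.centralizer (Cfsg.fittingHallOf M : Set G) = ⊥)
    (hPU : Cfsg.fittingHallOf M ≤ ⁅Cfsg.fittingHallOf M, U⁆) :
    IsMulCommutative (Cfsg.fittingHallOf M) ∧
      Cfsg.fittingHallOf M ⊓ Subgroup.centralizer (U : Set G) = ⊥ := by
  have hP := h.typeP
  set P := Cfsg.fittingHallOf M with hPd
  set p := Nat.card W₂ with hp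
  set q := Nat.card W₁ with hq
  haveI hnil : Group.IsNilpotent P := Basic.fittingHallOf_isNilpotent
  have hUn : U ≤ Subgroup.normalizer (P : Set G) := (TP.U_le hP).trans Basic.le_normalizer_fittingHallOf
  have hWn : W₁ ≤ Subgroup.normalizer (P : Set G) := (TP.W₁_le hP).trans Basic.le_normalizer_fittingHallOf
  have hUcomm : ∀ a ∈ U, ∀ b ∈ U, a * b = b * a := fun a ha b hb => by
    haveI := hcyc
    exact congrArg Subtype.val (IsCyclic.commGroup.mul_comm (⟨a, ha⟩ : U) ⟨b, hb⟩)
  have hW2P : W₂ ≤ P := TP.W₂_le_fit hP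
  -- `U` moves `W₂`
  have hW : W₂ ⊓ Subgroup.centralizer (U : Set G) = ⊥ := by
    rcases (Nat.dvd_prime h.prime₂).mp (Subgroup.card_dvd_of_le
      (inf_le_left : W₂ ⊓ Subgroup.centralizer (U : Set G) ≤ W₂)) with h1 | h1
    · exact Subgroup.eq_bot_of_card_eq _ h1
    exfalso
    have hle : W₂ ≤ Subgroup.centralizer (U : Set G) :=
      inf_eq_left.mp (Subgroup.eq_of_le_of_card_ge inf_le_left h1.ge)
    have e := Cfsg.Agent.S1545.result U W₁ P h.U_ne hP.W₁_ne (TP.U_inf_W₁ hP)
      (fun e he u hu => (Subgroup.mem_normalizer_iff.mp (hP.U_normal he) u).mp hu) (TP.fpf hP)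
      (fun x hx y hy => (Subgroup.mem_normalizer_iff.mp (sup_le hUn hWn hx) y).mp hy) (TP.sup_inf hP)
      (hG.2.2.2 P fun e => h.coatom.1 (top_le_iff.mp (e ▸ Basic.fittingHallOf_le)))
      (by rw [TP.card_sup hP]; exact (TP.coprime_fit_U hP).mul_right (TP.coprime_fit_W₁ hP))
    have h2 : P ⊓ Subgroup.centralizer ((U ⊔ W₁ : Subgroup G) : Set G) = W₂ := by
      refine le_antisymm (fun x hx => ?_) (le_inf hW2P fun x hx => ?_)
      · exact (TP.inf_centralizer_W₁ hP).le ⟨hx.1, Subgroup.centralizer_le (show (W₁ : Set G) ⊆ (U ⊔ W₁ : Subgroup G)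
          from fun y hy => Subgroup.mem_sup_right hy) hx.2⟩
      · rw [← Subgroup.zpowers_le, Subgroup.le_centralizer_iff, sup_le_iff]
        constructor <;> rw [Subgroup.le_centralizer_iff, Subgroup.zpowers_le]
        · exact hle hx
        · exact ((TP.inf_centralizer_W₁ hP).ge hx).2
    rw [h2, TP.inf_centralizer_W₁ hP] at e
    have hPc : P ≤ Subgroup.centralizer (U : Set G) := inf_eq_left.mp (Subgroup.eq_of_le_of_card_ge inf_le_left
      (Nat.eq_of_mul_eq_mul_left (pow_pos Nat.card_pos _) e).le)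
    exact h.U_ne (by rw [← hfaith]; exact (inf_eq_left.mpr (Subgroup.le_centralizer_iff.mp hPc)).symm)
  have form := card_formula hG h hW
  set A := P ⊓ Subgroup.centralizer (U : Set G) with hA
  have hWnC : ∀ w ∈ W₁, ∀ x ∈ Subgroup.centralizer (U : Set G),
      w * x * w⁻¹ ∈ Subgroup.centralizer (U : Set G) := fun w hw x hx =>
    Subgroup.mem_centralizer_iff.mpr fun u hu => by
      have h1 : w⁻¹ * u * w ∈ U := by
        simpa using (Subgroup.mem_normalizer_iff.mp (hP.U_normal (inv_mem hw)) u).mp hu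
      calc u * (w * x * w⁻¹) = w * ((w⁻¹ * u * w) * x) * w⁻¹ := by group
        _ = w * (x * (w⁻¹ * u * w)) * w⁻¹ := by rw [Subgroup.mem_centralizer_iff.mp hx _ h1]
        _ = w * x * w⁻¹ * u := by group
  have hAn : U ⊔ W₁ ≤ Subgroup.normalizer (A : Set G) := sup_le
    (le_normalizer_of_forall fun u hu x hx => by
      rw [show u * x * u⁻¹ = x by rw [Subgroup.mem_centralizer_iff.mp hx.2 u hu, mul_inv_cancel_right]]
      exact hx)
    (le_normalizer_of_forall fun w hw x hx =>
      ⟨(Subgroup.mem_normalizer_iff.mp (hWn hw) x).mp hx.1, hWnC w hw x hx.2⟩)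
  have hcardP : Nat.card P = p ^ q * Nat.card A := by
    have := form P le_rfl (sup_le hUn hWn)
    rwa [inf_eq_right.mpr hW2P] at this
  have hcases : ∀ H : Subgroup G, W₂ ≤ H ∨ H ⊓ W₂ = ⊥ := fun H => by
    rcases (Nat.dvd_prime h.prime₂).mp (Subgroup.card_dvd_of_le (inf_le_right : H ⊓ W₂ ≤ W₂)) with h1 | h1
    · exact Or.inr (Subgroup.eq_bot_of_card_eq _ h1)
    · exact Or.inl (inf_eq_right.mp (Subgroup.eq_of_le_of_card_ge inf_le_right h1.ge))
  -- `U` centralises `P'`
  set D := ⁅P, P⁆ with hD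
  have hDP : D ≤ P := Subgroup.commutator_le_self P
  have hDn : U ⊔ W₁ ≤ Subgroup.normalizer (D : Set G) := sup_le
    (le_normalizer_of_forall fun g hg x hx => by
      have hgP := hUn hg
      have : (D.map (MulAut.conj g).toMonoidHom) ≤ D := by
        rw [hD, Subgroup.map_commutator]
        exact Subgroup.commutator_mono (Subgroup.map_le_iff_le_comap.mpr fun y hy =>
          (Subgroup.mem_normalizer_iff.mp hgP y).mp hy) (Subgroup.map_le_iff_le_comap.mpr fun y hy =>
          (Subgroup.mem_normalizer_iff.mp hgP y).mp hy)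
      exact this ⟨x, hx, rfl⟩)
    (le_normalizer_of_forall fun g hg x hx => by
      have hgP := hWn hg
      have : (D.map (MulAut.conj g).toMonoidHom) ≤ D := by
        rw [hD, Subgroup.map_commutator]
        exact Subgroup.commutator_mono (Subgroup.map_le_iff_le_comap.mpr fun y hy =>
          (Subgroup.mem_normalizer_iff.mp hgP y).mp hy) (Subgroup.map_le_iff_le_comap.mpr fun y hy =>
          (Subgroup.mem_normalizer_iff.mp hgP y).mp hy)
      exact this ⟨x, hx, rfl⟩)
  have hDA : D ≤ A := by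
    have e := form D hDP hDn
    rcases hcases D with hc | hc
    · exfalso
      rw [inf_eq_right.mpr hc] at e
      have h1 : Nat.card ↥(A ⊔ D) = Nat.card P := by
        have hAD : A ⊓ D = D ⊓ Subgroup.centralizer (U : Set G) := by
          rw [hA, inf_comm, ← inf_assoc, inf_eq_left.mpr hDP]
        have hAnD : A ≤ Subgroup.normalizer (D : Set G) := le_normalizer_of_forall fun g hg x hx => by
          have := Subgroup.commutator_mem_commutator hg.1 (hDP hx)
          have h' := mul_mem this hx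
          rwa [commutatorElement_def, inv_mul_cancel_right] at h'
        have h3 := CfsgLib.Fusion.Thompson.card_sup_mul_card_inf hAnD
        rw [sup_comm, inf_comm, hAD, e] at h3
        rw [hcardP]
        refine Nat.eq_of_mul_eq_mul_right (Nat.card_pos (α := ↥(D ⊓ Subgroup.centralizer (U : Set G)))) ?_
        rw [h3, ← hp, ← hq]; ring
      have hsup : A ⊔ D = P := Subgroup.eq_of_le_of_card_ge (sup_le inf_le_left hDP) h1.ge
      have hAP := eq_of_commutator_sup (A := A) inf_le_left hsup.ge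
      rw [hAP] at hcardP
      have := Nat.one_lt_pow h.prime₁.ne_zero h.prime₂.one_lt
      rw [← hp, ← hq] at this
      nlinarith [Nat.card_pos (α := P)]
    · rw [hc, Subgroup.card_bot, one_pow, one_mul] at e
      exact le_inf hDP (inf_eq_left.mp (Subgroup.eq_of_le_of_card_ge inf_le_left e.le))
  have hDU : U ≤ Subgroup.centralizer (D : Set G) :=
    Subgroup.le_centralizer_iff.mp (hDA.trans inf_le_right)
  have hAC : A ≤ Subgroup.centralizer (P : Set G) :=
    centralized_of_fixed hPU (Subgroup.le_centralizer_iff.mp inf_le_right)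
      (Subgroup.le_centralizer_iff.mp ((Subgroup.commutator_mono inf_le_left le_rfl).trans
        (hDA.trans inf_le_right)))
  -- a `v` stabilising `P / A` centralises `P`
  have stab : ∀ v ∈ U, (∀ x ∈ P, v * x * v⁻¹ * x⁻¹ ∈ A) → v = 1 := by
    intro v hv hst
    have : v ∈ U ⊓ Subgroup.centralizer (P : Set G) := by
      refine ⟨hv, Subgroup.mem_centralizer_iff.mpr fun x hx => ?_⟩
      set a := v * x * v⁻¹ * x⁻¹ with ha
      have haA : a ∈ A := hst x hx
      have hav : v * a * v⁻¹ = a := by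
        rw [Subgroup.mem_centralizer_iff.mp haA.2 v hv, mul_inv_cancel_right]
      have hit : ∀ n : ℕ, v ^ n * x * (v ^ n)⁻¹ = a ^ n * x := by
        intro n
        induction n with
        | zero => simp
        | succ n ih =>
          calc v ^ (n + 1) * x * (v ^ (n + 1))⁻¹ = v * (v ^ n * x * (v ^ n)⁻¹) * v⁻¹ := by
                rw [pow_succ']; group
            _ = (v * a * v⁻¹) ^ n * (a * x) := by rw [ih, conj_pow, ha]; group
            _ = a ^ (n + 1) * x := by rw [hav, pow_succ]; group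
      have h1 := hit (Nat.card U)
      rw [show v ^ Nat.card U = 1 from congrArg Subtype.val (pow_card_eq_one' (x := (⟨v, hv⟩ : U))), one_mul,
        inv_one, mul_one] at h1
      have h2 : a ^ Nat.card U = 1 := mul_eq_right.mp h1.symm
      have h3 : orderOf a = 1 := Nat.eq_one_of_dvd_coprimes (TP.coprime_fit_U hP)
        (Subgroup.orderOf_dvd_natCard P haA.1) (orderOf_dvd_of_pow_eq_one h2)
      rw [orderOf_eq_one_iff, ha, mul_inv_eq_one, mul_inv_eq_iff_eq_mul] at h3
      exact h3.symm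
    rw [hfaith] at this
    exact this
  -- `U` is fixed point free on `P / A`
  have fpf' : ∀ v ∈ U, v ≠ 1 → ∀ x ∈ P, v * x * v⁻¹ * x⁻¹ ∈ A → x ∈ A := by
    intro v hv hv1
    have hcen : ∀ a ∈ A, ∀ y ∈ P, a * y = y * a := fun a ha y hy =>
      (Subgroup.mem_centralizer_iff.mp (hAC ha) y hy).symm
    let C : Subgroup G :=
      { carrier := {x | x ∈ P ∧ ∀ n : ℤ, v ^ n * x * (v ^ n)⁻¹ * x⁻¹ ∈ A}
        one_mem' := ⟨one_mem _, fun n => by simp⟩
        mul_mem' := by
          rintro a b ⟨ha, ha'⟩ ⟨hb, hb'⟩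
          refine ⟨mul_mem ha hb, fun n => ?_⟩
          have e : v ^ n * (a * b) * (v ^ n)⁻¹ * (a * b)⁻¹ =
              (v ^ n * a * (v ^ n)⁻¹ * a⁻¹) * (a * (v ^ n * b * (v ^ n)⁻¹ * b⁻¹) * a⁻¹) := by group
          rw [e, ← hcen _ (hb' n) a ha, mul_inv_cancel_right]
          exact mul_mem (ha' n) (hb' n)
        inv_mem' := by
          rintro a ⟨ha, ha'⟩
          refine ⟨inv_mem ha, fun n => ?_⟩
          have e : v ^ n * a⁻¹ * (v ^ n)⁻¹ * a⁻¹⁻¹ = a⁻¹ * (v ^ n * a * (v ^ n)⁻¹ * a⁻¹)⁻¹ * a := by group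
          rw [e, ← hcen _ (inv_mem (ha' n)) _ (inv_mem ha), inv_mul_cancel_right]
          exact inv_mem (ha' n) }
    have hn : U ⊔ W₁ ≤ Subgroup.normalizer (C : Set G) := by
      refine sup_le (le_normalizer_of_forall fun u hu x hx => ⟨(Subgroup.mem_normalizer_iff.mp (hUn hu) x).mp hx.1,
        fun n => ?_⟩) (le_normalizer_of_forall fun w hw x hx =>
          ⟨(Subgroup.mem_normalizer_iff.mp (hWn hw) x).mp hx.1, fun n => ?_⟩)
      · have e : v ^ n * (u * x * u⁻¹) * (v ^ n)⁻¹ * (u * x * u⁻¹)⁻¹ =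
            u * (v ^ n * x * (v ^ n)⁻¹ * x⁻¹) * u⁻¹ := by
          have hc : v ^ n * u = u * v ^ n := hUcomm _ (zpow_mem hv n) _ hu
          calc _ = (v ^ n * u) * x * (v ^ n * u)⁻¹ * (u * x * u⁻¹)⁻¹ := by group
            _ = _ := by rw [hc]; group
        rw [e]
        exact (Subgroup.mem_normalizer_iff.mp (hAn (Subgroup.mem_sup_left hu)) _).mp (hx.2 n)
      · -- `W₁` normalises the cyclic group `⟨v⟩`
        have hmem : w⁻¹ * v ^ n * w ∈ Subgroup.zpowers v := by
          haveI := hcyc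
          have h1 : w⁻¹ * v ^ n * w ∈ U := by
            simpa using (Subgroup.mem_normalizer_iff.mp (hP.U_normal (inv_mem hw)) _).mp (zpow_mem hv n)
          have h3 : Subgroup.zpowers (w⁻¹ * v ^ n * w) = Subgroup.zpowers (v ^ n) := by
            refine CfsgLib.BrauerSuzuki.eq_of_card_eq_of_le_cyclic (R := U) (Subgroup.zpowers_le.mpr h1)
              (Subgroup.zpowers_le.mpr (zpow_mem hv n)) ?_
            rw [Nat.card_zpowers, Nat.card_zpowers]
            have := orderOf_conj w⁻¹ (v ^ n)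
            rwa [inv_inv] at this
          exact Subgroup.zpowers_le.mpr (zpow_mem (Subgroup.mem_zpowers v) n) (h3.le (Subgroup.mem_zpowers _))
        obtain ⟨k, hk⟩ := Subgroup.mem_zpowers_iff.mp hmem
        have e : v ^ n * (w * x * w⁻¹) * (v ^ n)⁻¹ * (w * x * w⁻¹)⁻¹ =
            w * (v ^ k * x * (v ^ k)⁻¹ * x⁻¹) * w⁻¹ := by
          rw [hk]; group
        rw [e]
        exact (Subgroup.mem_normalizer_iff.mp (hAn (Subgroup.mem_sup_right hw)) _).mp (hx.2 k)
    have hAC' : A ≤ C := fun a ha => ⟨ha.1, fun n => by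
      rw [Subgroup.mem_centralizer_iff.mp ha.2 _ (zpow_mem hv n), mul_inv_cancel_right, mul_inv_cancel]
      exact one_mem _⟩
    have hCU : C ⊓ Subgroup.centralizer (U : Set G) = A :=
      le_antisymm (fun x hx => ⟨hx.1.1, hx.2⟩) (le_inf hAC' inf_le_right)
    have e := form C (fun x hx => hx.1) hn
    rw [hCU] at e
    rcases hcases C with hc | hc
    · exfalso
      rw [inf_eq_right.mpr hc, ← hcardP] at e
      have hCP : C = P := Subgroup.eq_of_le_of_card_ge (fun x hx => hx.1) e.ge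
      refine hv1 (stab v hv fun x hx => ?_)
      simpa using (hCP.ge hx).2 1
    · rw [hc, Subgroup.card_bot, one_pow, one_mul] at e
      have hCA : C = A := (Subgroup.eq_of_le_of_card_ge hAC' e.le).symm
      intro x hx hxA
      refine hCA.le ⟨hx, fun n => ?_⟩
      induction n with
      | zero => simp
      | succ n ih =>
        have e : v ^ ((n : ℤ) + 1) * x * (v ^ ((n : ℤ) + 1))⁻¹ * x⁻¹ =
            v * (v ^ (n : ℤ) * x * (v ^ (n : ℤ))⁻¹ * x⁻¹) * v⁻¹ * (v * x * v⁻¹ * x⁻¹) := by group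
        rw [e]
        exact mul_mem ((Subgroup.mem_normalizer_iff.mp (hAn (Subgroup.mem_sup_left hv)) _).mp ih) hxA
      | pred n ih =>
        have e : v ^ (-(n : ℤ) - 1) * x * (v ^ (-(n : ℤ) - 1))⁻¹ * x⁻¹ =
            v⁻¹ * ((v ^ (-(n : ℤ)) * x * (v ^ (-(n : ℤ)))⁻¹ * x⁻¹) * (v * x * v⁻¹ * x⁻¹)⁻¹) * v⁻¹⁻¹ := by group
        rw [e]
        exact (Subgroup.mem_normalizer_iff.mp (hAn (Subgroup.mem_sup_left (inv_mem hv))) _).mp
          (mul_mem ih (inv_mem hxA))
  -- a `U`-invariant subgroup between `A` and `P` is one of them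
  haveI : Fact p.Prime := ⟨h.prime₂⟩
  have hidxP : A.relIndex P = p ^ q := Nat.eq_of_mul_eq_mul_left (Nat.card_pos (α := A))
    (by rw [Coprime.card_mul_relIndex_eq (inf_le_left : A ≤ P), hcardP, mul_comm])
  have irred : ∀ B : Subgroup G, A ≤ B → B ≤ P → U ≤ Subgroup.normalizer (B : Set G) → B = A ∨ B = P := by
    intro B hAB hBP hBn
    haveI : (A.subgroupOf B).Normal := Subgroup.normal_subgroupOf_of_le_normalizer (le_normalizer_of_forall
      fun b hb a ha => by rw [Subgroup.mem_centralizer_iff.mp (hAC ha) b (hBP hb), mul_inv_cancel_right]; exact ha)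
    have hrel : A.relIndex B ∣ p ^ q := hidxP ▸ Dvd.intro _ (Subgroup.relIndex_mul_relIndex _ _ _ hAB hBP)
    obtain ⟨k, hk, hkc⟩ := (Nat.dvd_prime_pow h.prime₂).mp hrel
    by_cases hk0 : k = 0
    · exact Or.inl (le_antisymm (Subgroup.relIndex_eq_one.mp (by rw [hkc, hk0, pow_zero])) hAB)
    by_cases hkq : k = q
    · refine Or.inr (Subgroup.eq_of_le_of_card_ge hBP ?_)
      rw [← Coprime.card_mul_relIndex_eq hAB, hkc, hkq, hcardP, mul_comm]
    exfalso
    let X := B ⧸ A.subgroupOf B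
    have hcardX : Nat.card X = p ^ k := hkc
    let act : U → B →* X := fun u => (QuotientGroup.mk' _).comp
      (MonoidHom.mk' (fun b => (⟨(u : G) * b * (u : G)⁻¹, (Subgroup.mem_normalizer_iff.mp (hBn u.2) _).mp b.2⟩ : B))
        fun a b => Subtype.ext (by push_cast; group))
    have hker : ∀ u : U, A.subgroupOf B ≤ (act u).ker := fun u a ha => by
      rw [MonoidHom.mem_ker, MonoidHom.comp_apply, QuotientGroup.mk'_apply, QuotientGroup.eq_one_iff,
        Subgroup.mem_subgroupOf]
      exact (Subgroup.mem_normalizer_iff.mp (hAn (Subgroup.mem_sup_left u.2)) _).mp (Subgroup.mem_subgroupOf.mp ha)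
    letI : MulAction U X :=
      { smul := fun u => QuotientGroup.lift _ (act u) (hker u)
        one_smul := fun z => by
          obtain ⟨b, rfl⟩ := QuotientGroup.mk_surjective z
          show act 1 b = _
          exact congrArg QuotientGroup.mk (Subtype.ext (by simp))
        mul_smul := fun g g' z => by
          obtain ⟨b, rfl⟩ := QuotientGroup.mk_surjective z
          show act (g * g') b = QuotientGroup.lift _ (act g) (hker g) (act g' b)
          exact congrArg QuotientGroup.mk (Subtype.ext (by simp [mul_assoc])) }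
    letI : MulAction U {z : X // z ≠ 1} :=
      { smul := fun u z => ⟨u • z.1, fun e => z.2 (by
          rw [← inv_smul_smul u z.1, e]
          exact map_one (QuotientGroup.lift _ (act u⁻¹) (hker u⁻¹)))⟩
        one_smul := fun z => Subtype.ext (one_smul _ z.1)
        mul_smul := fun g g' z => Subtype.ext (mul_smul g g' z.1) }
    have hfree : ∀ z : {z : X // z ≠ 1}, MulAction.stabilizer U z = ⊥ := fun z => by
      rw [eq_bot_iff]
      intro u hu
      rw [Subgroup.mem_bot]
      by_contra hu1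
      obtain ⟨z, hz⟩ := z
      obtain ⟨b, rfl⟩ := QuotientGroup.mk_surjective z
      have e : act u b = (b : X) := congrArg Subtype.val (MulAction.mem_stabilizer_iff.mp hu)
      have e1 := QuotientGroup.eq.mp e.symm
      rw [Subgroup.mem_subgroupOf] at e1
      simp only [Subgroup.coe_mul, Subgroup.coe_inv] at e1
      refine hz ((QuotientGroup.eq_one_iff _).mpr (Subgroup.mem_subgroupOf.mpr
        (fpf' u u.2 (fun e => hu1 (Subtype.ext e)) b (hBP b.2) ?_)))
      have := (Subgroup.mem_normalizer_iff.mp (le_normalizer_of_forall (H := A) (K := P) (fun g hg a ha => by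
        rw [Subgroup.mem_centralizer_iff.mp (hAC ha) g hg, mul_inv_cancel_right]; exact ha) (hBP b.2)) _).mp e1
      simpa [mul_assoc] using this
    have hd : Nat.card U ∣ p ^ k - 1 := by
      haveI : Fintype X := Fintype.ofFinite X
      classical
      have h1 : Nat.card {z : X // z ≠ 1} = p ^ k - 1 := by
        rw [Nat.card_eq_fintype_card, Fintype.card_subtype_compl, Fintype.card_subtype_eq,
          ← Nat.card_eq_fintype_card, hcardX]
      rw [← h1, Nat.card_congr (MulAction.selfEquivSigmaOrbits U {z : X // z ≠ 1})]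
      have h2 : ∀ o : Quotient (MulAction.orbitRel U {z : X // z ≠ 1}),
          Nat.card (MulAction.orbit U o.out) = Nat.card U := fun o => by
        rw [Nat.card_congr (MulAction.orbitEquivQuotientStabilizer U o.out), hfree, ← Subgroup.index_eq_card,
          Subgroup.index_bot]
      haveI : Fintype (Quotient (MulAction.orbitRel U {z : X // z ≠ 1})) := Fintype.ofFinite _
      rw [Nat.card_sigma, Finset.sum_congr rfl fun o _ => h2 o, Finset.sum_const, smul_eq_mul]
      exact dvd_mul_left _ _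
    have hU : Nat.card U ∣ p ^ q - 1 := hgeom ▸ dvd_mul_right _ _
    have hg := dvd_sub_one_of_dvd_pow h.prime₂.one_lt hU hd
    have hcop : Nat.gcd q k = 1 := h.prime₁.coprime_iff_not_dvd.mpr fun hdvd =>
      hkq (le_antisymm hk (Nat.le_of_dvd (Nat.pos_of_ne_zero hk0) hdvd))
    rw [hcop, pow_one] at hg
    have hle := Nat.le_of_dvd (by have := h.prime₂.two_le; omega) hg
    have h1 := Nat.mul_le_mul_right (p - 1) hle
    rw [hgeom] at h1
    rw [← hp] at h1
    have h2 : p ^ 2 ≤ p ^ q := Nat.pow_le_pow_right h.prime₂.pos h.prime₁.two_le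
    obtain ⟨m, hm⟩ : ∃ m, p = m + 1 := ⟨p - 1, by have := h.prime₂.two_le; omega⟩
    have := h.prime₂.two_le
    rw [hm, Nat.add_sub_cancel] at h1
    rw [hm, pow_two] at h2
    have : (m + 1) * (m + 1) = m * m + 2 * m + 1 := by ring
    omega
  -- `P` is abelian
  have hDbot : D = ⊥ := by
    by_contra hne
    haveI : Nontrivial D := D.nontrivial_iff_ne_bot.mpr hne
    have hne' : (⊥ : Subgroup D) ≠ ⊤ := bot_ne_top
    obtain ⟨N₀, hN₀, -⟩ := (eq_top_or_exists_le_coatom (⊥ : Subgroup D)).resolve_left hne'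
    have hDc : ∀ d ∈ D, ∀ y ∈ P, d * y = y * d := fun d hd y hy =>
      (Subgroup.mem_centralizer_iff.mp (hAC (hDA hd)) y hy).symm
    haveI : N₀.Normal := ⟨fun a ha g => by
      rwa [show g * a * g⁻¹ = a from Subtype.ext (by
        push_cast
        rw [hDc g g.2 a (hDP a.2), mul_inv_cancel_right])]⟩
    obtain ⟨r, hr, hidx⟩ : ∃ r, r.Prime ∧ N₀.index = r := by
      obtain ⟨r, hr, hdvd⟩ := Nat.exists_prime_and_dvd
        (fun e => hN₀.1 (Subgroup.index_eq_one.mp e) : N₀.index ≠ 1)
      refine ⟨r, hr, ?_⟩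
      haveI := Fact.mk hr
      rw [Subgroup.index_eq_card] at hdvd
      obtain ⟨z, hz⟩ := exists_prime_orderOf_dvd_card' (G := D ⧸ N₀) r hdvd
      have hlt : N₀ < (Subgroup.zpowers z).comap (QuotientGroup.mk' N₀) := by
        refine lt_of_le_of_ne (QuotientGroup.le_comap_mk' _ _) fun e => ?_
        have := congrArg (Subgroup.map (QuotientGroup.mk' N₀)) e
        rw [QuotientGroup.map_mk'_self, Subgroup.map_comap_eq_self_of_surjective
          (QuotientGroup.mk'_surjective _)] at this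
        rw [← Nat.card_zpowers, ← this, Subgroup.card_bot] at hz
        exact hr.ne_one hz.symm
      have htop : Subgroup.zpowers z = ⊤ := Subgroup.comap_injective (QuotientGroup.mk'_surjective N₀)
        ((hN₀.2 _ hlt).trans (Subgroup.comap_top _).symm)
      rw [Subgroup.index_eq_card, ← Subgroup.card_top, ← htop, Nat.card_zpowers, hz]
    set N : Subgroup P := (N₀.map D.subtype).subgroupOf P with hN
    have hNle : N₀.map D.subtype ≤ D := Subgroup.map_subtype_le _
    haveI : N.Normal := ⟨fun a ha g => by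
      rw [hN, Subgroup.mem_subgroupOf] at ha ⊢
      push_cast
      rwa [← hDc _ (hNle ha) g g.2, mul_inv_cancel_right]⟩
    set π := QuotientGroup.mk' N with hπ
    have hmemN : ∀ x : P, (π x = 1) ↔ (x : G) ∈ N₀.map D.subtype := fun x => by
      rw [hπ, QuotientGroup.mk'_apply, QuotientGroup.eq_one_iff, hN, Subgroup.mem_subgroupOf]
    have hNc : (commutator P).map π ≤ Subgroup.center (P ⧸ N) := by
      rintro _ ⟨d, hd, rfl⟩
      refine Subgroup.mem_center_iff.mpr fun z => ?_
      obtain ⟨y, rfl⟩ := QuotientGroup.mk'_surjective N z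
      have hdD : (d : G) ∈ D := by
        rw [hD, ← Subgroup.map_subtype_commutator]; exact ⟨d, hd, rfl⟩
      rw [← map_mul, ← map_mul]
      exact congrArg π (Subtype.ext (hDc _ hdD y y.2).symm)
    have hcard : Nat.card ↥((commutator P).map π) = r := by
      rw [← Subgroup.relIndex_ker, QuotientGroup.ker_mk', hN,
        ← Subgroup.relIndex_map_map_of_injective _ _ P.subtype_injective, Subgroup.map_subtype_commutator,
        Subgroup.map_subgroupOf_eq_of_le (hNle.trans hDP), ← hD,
        Subgroup.relIndex, Subgroup.subgroupOf, Subgroup.comap_map_eq_self_of_injective D.subtype_injective, hidx]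
    obtain ⟨m, hm⟩ := exists_sq_index_center hr _ (P ⧸ N) rfl ((commutator P).map π) hNc hcard fun a b => by
      obtain ⟨a, rfl⟩ := QuotientGroup.mk'_surjective N a
      obtain ⟨b, rfl⟩ := QuotientGroup.mk'_surjective N b
      exact ⟨⁅a, b⁆, Subgroup.commutator_mem_commutator trivial trivial, map_commutatorElement π a b⟩
    set B : Subgroup G := ((Subgroup.center (P ⧸ N)).comap π).map P.subtype with hB
    have hBmem : ∀ x : P, (x : G) ∈ B ↔ ∀ y : P, ((⁅x, y⁆ : P) : G) ∈ N₀.map D.subtype := fun x => by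
      rw [hB]
      constructor
      · rintro ⟨x', hx', e⟩ y
        obtain rfl : x' = x := Subtype.ext e
        rw [← hmemN, map_commutatorElement, commutatorElement_eq_one_iff_mul_comm]
        exact (Subgroup.mem_center_iff.mp hx' (π y)).symm
      · intro hx
        refine ⟨x, Subgroup.mem_center_iff.mpr fun z => ?_, rfl⟩
        obtain ⟨y, rfl⟩ := QuotientGroup.mk'_surjective N z
        have := (hmemN _).mpr (hx y)
        rw [map_commutatorElement, commutatorElement_eq_one_iff_mul_comm] at this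
        exact this.symm
    have hBP : B ≤ P := Subgroup.map_subtype_le _
    have hAB : A ≤ B := fun a ha => (hBmem ⟨a, ha.1⟩).mpr fun y => by
      rw [show ⁅(⟨a, ha.1⟩ : P), y⁆ = 1 from commutatorElement_eq_one_iff_mul_comm.mpr
        (Subtype.ext (Subgroup.mem_centralizer_iff.mp (hAC ha) y y.2).symm)]
      exact one_mem _
    have hBn : U ≤ Subgroup.normalizer (B : Set G) := le_normalizer_of_forall fun u hu x hx => by
      have hux : u * x * u⁻¹ ∈ P := (Subgroup.mem_normalizer_iff.mp (hUn hu) x).mp (hBP hx)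
      refine (hBmem ⟨_, hux⟩).mpr fun y => ?_
      have hy : u⁻¹ * (y : G) * u ∈ P := by
        simpa using (Subgroup.mem_normalizer_iff.mp (hUn (inv_mem hu)) (y : G)).mp y.2
      have h1 := (hBmem ⟨x, hBP hx⟩).mp hx ⟨_, hy⟩
      have h2 : u * ⁅x, u⁻¹ * (y : G) * u⁆ * u⁻¹ = ⁅x, u⁻¹ * (y : G) * u⁆ := by
        rw [Subgroup.mem_centralizer_iff.mp ((hDA.trans inf_le_right)
          (Subgroup.commutator_mem_commutator (hBP hx) hy)) u hu, mul_inv_cancel_right]
      have h3 : ⁅u * x * u⁻¹, (y : G)⁆ = u * ⁅x, u⁻¹ * (y : G) * u⁆ * u⁻¹ := by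
        simp only [commutatorElement_def]; group
      show ⁅u * x * u⁻¹, (y : G)⁆ ∈ _
      rw [h3, h2]
      exact h1
    rcases irred B hAB hBP hBn with e | e
    · have h1 : (Subgroup.center (P ⧸ N)).index = p ^ q := by
        rw [← Subgroup.index_comap_of_surjective _ (QuotientGroup.mk'_surjective N), ← hidxP, ← e, hB]
        rw [Subgroup.relIndex, Subgroup.subgroupOf, Subgroup.comap_map_eq_self_of_injective P.subtype_injective]
      have h2 : p ∣ m := h.prime₂.dvd_of_dvd_pow (by rw [← hm, h1]; exact dvd_pow_self _ h.prime₁.ne_zero)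
      have hq : Odd q := hG.1.of_dvd_nat (Subgroup.card_subgroup_dvd_card W₁)
      obtain ⟨i, -, hi⟩ := (Nat.dvd_prime_pow h.prime₂).mp (show m ∣ p ^ q by
        rw [← h1, hm]; exact dvd_pow_self _ two_ne_zero)
      rw [h1, hi, ← pow_mul] at hm
      have := Nat.pow_right_injective h.prime₂.two_le hm
      exact (Nat.not_even_iff_odd.mpr hq) (this ▸ even_two.mul_left i)
    · have hDN : D ≤ N₀.map D.subtype := Subgroup.commutator_le.mpr fun a ha b hb => by
        exact (hBmem ⟨a, ha⟩).mp (e.ge ha) ⟨b, hb⟩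
      refine hN₀.1 (top_le_iff.mp fun x _ => ?_)
      obtain ⟨x', hx', e'⟩ := hDN x.2
      rwa [← Subtype.ext e']
  haveI hcommP : IsMulCommutative P := Subgroup.le_centralizer_iff_isMulCommutative.mp
    (Subgroup.commutator_eq_bot_iff_le_centralizer.mp hDbot)
  refine ⟨hcommP, ?_⟩
  have := Coprime.centralizer_inf_commutator_eq_bot hUn (TP.coprime_fit_U hP).symm
  rwa [inf_eq_left.mpr ((inf_le_left : A ≤ P).trans hPU)] at this

end FullAny

/-- **A side with the numerical shape has the extremal shape.** -/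
theorem Side.full_of_shape {G : Type*} [Group G] [Finite G] {M W₁ U W₂ : Subgroup G}
    (hG : Cfsg.IsMinSimpleOddOrder G) (h : Side M W₁ U W₂) (hcyc : IsCyclic U)
    (hgeom : Nat.card U = (Nat.card W₂ ^ Nat.card W₁ - 1) / (Nat.card W₂ - 1))
    (hcop : (Nat.card U).Coprime (Nat.card W₂ - 1))
    (hfaith : U ⊓ Subgroup.centralizer (Cfsg.fittingHallOf M : Set G) = ⊥)
    (hfree : Nat.card ↥(Cfsg.fittingHallOf M) = Nat.card W₂ ^ Nat.card W₁ →
      ∀ u ∈ U, u ≠ 1 → Cfsg.fittingHallOf M ⊓ Subgroup.centralizer ({u} : Set G) = ⊥)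
    (hPU : Cfsg.fittingHallOf M ≤ ⁅Cfsg.fittingHallOf M, U⁆) : Full M W₁ U W₂ := by
  have hgeom' : Nat.card U * (Nat.card W₂ - 1) = Nat.card W₂ ^ Nat.card W₁ - 1 := by
    rw [hgeom, ← Nat.geomSum_eq h.prime₂.two_le]
    have hg := geom_sum_mul_add (Nat.card W₂ - 1) (Nat.card W₁)
    rw [Nat.sub_add_cancel h.prime₂.one_lt.le] at hg
    omega
  obtain ⟨hcomm, hC⟩ := FullAny.abelian_fpf hG h hcyc hgeom' hfaith hPU
  set P := Cfsg.fittingHallOf M with hPd
  haveI := hcomm
  have hn : U ⊔ W₁ ≤ Subgroup.normalizer (P : Set G) :=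
    (sup_le (TP.U_le h.typeP) (TP.W₁_le h.typeP)).trans Basic.le_normalizer_fittingHallOf
  have hcard : Nat.card P = Nat.card W₂ ^ Nat.card W₁ := by
    rw [TP.card_pow h.typeP h.U_ne hG h.coatom _ le_rfl hn hC, TP.inf_centralizer_W₁ h.typeP]
  let Z : Subgroup G :=
    { carrier := {x | x ∈ P ∧ x ^ Nat.card W₂ = 1}
      one_mem' := ⟨one_mem _, one_pow _⟩
      mul_mem' := by
        rintro a b ⟨ha, hap⟩ ⟨hb, hbp⟩
        refine ⟨mul_mem ha hb, ?_⟩
        rw [Commute.mul_pow (show Commute a b from congrArg Subtype.val (mul_comm' (⟨a, ha⟩ : P) ⟨b, hb⟩)), hap,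
          hbp, one_mul]
      inv_mem' := by
        rintro a ⟨ha, hap⟩
        exact ⟨inv_mem ha, by rw [inv_pow, hap, inv_one]⟩ }
  have hZn : U ⊔ W₁ ≤ Subgroup.normalizer (Z : Set G) := FullAny.le_normalizer_of_forall fun g hg x hx =>
    ⟨(Subgroup.mem_normalizer_iff.mp (hn hg) x).mp hx.1, by rw [conj_pow, hx.2, mul_one, mul_inv_cancel]⟩
  have hW : W₂ ≤ Z ⊓ Subgroup.centralizer (W₁ : Set G) := fun x hx =>
    ⟨⟨TP.W₂_le_fit h.typeP hx, congrArg Subtype.val (pow_card_eq_one' (x := (⟨x, hx⟩ : W₂)))⟩,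
      ((TP.inf_centralizer_W₁ h.typeP).ge hx).2⟩
  have hZ := TP.card_pow h.typeP h.U_ne hG h.coatom Z (fun x hx => hx.1) hZn hC
  have hZP : Z = P := Subgroup.eq_of_le_of_card_ge (fun x hx => hx.1) (by
    rw [hcard, hZ]
    exact Nat.pow_le_pow_left (Nat.le_of_dvd Nat.card_pos (Subgroup.card_dvd_of_le hW)) _)
  exact ⟨⟨hcomm, fun x hx => (hZP.ge hx).2⟩, hcard, hcyc, hgeom',
    fun u hu hu1 x hx hc => Subgroup.mem_bot.mp ((hfree hcard u hu hu1).le
      ⟨hx, Subgroup.mem_centralizer_singleton_iff.mpr hc.symm⟩), hgeom ▸ hcop⟩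

end CfsgLib.OddOrder.Final
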