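import Cfsg.Agent.Lib.Char.Virtual
import Mathlib

set_option autoImplicit false

/-!
On a set closed under taking generators of cyclic subgroups, the squared values of a virtual character
add up to at least the number of its non-zero values, hence at least the absolute value of their sum.
-/

namespace CfsgLib.OddOrder.Final.GaloisMass

open CfsgLib.Char

variable {G : Type*} [Group G] [Finite G]

/-- The values on the powers of `g` are the values of an integral polynomial at powers of a root of unity. -/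
theorem exists_poly_char {χ : G → ℂ} (hχ : Cfsg.IsCharacter G χ) (g : G) :
    ∃ P : Polynomial ℤ, ∀ k : ℕ, χ (g ^ k) =
      (P.map (Int.castRingHom ℂ)).eval (Complex.exp (2 * Real.pi * Complex.I / orderOf g) ^ k) := by
  classical
  obtain ⟨d, ρ, rfl⟩ := hχ
  obtain ⟨μ, hμ, hk⟩ := exists_eigenvalues ρ g
  haveI : NeZero (orderOf g) := ⟨(orderOf_pos g).ne'⟩
  have hζ := Complex.isPrimitiveRoot_exp (orderOf g) (orderOf_pos g).ne'
  choose t _ ht using fun i => hζ.eq_pow_of_pow_eq_one (hμ i)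
  refine ⟨∑ i, Polynomial.X ^ t i, fun k => ?_⟩
  rw [hk, Polynomial.map_sum, Polynomial.eval_finsetSum]
  refine Finset.sum_congr rfl fun i _ => ?_
  rw [Polynomial.map_pow, Polynomial.map_X, Polynomial.eval_pow, Polynomial.eval_X, ← ht i, ← pow_mul,
    ← pow_mul, Nat.mul_comm k (t i)]

theorem exists_poly {c : G → ℂ} (hc : Cfsg.IsGeneralizedCharacter G c) (g : G) :
    ∃ P : Polynomial ℤ, ∀ k : ℕ, c (g ^ k) =
      (P.map (Int.castRingHom ℂ)).eval (Complex.exp (2 * Real.pi * Complex.I / orderOf g) ^ k) := by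
  obtain ⟨α, β, hα, hβ, rfl⟩ := hc
  obtain ⟨P, hP⟩ := exists_poly_char hα g
  obtain ⟨Q, hQ⟩ := exists_poly_char hβ g
  exact ⟨P - Q, fun k => by rw [Pi.sub_apply, hP, hQ, Polynomial.map_sub, Polynomial.eval_sub]⟩

/-- The totient is at most the squared mass on the generators of a cyclic subgroup, unless all values
there vanish. -/
theorem totient_le {c : G → ℂ} (hc : Cfsg.IsGeneralizedCharacter G c) (g : G) {k₀ : ℕ}
    (hk₀ : k₀.Coprime (orderOf g)) (hne : c (g ^ k₀) ≠ 0) :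
    ((orderOf g).totient : ℝ) ≤
      ∑ k ∈ (Finset.range (orderOf g)).filter (fun k => k.Coprime (orderOf g)), ‖c (g ^ k)‖ ^ 2 := by
  classical
  obtain ⟨P, hP⟩ := exists_poly hc g
  set n := orderOf g with hn
  have hn0 : 0 < n := orderOf_pos g
  haveI : NeZero n := ⟨hn0.ne'⟩
  set ζ := Complex.exp (2 * Real.pi * Complex.I / n)
  have hζ : IsPrimitiveRoot ζ n := Complex.isPrimitiveRoot_exp n hn0.ne'
  set S := (Finset.range n).filter (fun k => k.Coprime n) with hS
  set Q := P.map (Int.castRingHom ℂ) with hQ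
  have himg : S.image (fun k => ζ ^ k) = primitiveRoots n ℂ := by
    ext z
    rw [Finset.mem_image, mem_primitiveRoots hn0]
    constructor
    · rintro ⟨k, hk, rfl⟩
      exact hζ.pow_of_coprime k (Finset.mem_filter.mp hk).2
    · intro hz
      obtain ⟨i, hi, rfl⟩ := hζ.eq_pow_of_pow_eq_one hz.pow_eq_one
      exact ⟨i, Finset.mem_filter.mpr ⟨Finset.mem_range.mpr hi, (hζ.pow_iff_coprime hn0 i).mp hz⟩, rfl⟩
  have hinj : Set.InjOn (fun k => ζ ^ k) S := fun a ha b hb h =>
    hζ.pow_inj (Finset.mem_range.mp (Finset.mem_filter.mp ha).1) (Finset.mem_range.mp (Finset.mem_filter.mp hb).1) h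
  set r : ℤ := Polynomial.resultant (Polynomial.cyclotomic n ℤ) P (Polynomial.cyclotomic n ℤ).natDegree P.natDegree
  have hr : (r : ℂ) = ∏ k ∈ S, c (g ^ k) := by
    have h1 := Polynomial.resultant_map_map (Polynomial.cyclotomic n ℤ) P
      (Polynomial.cyclotomic n ℤ).natDegree P.natDegree (Int.castRingHom ℂ)
    rw [Polynomial.map_cyclotomic] at h1
    rw [show (r : ℂ) = Int.castRingHom ℂ r from rfl, ← h1,
      Polynomial.natDegree_cyclotomic, ← Polynomial.natDegree_cyclotomic n ℂ,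
      Polynomial.resultant_eq_prod_eval _ _ _ Polynomial.natDegree_map_le (IsAlgClosed.splits _),
      Polynomial.cyclotomic.monic, one_pow, one_mul, Polynomial.cyclotomic.roots_eq_primitiveRoots_val,
      ← himg, ← Finset.prod_eq_multiset_prod, Finset.prod_image hinj]
    exact Finset.prod_congr rfl fun k _ => (hP k).symm
  have hk₁ : k₀ % n ∈ S := Finset.mem_filter.mpr ⟨Finset.mem_range.mpr (Nat.mod_lt _ hn0), by
    rw [Nat.Coprime, ← Nat.gcd_rec, Nat.gcd_comm]; exact hk₀⟩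
  -- every value is non-zero
  have hall : ∀ k ∈ S, c (g ^ k) ≠ 0 := by
    intro k hk h0
    refine hne ?_
    have h1 : g ^ k₀ = g ^ (k₀ % n) := (pow_mod_orderOf g k₀).symm
    rw [h1, hP]
    have hmin : ∀ i ∈ S, minpoly ℤ (ζ ^ i) = Polynomial.cyclotomic n ℤ := fun i hi =>
      (Polynomial.cyclotomic_eq_minpoly (hζ.pow_of_coprime i (Finset.mem_filter.mp hi).2) hn0).symm
    have h2 : Polynomial.aeval (ζ ^ k) P = 0 := by
      rw [Polynomial.aeval_def, ← Polynomial.eval_map, algebraMap_int_eq, ← hP, h0]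
    obtain ⟨R, hR⟩ := (minpoly.isIntegrallyClosed_dvd
      ((hζ.pow_of_coprime k (Finset.mem_filter.mp hk).2).isIntegral hn0) h2)
    rw [hmin k hk, ← hmin _ hk₁] at hR
    rw [hQ, hR, Polynomial.map_mul, Polynomial.eval_mul, ← algebraMap_int_eq, Polynomial.eval_map,
      ← Polynomial.aeval_def, minpoly.aeval, zero_mul]
  have hprod : (1 : ℝ) ≤ ∏ k ∈ S, ‖c (g ^ k)‖ ^ 2 := by
    rw [Finset.prod_pow, ← norm_prod, ← hr, Complex.norm_intCast]
    have : r ≠ 0 := fun h => Finset.prod_ne_zero_iff.mpr hall (by rw [← hr, h, Int.cast_zero])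
    have h1 : (1 : ℝ) ≤ |(r : ℝ)| := by exact_mod_cast Int.one_le_abs this
    nlinarith
  have hcard : (S.card : ℝ) = n.totient := by
    rw [hS, Nat.totient_eq_card_coprime, Finset.filter_congr fun k _ => Nat.coprime_comm]
  have hpos : (0 : ℝ) < S.card := by
    rw [Nat.cast_pos, Finset.card_pos]; exact ⟨_, hk₁⟩
  have hge := Real.geom_mean_le_arith_mean S (fun _ => (1 : ℝ)) (fun k => ‖c (g ^ k)‖ ^ 2)
    (fun _ _ => zero_le_one) (by simpa using hpos) (fun _ _ => sq_nonneg _)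
  simp only [Real.rpow_one, one_mul, Finset.sum_const, nsmul_eq_mul, mul_one] at hge
  have h1 : (1 : ℝ) ≤ (∏ k ∈ S, ‖c (g ^ k)‖ ^ 2) ^ ((S.card : ℝ)⁻¹) :=
    Real.one_le_rpow hprod (by positivity)
  have h2 := h1.trans hge
  rw [le_div_iff₀ hpos, one_mul, hcard] at h2
  exact h2

open scoped Classical in
/-- The number of non-zero values is at most the squared mass. -/
theorem card_ne_zero_le {c : G → ℂ} (hc : Cfsg.IsGeneralizedCharacter G c) (Y : Finset G)
    (hY : ∀ g ∈ Y, ∀ k : ℕ, k.Coprime (orderOf g) → g ^ k ∈ Y) :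
    ((Y.filter fun g => c g ≠ 0).card : ℝ) ≤ ∑ g ∈ Y, ‖c g‖ ^ 2 := by
  induction Y using Finset.strongInduction with
  | H Y ih =>
    rcases Y.eq_empty_or_nonempty with rfl | ⟨g, hg⟩
    · simp
    set n := orderOf g with hn
    set O := ((Finset.range n).filter fun k => k.Coprime n).image fun k => g ^ k with hO
    have hOY : O ⊆ Y := fun x hx => by
      obtain ⟨k, hk, rfl⟩ := Finset.mem_image.mp hx
      exact hY g hg k (Finset.mem_filter.mp hk).2
    have hgO : g ∈ O := Finset.mem_image.mpr ⟨1 % n, Finset.mem_filter.mpr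
      ⟨Finset.mem_range.mpr (Nat.mod_lt _ (orderOf_pos g)), by
        rw [Nat.Coprime, ← Nat.gcd_rec]; exact Nat.gcd_one_right _⟩,
      by rw [hn, pow_mod_orderOf, pow_one]⟩
    have hord : ∀ k : ℕ, k.Coprime n → orderOf (g ^ k) = n := fun k hk => by
      rw [Nat.Coprime.orderOf_pow (Nat.Coprime.symm hk)]
    have hback : ∀ y ∈ O, ∀ k : ℕ, k.Coprime (orderOf y) → y ^ k ∈ O := by
      intro y hy k hk
      obtain ⟨i, hi, rfl⟩ := Finset.mem_image.mp hy
      have hi2 := (Finset.mem_filter.mp hi).2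
      rw [hord i hi2] at hk
      refine Finset.mem_image.mpr ⟨i * k % n, Finset.mem_filter.mpr
        ⟨Finset.mem_range.mpr (Nat.mod_lt _ (orderOf_pos g)), ?_⟩, by rw [hn, pow_mod_orderOf, pow_mul]⟩
      rw [Nat.Coprime, ← Nat.gcd_rec, Nat.gcd_comm]
      exact hi2.mul_left hk
    have hrest : ∀ y ∈ Y \ O, ∀ k : ℕ, k.Coprime (orderOf y) → y ^ k ∈ Y \ O := by
      intro y hy k hk
      obtain ⟨hy1, hy2⟩ := Finset.mem_sdiff.mp hy
      refine Finset.mem_sdiff.mpr ⟨hY y hy1 k hk, fun h => hy2 ?_⟩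
      obtain ⟨m, hm⟩ := exists_pow_eq_self_of_coprime hk
      have hcm : m.Coprime (orderOf (y ^ k)) := by
        refine Nat.coprime_of_dvd fun p hp h1 h2 => ?_
        rw [Nat.Coprime.orderOf_pow hk.symm] at h2
        have h3 : y ^ (k * m) = y := by rw [pow_mul, hm]
        have h4 : k * m ≡ 1 [MOD orderOf y] := pow_eq_pow_iff_modEq.mp (h3.trans (pow_one y).symm)
        have h5 := (h4.of_dvd h2).symm
        rw [Nat.modEq_iff_dvd' (Nat.pos_of_ne_zero fun e => ?_)] at h5
        · obtain ⟨b, hb⟩ := h1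
          have h6 : p ∣ k * m - 1 := h5
          have h7 : p ∣ k * m := ⟨k * b, by rw [hb]; ring⟩
          have h8 : 1 ≤ k * m := Nat.pos_of_ne_zero fun e => by
            rw [e] at h4
            exact hp.ne_one (Nat.dvd_one.mp ((Nat.modEq_zero_iff_dvd.mp h4.symm) |> (h2.trans ·)))
          exact hp.ne_one (Nat.dvd_one.mp (by simpa [Nat.sub_sub_self h8] using Nat.dvd_sub h7 h6))
        · rw [e] at h4
          exact hp.ne_one (Nat.dvd_one.mp ((Nat.modEq_zero_iff_dvd.mp h4.symm) |> (h2.trans ·)))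
      have := hback (y ^ k) h m hcm
      rwa [hm] at this
    have hlt : Y \ O ⊂ Y := Finset.sdiff_ssubset hOY ⟨g, hgO⟩
    have h1 := ih _ hlt hrest
    have h2 : (((O.filter fun x => c x ≠ 0).card : ℕ) : ℝ) ≤ ∑ x ∈ O, ‖c x‖ ^ 2 := by
      rcases (O.filter fun x => c x ≠ 0).eq_empty_or_nonempty with he | ⟨x, hx⟩
      · rw [he]; simpa using Finset.sum_nonneg fun x _ => sq_nonneg ‖c x‖
      obtain ⟨hxO, hx0⟩ := Finset.mem_filter.mp hx
      obtain ⟨k₀, hk₀, rfl⟩ := Finset.mem_image.mp hxO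
      have hinj : Set.InjOn (fun k => g ^ k) ((Finset.range n).filter fun k => k.Coprime n) :=
        fun a ha b hb h => pow_injOn_Iio_orderOf (by simpa using (Finset.mem_filter.mp ha).1)
          (by simpa using (Finset.mem_filter.mp hb).1) h
      have := totient_le hc g (Finset.mem_filter.mp hk₀).2 hx0
      rw [hO, Finset.sum_image hinj]
      refine le_trans ?_ this
      refine Nat.cast_le.mpr ((Finset.card_filter_le _ _).trans (Finset.card_image_le.trans (le_of_eq ?_)))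
      rw [Nat.totient_eq_card_coprime, Finset.filter_congr fun k _ => Nat.coprime_comm]
    have hsum : ∑ x ∈ Y, ‖c x‖ ^ 2 = ∑ x ∈ Y \ O, ‖c x‖ ^ 2 + ∑ x ∈ O, ‖c x‖ ^ 2 :=
      (Finset.sum_sdiff hOY).symm
    have hcardsplit : (Y.filter fun x => c x ≠ 0).card ≤
        ((Y \ O).filter fun x => c x ≠ 0).card + (O.filter fun x => c x ≠ 0).card := by
      refine (Finset.card_le_card ?_).trans (Finset.card_union_le _ _)
      intro x hx
      obtain ⟨hxY, hx0⟩ := Finset.mem_filter.mp hx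
      by_cases hxO : x ∈ O
      · exact Finset.mem_union_right _ (Finset.mem_filter.mpr ⟨hxO, hx0⟩)
      · exact Finset.mem_union_left _ (Finset.mem_filter.mpr ⟨Finset.mem_sdiff.mpr ⟨hxY, hxO⟩, hx0⟩)
    rw [hsum]
    have := (Nat.cast_le (α := ℝ)).mpr hcardsplit
    push_cast at this
    linarith

open scoped Classical in
/-- The sum over a set closed under generators is bounded by the squared mass. -/
theorem norm_sum_le {c : G → ℂ} (hc : Cfsg.IsGeneralizedCharacter G c) (Y : Finset G)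
    (hY : ∀ g ∈ Y, ∀ k : ℕ, k.Coprime (orderOf g) → g ^ k ∈ Y) :
    ‖∑ g ∈ Y, c g‖ ≤ ∑ g ∈ Y, ‖c g‖ ^ 2 := by
  have h1 := card_ne_zero_le hc Y hY
  set T := ∑ g ∈ Y, ‖c g‖ ^ 2
  have h2 : ∑ g ∈ Y.filter (fun g => c g ≠ 0), ‖c g‖ ^ 2 ≤ T :=
    Finset.sum_le_sum_of_subset_of_nonneg (Finset.filter_subset _ _) fun _ _ _ => sq_nonneg _
  have h3 : ∑ g ∈ Y.filter (fun g => c g ≠ 0), ‖c g‖ ≤
      ∑ g ∈ Y.filter (fun g => c g ≠ 0), (1 + ‖c g‖ ^ 2) / 2 :=
    Finset.sum_le_sum fun g _ => by nlinarith [sq_nonneg (‖c g‖ - 1)]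
  rw [← Finset.sum_div, Finset.sum_add_distrib, Finset.sum_const, nsmul_eq_mul, mul_one] at h3
  calc ‖∑ g ∈ Y, c g‖ = ‖∑ g ∈ Y.filter (fun g => c g ≠ 0), c g‖ := by rw [Finset.sum_filter_ne_zero]
    _ ≤ ∑ g ∈ Y.filter (fun g => c g ≠ 0), ‖c g‖ := _root_.norm_sum_le _ _
    _ ≤ T := by linarith

end CfsgLib.OddOrder.Final.GaloisMass
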