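import Cfsg.Agent.Lib.OddOrder.Final.Assembly
import Cfsg.Agent.Lib.OddOrder.Final.BothFull
import Cfsg.Agent.Lib.OddOrder.Final.DOne
import Cfsg.Agent.Lib.OddOrder.Final.BigSide

/-!
The glue of the final argument: what is left to supply is the characters of a side, the absence of Type V and
the moving element when both sides are of Type II.
-/

set_option autoImplicit false

namespace CfsgLib.OddOrder.Final

variable {G : Type*} [Group G] [Finite G]

/-- The pair has both sides full and the first of Type II. -/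
theorem Pair.full_and_typeII {S T W₁ W₂ U V : Subgroup G} (hG : Cfsg.IsMinSimpleOddOrder G)
    (h : Pair S T W₁ W₂ U V) (hS : HasSideChars S W₁ U W₂) (hT : HasSideChars T W₂ V W₁) :
    Full S W₁ U W₂ ∧ Full T W₂ V W₁ ∧ Cfsg.IsOfTypeII S := by
  classical
  haveI := Fintype.ofFinite G
  obtain ⟨hfS, hfT⟩ := h.full hG hS hT
  have hgeom : Nat.card U = (Nat.card W₂ ^ Nat.card W₁ - 1) / (Nat.card W₂ - 1) := by
    rw [← hfS.card_U, Nat.mul_div_cancel _ (by have := h.sideS.prime₂.two_le; omega)]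
  exact ⟨hfS, hfT, DOne.typeII hG h hfS.cyclic hgeom fun _ => hfT⟩

/-- No minimal simple group of odd order, given the remaining modules. -/
theorem false_of_glue (hG : Cfsg.IsMinSimpleOddOrder G)
    (noV : ∀ M : Subgroup G, IsCoatom M → ¬ Cfsg.IsOfTypeV M)
    (chars : ∀ M W₁ U W₂ : Subgroup G, Side M W₁ U W₂ → HasSideChars M W₁ U W₂)
    (nbrII : ∀ S T W₁ W₂ U V : Subgroup G, Pair S T W₁ W₂ U V → Full S W₁ U W₂ → Full T W₂ V W₁ →
      Cfsg.IsOfTypeII S → Cfsg.IsOfTypeII T →
      ∃ y ∈ Cfsg.fittingHallOf T, W₂.map (MulAut.conj y).toMonoidHom ≤ Subgroup.normalizer (U : Set G)) :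
    False := by
  refine false_of_modules hG noV
    (fun S T W₁ W₂ U V h => h.full hG (chars _ _ _ _ h.sideS) (chars _ _ _ _ h.sideT))
    fun S T W₁ W₂ U V h hfS hfT => ?_
  have hII := (h.full_and_typeII hG (chars _ _ _ _ h.sideS) (chars _ _ _ _ h.sideT)).2.2
  by_cases hTII : Cfsg.IsOfTypeII T
  · exact nbrII S T W₁ W₂ U V h hfS hfT hII hTII
  · exact BigSide.exists_mover hG h hfS hfT hII hTII

end CfsgLib.OddOrder.Final
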