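import Cfsg.Agent.Lib.Char.CyclicTIGalois
import Cfsg.Agent.Lib.Char.CoherenceIrr
import Cfsg.Agent.Lib.OddOrder.Final.Test
import Cfsg.Agent.S1506

set_option autoImplicit false

/-!
The grid of inner products with a cyclic TI family, and the arithmetic on matrices `x i + y l`.
-/

open scoped ComplexConjugate

namespace CfsgLib.OddOrder.Final.Grid

open CfsgLib.Char CfsgLib.Char.CyclicTI

/-! ### Arithmetic -/

section arith

variable {ι κ : Type*} [Fintype ι] [Fintype κ] [DecidableEq ι] [DecidableEq κ]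

/-- A matrix within distance `x i + y l` of two opposite entries in a row, of squared norm at most two. -/
theorem two_entries (hι : 3 ≤ Fintype.card ι) (hκ : 3 ≤ Fintype.card κ) {a : ι → κ → ℤ} {x : ι → ℤ} {y : κ → ℤ}
    {δ : ℤ} (hδ : δ = 1 ∨ δ = -1) {i₀ : ι} {j k : κ} (hjk : j ≠ k)
    (ha : ∀ i l, a i l = (if i = i₀ then ((if l = j then δ else 0) - if l = k then δ else 0) else 0) + x i + y l)
    (hsum : ∑ i, ∑ l, a i l ^ 2 ≤ 2) :
    ∀ i l, a i l = if i = i₀ then ((if l = j then δ else 0) - if l = k then δ else 0) else 0 := by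
  set b : κ → ℤ := fun l => (if l = j then δ else 0) - if l = k then δ else 0 with hb
  set u : κ → ℤ := fun l => x i₀ + y l with hu
  have h0 : ∀ l, a i₀ l = b l + u l := fun l => by rw [ha, if_pos rfl, hb, hu]; ring
  have h1 : ∀ i, i ≠ i₀ → ∀ l, a i l = u l + (x i - x i₀) := fun i hi l => by
    rw [ha, if_neg hi, hu]; ring
  have hsplit : ∑ l, a i₀ l ^ 2 + ∑ i ∈ Finset.univ.erase i₀, ∑ l, a i l ^ 2 ≤ 2 := by
    rw [Finset.add_sum_erase _ (fun i => ∑ l, a i l ^ 2) (Finset.mem_univ i₀)]; exact hsum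
  have hnn : ∀ i, 0 ≤ ∑ l, a i l ^ 2 := fun i => Finset.sum_nonneg fun l _ => sq_nonneg _
  obtain ⟨i₁, hi₁⟩ := Fintype.exists_ne_of_one_lt_card (by omega) i₀
  by_cases hc : ∀ l, u l = u j
  · -- the shift is constant
    have hrow : ∑ l, a i₀ l ^ 2 = 2 + (Fintype.card κ : ℤ) * u j ^ 2 := by
      have e : ∀ l, a i₀ l ^ 2 = b l ^ 2 + 2 * u j * b l + u j ^ 2 := fun l => by rw [h0, hc l]; ring
      have s1 : ∑ l, b l ^ 2 = 2 := by
        have : ∀ l, b l ^ 2 = (if l = j then 1 else 0) + if l = k then 1 else 0 := fun l => by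
          rcases hδ with rfl | rfl <;> rw [hb] <;> dsimp only <;> split_ifs with e e' <;>
            first | (exfalso; exact hjk (e ▸ e')) | norm_num
        simp [this, Finset.sum_add_distrib]
      have s2 : ∑ l, b l = 0 := by simp [hb, Finset.sum_sub_distrib]
      simp only [e, Finset.sum_add_distrib, ← Finset.mul_sum, s1, s2, Finset.sum_const, Finset.card_univ,
        nsmul_eq_mul]
      ring
    have hcard : (3 : ℤ) ≤ Fintype.card κ := by exact_mod_cast hκ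
    have hu0 : u j = 0 := by
      have hr : (0 : ℤ) ≤ ∑ i ∈ Finset.univ.erase i₀, ∑ l, a i l ^ 2 := Finset.sum_nonneg fun i _ => hnn i
      by_contra h
      have : 0 < u j ^ 2 := pow_two_pos_of_ne_zero h
      nlinarith
    intro i l
    by_cases hi : i = i₀
    · subst hi; rw [if_pos rfl, h0, hc l, hu0, add_zero]
    · rw [if_neg hi, h1 i hi, hc l, hu0, zero_add]
      have hS : ∑ l', a i l' ^ 2 = (Fintype.card κ : ℤ) * (x i - x i₀) ^ 2 := by
        simp [fun l' => h1 i hi l', fun l' => hc l', hu0]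
      have hle : ∑ l', a i l' ^ 2 ≤ 0 := by
        rw [hrow, hu0] at hsplit
        have := Finset.single_le_sum (f := fun i' => ∑ l', a i' l' ^ 2) (fun i' _ => hnn i')
          (Finset.mem_erase.mpr ⟨hi, Finset.mem_univ i⟩)
        linarith
      by_contra h
      have : 0 < (x i - x i₀) ^ 2 := pow_two_pos_of_ne_zero h
      nlinarith
  · exfalso
    push Not at hc
    obtain ⟨l₁, hl₁⟩ := hc
    have hpos : ∀ i ∈ Finset.univ.erase i₀, 1 ≤ ∑ l, a i l ^ 2 := by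
      intro i hi
      by_contra h
      have hz : ∑ l, a i l ^ 2 = 0 := le_antisymm (by linarith) (hnn i)
      have hz' := fun l => pow_eq_zero_iff two_ne_zero |>.1
        ((Finset.sum_eq_zero_iff_of_nonneg fun l _ => sq_nonneg (a i l)).1 hz l (Finset.mem_univ l))
      refine hl₁ ?_
      have e1 := hz' l₁
      have e2 := hz' j
      rw [h1 i (Finset.ne_of_mem_erase hi)] at e1 e2
      linarith
    have hcard : (2 : ℤ) ≤ (Finset.univ.erase i₀).card := by
      rw [Finset.card_erase_of_mem (Finset.mem_univ _), Finset.card_univ]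
      omega
    have hge := Finset.card_nsmul_le_sum _ _ _ hpos
    rw [nsmul_eq_mul, mul_one] at hge
    have hz : ∑ l, a i₀ l ^ 2 = 0 := le_antisymm (by linarith) (hnn i₀)
    have hub : ∀ l, u l = -b l := fun l => by
      have e := pow_eq_zero_iff two_ne_zero |>.1
        ((Finset.sum_eq_zero_iff_of_nonneg fun l _ => sq_nonneg (a i₀ l)).1 hz l (Finset.mem_univ l))
      rw [h0] at e
      linarith
    have hone : ∑ l, a i₁ l ^ 2 ≤ 1 := by
      have hi₁' : i₁ ∈ Finset.univ.erase i₀ := Finset.mem_erase.mpr ⟨hi₁, Finset.mem_univ i₁⟩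
      rw [← Finset.add_sum_erase _ (fun i => ∑ l, a i l ^ 2) hi₁'] at hsplit
      have hge' := Finset.card_nsmul_le_sum ((Finset.univ.erase i₀).erase i₁) _ _
        fun i hi => hpos i (Finset.mem_of_mem_erase hi)
      rw [nsmul_eq_mul, mul_one, Finset.card_erase_of_mem hi₁', Finset.card_erase_of_mem (Finset.mem_univ _),
        Finset.card_univ] at hge'
      have : (1 : ℤ) ≤ ((Fintype.card ι - 1 - 1 : ℕ) : ℤ) := by omega
      linarith
    have hjk2 : a i₁ j ^ 2 + a i₁ k ^ 2 ≤ 1 := by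
      refine le_trans ?_ hone
      rw [← Finset.sum_pair hjk (f := fun l => a i₁ l ^ 2)]
      exact Finset.sum_le_sum_of_subset_of_nonneg (Finset.subset_univ _) fun l _ _ => sq_nonneg _
    have hbj : b j = δ := by simp [hb, hjk]
    have hbk : b k = -δ := by simp [hb, hjk.symm]
    rw [h1 i₁ hi₁, h1 i₁ hi₁, hub, hub, hbj, hbk, neg_neg] at hjk2
    rcases hδ with rfl | rfl <;> nlinarith [sq_nonneg (x i₁ - x i₀)]

/-- The row sums of `x i + y l` of total at most `q + 1` when `y` jumps by `δ` at one column. -/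
theorem one_column {ν : ι → ι} {i₀ : ι} (hν : ∀ i, i ≠ i₀ → ν i ≠ i) (hq : 3 ≤ Fintype.card ι)
    (hp : 3 ≤ Fintype.card κ) {x : ι → ℤ} {y : κ → ℤ} (hx₀ : x i₀ = 0) (hxν : ∀ i, x (ν i) = x i)
    {l₀ j : κ} (hj : j ≠ l₀) {c δ : ℤ} (hδ : δ = 1 ∨ δ = -1) (hy₀ : y l₀ = 0) (hyj : y j = c + δ)
    (hy : ∀ l, l ≠ l₀ → l ≠ j → y l = c)
    (hsum : ∑ i, ∑ l, (x i + y l) ^ 2 ≤ Fintype.card ι + 1) :
    (∀ i, x i = 0) ∧ (c = 0 ∨ Fintype.card κ = 3 ∧ c = -δ) := by
  set m : ℕ := (((Finset.univ : Finset κ).erase l₀).erase j).card with hm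
  have hmc : m + 2 = Fintype.card κ := by
    rw [hm, Finset.card_erase_of_mem (Finset.mem_erase.mpr ⟨hj, Finset.mem_univ j⟩),
      Finset.card_erase_of_mem (Finset.mem_univ _), Finset.card_univ]
    omega
  have hf : ∀ t : ℤ, ∑ l, (t + y l) ^ 2 = t ^ 2 + (t + c + δ) ^ 2 + m * (t + c) ^ 2 := fun t => by
    rw [← Finset.add_sum_erase _ _ (Finset.mem_univ l₀),
      ← Finset.add_sum_erase _ _ (Finset.mem_erase.mpr ⟨hj, Finset.mem_univ j⟩), hy₀, hyj, add_zero,
      Finset.sum_congr rfl fun l hl => by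
        rw [hy l (Finset.ne_of_mem_erase (Finset.mem_of_mem_erase hl)) (Finset.ne_of_mem_erase hl)],
      Finset.sum_const, nsmul_eq_mul, ← hm]
    ring
  have hm1 : (1 : ℤ) ≤ m := by omega
  have key : ∀ t : ℤ, 1 ≤ (t + c + δ) ^ 2 + m * (t + c) ^ 2 := fun t => by
    by_cases h : t + c = 0
    · rw [h]; rcases hδ with rfl | rfl <;> norm_num
    · have : 1 ≤ (t + c) ^ 2 := (sq_pos_iff.mpr h : 0 < (t + c) ^ 2)
      nlinarith [sq_nonneg (t + c + δ)]
  simp only [hf] at hsum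
  have hge : ∀ i, 1 + x i ^ 2 ≤ x i ^ 2 + (x i + c + δ) ^ 2 + m * (x i + c) ^ 2 := fun i => by
    linarith [key (x i)]
  have hx : ∀ i, x i = 0 := by
    intro i
    by_contra hne
    have hii : ν i ≠ i := hν i fun e => hne (e ▸ hx₀)
    have h2 : ∀ i', x i' = x i → 2 ≤ x i' ^ 2 + (x i' + c + δ) ^ 2 + m * (x i' + c) ^ 2 := fun i' e => by
      have : 1 ≤ x i' ^ 2 := (sq_pos_iff.mpr (e ▸ hne) : 0 < x i' ^ 2)
      linarith [hge i']
    rw [← Finset.add_sum_erase _ _ (Finset.mem_univ i),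
      ← Finset.add_sum_erase _ _ (Finset.mem_erase.mpr ⟨hii, Finset.mem_univ (ν i)⟩)] at hsum
    have h3 := Finset.card_nsmul_le_sum ((Finset.univ.erase i).erase (ν i))
      (fun i' => x i' ^ 2 + (x i' + c + δ) ^ 2 + m * (x i' + c) ^ 2) 1
      fun i' _ => le_trans (le_add_of_nonneg_right (sq_nonneg _)) (hge i')
    rw [nsmul_eq_mul, mul_one, Finset.card_erase_of_mem (Finset.mem_erase.mpr ⟨hii, Finset.mem_univ (ν i)⟩),
      Finset.card_erase_of_mem (Finset.mem_univ _), Finset.card_univ] at h3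
    have := h2 i rfl
    have := h2 (ν i) (hxν i)
    omega
  refine ⟨hx, ?_⟩
  simp only [hx, Finset.sum_const, Finset.card_univ, nsmul_eq_mul] at hsum
  by_cases hc : c = 0
  · exact Or.inl hc
  have hc2 : 1 ≤ c ^ 2 := (sq_pos_iff.mpr hc : 0 < c ^ 2)
  have hle : (0 + c + δ) ^ 2 + (m : ℤ) * (0 + c) ^ 2 ≤ 1 := by
    by_contra h
    have : (2 : ℤ) ≤ 0 ^ 2 + (0 + c + δ) ^ 2 + m * (0 + c) ^ 2 := by push Not at h; linarith
    nlinarith
  rw [zero_add] at hle
  have hmone : (m : ℤ) = 1 := by nlinarith [sq_nonneg (c + δ)]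
  have hcd : c + δ = 0 := by
    have : (c + δ) ^ 2 ≤ 0 := by nlinarith
    exact pow_eq_zero_iff two_ne_zero |>.1 (le_antisymm this (sq_nonneg _))
  exact Or.inr ⟨by omega, by linarith⟩

/-- The two possible grids of squared norm at most `q + 1` which are constant off the two base lines. -/
theorem two_lines {b c : ℤ} {q p : ℕ} (hq : 3 ≤ q) (hp : 3 ≤ p) (hqo : Odd q) (hpo : Odd p) (hne : q ≠ p)
    (h : 1 + ((p : ℤ) - 1) * c ^ 2 + ((q : ℤ) - 1) * b ^ 2 + ((q : ℤ) - 1) * ((p : ℤ) - 1) * (b + c - 1) ^ 2 ≤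
      q + 1) :
    (b = 1 ∧ c = 0) ∨ (b = 0 ∧ c = 1 ∧ p < q) := by
  have hq' : (2 : ℤ) ≤ (q : ℤ) - 1 := by omega
  have hp' : (2 : ℤ) ≤ (p : ℤ) - 1 := by omega
  have hb0 : (0 : ℤ) ≤ ((q : ℤ) - 1) * b ^ 2 := by positivity
  have hc0 : (0 : ℤ) ≤ ((p : ℤ) - 1) * c ^ 2 := by positivity
  have hbc : b + c - 1 = 0 := by
    by_contra hz
    have h1 : 1 ≤ (b + c - 1) ^ 2 := (sq_pos_iff.mpr hz : 0 < (b + c - 1) ^ 2)
    have h2 : 2 * ((q : ℤ) - 1) * 1 ≤ ((q : ℤ) - 1) * ((p : ℤ) - 1) * (b + c - 1) ^ 2 :=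
      mul_le_mul (by nlinarith) h1 (by norm_num) (by positivity)
    nlinarith
  have hb : b = 1 - c := by linarith
  subst hb
  rw [hbc] at h
  by_cases h0 : c = 0
  · exact Or.inl ⟨by omega, h0⟩
  by_cases h1 : c = 1
  · subst h1
    refine Or.inr ⟨by norm_num, rfl, ?_⟩
    norm_num at h
    obtain ⟨u, hu⟩ := hqo; obtain ⟨v, hv⟩ := hpo
    omega
  exfalso
  have e1 : 1 ≤ c ^ 2 := (sq_pos_iff.mpr h0 : 0 < c ^ 2)
  have e2 : 1 ≤ (1 - c) ^ 2 := (sq_pos_iff.mpr (sub_ne_zero.mpr (Ne.symm h1)) : 0 < (1 - c) ^ 2)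
  nlinarith

end arith

/-! ### Families -/

section family

variable {G : Type*} [Group G] {W₁ W₂ : Subgroup G}

theorem hom_mul_one' (f : ↥(W₁ ⊔ W₂) →* ℂˣ) : f * 1 = f := MonoidHom.ext fun _ => mul_one _

theorem hom_one_mul' (f : ↥(W₁ ⊔ W₂) →* ℂˣ) : 1 * f = f := MonoidHom.ext fun _ => one_mul _

variable (W₁ W₂) in
/-- The trivial character trivial on the second factor. -/
def fst₀ : FstChar W₁ W₂ := ⟨1, fun _ _ => rfl⟩

variable (W₁ W₂) in
/-- The trivial character trivial on the first factor. -/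
def snd₀ : SndChar W₁ W₂ := ⟨1, fun _ _ => rfl⟩

theorem mul_ne_iff (hW : Cfsg.IsSelfNormalizingCyclic W₁ W₂) (p q : FstChar W₁ W₂ × SndChar W₁ W₂) :
    p.1.1 * p.2.1 = q.1.1 * q.2.1 ↔ p = q :=
  ⟨fun h => (mul_bijective hW).1 h, fun h => by rw [h]⟩

theorem three_le (hW : Cfsg.IsSelfNormalizingCyclic W₁ W₂) (hodd : Odd (Nat.card ↥(W₁ ⊔ W₂))) [Finite G] :
    3 ≤ Nat.card W₁ ∧ 3 ≤ Nat.card W₂ ∧ Odd (Nat.card W₁) ∧ Odd (Nat.card W₂) := by
  have key : ∀ K : Subgroup G, K ≤ W₁ ⊔ W₂ → K ≠ ⊥ → 3 ≤ Nat.card K ∧ Odd (Nat.card K) := by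
    intro K hle hne
    have ho := hodd.of_dvd_nat (Subgroup.card_dvd_of_le hle)
    have := (Subgroup.one_lt_card_iff_ne_bot K).mpr hne
    refine ⟨?_, ho⟩
    obtain ⟨u, hu⟩ := ho
    omega
  exact ⟨(key _ le_sup_left hW.1).1, (key _ le_sup_right hW.2.1).1, (key _ le_sup_left hW.1).2,
    (key _ le_sup_right hW.2.1).2⟩

variable [Fintype G] {χ : (↥(W₁ ⊔ W₂) →* ℂˣ) → (G → ℂ)}

/-- A class function vanishing on the regular part has a grid `x i + y l`. -/
theorem coef_mul (hW : Cfsg.IsSelfNormalizingCyclic W₁ W₂) (hχ : Cfsg.IsCyclicTIFamily W₁ W₂ χ)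
    {θ : G → ℂ} (hθ : Cfsg.IsClassFunction G θ) (hθV : ∀ g ∈ vset W₁ W₂, θ g = 0)
    (f : FstChar W₁ W₂) (g : SndChar W₁ W₂) :
    Cfsg.classInner θ (χ (f.1 * g.1)) = Cfsg.classInner θ (χ f.1) + Cfsg.classInner θ (χ g.1) -
      Cfsg.classInner θ (χ 1) := by
  have h := Cfsg.Agent.S1506.result W₁ W₂ hW χ hχ θ hθ
    (fun w h₁ h₂ => hθV w (mem_vset.mpr ⟨w.2, h₁, h₂⟩)) f.1 1 g.1 1
    (fun w hw => ⟨f.2 w hw, rfl⟩) (fun w hw => ⟨g.2 w hw, rfl⟩)
  rw [hom_mul_one', hom_mul_one', hom_one_mul'] at h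
  linear_combination h

theorem isGeneralizedCharacter_member (hχ : Cfsg.IsCyclicTIFamily W₁ W₂ χ) (ω : ↥(W₁ ⊔ W₂) →* ℂˣ) :
    Cfsg.IsGeneralizedCharacter G (χ ω) := by
  rcases hχ.irr_or_neg ω with h | h
  · exact IsCharacter.isGeneralizedCharacter (IsIrrCharacter.isCharacter h)
  · obtain ⟨a, b, ha, hb, e⟩ := IsCharacter.isGeneralizedCharacter (IsIrrCharacter.isCharacter h)
    exact ⟨b, a, hb, ha, by rw [← neg_neg (χ ω), e, neg_sub]⟩

/-- The integral grid of a generalized character. -/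
theorem exists_grid (hW : Cfsg.IsSelfNormalizingCyclic W₁ W₂) (hχ : Cfsg.IsCyclicTIFamily W₁ W₂ χ)
    {θ : G → ℂ} (hθ : Cfsg.IsGeneralizedCharacter G θ) :
    ∃ a : FstChar W₁ W₂ → SndChar W₁ W₂ → ℤ, ∀ f g, Cfsg.classInner θ (χ (f.1 * g.1)) = a f g := by
  choose a ha using fun (f : FstChar W₁ W₂) (g : SndChar W₁ W₂) =>
    IsGeneralizedCharacter.classInner_int hθ (isGeneralizedCharacter_member hχ (f.1 * g.1))
  exact ⟨a, ha⟩

open scoped Classical in
/-- The part of a function seen by the grid. -/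
theorem classInner_comb (hW : Cfsg.IsSelfNormalizingCyclic W₁ W₂) (hχ : Cfsg.IsCyclicTIFamily W₁ W₂ χ)
    [Fintype (FstChar W₁ W₂)] [Fintype (SndChar W₁ W₂)] (a : FstChar W₁ W₂ → SndChar W₁ W₂ → ℤ)
    (f : FstChar W₁ W₂) (g : SndChar W₁ W₂) :
    Cfsg.classInner (∑ f', ∑ g', (a f' g' : ℂ) • χ (f'.1 * g'.1)) (χ (f.1 * g.1)) = a f g := by
  rw [classInner_sum_left, Finset.sum_eq_single f ?_ (by simp)]
  · rw [classInner_sum_left, Finset.sum_eq_single g ?_ (by simp)]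
    · rw [classInner_smul_left, hχ.orthonormal, if_pos rfl, mul_one]
    · intro g' _ hg'
      rw [classInner_smul_left, hχ.orthonormal,
        if_neg fun e => hg' (congrArg Prod.snd ((mul_ne_iff hW (f, g') (f, g)).1 e)), mul_zero]
  · intro f' _ hf'
    rw [classInner_sum_left]
    refine Finset.sum_eq_zero fun g' _ => ?_
    rw [classInner_smul_left, hχ.orthonormal,
      if_neg fun e => hf' (congrArg Prod.fst ((mul_ne_iff hW (f', g') (f, g)).1 e)), mul_zero]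

/-- Bessel's inequality, and the remainder. -/
theorem bessel (hW : Cfsg.IsSelfNormalizingCyclic W₁ W₂) (hχ : Cfsg.IsCyclicTIFamily W₁ W₂ χ)
    [Fintype (FstChar W₁ W₂)] [Fintype (SndChar W₁ W₂)]
    {θ : G → ℂ} (hθ : Cfsg.IsGeneralizedCharacter G θ) {a : FstChar W₁ W₂ → SndChar W₁ W₂ → ℤ}
    (ha : ∀ f g, Cfsg.classInner θ (χ (f.1 * g.1)) = a f g) {N : ℕ} (hN : Cfsg.classInner θ θ = N) :
    ∑ f, ∑ g, a f g ^ 2 ≤ (N : ℤ) ∧
    (∑ f, ∑ g, a f g ^ 2 = (N : ℤ) → θ = ∑ f, ∑ g, (a f g : ℂ) • χ (f.1 * g.1)) ∧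
    (∑ f, ∑ g, a f g ^ 2 + 1 = (N : ℤ) → Signed G (∑ f, ∑ g, (a f g : ℂ) • χ (f.1 * g.1) - θ) ∧
      ∀ (f : FstChar W₁ W₂) (g : SndChar W₁ W₂),
        Cfsg.classInner (∑ f', ∑ g', (a f' g' : ℂ) • χ (f'.1 * g'.1) - θ) (χ (f.1 * g.1)) = 0) := by
  classical
  set D : G → ℂ := ∑ f, ∑ g, (a f g : ℂ) • χ (f.1 * g.1) with hD
  have h0 : ∀ (f : FstChar W₁ W₂) (g : SndChar W₁ W₂), Cfsg.classInner (D - θ) (χ (f.1 * g.1)) = 0 := fun f g => by
    rw [classInner_sub_left, ha, hD, classInner_comb hW hχ, sub_self]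
  have hDR : Cfsg.classInner (D - θ) D = 0 := by
    conv_lhs => arg 2; rw [hD]
    rw [classInner_sum_right]
    refine Finset.sum_eq_zero fun f _ => ?_
    rw [classInner_sum_right]
    exact Finset.sum_eq_zero fun g _ => by rw [classInner_smul_right, h0, mul_zero]
  have hθD : Cfsg.classInner θ D = ((∑ f, ∑ g, a f g ^ 2 : ℤ) : ℂ) := by
    rw [hD, classInner_sum_right]
    push_cast
    refine Finset.sum_congr rfl fun f _ => ?_
    rw [classInner_sum_right]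
    refine Finset.sum_congr rfl fun g _ => ?_
    rw [classInner_smul_right, ha, map_intCast, sq]
  have hRR : Cfsg.classInner (D - θ) (D - θ) = (((N : ℤ) - ∑ f, ∑ g, a f g ^ 2 : ℤ) : ℂ) := by
    have e : Cfsg.classInner D θ = Cfsg.classInner θ D := by
      rw [← classInner_conj_symm, hθD, map_intCast]
    rw [classInner_sub_right, hDR, classInner_sub_left, hN, e, hθD]
    push_cast
    ring
  have hre : (0 : ℝ) ≤ (Cfsg.classInner (D - θ) (D - θ)).re := by
    rw [classInner_self, Complex.ofReal_re]; positivity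
  refine ⟨?_, fun e => ?_, fun e => ⟨?_, h0⟩⟩
  · rw [hRR, Complex.intCast_re] at hre
    have : (0 : ℤ) ≤ (N : ℤ) - ∑ f, ∑ g, a f g ^ 2 := by exact_mod_cast hre
    linarith
  · rw [e, sub_self, Int.cast_zero, classInner_self_eq_zero, sub_eq_zero] at hRR
    exact hRR.symm
  · have hgen : Cfsg.IsGeneralizedCharacter G (D - θ) := by
      refine isGeneralizedCharacter_iff.mpr ⟨?_, fun ψ hψ => ?_⟩
      · intro x y
        simp only [hD, Pi.sub_apply, Finset.sum_apply, Pi.smul_apply,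
          IsGeneralizedCharacter.isClassFunction hθ x y]
        congr 1
        exact Finset.sum_congr rfl fun f _ => Finset.sum_congr rfl fun g _ => by
          rw [IsGeneralizedCharacter.isClassFunction (isGeneralizedCharacter_member hχ _) x y]
      · obtain ⟨z, hz⟩ := IsGeneralizedCharacter.classInner_int hθ
          (IsCharacter.isGeneralizedCharacter (IsIrrCharacter.isCharacter hψ))
        choose w hw using fun (f : FstChar W₁ W₂) (g : SndChar W₁ W₂) => IsGeneralizedCharacter.classInner_int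
          (isGeneralizedCharacter_member hχ (f.1 * g.1))
          (IsCharacter.isGeneralizedCharacter (IsIrrCharacter.isCharacter hψ))
        refine ⟨∑ f, ∑ g, a f g * w f g - z, ?_⟩
        rw [classInner_sub_left, hz, hD]
        simp only [classInner_sum_left, classInner_smul_left, hw]
        push_cast
        ring
    rw [show (N : ℤ) - ∑ f, ∑ g, a f g ^ 2 = 1 by linarith, Int.cast_one] at hRR
    obtain ⟨z, φ, hz, e'⟩ := CharDeep.GenChar.exists_sign_irr hgen hRR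
    rcases hz with rfl | rfl
    · exact Or.inl (by rw [e']; simpa using φ.2)
    · exact Or.inr (by rw [e']; simpa using φ.2)

/-- An automorphism of `ℂ` joining two nontrivial characters killing a complement of a factor of prime order. -/
theorem exists_galois (hW : Cfsg.IsSelfNormalizingCyclic W₁ W₂) {K K' : Subgroup G}
    (hK : K = W₁ ∧ K' = W₂ ∨ K = W₂ ∧ K' = W₁) (hp : (Nat.card K).Prime) {f f' : ↥(W₁ ⊔ W₂) →* ℂˣ}
    (hf : ∀ w : ↥(W₁ ⊔ W₂), (w : G) ∈ K' → f w = 1) (hf' : ∀ w : ↥(W₁ ⊔ W₂), (w : G) ∈ K' → f' w = 1)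
    (h1 : f ≠ 1) (h1' : f' ≠ 1) :
    ∃ σ : ℂ ≃+* ℂ, (Units.map (σ.toRingHom : ℂ →* ℂ)).comp f = f' := by
  haveI := Fact.mk hp
  have hle : K ≤ W₁ ⊔ W₂ := by rcases hK with ⟨rfl, -⟩ | ⟨rfl, -⟩ <;> simp
  have hext : ∀ a b : ↥(W₁ ⊔ W₂) →* ℂˣ, (∀ w : ↥(W₁ ⊔ W₂), (w : G) ∈ K' → a w = b w) →
      (∀ w : ↥(W₁ ⊔ W₂), (w : G) ∈ K → a w = b w) → a = b := by
    intro a b hK' hKK
    refine div_eq_one.mp (hom_eq_one _ (fun w hw => ?_) fun w hw => ?_) <;>
      rcases hK with ⟨rfl, rfl⟩ | ⟨rfl, rfl⟩ <;> simp [MonoidHom.div_apply, hK', hKK, hw]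
  haveI : IsCyclic K := isCyclic_of_prime_card rfl
  obtain ⟨x, hx⟩ := IsCyclic.exists_monoid_generator (α := K)
  set x' : ↥(W₁ ⊔ W₂) := ⟨(x : G), hle x.2⟩ with hx'
  have hgen : ∀ a b : ↥(W₁ ⊔ W₂) →* ℂˣ, a x' = b x' → ∀ w : ↥(W₁ ⊔ W₂), (w : G) ∈ K → a w = b w := by
    intro a b e w hw
    obtain ⟨n, hn⟩ := Submonoid.mem_powers_iff _ _ |>.mp (hx ⟨(w : G), hw⟩)
    have hwx : w = x' ^ n := Subtype.ext (by
      rw [SubgroupClass.coe_pow, hx']
      exact (congrArg Subtype.val hn).symm.trans (by simp))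
    rw [hwx, map_pow, map_pow, e]
  have hprim : ∀ a : ↥(W₁ ⊔ W₂) →* ℂˣ, (∀ w : ↥(W₁ ⊔ W₂), (w : G) ∈ K' → a w = 1) → a ≠ 1 →
      IsPrimitiveRoot ((a x' : ℂˣ) : ℂ) (Nat.card K) := by
    intro a ha hne
    have hpow : ((a x' : ℂˣ) : ℂ) ^ Nat.card K = 1 := by
      have e : x' ^ Nat.card K = 1 := Subtype.ext (by
        rw [SubgroupClass.coe_pow, hx', OneMemClass.coe_one]
        exact orderOf_dvd_iff_pow_eq_one.mp (Subgroup.orderOf_dvd_natCard K x.2))
      rw [← Units.val_pow_eq_pow_val, ← map_pow, e, map_one, Units.val_one]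
    have hne1 : ((a x' : ℂˣ) : ℂ) ≠ 1 := fun e => hne (hext a 1 (fun w hw => ha w hw)
      (hgen a 1 (Units.ext (by simpa using e))))
    have := orderOf_eq_prime hpow hne1
    exact this ▸ IsPrimitiveRoot.orderOf _
  obtain ⟨σ, hσ⟩ := CfsgLib.CharDeep.Galois.exists_ringEquiv_primitive hp.ne_zero (hprim f hf h1)
    (hprim f' hf' h1')
  refine ⟨σ, hext _ _ (fun w hw => ?_) (hgen _ _ (Units.ext hσ))⟩
  rw [MonoidHom.comp_apply, hf w hw, hf' w hw, map_one]

end family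

/-! ### The Dade map on smaller supports -/

section congr

variable {G : Type*} [Group G] [Finite G] {A A' : Set G} {M : Subgroup G} {R R' : G → Subgroup G}

/-- Only the part of the Dade set-up on the support matters. -/
theorem dade_congr (hD : Cfsg.DadeHypothesis A M R) (hD' : Cfsg.DadeHypothesis A' M R') (hAA : A ⊆ A')
    (hR : ∀ a ∈ A, R a = R' a) {α : M → ℂ} (hα : Cfsg.IsClassFunction M α)
    (hαA : ∀ x : M, (x : G) ∉ A → α x = 0) :
    Cfsg.dadeIsometry A M R α = Cfsg.dadeIsometry A' M R' α := by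
  funext g
  by_cases hg : g ∈ Dade.supp A' M R'
  · obtain ⟨a, ha, x, u, hu, e⟩ := hg
    rw [Dade.dade_apply hD' hα a ha hu e]
    by_cases haA : (a : G) ∈ A
    · exact Dade.dade_apply hD hα a haA (hR _ haA ▸ hu) e
    rw [hαA a haA]
    by_cases hg' : g ∈ Dade.supp A M R
    · obtain ⟨b, hb, y, v, hv, e'⟩ := hg'
      obtain ⟨l, hl, hle⟩ := Dade.fusion' hD' ha (hAA hb) hu (hR _ hb ▸ hv) (g := y * x⁻¹)
        (by rw [← e, ← e']; group)
      have hba : α b = α a := by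
        rw [← hα a ⟨l, hl⟩]
        exact congrArg α (Subtype.ext hle.symm)
      rw [Dade.dade_apply hD hα b hb hv e', hba, hαA a haA]
    · exact Dade.dade_eq_zero hg'
  · rw [Dade.dade_eq_zero hg, Dade.dade_eq_zero]
    rintro ⟨b, hb, y, v, hv, e'⟩
    exact hg ⟨b, hAA hb, y, v, hR _ hb ▸ hv, e'⟩

end congr

end CfsgLib.OddOrder.Final.Grid
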