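import Cfsg.Agent.Lib.OddOrder.Final.Grid

set_option autoImplicit false

/-!
One side of the configuration: the images of the differences of the exceptional characters.
-/

open scoped ComplexConjugate

namespace CfsgLib.OddOrder.Final.Grid

open CfsgLib.Char CfsgLib.Char.CyclicTI

variable {G : Type*} [Group G] {W₁ W₂ : Subgroup G}

/-- The sum of a family over the characters trivial on the second factor, times `g`. -/
noncomputable def col {X : Type*} [AddCommMonoid X] (μ : (↥(W₁ ⊔ W₂) →* ℂˣ) → X) (g : ↥(W₁ ⊔ W₂) →* ℂˣ) : X :=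
  ∑ᶠ f : FstChar W₁ W₂, μ (f.1 * g)

theorem col_eq_sum {X : Type*} [AddCommMonoid X] [Fintype (FstChar W₁ W₂)] (μ : (↥(W₁ ⊔ W₂) →* ℂˣ) → X)
    (g : ↥(W₁ ⊔ W₂) →* ℂˣ) : col μ g = ∑ f : FstChar W₁ W₂, μ (f.1 * g) :=
  finsum_eq_sum_of_fintype _

/-- A field automorphism applied to a linear character. -/
def gal (σ : ℂ ≃+* ℂ) (f : ↥(W₁ ⊔ W₂) →* ℂˣ) : ↥(W₁ ⊔ W₂) →* ℂˣ :=
  (Units.map (σ.toRingHom : ℂ →* ℂ)).comp f

theorem gal_apply (σ : ℂ ≃+* ℂ) (f : ↥(W₁ ⊔ W₂) →* ℂˣ) (w : ↥(W₁ ⊔ W₂)) :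
    ((gal σ f w : ℂˣ) : ℂ) = σ (f w : ℂ) := rfl

theorem gal_mul (σ : ℂ ≃+* ℂ) (f g : ↥(W₁ ⊔ W₂) →* ℂˣ) : gal σ (f * g) = gal σ f * gal σ g :=
  MonoidHom.ext fun w => Units.ext (by simp [gal_apply])

theorem gal_one (σ : ℂ ≃+* ℂ) : gal σ (1 : ↥(W₁ ⊔ W₂) →* ℂˣ) = 1 :=
  MonoidHom.ext fun w => Units.ext (by simp [gal_apply])

theorem gal_symm (σ : ℂ ≃+* ℂ) (f : ↥(W₁ ⊔ W₂) →* ℂˣ) : gal σ.symm (gal σ f) = f :=
  MonoidHom.ext fun w => Units.ext (by simp [gal_apply])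

theorem gal_ne_one (σ : ℂ ≃+* ℂ) {f : ↥(W₁ ⊔ W₂) →* ℂˣ} (hf : f ≠ 1) : gal σ f ≠ 1 := fun h =>
  hf (by rw [← gal_symm σ f, h, gal_one])

/-- An automorphism on the characters trivial on the second factor. -/
def galFst (σ : ℂ ≃+* ℂ) : FstChar W₁ W₂ ≃ FstChar W₁ W₂ where
  toFun f := ⟨gal σ f.1, fun w hw => Units.ext (by simp [gal_apply, f.2 w hw])⟩
  invFun f := ⟨gal σ.symm f.1, fun w hw => Units.ext (by simp [gal_apply, f.2 w hw])⟩
  left_inv f := Subtype.ext (gal_symm σ f.1)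
  right_inv f := Subtype.ext (by simpa using gal_symm σ.symm f.1)

/-- An automorphism on a character trivial on the first factor. -/
def galSnd (σ : ℂ ≃+* ℂ) (g : SndChar W₁ W₂) : SndChar W₁ W₂ :=
  ⟨gal σ g.1, fun w hw => Units.ext (by simp [gal_apply, g.2 w hw])⟩

/-- Complex conjugation. -/
noncomputable def cstar : ℂ ≃+* ℂ := Complex.conjAe.toRingEquiv

theorem cstar_apply (z : ℂ) : cstar z = conj z := rfl

/-- An element outside the first factor and the second. -/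
theorem vset_nonempty (hW : Cfsg.IsSelfNormalizingCyclic W₁ W₂) : (vset W₁ W₂).Nonempty := by
  obtain ⟨a, ha, ha1⟩ := W₁.ne_bot_iff_exists_ne_one.mp hW.1 |> fun ⟨x, hx⟩ => (⟨x, x.2, fun h => hx (Subtype.ext h)⟩ : ∃ a ∈ W₁, a ≠ 1)
  obtain ⟨b, hb, hb1⟩ := W₂.ne_bot_iff_exists_ne_one.mp hW.2.1 |> fun ⟨x, hx⟩ => (⟨x, x.2, fun h => hx (Subtype.ext h)⟩ : ∃ b ∈ W₂, b ≠ 1)
  refine ⟨a * b, mem_vset.mpr ⟨mul_mem (Subgroup.mem_sup_left ha) (Subgroup.mem_sup_right hb), fun h => hb1 ?_,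
    fun h => ha1 ?_⟩⟩
  · have : b ∈ W₁ ⊓ W₂ := ⟨by simpa using W₁.mul_mem (W₁.inv_mem ha) h, hb⟩
    rwa [hW.2.2.1, Subgroup.mem_bot] at this
  · have : a ∈ W₁ ⊓ W₂ := ⟨ha, by simpa using W₂.mul_mem h (W₂.inv_mem hb)⟩
    rwa [hW.2.2.1, Subgroup.mem_bot] at this

/-- Scaled linear characters agreeing outside the second factor are equal. -/
theorem eq_of_value [Finite G] (hW : Cfsg.IsSelfNormalizingCyclic W₁ W₂) (hodd : Odd (Nat.card ↥(W₁ ⊔ W₂)))
    {ω ω' : ↥(W₁ ⊔ W₂) →* ℂˣ} {c c' : ℂ} (hc : c ≠ 0) (hc' : c' ≠ 0)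
    (h : ∀ w : ↥(W₁ ⊔ W₂), (w : G) ∉ W₂ → c * (ω w : ℂ) = c' * (ω' w : ℂ)) : ω = ω' ∧ c = c' := by
  obtain ⟨x, hx⟩ := W₁.ne_bot_iff_exists_ne_one.mp hW.1
  set x' : ↥(W₁ ⊔ W₂) := ⟨(x : G), Subgroup.mem_sup_left x.2⟩
  have hdis : ∀ y : W₁, y ≠ 1 → (y : G) ∉ W₂ := fun y hy h' => hy (Subtype.ext (by
    have : (y : G) ∈ W₁ ⊓ W₂ := ⟨y.2, h'⟩
    rwa [hW.2.2.1, Subgroup.mem_bot] at this))
  have hsq : x * x ≠ 1 := fun e => hx (by
    have h2 : orderOf x ∣ 2 := orderOf_dvd_of_pow_eq_one (by rw [sq]; exact e)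
    rcases (Nat.dvd_prime Nat.prime_two).mp h2 with h1 | h1
    · exact orderOf_eq_one_iff.mp h1
    · exact absurd ((three_le hW hodd).2.2.1.of_dvd_nat (h1 ▸ orderOf_dvd_natCard x)) (by decide))
  set r : ↥(W₁ ⊔ W₂) →* ℂˣ := ω / ω' with hr
  have key : ∀ w : ↥(W₁ ⊔ W₂), (w : G) ∉ W₂ → ((r w : ℂˣ) : ℂ) = c' / c := fun w hw => by
    rw [hr, MonoidHom.div_apply, Units.val_div_eq_div_val, div_eq_div_iff (Units.ne_zero _) hc, mul_comm _ c,
      h w hw]
  have h1 := key x' (hdis x hx)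
  have h2 := key (x' * x') (hdis (x * x) hsq)
  rw [map_mul, Units.val_mul, h1] at h2
  have hone : c' / c = 1 := mul_right_cancel₀ (div_ne_zero hc' hc) (by rw [one_mul]; exact h2)
  have hcc : c = c' := ((div_eq_one_iff_eq hc).mp hone).symm
  refine ⟨div_eq_one.mp (hom_eq_one r (fun w hw => ?_) fun w hw => ?_), hcc⟩
  · by_cases hw2 : (w : G) ∈ W₂
    · have : w = 1 := Subtype.ext (by
        have h3 : (w : G) ∈ W₁ ⊓ W₂ := ⟨hw, hw2⟩
        rwa [hW.2.2.1, Subgroup.mem_bot] at h3)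
      rw [this, map_one]
    · exact Units.ext (by rw [key w hw2, hone]; rfl)
  · have hxw : ((x' * w : ↥(W₁ ⊔ W₂)) : G) ∉ W₂ := fun h' => hdis x hx (by
      simpa [x'] using W₂.mul_mem h' (W₂.inv_mem hw))
    have h3 := key _ hxw
    rw [map_mul, Units.val_mul, h1, hone, one_mul] at h3
    exact Units.ext (by rw [h3]; rfl)

/-- The sum of the characters trivial on the second factor vanishes outside it. -/
theorem sum_fst [Finite G] (hW : Cfsg.IsSelfNormalizingCyclic W₁ W₂) [Fintype (FstChar W₁ W₂)]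
    {w : ↥(W₁ ⊔ W₂)} (hw : (w : G) ∉ W₂) : ∑ f : FstChar W₁ W₂, (f.1 w : ℂ) = 0 := by
  classical
  haveI := finite_hom (W₁ := W₁) (W₂ := W₂)
  cases nonempty_fintype (↥(W₁ ⊔ W₂) →* ℂˣ)
  have := sum_hom_eq_zero hW (W₂.subgroupOf (W₁ ⊔ W₂)) (c := w) (fun h => hw (Subgroup.mem_subgroupOf.mp h))
  rw [Finset.sum_subtype (p := fun φ : ↥(W₁ ⊔ W₂) →* ℂˣ => ∀ v : ↥(W₁ ⊔ W₂), (v : G) ∈ W₂ → φ v = 1) _
    (fun φ => by simp [Subgroup.mem_subgroupOf])] at this
  convert this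

theorem zero_grid {ι κ : Type*} [Fintype ι] [Fintype κ] [DecidableEq ι] [DecidableEq κ]
    (hι : 3 ≤ Fintype.card ι) (hκ : 3 ≤ Fintype.card κ) {a : ι → κ → ℤ} {x : ι → ℤ} {y : κ → ℤ}
    (ha : ∀ i l, a i l = x i + y l) (hsum : ∑ i, ∑ l, a i l ^ 2 ≤ 2) : ∀ i l, a i l = 0 := by
  intro i l
  by_contra hne
  obtain ⟨i₁, hi₁, i₂, hi₂, h12⟩ : ∃ i₁ ∈ Finset.univ.erase i, ∃ i₂ ∈ Finset.univ.erase i, i₁ ≠ i₂ :=
    Finset.one_lt_card.mp (by rw [Finset.card_erase_of_mem (Finset.mem_univ _), Finset.card_univ]; omega)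
  obtain ⟨l₁, hl₁, l₂, hl₂, k12⟩ : ∃ l₁ ∈ Finset.univ.erase l, ∃ l₂ ∈ Finset.univ.erase l, l₁ ≠ l₂ :=
    Finset.one_lt_card.mp (by rw [Finset.card_erase_of_mem (Finset.mem_univ _), Finset.card_univ]; omega)
  have hi1 := (Finset.ne_of_mem_erase hi₁).symm
  have hi2 := (Finset.ne_of_mem_erase hi₂).symm
  have hl1 := (Finset.ne_of_mem_erase hl₁).symm
  have hl2 := (Finset.ne_of_mem_erase hl₂).symm
  have hsub : ∑ i' ∈ ({i, i₁, i₂} : Finset ι), ∑ l' ∈ ({l, l₁, l₂} : Finset κ), a i' l' ^ 2 ≤ 2 :=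
    le_trans (le_trans (Finset.sum_le_sum fun i' _ => Finset.sum_le_sum_of_subset_of_nonneg
      (Finset.subset_univ _) fun _ _ _ => sq_nonneg _)
      (Finset.sum_le_sum_of_subset_of_nonneg (Finset.subset_univ _)
        fun _ _ _ => Finset.sum_nonneg fun _ _ => sq_nonneg _)) hsum
  simp only [Finset.sum_insert, Finset.mem_insert, Finset.mem_singleton, Finset.sum_singleton, hi1, hi2, h12, hl1,
    hl2, k12, or_self, not_false_eq_true] at hsub
  have key : ∀ i' l', 1 ≤ a i l' ^ 2 + a i' l ^ 2 + a i' l' ^ 2 := by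
    intro i' l'
    have e : a i l + a i' l' = a i l' + a i' l := by rw [ha, ha, ha, ha]; ring
    by_contra h
    have h1 : a i l' ^ 2 = 0 := le_antisymm (by linarith [sq_nonneg (a i' l), sq_nonneg (a i' l')]) (sq_nonneg _)
    have h2 : a i' l ^ 2 = 0 := le_antisymm (by linarith [sq_nonneg (a i l'), sq_nonneg (a i' l')]) (sq_nonneg _)
    have h3 : a i' l' ^ 2 = 0 := le_antisymm (by linarith [sq_nonneg (a i l'), sq_nonneg (a i' l)]) (sq_nonneg _)
    simp only [pow_eq_zero_iff two_ne_zero] at h1 h2 h3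
    omega
  have h0 : 1 ≤ a i l ^ 2 := (sq_pos_iff.mpr hne : 0 < a i l ^ 2)
  linarith [key i₁ l₁, key i₂ l₂, sq_nonneg (a i₁ l₂), sq_nonneg (a i₂ l₁)]

/-- Automorphisms permute the exceptional characters: the facts needed. -/
theorem map_mu_of [Finite G] {M : Subgroup G} {μ : (↥(W₁ ⊔ W₂) →* ℂˣ) → (M → ℂ)}
    {δ : (↥(W₁ ⊔ W₂) →* ℂˣ) → ℂ} (hW : Cfsg.IsSelfNormalizingCyclic W₁ W₂)
    (hodd : Odd (Nat.card ↥(W₁ ⊔ W₂))) (hle : W₁ ⊔ W₂ ≤ M) (hirr : ∀ ω, Cfsg.IsIrrCharacter M (μ ω))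
    (hsign : ∀ ω, δ ω = 1 ∨ δ ω = -1)
    (hvalue : ∀ ω, ∀ w : ↥(W₁ ⊔ W₂), (w : G) ∉ W₂ → μ ω ⟨w, hle w.2⟩ = δ ω * (ω w : ℂ))
    (hother : ∀ θ : M → ℂ, Cfsg.IsIrrCharacter M θ → (∀ ω, θ ≠ μ ω) →
      ∀ w : ↥(W₁ ⊔ W₂), (w : G) ∉ W₂ → θ ⟨w, hle w.2⟩ = 0) (σ : ℂ ≃+* ℂ) (ω : ↥(W₁ ⊔ W₂) →* ℂˣ) :
    (fun x => σ (μ ω x)) = μ (gal σ ω) ∧ δ (gal σ ω) = δ ω := by
  have hne : ∀ ω, δ ω ≠ 0 := fun ω => by rcases hsign ω with e | e <;> simp [e]
  have hσδ : σ (δ ω) = δ ω := by rcases hsign ω with e | e <;> simp [e]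
  have hval : ∀ w : ↥(W₁ ⊔ W₂), (w : G) ∉ W₂ →
      σ (μ ω ⟨w, hle w.2⟩) = δ ω * (gal σ ω w : ℂ) := fun w hw => by
    rw [hvalue ω w hw, map_mul, hσδ, gal_apply]
  obtain ⟨ω', hω'⟩ : ∃ ω', (fun x => σ (μ ω x)) = μ ω' := by
    by_contra hn
    push Not at hn
    obtain ⟨v, hv⟩ := vset_nonempty hW
    obtain ⟨hv₀, -, hv₂⟩ := mem_vset.mp hv
    have e := hother _ (CharDeep.Galois.isIrrCharacter_map σ.toRingHom (hirr ω)) hn ⟨v, hv₀⟩ hv₂
    exact mul_ne_zero (hne ω) (Units.ne_zero _) ((hval ⟨v, hv₀⟩ hv₂).symm.trans e)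
  obtain ⟨e1, e2⟩ := eq_of_value hW hodd (hne ω) (hne ω')
    (ω := gal σ ω) (ω' := ω') fun w hw => by
      rw [← hval w hw, ← hvalue ω' w hw]
      exact congrFun hω' _
  exact ⟨by rw [hω', e1], by rw [e1, e2]⟩

/-- The data of a side, in its own orientation: `W₂` lies in the kernel, `W₁` complements it. -/
structure Setup (M : Subgroup G) [Fintype M] [Fintype G] (χ : (↥(W₁ ⊔ W₂) →* ℂˣ) → (G → ℂ)) (A : Set G)
    (R : G → Subgroup G) (μ : (↥(W₁ ⊔ W₂) →* ℂˣ) → (M → ℂ)) (δ : (↥(W₁ ⊔ W₂) →* ℂˣ) → ℂ) : Prop where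
  selfNormalizing : Cfsg.IsSelfNormalizingCyclic W₁ W₂
  odd : Odd (Nat.card ↥(W₁ ⊔ W₂))
  family : Cfsg.IsCyclicTIFamily W₁ W₂ χ
  dade : Cfsg.DadeHypothesis A M R
  le : W₁ ⊔ W₂ ≤ M
  vset_sub : vset W₁ W₂ ⊆ A
  irr : ∀ ω, Cfsg.IsIrrCharacter M (μ ω)
  inj : Function.Injective μ
  sign : ∀ ω, δ ω = 1 ∨ δ ω = -1
  value : ∀ ω, ∀ w : ↥(W₁ ⊔ W₂), (w : G) ∉ W₂ → μ ω ⟨w, le w.2⟩ = δ ω * (ω w : ℂ)
  other : ∀ θ : M → ℂ, Cfsg.IsIrrCharacter M θ → (∀ ω, θ ≠ μ ω) →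
    ∀ w : ↥(W₁ ⊔ W₂), (w : G) ∉ W₂ → θ ⟨w, le w.2⟩ = 0
  const : ∀ (f f' : FstChar W₁ W₂) (g g' : SndChar W₁ W₂), g.1 ≠ 1 → g'.1 ≠ 1 →
    δ (f.1 * g.1) = δ (f'.1 * g'.1)
  supp : ∀ (f : FstChar W₁ W₂) (g g' : SndChar W₁ W₂), g.1 ≠ 1 → g'.1 ≠ 1 →
    ∀ x : M, (x : G) ∉ A → μ (f.1 * g.1) x = μ (f.1 * g'.1) x

/-- An irreducible character to compare with the member `g`. -/
structure Partner (M : Subgroup G) [Fintype M] (A : Set G) (μ : (↥(W₁ ⊔ W₂) →* ℂˣ) → (M → ℂ))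
    (g : SndChar W₁ W₂) (ξ : M → ℂ) : Prop where
  irr : Cfsg.IsIrrCharacter M ξ
  vanish : ∀ x : M, (x : G) ∈ vset W₁ W₂ → ξ x = 0
  supp : ∀ x : M, (x : G) ∉ A → col μ g.1 x = ξ x

namespace Setup

variable [Fintype G] {M : Subgroup G} [Fintype M] {χ : (↥(W₁ ⊔ W₂) →* ℂˣ) → (G → ℂ)} {A : Set G}
  {R : G → Subgroup G} {μ : (↥(W₁ ⊔ W₂) →* ℂˣ) → (M → ℂ)} {δ : (↥(W₁ ⊔ W₂) →* ℂˣ) → ℂ}
  (h : Setup M χ A R μ δ)
include h

theorem sign_ne_zero (ω : ↥(W₁ ⊔ W₂) →* ℂˣ) : δ ω ≠ 0 := by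
  rcases h.sign ω with e | e <;> simp [e]

theorem sign_eq (f : FstChar W₁ W₂) (g : SndChar W₁ W₂) (hg : g.1 ≠ 1) : δ (f.1 * g.1) = δ g.1 := by
  have e := h.const f (fst₀ W₁ W₂) g g hg hg
  rwa [show (fst₀ W₁ W₂).1 * g.1 = g.1 from hom_one_mul' _] at e

theorem sign_eq' (g g' : SndChar W₁ W₂) (hg : g.1 ≠ 1) (hg' : g'.1 ≠ 1) : δ g.1 = δ g'.1 := by
  have e := h.const (fst₀ W₁ W₂) (fst₀ W₁ W₂) g g' hg hg'
  rwa [show (fst₀ W₁ W₂).1 * g.1 = g.1 from hom_one_mul' _,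
    show (fst₀ W₁ W₂).1 * g'.1 = g'.1 from hom_one_mul' _] at e

/-- The Dade image at the regular elements. -/
theorem dade_vset {α : M → ℂ} (hα : Cfsg.IsClassFunction M α) {v : G} (hv : v ∈ vset W₁ W₂) :
    Cfsg.dadeIsometry A M R α v = α ⟨v, h.le (mem_vset.mp hv).1⟩ :=
  Dade.dade_apply h.dade hα ⟨v, h.le (mem_vset.mp hv).1⟩ (h.vset_sub hv) (x := 1) (u := 1) (one_mem _)
    (by simp)

/-- Inner product of a Dade image with the principal character. -/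
theorem dade_inner_one {α : M → ℂ} (hα : Cfsg.IsClassFunction M α) (hαA : ∀ x : M, (x : G) ∉ A → α x = 0) :
    Cfsg.classInner (Cfsg.dadeIsometry A M R α) (χ 1) = Cfsg.classInner α (fun _ => 1) := by
  classical
  rw [h.family.map_one]
  refine Dade.classInner_dade' h.dade hα hαA (fun _ _ => rfl) _ fun a _ => ?_
  rw [Finset.sum_const, Finset.card_univ, nsmul_eq_mul, mul_one, ← Nat.card_eq_fintype_card,
    inv_mul_cancel₀ (Nat.cast_ne_zero.mpr Nat.card_pos.ne')]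

/-- Automorphisms permute the exceptional characters. -/
theorem map_mu (σ : ℂ ≃+* ℂ) (ω : ↥(W₁ ⊔ W₂) →* ℂˣ) :
    (fun x => σ (μ ω x)) = μ (gal σ ω) ∧ δ (gal σ ω) = δ ω :=
  map_mu_of h.selfNormalizing h.odd h.le h.irr h.sign h.value h.other σ ω

/-- The member is not principal. -/
theorem mu_ne_one (f : FstChar W₁ W₂) (g : SndChar W₁ W₂) (hg : g.1 ≠ 1) :
    μ (f.1 * g.1) ≠ fun _ => 1 := fun e => by
  obtain ⟨e1, -⟩ := eq_of_value h.selfNormalizing h.odd (h.sign_ne_zero (f.1 * g.1)) one_ne_zero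
    (ω := f.1 * g.1) (ω' := 1) fun w hw => by
      rw [← h.value _ w hw, e]; simp
  exact hg (congrArg Subtype.val (congrArg Prod.snd
    ((mul_ne_iff h.selfNormalizing (f, g) (fst₀ W₁ W₂, snd₀ W₁ W₂)).1
      (e1.trans (hom_mul_one' _).symm))))

theorem col_vset (g : SndChar W₁ W₂) (hg : g.1 ≠ 1) (x : M) (hx : (x : G) ∈ vset W₁ W₂) : col μ g.1 x = 0 := by
  classical
  haveI := finite_hom (W₁ := W₁) (W₂ := W₂)
  cases nonempty_fintype (FstChar W₁ W₂)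
  obtain ⟨hx₀, -, hx₂⟩ := mem_vset.mp hx
  have e : ∀ f : FstChar W₁ W₂, μ (f.1 * g.1) x =
      (δ g.1 * (g.1 ⟨x, hx₀⟩ : ℂ)) * (f.1 ⟨x, hx₀⟩ : ℂ) := fun f => by
    have e' : μ (f.1 * g.1) x = δ (f.1 * g.1) * ((f.1 * g.1) ⟨x, hx₀⟩ : ℂ) :=
      h.value (f.1 * g.1) ⟨x, hx₀⟩ hx₂
    rw [e', h.sign_eq f g hg, MonoidHom.mul_apply, Units.val_mul]
    ring
  rw [col_eq_sum, Finset.sum_apply, Finset.sum_congr rfl fun f _ => e f, ← Finset.mul_sum,
    sum_fst h.selfNormalizing (w := ⟨x, hx₀⟩) hx₂, mul_zero]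

theorem col_gen (g : SndChar W₁ W₂) : Cfsg.IsGeneralizedCharacter M (col μ g.1) := by
  classical
  haveI := finite_hom (W₁ := W₁) (W₂ := W₂)
  cases nonempty_fintype (FstChar W₁ W₂)
  rw [col_eq_sum]
  exact IsCharacter.isGeneralizedCharacter (isCharacter_sum _ _ fun f _ => IsIrrCharacter.isCharacter (h.irr _))

theorem col_supp (g g' : SndChar W₁ W₂) (hg : g.1 ≠ 1) (hg' : g'.1 ≠ 1) (x : M) (hx : (x : G) ∉ A) :
    col μ g.1 x = col μ g'.1 x := by
  classical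
  haveI := finite_hom (W₁ := W₁) (W₂ := W₂)
  cases nonempty_fintype (FstChar W₁ W₂)
  rw [col_eq_sum, col_eq_sum, Finset.sum_apply, Finset.sum_apply]
  exact Finset.sum_congr rfl fun f _ => h.supp f g g' hg hg' x hx

omit h in
theorem classInner_ones (α β : M → ℂ) :
    Cfsg.classInner (α - β) (α - β) = Cfsg.classInner α α + Cfsg.classInner β β -
      Cfsg.classInner α β - Cfsg.classInner β α := by
  rw [classInner_sub_left, classInner_sub_right, classInner_sub_right]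
  ring

/-- **PF 4.8.** The image of a difference of two exceptional characters in a row. -/
theorem diff (f : FstChar W₁ W₂) (g g' : SndChar W₁ W₂) (hg : g.1 ≠ 1) (hg' : g'.1 ≠ 1) :
    Cfsg.dadeIsometry A M R (μ (f.1 * g.1) - μ (f.1 * g'.1)) = δ g.1 • (χ (f.1 * g.1) - χ (f.1 * g'.1)) := by
  classical
  by_cases hgg : g = g'
  · subst hgg
    rw [sub_self, sub_self, smul_zero, Test.dade_zero]
  haveI := finite_hom (W₁ := W₁) (W₂ := W₂)
  cases nonempty_fintype (FstChar W₁ W₂)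
  cases nonempty_fintype (SndChar W₁ W₂)
  have hW := h.selfNormalizing
  have hχ := h.family
  obtain ⟨hc1, hc2⟩ := card_fstChar hW
  obtain ⟨h31, h32, -, -⟩ := three_le hW h.odd
  rw [← hc1, Nat.card_eq_fintype_card] at h31
  rw [← hc2, Nat.card_eq_fintype_card] at h32
  set α := μ (f.1 * g.1) - μ (f.1 * g'.1) with hα
  set T := Cfsg.dadeIsometry A M R α with hT
  obtain ⟨d, hd, hd1⟩ : ∃ d : ℤ, δ g.1 = d ∧ (d = 1 ∨ d = -1) := by
    rcases h.sign g.1 with e | e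
    · exact ⟨1, by simp [e], Or.inl rfl⟩
    · exact ⟨-1, by simp [e], Or.inr rfl⟩
  have hαg : Cfsg.IsGeneralizedCharacter M α := IsGeneralizedCharacter.sub
    (IsCharacter.isGeneralizedCharacter (IsIrrCharacter.isCharacter (h.irr _)))
    (IsCharacter.isGeneralizedCharacter (IsIrrCharacter.isCharacter (h.irr _)))
  have hαc := IsGeneralizedCharacter.isClassFunction hαg
  have hαA : ∀ x : M, (x : G) ∉ A → α x = 0 := fun x hx => sub_eq_zero.mpr (h.supp f g g' hg hg' x hx)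
  have hTg := Dade.isGeneralizedCharacter_dade h.dade hαg hαA
  have hne : f.1 * g.1 ≠ f.1 * g'.1 := fun e => hgg (congrArg Prod.snd ((mul_ne_iff hW (f, g) (f, g')).1 e))
  have hTT : Cfsg.classInner T T = (2 : ℕ) := by
    rw [hT, Dade.classInner_dade_dade h.dade hαc hαA hαc, hα, classInner_ones, classInner_irr_self (h.irr _),
      classInner_irr_self (h.irr _), classInner_irr_ne (h.irr _) (h.irr _) (h.inj.ne hne),
      classInner_irr_ne (h.irr _) (h.irr _) (h.inj.ne hne.symm)]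
    norm_num
  obtain ⟨a, ha⟩ := exists_grid hW hχ hTg
  set D : G → ℂ := δ g.1 • (χ (f.1 * g.1) - χ (f.1 * g'.1)) with hD
  have hDc : Cfsg.IsClassFunction G D := fun x y => by
    simp only [hD, Pi.smul_apply, Pi.sub_apply,
      IsGeneralizedCharacter.isClassFunction (isGeneralizedCharacter_member hχ _) x y]
  have hV : ∀ v ∈ vset W₁ W₂, (T - D) v = 0 := by
    intro v hv
    obtain ⟨hv₀, hv₁, hv₂⟩ := mem_vset.mp hv
    rw [Pi.sub_apply, hT, h.dade_vset hαc hv]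
    simp only [hα, hD, Pi.sub_apply, Pi.smul_apply, smul_eq_mul]
    rw [h.value _ ⟨v, hv₀⟩ hv₂, h.value _ ⟨v, hv₀⟩ hv₂, hχ.eq_on _ ⟨v, hv₀⟩ hv₁ hv₂,
      hχ.eq_on _ ⟨v, hv₀⟩ hv₁ hv₂, h.sign_eq f g hg, h.sign_eq f g' hg', h.sign_eq' g g' hg hg']
    ring
  set b : FstChar W₁ W₂ → SndChar W₁ W₂ → ℤ := fun i l =>
    if i = f then ((if l = g then d else 0) - if l = g' then d else 0) else 0 with hb
  have hDb : ∀ i l, Cfsg.classInner D (χ (i.1 * l.1)) = b i l := by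
    intro i l
    have e : ∀ m : SndChar W₁ W₂, f.1 * m.1 = i.1 * l.1 ↔ i = f ∧ l = m := fun m => by
      rw [mul_ne_iff hW (f, m) (i, l), Prod.mk.injEq]; exact ⟨fun ⟨p, q⟩ => ⟨p.symm, q.symm⟩,
        fun ⟨p, q⟩ => ⟨p.symm, q.symm⟩⟩
    rw [hD, classInner_smul_left, classInner_sub_left, hχ.orthonormal, hχ.orthonormal, hd, hb]
    by_cases hif : i = f
    · simp only [e]
      simp only [hif, true_and, if_true]
      split_ifs <;> simp
    · simp [e, hif]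
  have hsub : ∀ i l, Cfsg.classInner (T - D) (χ (i.1 * l.1)) = ((a i l - b i l : ℤ) : ℂ) := fun i l => by
    rw [classInner_sub_left, ha, hDb]; push_cast; ring
  have hlin : ∀ i l, a i l = b i l + (a i (snd₀ W₁ W₂) - b i (snd₀ W₁ W₂)) +
      ((a (fst₀ W₁ W₂) l - b (fst₀ W₁ W₂) l) -
        (a (fst₀ W₁ W₂) (snd₀ W₁ W₂) - b (fst₀ W₁ W₂) (snd₀ W₁ W₂))) := fun i l => by
    have e := coef_mul hW hχ (θ := T - D) (fun x y => by
      exact congrArg₂ (· - ·) (IsGeneralizedCharacter.isClassFunction hTg x y) (hDc x y)) hV i l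
    have e1 := hsub i (snd₀ W₁ W₂)
    have e2 := hsub (fst₀ W₁ W₂) l
    have e3 := hsub (fst₀ W₁ W₂) (snd₀ W₁ W₂)
    rw [show i.1 * (snd₀ W₁ W₂).1 = i.1 from hom_mul_one' _] at e1
    rw [show (fst₀ W₁ W₂).1 * l.1 = l.1 from hom_one_mul' _] at e2
    rw [show (fst₀ W₁ W₂).1 * (snd₀ W₁ W₂).1 = 1 from hom_mul_one' _] at e3
    rw [hsub, e1, e2, e3] at e
    have e' : a i l - b i l = (a i (snd₀ W₁ W₂) - b i (snd₀ W₁ W₂)) +
        (a (fst₀ W₁ W₂) l - b (fst₀ W₁ W₂) l) -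
        (a (fst₀ W₁ W₂) (snd₀ W₁ W₂) - b (fst₀ W₁ W₂) (snd₀ W₁ W₂)) := by exact_mod_cast e
    linarith
  have hab := two_entries h31 h32 hd1 hgg hlin
    (by simpa using (bessel hW hχ hTg ha hTT).1)
  have hTD : Cfsg.classInner T D = 2 := by
    rw [hD, classInner_smul_right, classInner_sub_right, ha, ha, hab, hab, hd]
    simp only [if_true, if_neg hgg, if_neg (Ne.symm hgg)]
    rcases hd1 with rfl | rfl <;> norm_num
  have hDD : Cfsg.classInner D D = 2 := by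
    rw [hD, classInner_smul_left, classInner_smul_right, classInner_sub_left, classInner_sub_right,
      classInner_sub_right, hχ.orthonormal, hχ.orthonormal, hχ.orthonormal, hχ.orthonormal, hd]
    simp only [if_true, if_neg hne, if_neg (Ne.symm hne)]
    rcases hd1 with rfl | rfl <;> norm_num
  rw [← sub_eq_zero, ← classInner_self_eq_zero, classInner_sub_left, classInner_sub_right, classInner_sub_right,
    hTT, hTD, hDD, ← classInner_conj_symm T D, hTD, map_ofNat]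
  norm_num

/-- The image of a difference of two members. -/
theorem diff_col (g g' : SndChar W₁ W₂) (hg : g.1 ≠ 1) (hg' : g'.1 ≠ 1) :
    Cfsg.dadeIsometry A M R (col μ g.1 - col μ g'.1) = δ g.1 • (col χ g.1 - col χ g'.1) := by
  classical
  haveI := finite_hom (W₁ := W₁) (W₂ := W₂)
  cases nonempty_fintype (FstChar W₁ W₂)
  rw [col_eq_sum, col_eq_sum, col_eq_sum, col_eq_sum, ← Finset.sum_sub_distrib, ← Finset.sum_sub_distrib,
    Finset.smul_sum, Test.dade_sum]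
  exact Finset.sum_congr rfl fun f _ => h.diff f g g' hg hg'

open scoped Classical in
omit [Fintype M] h in
theorem col_inner (hW : Cfsg.IsSelfNormalizingCyclic W₁ W₂) (hχ : Cfsg.IsCyclicTIFamily W₁ W₂ χ)
    (g : SndChar W₁ W₂) (f : FstChar W₁ W₂) (k : SndChar W₁ W₂) :
    Cfsg.classInner (col χ g.1) (χ (f.1 * k.1)) = if k = g then 1 else 0 := by
  haveI := finite_hom (W₁ := W₁) (W₂ := W₂)
  cases nonempty_fintype (FstChar W₁ W₂)
  rw [col_eq_sum, classInner_sum_left, Finset.sum_eq_single f ?_ (by simp)]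
  · rw [hχ.orthonormal]
    by_cases e : k = g
    · rw [e, if_pos rfl, if_pos rfl]
    · rw [if_neg e, if_neg fun e' => e (congrArg Prod.snd ((mul_ne_iff hW (f, g) (f, k)).1 e')).symm]
  · intro f' _ hf'
    rw [hχ.orthonormal, if_neg fun e => hf' (congrArg Prod.fst ((mul_ne_iff hW (f', g) (f, k)).1 e))]

open scoped Classical in
/-- The inner products of the image of a difference of two members. -/
theorem pair_col (g g' : SndChar W₁ W₂) (hg : g.1 ≠ 1) (hg' : g'.1 ≠ 1) (f : FstChar W₁ W₂)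
    (k : SndChar W₁ W₂) :
    Cfsg.classInner (Cfsg.dadeIsometry A M R (col μ g.1 - col μ g'.1)) (χ (f.1 * k.1)) =
      δ g.1 * ((if k = g then 1 else 0) - if k = g' then 1 else 0) := by
  rw [h.diff_col g g' hg hg', classInner_smul_left, classInner_sub_left,
    col_inner h.selfNormalizing h.family, col_inner h.selfNormalizing h.family]

/-- An automorphism applied to a Dade image. -/
theorem dade_map (σ : ℂ ≃+* ℂ) (α : M → ℂ) :
    (fun x => σ (Cfsg.dadeIsometry A M R α x)) = Cfsg.dadeIsometry A M R (fun x => σ (α x)) := by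
  funext x
  simp only [Cfsg.dadeIsometry]
  split_ifs <;> simp

/-- An automorphism applied to a grid. -/
theorem coef_map (σ : ℂ ≃+* ℂ) (θ : G → ℂ) (ω : ↥(W₁ ⊔ W₂) →* ℂˣ) :
    Cfsg.classInner (fun x => σ (θ x)) (χ (gal σ ω)) = σ (Cfsg.classInner θ (χ ω)) := by
  rw [show χ (gal σ ω) = fun x => σ (χ ω x) from
    funext fun x => (family_map h.selfNormalizing h.odd h.family σ ω x).symm]
  exact Signed.classInner_map σ.toRingHom θ (h.family.irr_or_neg ω)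

/-- A short image vanishing on the regular part has zero grid. -/
theorem short {β : M → ℂ} (hβ : Cfsg.IsGeneralizedCharacter M β) (hβA : ∀ x : M, (x : G) ∉ A → β x = 0)
    (hβV : ∀ x : M, (x : G) ∈ vset W₁ W₂ → β x = 0) (hn : (Cfsg.classInner β β).re ≤ 2)
    (ω : ↥(W₁ ⊔ W₂) →* ℂˣ) : Cfsg.classInner (Cfsg.dadeIsometry A M R β) (χ ω) = 0 := by
  classical
  haveI := finite_hom (W₁ := W₁) (W₂ := W₂)
  cases nonempty_fintype (FstChar W₁ W₂)
  cases nonempty_fintype (SndChar W₁ W₂)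
  have hW := h.selfNormalizing
  obtain ⟨hc1, hc2⟩ := card_fstChar hW
  obtain ⟨h31, h32, -, -⟩ := three_le hW h.odd
  rw [← hc1, Nat.card_eq_fintype_card] at h31
  rw [← hc2, Nat.card_eq_fintype_card] at h32
  have hTg := Dade.isGeneralizedCharacter_dade h.dade hβ hβA
  have hβc := IsGeneralizedCharacter.isClassFunction hβ
  obtain ⟨z, -, -, hz⟩ := IsGeneralizedCharacter.exists_coeff hβ
  obtain ⟨N, hN⟩ := Int.eq_ofNat_of_zero_le
    (Finset.sum_nonneg fun φ _ => mul_self_nonneg (z φ) : (0 : ℤ) ≤ ∑ φ, z φ * z φ)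
  rw [hN] at hz
  have hN2 : N ≤ 2 := by
    rw [hz] at hn
    have : (N : ℝ) ≤ 2 := by simpa using hn
    exact_mod_cast this
  obtain ⟨a, ha⟩ := exists_grid hW h.family hTg
  have hb := (bessel hW h.family hTg ha (N := N) (by
    rw [Dade.classInner_dade_dade h.dade hβc hβA hβc, hz]; simp)).1
  have hlin : ∀ i l, a i l = a i (snd₀ W₁ W₂) + (a (fst₀ W₁ W₂) l - a (fst₀ W₁ W₂) (snd₀ W₁ W₂)) := fun i l => by
    have e := coef_mul hW h.family (IsGeneralizedCharacter.isClassFunction hTg) (fun v hv => by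
      rw [h.dade_vset hβc hv]; exact hβV _ hv) i l
    have e1 := ha i (snd₀ W₁ W₂)
    have e2 := ha (fst₀ W₁ W₂) l
    have e3 := ha (fst₀ W₁ W₂) (snd₀ W₁ W₂)
    rw [show i.1 * (snd₀ W₁ W₂).1 = i.1 from hom_mul_one' _] at e1
    rw [show (fst₀ W₁ W₂).1 * l.1 = l.1 from hom_one_mul' _] at e2
    rw [show (fst₀ W₁ W₂).1 * (snd₀ W₁ W₂).1 = 1 from hom_mul_one' _] at e3
    rw [ha, e1, e2, e3] at e
    have e' : a i l = a i (snd₀ W₁ W₂) + a (fst₀ W₁ W₂) l - a (fst₀ W₁ W₂) (snd₀ W₁ W₂) := by exact_mod_cast e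
    linarith
  obtain ⟨⟨i, l⟩, rfl⟩ := (mul_bijective hW).2 ω
  rw [ha, zero_grid h31 h32 hlin (hb.trans (by exact_mod_cast hN2)) i l, Int.cast_zero]

theorem partner_facts {g : SndChar W₁ W₂} {ξ : M → ℂ} (hξ : Partner M A μ g ξ) :
    (∀ ω, μ ω ≠ ξ) ∧ ξ ≠ fun _ => 1 := by
  obtain ⟨v, hv⟩ := vset_nonempty h.selfNormalizing
  obtain ⟨hv₀, -, hv₂⟩ := mem_vset.mp hv
  refine ⟨fun ω e => mul_ne_zero (h.sign_ne_zero ω) (Units.ne_zero (ω ⟨v, hv₀⟩)) ?_, fun e => ?_⟩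
  · rw [← h.value ω ⟨v, hv₀⟩ hv₂, e]; exact hξ.vanish _ hv
  · have := hξ.vanish ⟨v, h.le hv₀⟩ hv
    rw [e] at this
    exact one_ne_zero this

open scoped Classical in
/-- The grid of one partner. -/
theorem column_of_partner (g : SndChar W₁ W₂) (hg : g.1 ≠ 1) {ξ : M → ℂ} (hξ : Partner M A μ g ξ) :
    ∃ (k : SndChar W₁ W₂) (ε : ℂ), k.1 ≠ 1 ∧ (ε = 1 ∨ ε = -1) ∧ (5 ≤ Nat.card W₂ → k = g ∧ ε = δ g.1) ∧
      (∀ g' : SndChar W₁ W₂, g'.1 ≠ 1 → g' ≠ g →
        δ g.1 * ((if k = g then 1 else 0) - if k = g' then 1 else 0) = ε) ∧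
      (∀ (f : FstChar W₁ W₂) (k' : SndChar W₁ W₂),
        Cfsg.classInner (Cfsg.dadeIsometry A M R (col μ g.1 - ξ)) (χ (f.1 * k'.1)) =
          if k' = k then ε else 0) ∧
      Signed G (ε • col χ k.1 - Cfsg.dadeIsometry A M R (col μ g.1 - ξ)) := by
  haveI := finite_hom (W₁ := W₁) (W₂ := W₂)
  cases nonempty_fintype (FstChar W₁ W₂)
  cases nonempty_fintype (SndChar W₁ W₂)
  have hW := h.selfNormalizing
  obtain ⟨hc1, hc2⟩ := card_fstChar hW
  obtain ⟨h31, h32, ho1, -⟩ := three_le hW h.odd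
  rw [← hc1, Nat.card_eq_fintype_card] at h31
  rw [← hc2, Nat.card_eq_fintype_card] at h32
  obtain ⟨hμξ, hξ1⟩ := h.partner_facts hξ
  have hξg := IsCharacter.isGeneralizedCharacter (IsIrrCharacter.isCharacter hξ.irr)
  set α := col μ g.1 - ξ with hα
  have hαg : Cfsg.IsGeneralizedCharacter M α := IsGeneralizedCharacter.sub (h.col_gen g) hξg
  have hαc := IsGeneralizedCharacter.isClassFunction hαg
  have hαA : ∀ x : M, (x : G) ∉ A → α x = 0 := fun x hx => sub_eq_zero.mpr (hξ.supp x hx)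
  have hαV : ∀ x : M, (x : G) ∈ vset W₁ W₂ → α x = 0 := fun x hx => by
    rw [hα, Pi.sub_apply, h.col_vset g hg x hx, hξ.vanish x hx, sub_zero]
  set T := Cfsg.dadeIsometry A M R α with hT
  have hTg := Dade.isGeneralizedCharacter_dade h.dade hαg hαA
  obtain ⟨a, ha⟩ := exists_grid hW h.family hTg
  -- inner products in `M`
  have hμμ : ∀ (f f' : FstChar W₁ W₂) (l l' : SndChar W₁ W₂),
      Cfsg.classInner (μ (f.1 * l.1)) (μ (f'.1 * l'.1)) = if f = f' ∧ l = l' then 1 else 0 := fun f f' l l' => by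
    rw [classInner_irr (h.irr _) (h.irr _)]
    exact if_congr ⟨fun e => Prod.mk.injEq .. ▸ (mul_ne_iff hW (f, l) (f', l')).1 (h.inj e),
      fun ⟨e, e'⟩ => by rw [e, e']⟩ rfl rfl
  have hξμ : ∀ ω, Cfsg.classInner ξ (μ ω) = 0 ∧ Cfsg.classInner (μ ω) ξ = 0 := fun ω =>
    ⟨classInner_irr_ne hξ.irr (h.irr ω) (hμξ ω).symm, classInner_irr_ne (h.irr ω) hξ.irr (hμξ ω)⟩
  have hcolμ : ∀ (f : FstChar W₁ W₂) (l : SndChar W₁ W₂),
      Cfsg.classInner (col μ g.1) (μ (f.1 * l.1)) = if l = g then 1 else 0 := fun f l => by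
    rw [col_eq_sum, classInner_sum_left, Finset.sum_eq_single f (fun f' _ hf' => by simp [hμμ, hf']) (by simp),
      hμμ]
    simp [eq_comm]
  have hTT : Cfsg.classInner T T = (Fintype.card (FstChar W₁ W₂) + 1 : ℕ) := by
    rw [hT, Dade.classInner_dade_dade h.dade hαc hαA hαc, hα, classInner_ones, classInner_irr_self hξ.irr]
    conv_lhs => arg 1; arg 1; arg 1; arg 2; rw [col_eq_sum]
    rw [classInner_sum_right, Finset.sum_congr rfl fun f _ => (hcolμ f g).trans (if_pos rfl), col_eq_sum,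
      classInner_sum_left, classInner_sum_right]
    simp [(hξμ _).1, (hξμ _).2]
  -- the corner
  have h00 : a (fst₀ W₁ W₂) (snd₀ W₁ W₂) = 0 := by
    have e := ha (fst₀ W₁ W₂) (snd₀ W₁ W₂)
    have h1 : Cfsg.IsIrrCharacter M (fun _ => 1) := isIrrCharacter_one
    rw [show (fst₀ W₁ W₂).1 * (snd₀ W₁ W₂).1 = 1 from hom_mul_one' _, h.dade_inner_one hαc hαA, hα,
      classInner_sub_left, classInner_irr_ne hξ.irr h1 hξ1, col_eq_sum, classInner_sum_left,
      Finset.sum_eq_zero fun f _ => classInner_irr_ne (h.irr _) h1 (h.mu_ne_one f g hg), sub_zero] at e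
    exact_mod_cast e.symm
  have hlin : ∀ i l, a i l = a i (snd₀ W₁ W₂) + a (fst₀ W₁ W₂) l := fun i l => by
    have e := coef_mul hW h.family (IsGeneralizedCharacter.isClassFunction hTg) (fun v hv => by
      rw [h.dade_vset hαc hv]; exact hαV _ hv) i l
    have e1 := ha i (snd₀ W₁ W₂)
    have e2 := ha (fst₀ W₁ W₂) l
    have e3 := ha (fst₀ W₁ W₂) (snd₀ W₁ W₂)
    rw [show i.1 * (snd₀ W₁ W₂).1 = i.1 from hom_mul_one' _] at e1
    rw [show (fst₀ W₁ W₂).1 * l.1 = l.1 from hom_one_mul' _] at e2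
    rw [show (fst₀ W₁ W₂).1 * (snd₀ W₁ W₂).1 = 1 from hom_mul_one' _] at e3
    rw [ha, e1, e2, e3, h00, Int.cast_zero, sub_zero] at e
    exact_mod_cast e
  obtain ⟨d, hd, hd1⟩ : ∃ d : ℤ, δ g.1 = d ∧ (d = 1 ∨ d = -1) := by
    rcases h.sign g.1 with e | e
    · exact ⟨1, by simp [e], Or.inl rfl⟩
    · exact ⟨-1, by simp [e], Or.inr rfl⟩
  -- pairing with the differences in a row
  set y : SndChar W₁ W₂ → ℤ := fun l => a (fst₀ W₁ W₂) l with hy
  set c : ℤ := y g - d with hc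
  have hyc : ∀ l, l ≠ snd₀ W₁ W₂ → l ≠ g → y l = c := by
    intro l hl hlg
    have hl1 : l.1 ≠ 1 := fun e => hl (Subtype.ext e)
    set β := μ ((fst₀ W₁ W₂).1 * g.1) - μ ((fst₀ W₁ W₂).1 * l.1) with hβ
    have hβc : Cfsg.IsClassFunction M β := IsGeneralizedCharacter.isClassFunction (IsGeneralizedCharacter.sub
      (IsCharacter.isGeneralizedCharacter (IsIrrCharacter.isCharacter (h.irr _)))
      (IsCharacter.isGeneralizedCharacter (IsIrrCharacter.isCharacter (h.irr _))))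
    have e := Dade.classInner_dade_dade h.dade hαc hαA hβc
    rw [h.diff _ g l hg hl1, classInner_smul_right, classInner_sub_right, ha, ha, hd, hα, hβ,
      classInner_sub_left, classInner_sub_right, classInner_sub_right, hcolμ, hcolμ, (hξμ _).1, (hξμ _).1,
      if_pos rfl, if_neg hlg, map_intCast] at e
    have e' : d * (y g - y l) = 1 := by
      simp only [hy]
      exact_mod_cast (show ((d * (a (fst₀ W₁ W₂) g - a (fst₀ W₁ W₂) l) : ℤ) : ℂ) = 1 by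
        push_cast; simpa using e)
    rcases hd1 with rfl | rfl <;> omega
  -- conjugation symmetry of the first line
  have hsym : ∀ i, a (galFst cstar i) (snd₀ W₁ W₂) = a i (snd₀ W₁ W₂) := by
    intro i
    set g₁ := galSnd cstar g with hg₁
    have hg₁1 : g₁.1 ≠ 1 := gal_ne_one _ hg
    have hcolσ : (fun x => cstar (col μ g.1 x)) = col μ g₁.1 := by
      funext x
      rw [col_eq_sum, col_eq_sum, Finset.sum_apply, Finset.sum_apply, map_sum]
      refine Fintype.sum_equiv (galFst cstar) _ _ fun f => ?_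
      have e := congrFun (h.map_mu cstar (f.1 * g.1)).1 x
      rw [gal_mul] at e
      exact e
    set β := ξ - (fun x => cstar (ξ x)) with hβ
    have hξσ : Cfsg.IsIrrCharacter M (fun x => cstar (ξ x)) :=
      CharDeep.Galois.isIrrCharacter_map cstar.toRingHom hξ.irr
    have hβg : Cfsg.IsGeneralizedCharacter M β :=
      IsGeneralizedCharacter.sub hξg (IsCharacter.isGeneralizedCharacter (IsIrrCharacter.isCharacter hξσ))
    have hβA : ∀ x : M, (x : G) ∉ A → β x = 0 := fun x hx => by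
      rw [hβ, Pi.sub_apply, sub_eq_zero, ← hξ.supp x hx]
      exact (h.col_supp g g₁ hg hg₁1 x hx).trans (congrFun hcolσ x).symm
    have hβn : (Cfsg.classInner β β).re ≤ 2 := by
      rw [hβ, classInner_ones, classInner_irr_self hξ.irr, classInner_irr_self hξσ, classInner_irr hξ.irr hξσ,
        classInner_irr hξσ hξ.irr]
      split_ifs <;> norm_num
    have hsum : (fun x => cstar (α x)) = (col μ g₁.1 - col μ g.1) + α + β := by
      funext x
      simp only [hα, hβ, Pi.add_apply, Pi.sub_apply, map_sub, ← congrFun hcolσ x]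
      ring
    have e := h.coef_map cstar T (i.1 * (snd₀ W₁ W₂).1)
    rw [h.dade_map, hsum, Test.dade_add, Test.dade_add, gal_mul, classInner_add_left, classInner_add_left,
      h.short hβg hβA (fun x hx => by
        rw [hβ, Pi.sub_apply, hξ.vanish x hx, map_zero, sub_zero]) hβn,
      show gal cstar (snd₀ W₁ W₂).1 = (snd₀ W₁ W₂).1 from gal_one _,
      show gal cstar i.1 = (galFst cstar i).1 from rfl, h.pair_col g₁ g hg₁1 hg, ← hT, ha, ha,
      if_neg (fun e => hg₁1 (congrArg Subtype.val e).symm), if_neg (fun e => hg (congrArg Subtype.val e).symm),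
      sub_self, mul_zero, zero_add, add_zero, map_intCast] at e
    exact_mod_cast e
  have hν : ∀ i : FstChar W₁ W₂, i ≠ fst₀ W₁ W₂ → galFst cstar i ≠ i := by
    intro i hi e
    refine hi (Subtype.ext (MonoidHom.ext fun w => Units.ext ?_))
    have e1 : conj (i.1 w : ℂ) = (i.1 w : ℂ) := by
      have := congrArg (fun t : FstChar W₁ W₂ => ((t.1 w : ℂˣ) : ℂ)) e
      exact this
    have hpow : (i.1 w : ℂ) ^ Nat.card ↥(W₁ ⊔ W₂) = 1 := by
      rw [← Units.val_pow_eq_pow_val, ← map_pow, pow_card_eq_one', map_one, Units.val_one]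
    obtain ⟨r, hr⟩ := Complex.conj_eq_iff_real.mp e1
    rw [hr] at hpow ⊢
    have hr1 : r ^ Nat.card ↥(W₁ ⊔ W₂) = 1 := by exact_mod_cast hpow
    have : r = 1 := h.odd.pow_injective (hr1.trans (one_pow _).symm)
    simp [this, fst₀]
  have hbes := bessel hW h.family hTg ha hTT
  obtain ⟨hx, hcc⟩ := one_column (κ := SndChar W₁ W₂) hν h31 h32 (x := fun i => a i (snd₀ W₁ W₂)) (y := y)
    (l₀ := snd₀ W₁ W₂) (j := g) h00 hsym (fun e => hg (congrArg Subtype.val e)) hd1 h00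
    (show y g = c + d by rw [hc]; ring) hyc (by
      have := hbes.1
      rw [Finset.sum_congr rfl fun i _ => Finset.sum_congr rfl fun l _ => by rw [hlin i l]] at this
      exact_mod_cast this)
  have hval : ∀ i l, a i l = y l := fun i l => by rw [hlin, hx i, zero_add]
  -- the column and its sign
  obtain ⟨k, e, hk1, he, hbig, hkey, hky⟩ : ∃ (k : SndChar W₁ W₂) (e : ℤ), k ≠ snd₀ W₁ W₂ ∧ (e = 1 ∨ e = -1) ∧
      (5 ≤ Nat.card W₂ → k = g ∧ e = d) ∧
      (∀ g' : SndChar W₁ W₂, g'.1 ≠ 1 → g' ≠ g →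
        (d : ℂ) * ((if k = g then 1 else 0) - if k = g' then 1 else 0) = (e : ℂ)) ∧
      ∀ l, y l = if l = k then e else 0 := by
    rcases hcc with hc0 | ⟨h3, hc0⟩
    · refine ⟨g, d, fun e => hg (congrArg Subtype.val e), hd1, fun _ => ⟨rfl, rfl⟩,
        fun g' _ hg' => by simp [Ne.symm hg'], fun l => ?_⟩
      by_cases hl : l = snd₀ W₁ W₂
      · rw [hl, if_neg fun e => hg (congrArg Subtype.val e).symm]; exact h00
      by_cases hlg : l = g
      · rw [hlg, if_pos rfl]; linarith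
      · rw [if_neg hlg, hyc l hl hlg, hc0]
    · have hcard : (((Finset.univ : Finset (SndChar W₁ W₂)).erase (snd₀ W₁ W₂)).erase g).card = 1 := by
        rw [Finset.card_erase_of_mem (Finset.mem_erase.mpr ⟨fun e => hg (congrArg Subtype.val e), Finset.mem_univ g⟩),
          Finset.card_erase_of_mem (Finset.mem_univ _), Finset.card_univ, h3]
      obtain ⟨k, hk⟩ := Finset.card_eq_one.mp hcard
      have hmem : ∀ l, (l ≠ g ∧ l ≠ snd₀ W₁ W₂) ↔ l = k := fun l => by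
        rw [← Finset.mem_singleton, ← hk]; simp
      obtain ⟨hkg, hk0⟩ := (hmem k).2 rfl
      refine ⟨k, -d, hk0, by omega, fun h5 => absurd h5 (by rw [← hc2, Nat.card_eq_fintype_card, h3]; omega),
        fun g' h1' hg' => ?_, fun l => ?_⟩
      · rw [(hmem g').1 ⟨hg', fun e => h1' (congrArg Subtype.val e)⟩, if_neg hkg, if_pos rfl]
        push_cast; ring
      · by_cases hl : l = snd₀ W₁ W₂
        · rw [hl, if_neg (Ne.symm hk0)]; exact h00
        by_cases hlg : l = g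
        · rw [hlg, if_neg (Ne.symm hkg)]; linarith
        · rw [if_pos ((hmem l).1 ⟨hlg, hl⟩), hyc l hl hlg, hc0]
  refine ⟨k, e, fun e' => hk1 (Subtype.ext e'), by rcases he with rfl | rfl <;> simp,
    fun h5 => ⟨(hbig h5).1, by rw [hd, (hbig h5).2]⟩, fun g' h1' h2' => by rw [hd]; exact hkey g' h1' h2',
    fun f k' => ?_, ?_⟩
  · rw [ha, hval, hky]; split_ifs <;> simp
  · have hsq : ∑ i, ∑ l, a i l ^ 2 = (Fintype.card (FstChar W₁ W₂) : ℤ) := by
      simp only [hval, hky]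
      rcases he with rfl | rfl <;> simp
    obtain ⟨hs, -⟩ := hbes.2.2 (by rw [hsq]; push_cast; ring)
    convert hs using 2
    · rw [col_eq_sum, Finset.smul_sum]
      refine Finset.sum_congr rfl fun i _ => ?_
      rw [Finset.sum_eq_single k (fun l _ hl => by simp [hval, hky, hl]) (by simp), hval, hky, if_pos rfl]

open scoped Classical in
/-- **Peterfalvi's column.** A sign and a column serving every partner. -/
theorem exists_column (g : SndChar W₁ W₂) (hg : g.1 ≠ 1) :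
    ∃ (k : SndChar W₁ W₂) (ε : ℂ), k.1 ≠ 1 ∧ (ε = 1 ∨ ε = -1) ∧ (5 ≤ Nat.card W₂ → k = g ∧ ε = δ g.1) ∧
      (∀ g' : SndChar W₁ W₂, g'.1 ≠ 1 → g' ≠ g → ∀ f : FstChar W₁ W₂,
        Cfsg.classInner (Cfsg.dadeIsometry A M R (col μ g.1 - col μ g'.1)) (χ (f.1 * k.1)) = ε) ∧
      ∀ ξ : M → ℂ, Partner M A μ g ξ →
        (∀ (f : FstChar W₁ W₂) (k' : SndChar W₁ W₂),
          Cfsg.classInner (Cfsg.dadeIsometry A M R (col μ g.1 - ξ)) (χ (f.1 * k'.1)) =
            if k' = k then ε else 0) ∧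
        Signed G (ε • col χ k.1 - Cfsg.dadeIsometry A M R (col μ g.1 - ξ)) ∧
        ∀ ω, Cfsg.classInner (ε • col χ k.1 - Cfsg.dadeIsometry A M R (col μ g.1 - ξ)) (χ ω) = 0 := by
  by_cases hex : ∃ ξ, Partner M A μ g ξ
  · obtain ⟨ξ₀, h₀⟩ := hex
    obtain ⟨k, ε, hk, hε, hbig, hkey, hco, -⟩ := h.column_of_partner g hg h₀
    refine ⟨k, ε, hk, hε, hbig, fun g' h1' h2' f => by rw [h.pair_col g g' hg h1']; exact hkey g' h1' h2',
      fun ξ hξ => ?_⟩
    have hsame : ∀ (f : FstChar W₁ W₂) (k' : SndChar W₁ W₂),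
        Cfsg.classInner (Cfsg.dadeIsometry A M R (col μ g.1 - ξ)) (χ (f.1 * k'.1)) =
          if k' = k then ε else 0 := by
      intro f k'
      have hg0 : Cfsg.IsGeneralizedCharacter M (ξ₀ - ξ) := IsGeneralizedCharacter.sub
        (IsCharacter.isGeneralizedCharacter (IsIrrCharacter.isCharacter h₀.irr))
        (IsCharacter.isGeneralizedCharacter (IsIrrCharacter.isCharacter hξ.irr))
      have hz := h.short hg0 (fun x hx => by rw [Pi.sub_apply, ← h₀.supp x hx, hξ.supp x hx, sub_self])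
        (fun x hx => by rw [Pi.sub_apply, h₀.vanish x hx, hξ.vanish x hx, sub_zero])
        (by
          rw [classInner_ones, classInner_irr_self h₀.irr, classInner_irr_self hξ.irr,
            classInner_irr h₀.irr hξ.irr, classInner_irr hξ.irr h₀.irr]
          split_ifs <;> norm_num) (f.1 * k'.1)
      rw [show col μ g.1 - ξ = (col μ g.1 - ξ₀) + (ξ₀ - ξ) by abel, Test.dade_add, classInner_add_left, hco,
        hz, add_zero]
    obtain ⟨k₁, ε₁, -, -, -, -, hco₁, hs₁⟩ := h.column_of_partner g hg hξ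
    obtain ⟨rfl, rfl⟩ : k₁ = k ∧ ε₁ = ε := by
      have e := (hco₁ (fst₀ W₁ W₂) k).symm.trans (hsame (fst₀ W₁ W₂) k)
      rw [if_pos rfl] at e
      by_cases hkk : k = k₁
      · rw [if_pos hkk] at e; exact ⟨hkk.symm, e⟩
      · rw [if_neg hkk] at e; rcases hε with rfl | rfl <;> simp at e
    refine ⟨hsame, hs₁, fun ω => ?_⟩
    obtain ⟨⟨f, l⟩, rfl⟩ := (mul_bijective h.selfNormalizing).2 ω
    rw [classInner_sub_left, classInner_smul_left, col_inner h.selfNormalizing h.family, hsame]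
    split_ifs <;> simp
  · refine ⟨g, δ g.1, hg, h.sign _, fun _ => ⟨rfl, rfl⟩, fun g' h1' h2' f => ?_, fun ξ hξ => absurd ⟨ξ, hξ⟩ hex⟩
    rw [h.pair_col g g' hg h1', if_pos rfl, if_neg (Ne.symm h2')]
    ring

end Setup

end CfsgLib.OddOrder.Final.Grid
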