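import Cfsg.Agent.Lib.OddOrder.Final.NeighbourMass
import Cfsg.Agent.Lib.OddOrder.Final.BigSide

/-!
Two full sides of Type II: the neighbour of `U` either has kernel `U`, and then it moves `W₂` into `N(U)`, or
parity, or the mass outside the supports, gives a contradiction.
-/

set_option autoImplicit false

namespace CfsgLib.OddOrder.Final.Neighbour

open Cfsg (fittingHallOf sigmaCore)

variable {G : Type*} [Group G] {S T L W₁ W₂ U V : Subgroup G}

/-- A subgroup of a cyclic group is normalised by whatever normalises the group. -/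
theorem le_normalizer_of_cyclic [Finite G] {H K N : Subgroup G} [IsCyclic H] (hKH : K ≤ H)
    (hN : N ≤ Subgroup.normalizer (H : Set G)) : N ≤ Subgroup.normalizer (K : Set G) := by
  classical
  cases nonempty_fintype H
  have key : ∀ x ∈ N, ∀ k ∈ K, x * k * x⁻¹ ∈ K := by
    intro x hx k hk
    have hm : x * k * x⁻¹ ∈ H := (Subgroup.mem_normalizer_iff.mp (hN hx) k).mp (hKH hk)
    set s := Finset.univ.filter fun a : H => a ^ Nat.card K = 1 with hs
    have hsub : (Finset.univ.filter fun a : H => (a : G) ∈ K) ⊆ s := fun a ha => by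
      rw [hs, Finset.mem_filter]
      exact ⟨Finset.mem_univ _, Subtype.ext (by
        rw [SubgroupClass.coe_pow, OneMemClass.coe_one]
        exact orderOf_dvd_iff_pow_eq_one.mp (Subgroup.orderOf_dvd_natCard K (Finset.mem_filter.mp ha).2))⟩
    have hcard : s.card ≤ (Finset.univ.filter fun a : H => (a : G) ∈ K).card := by
      refine le_trans (IsCyclic.card_pow_eq_one_le Nat.card_pos) (le_of_eq ?_)
      rw [← Fintype.card_subtype, ← Nat.card_eq_fintype_card]
      exact Nat.card_congr ((Subgroup.subgroupOfEquivOfLe hKH).toEquiv.symm)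
    have heq := Finset.eq_of_subset_of_card_le hsub hcard
    have hin : (⟨x * k * x⁻¹, hm⟩ : H) ∈ s := by
      rw [hs, Finset.mem_filter]
      exact ⟨Finset.mem_univ _, Subtype.ext (by
        rw [SubgroupClass.coe_pow, OneMemClass.coe_one, conj_pow,
          orderOf_dvd_iff_pow_eq_one.mp (Subgroup.orderOf_dvd_natCard K hk), mul_one, mul_inv_cancel])⟩
    rw [← heq] at hin
    exact (Finset.mem_filter.mp hin).2
  intro x hx
  refine Subgroup.mem_normalizer_iff.mpr fun k => ⟨key x hx k, fun hk => ?_⟩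
  simpa [mul_assoc] using key x⁻¹ (inv_mem hx) _ hk

/-- The numerical bounds for the kernel of the neighbour. -/
theorem big_mult {h u e m q : ℕ} (hh : h = u * m) (hu : u ≡ 1 [MOD e]) (hh1 : h ≡ 1 [MOD e]) (hm : 1 < m)
    (hodd : Odd h) (heo : Odd e) (hq : e ≤ q) (he : 3 ≤ e) (huq : 1 ≤ u) :
    2 * e + 1 ≤ m ∧ 2 * u * e ≤ h - 1 ∧ e ≤ q := by
  have hm1 : m ≡ 1 [MOD e] := by
    have h1 := Nat.ModEq.mul_right m hu
    rw [one_mul, ← hh] at h1
    exact h1.symm.trans hh1
  obtain ⟨k, hk⟩ := (Nat.modEq_iff_dvd' hm.le).mp hm1.symm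
  obtain ⟨a, ha⟩ := (hodd.of_dvd_nat (Dvd.intro_left u hh.symm) : Odd m)
  obtain ⟨b, hb⟩ := heo
  have hm2 : 2 * e + 1 ≤ m := by
    rcases Nat.lt_or_ge k 2 with hk2 | hk2
    · exfalso
      interval_cases k <;> omega
    · have := Nat.mul_le_mul_left e hk2
      omega
  refine ⟨hm2, ?_, hq⟩
  have h2 : u * (2 * e + 1) ≤ u * m := Nat.mul_le_mul_left u hm2
  have h3 : u * (2 * e + 1) = 2 * u * e + u := by ring
  omega

variable [Finite G]

theorem Nbr.index_dvd (hL : Nbr S T W₁ U W₂ L) :
    ((sigmaCore L).relIndex L = Nat.card W₁ ∨ (sigmaCore L).relIndex L = Nat.card W₁ * Nat.card W₂) :=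
  hL.index_cases.imp id fun h => h.1

/-- **The moving element for two full sides of Type II.** -/
theorem exists_mover_II (hG : Cfsg.IsMinSimpleOddOrder G) (h : Pair S T W₁ W₂ U V) (hfS : Final.Full S W₁ U W₂)
    (hfT : Final.Full T W₂ V W₁) (hSII : Cfsg.IsOfTypeII S) (hTII : Cfsg.IsOfTypeII T) :
    ∃ y ∈ fittingHallOf T, W₂.map (MulAut.conj y).toMonoidHom ≤ Subgroup.normalizer (U : Set G) := by
  classical
  haveI := Fintype.ofFinite G
  have hS := hfS.toNeighbour h.sideS
  have hT := hfT.toNeighbour h.sideT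
  obtain ⟨L, hL⟩ := exists_nbr hG hS hSII hT
  obtain ⟨L', hL'⟩ := exists_nbr hG hT hTII hS
  have hodd : ∀ H : Subgroup G, Odd (Nat.card H) := fun H =>
    hG.1.of_dvd_nat (Subgroup.card_subgroup_dvd_card H)
  have hq3 : 3 ≤ Nat.card W₁ := by
    have := h.sideS.prime₁.two_le; obtain ⟨a, ha⟩ := hodd W₁; omega
  have hpq : Nat.card W₁ + 2 ≤ Nat.card W₂ := by
    have := h.lt; obtain ⟨a, ha⟩ := hodd W₁; obtain ⟨b, hb⟩ := hodd W₂; omega
  set q := Nat.card W₁ with hqd
  set p := Nat.card W₂ with hpd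
  set u := Nat.card U with hud
  set v := Nat.card V with hvd
  set hh := Nat.card (sigmaCore L) with hhd
  set hh' := Nat.card (sigmaCore L') with hhd'
  set e := (sigmaCore L).relIndex L with hed
  set e' := (sigmaCore L').relIndex L' with hed'
  have hLn : L ≤ Subgroup.normalizer (sigmaCore L : Set G) := SigmaTools.le_normalizer_sigmaCore L
  -- the kernel `U`
  by_cases heq : hh ≤ u
  · have hHU : U = sigmaCore L := Subgroup.eq_of_le_of_card_ge hL.U_le heq
    have hLN : L ≤ Subgroup.normalizer (U : Set G) := by rwa [hHU]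
    rcases hL.index_cases with he | ⟨-, y, hy, hyL⟩
    · exfalso
      refine hL.not_le (fun x hx => ?_)
      have hcard : Nat.card L = u * q := by
        rw [← Coprime.card_mul_relIndex_eq (SigmaTools.sigmaCore_le L), he, hud, hHU]
      have hle : U ⊔ W₁ = L := by
        refine Subgroup.eq_of_le_of_card_ge (sup_le (hHU.le.trans (SigmaTools.sigmaCore_le L)) hL.W₁_le) ?_
        rw [hcard, TP.card_sup h.sideS.typeP]
      exact inf_le_left (b := L) (hL.meet.ge (hle.ge hx.1))
    · exact ⟨y, hy, hyL.trans hLN⟩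
  -- arithmetic of the two neighbours
  have hu1 : u ≡ 1 [MOD q] := hS.U_mod
  have hu2 : u ≡ 1 [MOD p] := hS.U_mod₂
  have hv1 : v ≡ 1 [MOD p] := hT.U_mod
  have hv2 : v ≡ 1 [MOD q] := hT.U_mod₂
  have hco : q.Coprime p := (Nat.coprime_primes h.sideS.prime₁ h.sideS.prime₂).mpr h.lt.ne
  have hu3 : u ≡ 1 [MOD q * p] := (Nat.modEq_and_modEq_iff_modEq_mul hco).mp ⟨hu1, hu2⟩
  have hv3 : v ≡ 1 [MOD q * p] := (Nat.modEq_and_modEq_iff_modEq_mul hco).mp ⟨hv2, hv1⟩
  have hgeomS : p ^ 2 + p + 1 ≤ u := by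
    have h1 : u = ∑ i ∈ Finset.range q, p ^ i := by
      rw [Nat.geomSum_eq (by omega), ← hfS.card_U, Nat.mul_div_cancel _ (by omega)]
    rw [h1]
    calc p ^ 2 + p + 1 = ∑ i ∈ Finset.range 3, p ^ i := by simp [Finset.sum_range_succ]; ring
      _ ≤ _ := Finset.sum_le_sum_of_subset (Finset.range_subset_range.mpr hq3)
  have hgeomS5 : q = 3 ∨ p ^ 4 ≤ u := by
    rcases Nat.lt_or_ge q 5 with hq5 | hq5
    · obtain ⟨a, ha⟩ := hodd W₁
      left; omega
    · right
      have h1 : u = ∑ i ∈ Finset.range q, p ^ i := by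
        rw [Nat.geomSum_eq (by omega), ← hfS.card_U, Nat.mul_div_cancel _ (by omega)]
      rw [h1]
      exact Finset.single_le_sum (f := fun i => p ^ i) (fun i _ => Nat.zero_le _) (Finset.mem_range.mpr (by omega))
  have hgeomT : p ^ 2 * (q + 1) < v := by
    have h1 : v = ∑ i ∈ Finset.range p, q ^ i := by
      rw [Nat.geomSum_eq (by omega), ← hfT.card_U, Nat.mul_div_cancel _ (by omega)]
    rw [h1, show p = (p - 2) + 1 + 1 by omega, Finset.sum_range_succ, Finset.sum_range_succ]
    have h2 : 1 ≤ ∑ i ∈ Finset.range (p - 2), q ^ i := by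
      calc 1 = q ^ 0 := (pow_zero q).symm
        _ ≤ _ := Finset.single_le_sum (f := fun i => q ^ i) (fun i _ => Nat.zero_le _)
            (Finset.mem_range.mpr (by omega))
    have h3 : p ^ 2 ≤ q ^ (p - 2) := BigSide.pow_sq_le hq3 (by omega)
    have h4 : p ^ 2 * (q + 1) ≤ q ^ (p - 2) * (q + 1) := Nat.mul_le_mul_right _ h3
    have h5 : q ^ (p - 2) * (q + 1) = q ^ (p - 2) + q ^ (p - 2 + 1) := by rw [pow_succ]; ring
    rw [show p - 2 + 1 + 1 = p by omega]
    omega
  obtain ⟨n, Φ, χ, d, i₀, c, F, hw⟩ := fam_typeI hG hL.coatom hL.kappa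
  obtain ⟨n', Φ', χ', d', j₀, c', F', hw'⟩ := fam_typeI hG hL'.coatom hL'.kappa
  rw [← hed] at F hw
  rw [← hed'] at F' hw'
  rw [← hhd] at hw
  rw [← hhd'] at hw'
  have he : e = q ∨ e = q * p := hL.index_dvd
  have he' : e' = p ∨ e' = q * p := by
    rcases hL'.index_dvd with h' | h'
    · exact Or.inl h'
    · exact Or.inr (h'.trans (mul_comm _ _))
  obtain ⟨m, hm⟩ : u ∣ hh := Subgroup.card_dvd_of_le hL.U_le
  obtain ⟨m', hm'⟩ : v ∣ hh' := Subgroup.card_dvd_of_le hL'.U_le
  have hh1 : hh ≡ 1 [MOD e] :=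
    ((Nat.modEq_iff_dvd' (Nat.card_pos (α := sigmaCore L))).mpr ⟨wt d, by rw [mul_comm]; exact hw.symm⟩).symm
  have hh1' : hh' ≡ 1 [MOD e'] :=
    ((Nat.modEq_iff_dvd' (Nat.card_pos (α := sigmaCore L'))).mpr ⟨wt d', by rw [mul_comm]; exact hw'.symm⟩).symm
  have hm1 : 1 < m := by
    rcases Nat.lt_or_ge 1 m with h' | h'
    · exact h'
    · exfalso; apply heq
      interval_cases m
      · have := Nat.card_pos (α := sigmaCore L); omega
      · omega
  have hqp : Odd (q * p) := (hodd W₁).mul (hodd W₂)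
  have hqp3 : q * 5 ≤ q * p := Nat.mul_le_mul_left q (by omega)
  have hqp4 : 3 * p ≤ q * p := Nat.mul_le_mul_right p hq3
  have heo : Odd e ∧ 3 ≤ e ∧ e ≤ q * p := by
    rcases he with e1 | e1 <;> rw [e1]
    · exact ⟨hodd W₁, hq3, by omega⟩
    · exact ⟨hqp, by omega, le_rfl⟩
  have hbig : 2 * u * e ≤ hh - 1 := (big_mult hm
    (by rcases he with e1 | e1 <;> rw [e1] <;> assumption) hh1 hm1 (hodd _) heo.1 heo.2.2 heo.2.1
    (by omega)).2.1
  have hqpu : q * p + 3 < u := by
    have h2 : q * p ≤ p * p := Nat.mul_le_mul_right p (by omega)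
    rw [sq] at hgeomS
    omega
  -- the whole grid
  have hgrid : e = q * p → 2 * p + v ≤ 2 * u * p → False := by
    intro e1 hvb
    rw [e1] at hbig
    refine false_of_grid hG h hS hT hSII hTII hL.coatom hL.kappa e1 ?_ ?_ ?_
    · refine le_trans ?_ hbig
      calc (2 * q + u) * p ≤ (2 * u * q) * p := Nat.mul_le_mul_right p (by
            have : u * 3 ≤ u * q := Nat.mul_le_mul_left u hq3
            have : 2 * u * q = 2 * (u * q) := by ring
            omega)
        _ = 2 * u * (q * p) := by ring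
    · refine le_trans ?_ hbig
      calc (2 * p + v) * q ≤ (2 * u * p) * q := Nat.mul_le_mul_right q hvb
        _ = 2 * u * (q * p) := by ring
    · exact le_trans (Nat.mul_le_mul_right (q * p) (show q * p + 3 ≤ 2 * u by omega)) hbig
  by_cases hconj : ∃ g : G, SigmaFusion.cj g L = L'
  · obtain ⟨g, hg⟩ := hconj
    have hcore : sigmaCore L' = SigmaFusion.cj g (sigmaCore L) := by
      rw [← hg, SupportCount.sigmaCore_cj hG hL.coatom]
    have hheq : hh' = hh := by rw [hhd', hcore, SupportCount.card_cj]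
    have heeq : e' = e := by
      refine Nat.eq_of_mul_eq_mul_left (Nat.card_pos (α := sigmaCore L')) ?_
      rw [hed', Coprime.card_mul_relIndex_eq (SigmaTools.sigmaCore_le L'), hcore, SupportCount.card_cj, hed,
        Coprime.card_mul_relIndex_eq (SigmaTools.sigmaCore_le L), ← hg, SupportCount.card_cj]
    have hepq : e = q * p := by
      rcases he with e1 | e1
      · rcases he' with e2 | e2 <;> rw [heeq, e1] at e2 <;> omega
      · exact e1
    by_cases hv' : hh' ≤ v
    · have hHV : V = sigmaCore L' := Subgroup.eq_of_le_of_card_ge hL'.U_le hv'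
      haveI := hfT.cyclic
      haveI : IsCyclic ↥(sigmaCore L') := hHV ▸ hfT.cyclic
      haveI : IsCyclic ↥(sigmaCore L) := by
        let f : ↥(sigmaCore L) ≃* ↥(sigmaCore L') :=
          (Subgroup.equivMapOfInjective _ (MulAut.conj g).toMonoidHom (MulAut.conj g).injective).trans
            (MulEquiv.subgroupCongr hcore.symm)
        exact isCyclic_of_surjective f.symm.toMonoidHom f.symm.surjective
      rcases hL.index_cases with e1 | ⟨-, y, hy, hyL⟩
      · exfalso
        rw [← hed] at e1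
        omega
      · exact ⟨y, hy, hyL.trans (le_normalizer_of_cyclic hL.U_le hLn)⟩
    · exfalso
      have hm1' : 1 < m' := by
        rcases Nat.lt_or_ge 1 m' with h' | h'
        · exact h'
        · exfalso; apply hv'
          interval_cases m' <;> omega
      have hb' := (big_mult hm' (by rw [heeq, hepq]; exact hv3) hh1' hm1' (hodd _)
        (by rw [heeq, hepq]; exact hqp) le_rfl (by rw [heeq, hepq]; omega) (by omega)).2.1
      rw [heeq, hepq, hheq] at hb'
      rw [hepq] at hbig
      refine false_of_grid hG h hS hT hSII hTII hL.coatom hL.kappa hepq ?_ ?_ ?_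
      · refine le_trans ?_ hbig
        calc (2 * q + u) * p ≤ (2 * u * q) * p := Nat.mul_le_mul_right p (by
              have : u * 3 ≤ u * q := Nat.mul_le_mul_left u hq3
              have : 2 * u * q = 2 * (u * q) := by ring
              omega)
          _ = 2 * u * (q * p) := by ring
      · refine le_trans ?_ hb'
        calc (2 * p + v) * q ≤ (2 * v * p) * q := Nat.mul_le_mul_right q (by
              have h1 : p ^ 2 * (q + 1) = p * (p * (q + 1)) := by ring
              have h2 : p * 2 ≤ p * (p * (q + 1)) := Nat.mul_le_mul_left p (by nlinarith)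
              have : v * 2 ≤ v * p := Nat.mul_le_mul_left v (by omega)
              have : 2 * v * p = 2 * (v * p) := by ring
              omega)
          _ = 2 * v * (q * p) := by ring
      · exact le_trans (Nat.mul_le_mul_right (q * p) (show q * p + 3 ≤ 2 * u by omega)) hbig
  -- the two neighbours are not conjugate
  exfalso
  push Not at hconj
  have hdisj : Disjoint (Cfsg.tildeOf L ((sigmaCore L : Set G) \ {1}))
      (Cfsg.tildeOf L' ((sigmaCore L' : Set G) \ {1})) :=
    Set.disjoint_iff_inter_eq_empty.mpr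
      (SupportCount.tilde_disjoint hG hL.coatom hL'.coatom fun g e1 => hconj g e1.symm)
  have he'le : e' ≤ q * p ∧ Odd e' ∧ 3 ≤ e' := by
    rcases he' with e1 | e1 <;> rw [e1]
    · exact ⟨by omega, hodd W₂, by omega⟩
    · exact ⟨le_rfl, hqp, by omega⟩
  have hN : e' + 1 < wt d := by
    by_contra hc
    push Not at hc
    have h1 : wt d * e ≤ (q * p + 1) * e := Nat.mul_le_mul_right _ (by omega)
    rw [hw] at h1
    have h2 : (q * p + 1) * e < 2 * u * e := Nat.mul_lt_mul_of_pos_right (by omega) (by omega)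
    omega
  by_cases hN' : e + 1 < wt d'
  · exact F.pair hG.1 F' hdisj hN hN'
  push Not at hN'
  have hv'' : hh' - 1 ≤ (e + 1) * e' := hw' ▸ Nat.mul_le_mul_right _ hN'
  have hvle : v ≤ hh' := Nat.le_of_dvd Nat.card_pos ⟨m', hm'⟩
  rcases he with e1 | e1
  · rw [e1] at hv''
    have h3 : (q + 1) * e' ≤ (q + 1) * (q * p) := Nat.mul_le_mul_left _ he'le.1
    have h5 : (q + 1) * (q * p) < (q + 1) * (p * p) :=
      Nat.mul_lt_mul_of_pos_left (Nat.mul_lt_mul_of_pos_right (show q < p by omega) (by omega)) (by omega)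
    have h6 : p ^ 2 * (q + 1) = (q + 1) * (p * p) := by ring
    omega
  · refine hgrid e1 ?_
    rw [e1] at hv''
    have h3 : (q * p + 1) * e' ≤ (q * p + 1) * (q * p) := Nat.mul_le_mul_left _ he'le.1
    have h4 : 2 * p + v ≤ (q * p + 1) * (q * p) + 2 * p + 1 := by omega
    refine h4.trans ?_
    have h9 : (q * p + 1) * (q * p) + 2 * p + 1 ≤ ((q * p + 1) * q + 3) * p := by
      have : ((q * p + 1) * q + 3) * p = (q * p + 1) * (q * p) + 3 * p := by ring
      omega
    refine h9.trans (Nat.mul_le_mul_right p ?_)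
    rcases hgeomS5 with h7 | h7
    · rw [h7]
      have : p * 5 ≤ p ^ 2 := by rw [sq]; exact Nat.mul_le_mul_left p (by omega)
      omega
    · have h8 : (q * p + 1) * q + 3 ≤ p ^ 4 := by
        have h10 : q * p + 1 ≤ p * p := by
          have := Nat.mul_le_mul_right p (show q + 1 ≤ p by omega)
          rw [add_mul, one_mul] at this
          omega
        have h11 : (q * p + 1) * q ≤ p * p * q := Nat.mul_le_mul_right q h10
        have h12 : p * p * q + 3 ≤ p * p * (p * p) := by
          have h13 : p * p * (q + 1) ≤ p * p * (p * p) := Nat.mul_le_mul_left _ (by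
            have : 1 * p ≤ p * p := Nat.mul_le_mul_right p (by omega)
            omega)
          have h14 : p * p * (q + 1) = p * p * q + p * p := by ring
          have h15 : 5 * 5 ≤ p * p := Nat.mul_le_mul (by omega) (by omega)
          omega
        have : p ^ 4 = p * p * (p * p) := by ring
        omega
      omega

/-- **The moving element.** -/
theorem exists_mover (hG : Cfsg.IsMinSimpleOddOrder G) (h : Pair S T W₁ W₂ U V) (hfS : Final.Full S W₁ U W₂)
    (hfT : Final.Full T W₂ V W₁) (hSII : Cfsg.IsOfTypeII S) :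
    ∃ y ∈ fittingHallOf T, W₂.map (MulAut.conj y).toMonoidHom ≤ Subgroup.normalizer (U : Set G) :=
  (em (Cfsg.IsOfTypeII T)).elim (exists_mover_II hG h hfS hfT hSII) (BigSide.exists_mover hG h hfS hfT hSII)

end CfsgLib.OddOrder.Final.Neighbour
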