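import Cfsg.Agent.Lib.Char.Clifford
import Cfsg.Agent.Lib.Char.Linear
import Mathlib

/-!
Linear characters of a normal subgroup `N` of `K`, moved by an overgroup `M`, and the characters they
induce.
-/

set_option autoImplicit false

namespace CfsgLib.OddOrder.Final.SideInd

open Subgroup CfsgLib.Char
open scoped commutatorElement

variable {G : Type*} [Group G] {K M N : Subgroup G}

/-- The standing assumptions. -/
structure Data (K M N : Subgroup G) : Prop where
  le : N ≤ K
  le' : K ≤ M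
  normN : M ≤ normalizer (N : Set G)
  normK : M ≤ normalizer (K : Set G)

variable (d : Data K M N)
include d

theorem normal : (N.subgroupOf K).Normal :=
  (normal_subgroupOf_iff_le_normalizer d.le).mpr (d.le'.trans d.normN)

/-- `n ↦ g⁻¹ n g` on `N`. -/
def backN (g : M) (n : N.subgroupOf K) : N.subgroupOf K :=
  ⟨⟨(g : G)⁻¹ * ((n : K) : G) * g, by
    have := (mem_normalizer_iff.mp (inv_mem (d.normK g.2)) ((n : K) : G)).mp (n : K).2
    rwa [inv_inv] at this⟩, mem_subgroupOf.mpr (by
    have := (mem_normalizer_iff.mp (inv_mem (d.normN g.2)) ((n : K) : G)).mp n.2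
    rwa [inv_inv] at this)⟩

theorem backN_mul (g : M) (a b : N.subgroupOf K) : backN d g (a * b) = backN d g a * backN d g b :=
  Subtype.ext (Subtype.ext (by simp [backN, mul_assoc]))

/-- The moved linear character. -/
def cjN (g : M) (f : N.subgroupOf K →* ℂˣ) : N.subgroupOf K →* ℂˣ :=
  MonoidHom.mk' (fun n => f (backN d g n)) fun a b => by rw [backN_mul, map_mul]

theorem cjN_apply (g : M) (f : N.subgroupOf K →* ℂˣ) (n : N.subgroupOf K) :
    cjN d g f n = f (backN d g n) := rfl

theorem cjN_one (f : N.subgroupOf K →* ℂˣ) : cjN d 1 f = f :=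
  MonoidHom.ext fun n => congrArg f (Subtype.ext (Subtype.ext (by simp [backN])))

theorem cjN_mul (a b : M) (f : N.subgroupOf K →* ℂˣ) : cjN d (a * b) f = cjN d a (cjN d b f) :=
  MonoidHom.ext fun n => congrArg f (Subtype.ext (Subtype.ext (by simp [backN, mul_assoc])))

theorem cjN_hom (g : M) (f f' : N.subgroupOf K →* ℂˣ) : cjN d g (f * f') = cjN d g f * cjN d g f' :=
  MonoidHom.ext fun _ => rfl

theorem cjN_triv (g : M) : cjN d g 1 = 1 := MonoidHom.ext fun _ => rfl

omit d in
theorem val_injective {f f' : N.subgroupOf K →* ℂˣ}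
    (h : (fun n => (f n : ℂ)) = fun n => (f' n : ℂ)) : f = f' :=
  MonoidHom.ext fun n => Units.ext (congrFun h n)

variable [Finite G] [Fintype K]

/-- The induced character. -/
noncomputable def theta (f : N.subgroupOf K →* ℂˣ) : K → ℂ :=
  open Classical in Cfsg.indFun (N.subgroupOf K) (fun n => (f n : ℂ))

theorem theta_one (f : N.subgroupOf K →* ℂˣ) : theta f 1 = ((N.subgroupOf K).index : ℂ) := by
  classical
  rw [theta, indFun_one, map_one, Units.val_one, mul_one]

theorem theta_off (f : N.subgroupOf K →* ℂˣ) {a : K} (ha : (a : G) ∉ N) : theta f a = 0 := by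
  classical
  haveI := normal d
  exact indFun_eq_zero_of_normal _ _ fun h => ha (mem_subgroupOf.mp h)

theorem theta_cjN (f : N.subgroupOf K →* ℂˣ) (k : K) :
    theta (cjN d ⟨k, d.le' k.2⟩ f) = theta f := by
  classical
  haveI := normal d
  rw [theta, theta, ← indFun_conjG (fun n => (f n : ℂ)) k⁻¹]
  congr 1
  funext n
  rw [conjG_apply, cjN_apply]
  exact congrArg (fun z => ((f z : ℂˣ) : ℂ)) (Subtype.ext (Subtype.ext (by simp [backN])))

theorem exists_of_eq {f f' : N.subgroupOf K →* ℂˣ} (e : theta f = theta f') :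
    ∃ k : K, f = cjN d ⟨k, d.le' k.2⟩ f' := by
  classical
  haveI := normal d
  by_contra hn
  push Not at hn
  have h0 : Cfsg.classInner (theta f) (theta f') = 0 :=
    classInner_indFun_eq_zero (isIrrCharacter_hom f) (isIrrCharacter_hom f') fun g e' => by
      refine hn g⁻¹ (val_injective (e'.trans ?_))
      funext n
      rw [conjG_apply, cjN_apply]
      exact congrArg (fun z => ((f' z : ℂˣ) : ℂ)) (Subtype.ext (Subtype.ext (by simp [backN])))
  rw [← e, classInner_self_eq_zero] at h0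
  have h1 := theta_one d f
  rw [h0, Pi.zero_apply, eq_comm, Nat.cast_eq_zero] at h1
  exact FiniteIndex.index_ne_zero h1

theorem theta_irr {f : N.subgroupOf K →* ℂˣ}
    (hf : ∀ k : K, cjN d ⟨k, d.le' k.2⟩ f = f → (k : G) ∈ N) :
    Cfsg.IsIrrCharacter K (theta f) := by
  classical
  haveI := normal d
  refine IsCharacter.isIrrCharacter_of_norm_one
    (IsCharacter.indFun _ (IsIrrCharacter.isCharacter (isIrrCharacter_hom f))) ?_
  rw [theta, classInner_indFun_irr (isIrrCharacter_hom f) (isIrrCharacter_hom f)]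
  have hst : stab (fun n => (f n : ℂ)) = N.subgroupOf K := by
    refine le_antisymm (fun g hg => ?_)
      (le_stab (IsCharacter.isClassFunction (IsIrrCharacter.isCharacter (isIrrCharacter_hom f))))
    have h1 : cjN d ⟨(g⁻¹ : K), d.le' (g⁻¹ : K).2⟩ f = f := val_injective (by
      refine Eq.trans ?_ hg
      funext n
      rw [conjG_apply, cjN_apply]
      exact congrArg (fun z => ((f z : ℂˣ) : ℂ)) (Subtype.ext (Subtype.ext (by simp [backN]))))
    have h2 := hf g⁻¹ h1
    rw [Subgroup.coe_inv, inv_mem_iff] at h2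
    exact mem_subgroupOf.mpr h2
  rw [show Nat.card {g : K // conjG (fun n => (f n : ℂ)) g = fun n => (f n : ℂ)} =
    Nat.card (stab (fun n : N.subgroupOf K => (f n : ℂ))) from rfl, hst,
    div_self (Nat.cast_ne_zero.mpr Nat.card_pos.ne')]

/-- Moving by an element of `M`. -/
theorem theta_move (f : N.subgroupOf K →* ℂˣ) (g : M) {a b : K}
    (hb : (b : G) = (g : G) * a * (g : G)⁻¹) : theta (cjN d g⁻¹ f) a = theta f b := by
  classical
  rw [theta, theta, indFun_def, indFun_def]
  congr 1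
  have hmem : ∀ x : K, (g : G) * x * (g : G)⁻¹ ∈ K := fun x =>
    (mem_normalizer_iff.mp (d.normK g.2) (x : G)).mp x.2
  have hmem' : ∀ x : K, (g : G)⁻¹ * x * g ∈ K := fun x => by
    have := (mem_normalizer_iff.mp (inv_mem (d.normK g.2)) (x : G)).mp x.2
    rwa [inv_inv] at this
  let e : K ≃ K :=
    { toFun := fun x => ⟨(g : G) * x * (g : G)⁻¹, hmem x⟩
      invFun := fun x => ⟨(g : G)⁻¹ * x * g, hmem' x⟩
      left_inv := fun x => Subtype.ext (by simp [mul_assoc])
      right_inv := fun x => Subtype.ext (by simp [mul_assoc]) }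
  refine Fintype.sum_equiv e _ _ fun x => ?_
  have hval : ((((e x)⁻¹ * b * e x : K)) : G) = (g : G) * ((x⁻¹ * a * x : K) : G) * (g : G)⁻¹ := by
    simp only [e, Equiv.coe_fn_mk, Subgroup.coe_mul, Subgroup.coe_inv, hb]
    group
  by_cases hx : (x⁻¹ * a * x : K) ∈ N.subgroupOf K
  · have hx' : ((e x)⁻¹ * b * e x : K) ∈ N.subgroupOf K := by
      rw [mem_subgroupOf, hval]
      exact (mem_normalizer_iff.mp (d.normN g.2) _).mp (mem_subgroupOf.mp hx)
    rw [extendByZero_apply_mem _ _ hx, extendByZero_apply_mem _ _ hx', cjN_apply]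
    refine congrArg (fun z => ((f z : ℂˣ) : ℂ)) (Subtype.ext (Subtype.ext ?_))
    show ((g⁻¹ : M) : G)⁻¹ * ((x⁻¹ * a * x : K) : G) * ((g⁻¹ : M) : G) = _
    rw [hval, Subgroup.coe_inv, inv_inv]
  · have hx' : ((e x)⁻¹ * b * e x : K) ∉ N.subgroupOf K := by
      rw [mem_subgroupOf, hval]
      exact fun h => hx (mem_subgroupOf.mpr ((mem_normalizer_iff.mp (d.normN g.2) _).mpr h))
    rw [extendByZero_apply_notMem _ _ hx, extendByZero_apply_notMem _ _ hx']

/-- A linear character nontrivial on a subgroup `P` of `N` normal in `K`: the induced character is not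
constant there. -/
theorem theta_kernel (f : N.subgroupOf K →* ℂˣ) {P : Subgroup G} (hPN : P ≤ N)
    (hPK : K ≤ normalizer (P : Set G)) (hne : ∃ n : N.subgroupOf K, ((n : K) : G) ∈ P ∧ f n ≠ 1) :
    ∃ a : K, (a : G) ∈ P ∧ theta f a ≠ theta f 1 := by
  classical
  haveI := normal d
  by_contra hcon
  push Not at hcon
  have hPk : P ≤ K := hPN.trans d.le
  let ι : P.subgroupOf K →* N.subgroupOf K :=
    Subgroup.inclusion fun x hx => mem_subgroupOf.mpr (hPN (mem_subgroupOf.mp hx))
  haveI : (P.subgroupOf K).Normal := (normal_subgroupOf_iff_le_normalizer hPk).mpr hPK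
  have hz : ∑ x : P.subgroupOf K, theta f (x : K) = 0 := by
    have e : ∀ x : P.subgroupOf K, theta f (x : K) = (Nat.card (N.subgroupOf K) : ℂ)⁻¹ *
        ∑ g : K, ((f (ι ⟨g * x * g⁻¹, (inferInstance : (P.subgroupOf K).Normal).conj_mem _ x.2 g⟩)
          : ℂˣ) : ℂ) := fun x =>
      indFun_apply_of_normal _ _ (ι x)
    simp only [e]
    rw [← Finset.mul_sum, Finset.sum_comm]
    refine mul_eq_zero_of_right _ (Finset.sum_eq_zero fun g _ => ?_)
    obtain ⟨n, hnP, hn1⟩ := hne
    let c : P.subgroupOf K →* P.subgroupOf K :=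
      MonoidHom.mk' (fun x => ⟨g * x * g⁻¹, (inferInstance : (P.subgroupOf K).Normal).conj_mem _ x.2 g⟩)
        fun x y => Subtype.ext (by simp [mul_assoc])
    let χ : P.subgroupOf K →* ℂ := (Units.coeHom ℂ).comp (f.comp (ι.comp c))
    have hχ : χ ≠ 1 := fun e1 => hn1 (Units.ext (by
      have h2 := DFunLike.congr_fun e1 ⟨g⁻¹ * (n : K) * g⁻¹⁻¹,
        (inferInstance : (P.subgroupOf K).Normal).conj_mem _ (mem_subgroupOf.mpr hnP) g⁻¹⟩
      refine Eq.trans ?_ h2
      show ((f n : ℂˣ) : ℂ) = ((f (ι (c ⟨_, _⟩)) : ℂˣ) : ℂ)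
      exact congrArg (fun z => ((f z : ℂˣ) : ℂ)) (Subtype.ext (by simp [ι, c, mul_assoc]))))
    exact sum_hom_units_eq_zero_of_ne χ hχ
  rw [Finset.sum_congr rfl (fun (x : P.subgroupOf K) _ => hcon (x : K) (mem_subgroupOf.mp x.2)), Finset.sum_const,
    theta_one d, nsmul_eq_mul, ← Nat.cast_mul, Nat.cast_eq_zero, Finset.card_univ] at hz
  exact (Nat.mul_ne_zero Fintype.card_ne_zero FiniteIndex.index_ne_zero) hz
where
  sum_hom_units_eq_zero_of_ne {X : Type _} [Group X] [Fintype X] (χ : X →* ℂ) (h : χ ≠ 1) :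
      ∑ x : X, χ x = 0 := by
    classical
    rw [_root_.sum_hom_units χ]
    simp [h]

end CfsgLib.OddOrder.Final.SideInd
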