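import Cfsg.Agent.Lib.OddOrder.Final.SideCharsModule
import Cfsg.Agent.Lib.OddOrder.Final.SideCharsInd
import Cfsg.Agent.Lib.OddOrder.DadeSets

/-!
The normal subgroup `N` of `M'` of elements trivial on the dual of `P / P₀`, the extension of a linear
character of `P / P₀` to `N`, and the characters of `M'` induced from these extensions times invariant
linear characters of `N`.
-/

set_option autoImplicit false

namespace CfsgLib.OddOrder.Final.SideLift

open Subgroup SideModuleData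
open scoped commutatorElement

variable {G : Type*} [Group G]

/-- The characters of `P / P₀`. -/
abbrev V (M U : Subgroup G) : Subgroup (↥(Cfsg.fittingHallOf M) →* ℂˣ) :=
  dual (Cfsg.fittingHallOf M) (base (Cfsg.fittingHallOf M) U)

/-- The standing data. -/
structure Ctx (M W₁ U W₂ : Subgroup G) : Prop where
  odd : Cfsg.IsMinSimpleOddOrder G
  side : Side M W₁ U W₂
  facts : Facts M W₁ U W₂

variable [Finite G] {M W₁ U W₂ : Subgroup G} (c : Ctx M W₁ U W₂)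
include c

/-- The action of `M` on `V`. -/
def fa : M →* MulAut (V M U) := act.comp (Subgroup.inclusion c.facts.le_norm)

/-- `x ↦ g⁻¹ x g`. -/
def bk (g : M) (x : Cfsg.fittingHallOf M) : Cfsg.fittingHallOf M :=
  back (Subgroup.inclusion c.facts.le_norm g) x

theorem bk_coe (g : M) (x : Cfsg.fittingHallOf M) : (bk c g x : G) = (g : G)⁻¹ * x * g := rfl

theorem fa_apply (g : M) (φ : V M U) (x : Cfsg.fittingHallOf M) : (fa c g φ).1 x = φ.1 (bk c g x) := rfl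

theorem fa_eq_one {g : M}
    (hg : ∀ (φ : V M U) (x : Cfsg.fittingHallOf M), φ.1 (bk c g x) = φ.1 x) : fa c g = 1 :=
  MulEquiv.ext fun φ => Subtype.ext (MonoidHom.ext fun x => hg φ x)

theorem fa_fit {g : M} (hg : (g : G) ∈ Cfsg.fittingHallOf M) : fa c g = 1 := fa_eq_one c fun φ x => by
  have e : bk c g x = (⟨g, hg⟩ : Cfsg.fittingHallOf M)⁻¹ * x * ⟨g, hg⟩ := Subtype.ext rfl
  rw [e, map_mul, map_mul, map_inv, mul_comm _ (φ.1 x), mul_assoc, inv_mul_cancel, mul_one]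

theorem fa_cen {g : M} (hg : (g : G) ∈ centralizer (Cfsg.fittingHallOf M : Set G)) : fa c g = 1 :=
  fa_eq_one c fun φ x => congrArg φ.1 (Subtype.ext (by
    rw [bk_coe, mul_assoc, mem_centralizer_iff.mp hg x x.2, ← mul_assoc, inv_mul_cancel, one_mul]))

theorem fa_derived {g : M} (hg : (g : G) ∈ ⁅⁅M, M⁆, ⁅M, M⁆⁆) : fa c g = 1 := by
  have h1 : Cfsg.fittingHallOf M ⊔ (M ⊓ centralizer (Cfsg.fittingHallOf M : Set G)) ≤
      (fa c).ker.map M.subtype :=
    sup_le (fun x hx => ⟨⟨x, Basic.fittingHallOf_le hx⟩, fa_fit c hx, rfl⟩)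
      fun x hx => ⟨⟨x, hx.1⟩, fa_cen c hx.2, rfl⟩
  obtain ⟨y, hy, e⟩ := h1 (c.side.typeP.derived_two_le hg)
  rw [← show y = g from Subtype.ext e]
  exact hy

theorem exists_decomp {g : M} (hg : (g : G) ∈ ⁅M, M⁆) :
    ∃ x u : M, (x : G) ∈ Cfsg.fittingHallOf M ∧ (u : G) ∈ U ∧ g = x * u := by
  obtain ⟨a, ha, b, hb, e⟩ := c.side.typeP.U_compl.2.2.2 g hg
  exact ⟨⟨a, Basic.fittingHallOf_le ha⟩, ⟨b, TP.U_le c.side.typeP hb⟩, ha, hb, Subtype.ext e⟩

/-- The action of `M'`. -/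
def fK : ↥⁅M, M⁆ →* MulAut (V M U) := (fa c).comp (Subgroup.inclusion (derived_le M))

theorem fK_apply (k : ↥⁅M, M⁆) : fK c k = fa c ⟨k, derived_le M k.2⟩ := rfl

/-- The image of `U`. -/
def Ub : Subgroup (MulAut (V M U)) := (fK c).range

theorem mem_Ub {v : MulAut (V M U)} : v ∈ Ub c ↔ ∃ u : M, (u : G) ∈ U ∧ fa c u = v := by
  constructor
  · rintro ⟨k, rfl⟩
    obtain ⟨x, u, hx, hu, e⟩ := exists_decomp c (g := ⟨k, derived_le M k.2⟩) k.2
    exact ⟨u, hu, by rw [fK_apply, e, map_mul, fa_fit c hx, one_mul]⟩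
  · rintro ⟨u, hu, rfl⟩
    exact ⟨⟨u, TP.U_le_derived c.side.typeP hu⟩, rfl⟩

theorem Ub_comm : ∀ a ∈ Ub c, ∀ b ∈ Ub c, a * b = b * a := by
  intro a ha b hb
  obtain ⟨k, rfl⟩ := ha
  obtain ⟨l, rfl⟩ := hb
  have h1 : fK c ⁅k, l⁆ = 1 := by
    rw [fK_apply]
    exact fa_derived c (commutator_mem_commutator k.2 l.2)
  rwa [map_commutatorElement, commutatorElement_eq_one_iff_mul_comm] at h1

theorem card_Ub_dvd : Nat.card (Ub c) ∣ Nat.card U := by
  have e : Ub c = ((fa c).comp (Subgroup.inclusion (TP.U_le c.side.typeP))).range := by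
    ext v
    rw [mem_Ub]
    exact ⟨fun ⟨u, hu, e⟩ => ⟨⟨u, hu⟩, e⟩, fun ⟨u, e⟩ => ⟨⟨u, TP.U_le c.side.typeP u.2⟩, u.2, e⟩⟩
  rw [e]
  exact card_range_dvd _

/-- The elements of `M'` trivial on `V`. -/
def NN : Subgroup G := (fK c).ker.map (⁅M, M⁆ : Subgroup G).subtype

theorem NN_le : NN c ≤ ⁅M, M⁆ := map_subtype_le _

theorem mem_NN {k : ↥⁅M, M⁆} : (k : G) ∈ NN c ↔ fK c k = 1 := by
  rw [← MonoidHom.mem_ker]
  exact mem_map_iff_mem (subtype_injective _)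

theorem fit_le_NN : Cfsg.fittingHallOf M ≤ NN c := fun x hx =>
  (mem_NN c (k := ⟨x, TP.fit_le_derived c.side.typeP hx⟩)).mpr (fa_fit c hx)

theorem NN_normal : M ≤ normalizer (NN c : Set G) := le_normalizer_iff.mpr fun g hg n hn => by
  obtain ⟨k, hk, rfl⟩ := hn
  have hgk : g * k * g⁻¹ ∈ ⁅M, M⁆ := (mem_normalizer_iff.mp (DadeSets.derived_normal hg) _).mp k.2
  refine (mem_NN c (k := ⟨_, hgk⟩)).mpr ?_
  rw [fK_apply, show (⟨g * k * g⁻¹, derived_le M hgk⟩ : M) = ⟨g, hg⟩ * ⟨k, derived_le M k.2⟩ * ⟨g, hg⟩⁻¹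
    from rfl, map_mul, map_mul, ← fK_apply c k, MonoidHom.mem_ker.mp hk, map_inv, mul_one, mul_inv_cancel]

theorem data : SideInd.Data ⁅M, M⁆ M (NN c) :=
  ⟨NN_le c, derived_le M, NN_normal c, DadeSets.derived_normal⟩

/-- `N` inside `M'`. -/
abbrev NK : Subgroup ↥⁅M, M⁆ := (NN c).subgroupOf ⁅M, M⁆

theorem NK_eq : NK c = (fK c).ker := comap_map_eq_self_of_injective (subtype_injective _) _

theorem index_NK : (NK c).index = Nat.card (Ub c) := by
  rw [NK_eq, index_ker]; rfl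

theorem card_derived : Nat.card ↥⁅M, M⁆ = Nat.card (Ub c) * Nat.card (NN c) := by
  rw [← index_NK, ← Nat.card_congr (subgroupOfEquivOfLe (NN_le c)).toEquiv, index_mul_card]

/-- A character of `P` moved by no element of `U` is trivial on `[P, U]`. -/
theorem apply_commutator {f : Cfsg.fittingHallOf M →* ℂˣ}
    (hf : ∀ u : M, (u : G) ∈ U → ∀ x, f (bk c u x) = f x) :
    ⁅Cfsg.fittingHallOf M, U⁆ ≤ f.ker.map (Cfsg.fittingHallOf M).subtype :=
  commutator_le.mpr fun x hx u hu => by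
    have hy : u * x⁻¹ * u⁻¹ ∈ Cfsg.fittingHallOf M :=
      (mem_normalizer_iff.mp (Basic.le_normalizer_fittingHallOf (TP.U_le c.side.typeP hu)) _).mp (inv_mem hx)
    refine ⟨⟨x, hx⟩ * ⟨_, hy⟩, MonoidHom.mem_ker.mpr ?_, by simp [commutatorElement_def, mul_assoc]⟩
    have h1 := hf ⟨u, TP.U_le c.side.typeP hu⟩ hu ⟨_, hy⟩
    rw [show bk c ⟨u, _⟩ ⟨_, hy⟩ = (⟨x, hx⟩ : Cfsg.fittingHallOf M)⁻¹ from
      Subtype.ext (by simp [bk_coe, mul_assoc]), map_inv] at h1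
    rw [map_mul, ← h1, mul_inv_cancel]

theorem eq_one_of_commutator {φ : V M U}
    (h : ⁅Cfsg.fittingHallOf M, U⁆ ≤ φ.1.ker.map (Cfsg.fittingHallOf M).subtype) : φ = 1 := by
  have h0 : base (Cfsg.fittingHallOf M) U ≤ φ.1.ker.map (Cfsg.fittingHallOf M).subtype := fun x hx =>
    ⟨⟨x, c.facts.le hx⟩, φ.2 _ hx, rfl⟩
  refine Subtype.ext (MonoidHom.ext fun x => ?_)
  obtain ⟨y, hy, e⟩ := sup_le h0 h (c.facts.gen x x.2)
  rw [← show y = x from Subtype.ext e]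
  exact hy

/-- Only the trivial character is fixed by `U`. -/
theorem eq_one_of_fixed {φ : V M U} (h : ∀ v ∈ Ub c, v φ = φ) : φ = 1 :=
  eq_one_of_commutator c (apply_commutator c fun u hu x => by
    rw [← fa_apply, h _ ((mem_Ub c).mpr ⟨u, hu, rfl⟩)])

theorem exists_xu (n : NK c) :
    ∃ x : Cfsg.fittingHallOf M, ∃ u ∈ U, ((n : ↥⁅M, M⁆) : G) = x * u := by
  obtain ⟨a, ha, b, hb, e⟩ := c.side.typeP.U_compl.2.2.2 _ (n : ↥⁅M, M⁆).2
  exact ⟨⟨a, ha⟩, b, hb, e⟩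

/-- The `P` part. -/
noncomputable def pr (n : NK c) : Cfsg.fittingHallOf M := (exists_xu c n).choose

theorem pr_eq {n : NK c} {x : Cfsg.fittingHallOf M} {u : G} (hu : u ∈ U)
    (e : ((n : ↥⁅M, M⁆) : G) = x * u) : pr c n = x := by
  obtain ⟨v, hv, e'⟩ := (exists_xu c n).choose_spec
  have h0 : (x : G) * u = (pr c n : G) * v := e.symm.trans e'
  have h1 : (x : G)⁻¹ * (pr c n : G) = u * v⁻¹ := by
    calc (x : G)⁻¹ * (pr c n : G) = (x : G)⁻¹ * ((pr c n : G) * v) * v⁻¹ := by group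
      _ = (x : G)⁻¹ * ((x : G) * u) * v⁻¹ := by rw [h0]
      _ = _ := by group
  have h3 : (x : G)⁻¹ * (pr c n : G) ∈ Cfsg.fittingHallOf M := (x⁻¹ * pr c n).2
  have h4 : (x : G)⁻¹ * (pr c n : G) ∈ U := h1 ▸ U.mul_mem hu (U.inv_mem hv)
  have h2 : (x : G)⁻¹ * (pr c n : G) = 1 := mem_bot.mp (c.side.typeP.U_compl.2.2.1.le ⟨h3, h4⟩)
  exact (Subtype.ext (inv_mul_eq_one.mp h2)).symm

/-- The extension of `φ` to `N`, trivial on `N ∩ U`. -/
noncomputable def lift (φ : V M U) : NK c →* ℂˣ :=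
  MonoidHom.mk' (fun n => φ.1 (pr c n)) fun a b => by
    obtain ⟨x, u, hu, ea⟩ := exists_xu c a
    obtain ⟨y, v, hv, eb⟩ := exists_xu c b
    have hux : u * y * u⁻¹ ∈ Cfsg.fittingHallOf M :=
      (mem_normalizer_iff.mp (Basic.le_normalizer_fittingHallOf (TP.U_le c.side.typeP hu)) _).mp y.2
    rw [pr_eq c hu ea, pr_eq c hv eb, pr_eq c (x := x * ⟨_, hux⟩) (mul_mem hu hv)
      (by simp [ea, eb, mul_assoc]), map_mul]
    congr 1
    have h0 : fa c ⟨u, TP.U_le c.side.typeP hu⟩ = 1 := by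
      have h1 : fK c (a : ↥⁅M, M⁆) = 1 := (mem_NN c).mp (mem_subgroupOf.mp a.2)
      rw [fK_apply, show (⟨((a : ↥⁅M, M⁆) : G), derived_le M (a : ↥⁅M, M⁆).2⟩ : M) =
        ⟨x, Basic.fittingHallOf_le x.2⟩ * ⟨u, TP.U_le c.side.typeP hu⟩ from Subtype.ext ea,
        map_mul, fa_fit c x.2, one_mul] at h1
      exact h1
    have h2 := fa_apply c ⟨u, TP.U_le c.side.typeP hu⟩ φ ⟨_, hux⟩
    rw [h0, MulAut.one_apply] at h2
    rw [h2]
    exact congrArg φ.1 (Subtype.ext (by simp [bk_coe, mul_assoc]))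

theorem lift_apply {φ : V M U} {n : NK c} {x : Cfsg.fittingHallOf M} {u : G} (hu : u ∈ U)
    (e : ((n : ↥⁅M, M⁆) : G) = x * u) : lift c φ n = φ.1 x := congrArg φ.1 (pr_eq c hu e)

theorem lift_fit {φ : V M U} {n : NK c} (x : Cfsg.fittingHallOf M) (e : ((n : ↥⁅M, M⁆) : G) = x) :
    lift c φ n = φ.1 x := lift_apply c (one_mem U) (by rw [e, mul_one])

theorem lift_injective {φ ψ : V M U} (h : lift c φ = lift c ψ) : φ = ψ :=
  Subtype.ext (MonoidHom.ext fun x => by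
    have hn : (⟨x, TP.fit_le_derived c.side.typeP x.2⟩ : ↥⁅M, M⁆) ∈ NK c :=
      mem_subgroupOf.mpr (fit_le_NN c x.2)
    rw [← lift_fit c (n := ⟨_, hn⟩) x rfl, h, lift_fit c x rfl])

theorem lift_one : lift c (1 : V M U) = 1 := MonoidHom.ext fun _ => rfl

theorem cjN_of_mem (g : M) (hg : (g : G) ∈ NN c) (f : NK c →* ℂˣ) : SideInd.cjN (data c) g f = f :=
  MonoidHom.ext fun n => by
    let m : NK c := ⟨⟨g, NN_le c hg⟩, mem_subgroupOf.mpr hg⟩
    have e : SideInd.backN (data c) g n = m⁻¹ * n * m :=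
      Subtype.ext (Subtype.ext (by simp [SideInd.backN, m]))
    rw [SideInd.cjN_apply, e, map_mul, map_mul, map_inv, mul_comm _ (f n), mul_assoc, inv_mul_cancel,
      mul_one]

theorem cjN_lift_normalising {g : M} (hg : (g : G) ∈ normalizer (U : Set G)) (φ : V M U) :
    SideInd.cjN (data c) g (lift c φ) = lift c (fa c g φ) :=
  MonoidHom.ext fun n => by
    obtain ⟨x, u, hu, e⟩ := exists_xu c n
    have hu' : (g : G)⁻¹ * u * g ∈ U := by
      have := (mem_normalizer_iff.mp (inv_mem hg) u).mp hu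
      rwa [inv_inv] at this
    rw [SideInd.cjN_apply, lift_apply c hu e, fa_apply]
    exact lift_apply c hu' (by simp [SideInd.backN, bk_coe, e, mul_assoc])

theorem cjN_lift (g : M) (φ : V M U) : SideInd.cjN (data c) g (lift c φ) = lift c (fa c g φ) := by
  have hP := c.side.typeP
  obtain ⟨a, ha, b, hb, e⟩ := hP.W₁_compl.2.2.2 g g.2
  obtain ⟨x, u, hx, hu, e'⟩ := exists_decomp c (g := ⟨a, derived_le M ha⟩) ha
  have hg : g = x * u * ⟨b, TP.W₁_le hP hb⟩ := by rw [← e']; exact Subtype.ext e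
  rw [hg, SideInd.cjN_mul, SideInd.cjN_mul, cjN_lift_normalising c (hP.U_normal hb),
    cjN_lift_normalising c (le_normalizer hu), cjN_of_mem c x (fit_le_NN c hx), map_mul, map_mul,
    fa_fit c hx, one_mul]
  rfl

/-- A linear character of `N` invariant under `M'`. -/
def Inv (γ : NK c →* ℂˣ) : Prop := ∀ k : M, (k : G) ∈ ⁅M, M⁆ → SideInd.cjN (data c) k γ = γ

theorem inv_one' : Inv c 1 := fun k _ => SideInd.cjN_triv (data c) k

theorem Inv.move {γ : NK c →* ℂˣ} (h : Inv c γ) (g : M) : Inv c (SideInd.cjN (data c) g γ) := by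
  intro k hk
  have hk' : ((g⁻¹ * k * g : M) : G) ∈ ⁅M, M⁆ := by
    have := (mem_normalizer_iff.mp (inv_mem (DadeSets.derived_normal g.2)) (k : G)).mp hk
    simpa using this
  conv_rhs => rw [← h _ hk', ← SideInd.cjN_mul, mul_assoc, mul_inv_cancel_left, SideInd.cjN_mul]

/-- An invariant character is trivial on `[P, U]`. -/
theorem Inv.apply_commutator {γ : NK c →* ℂˣ} (h : Inv c γ) {n : NK c}
    (hn : ((n : ↥⁅M, M⁆) : G) ∈ ⁅Cfsg.fittingHallOf M, U⁆) : γ n = 1 := by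
  let ι : Cfsg.fittingHallOf M →* NK c :=
    MonoidHom.mk' (fun x => ⟨⟨x, TP.fit_le_derived c.side.typeP x.2⟩, mem_subgroupOf.mpr (fit_le_NN c x.2)⟩)
      fun _ _ => rfl
  obtain ⟨x, hx, e⟩ := SideLift.apply_commutator c (f := γ.comp ι) (fun u hu x => by
    rw [MonoidHom.comp_apply, MonoidHom.comp_apply]
    refine Eq.trans ?_ (DFunLike.congr_fun (h u (TP.U_le_derived c.side.typeP hu)) (ι x))
    exact congrArg γ (Subtype.ext (Subtype.ext rfl))) hn
  rw [show n = ι x from Subtype.ext (Subtype.ext e.symm)]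
  exact hx

/-- A nontrivial invariant character exists unless `N = P = [P, U]`. -/
theorem exists_inv (hne : ¬ (NN c = Cfsg.fittingHallOf M ∧
      Cfsg.fittingHallOf M ≤ ⁅Cfsg.fittingHallOf M, U⁆)) :
    ∃ γ : NK c →* ℂˣ, Inv c γ ∧ γ ≠ 1 := by
  haveI hnN : (NK c).Normal := SideInd.normal (data c)
  set L : Subgroup ↥⁅M, M⁆ := ⁅NK c, ⊤⁆ with hL
  haveI : L.Normal := commutator_normal _ _
  have hLne : L ≠ NK c := by
    intro hLeq
    set P := Cfsg.fittingHallOf M with hPdef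
    have hPK : P ≤ ⁅M, M⁆ := TP.fit_le_derived c.side.typeP
    have hnP : M ≤ normalizer (P : Set G) := Basic.le_normalizer_fittingHallOf
    haveI : (P.subgroupOf ⁅M, M⁆).Normal :=
      (normal_subgroupOf_iff_le_normalizer hPK).mpr ((derived_le M).trans hnP)
    haveI := c.side.typeP.U_nilpotent
    have hsurj : Function.Surjective ((QuotientGroup.mk' (P.subgroupOf ⁅M, M⁆)).comp
        (Subgroup.inclusion (TP.U_le_derived c.side.typeP))) := fun z => by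
      obtain ⟨k, rfl⟩ := QuotientGroup.mk_surjective z
      obtain ⟨a, ha, b, hb, e⟩ := c.side.typeP.U_compl.2.2.2 k k.2
      refine ⟨⟨b, hb⟩, ?_⟩
      show QuotientGroup.mk' _ (⟨b, _⟩ : ↥⁅M, M⁆) = QuotientGroup.mk' _ k
      rw [QuotientGroup.mk'_eq_mk']
      refine ⟨⟨(b : G)⁻¹ * k, mul_mem (inv_mem (TP.U_le_derived c.side.typeP hb)) k.2⟩, ?_, ?_⟩
      · rw [mem_subgroupOf]
        show (b : G)⁻¹ * k ∈ P
        rw [e, ← mul_assoc]
        have := (mem_normalizer_iff.mp (inv_mem (hnP (TP.U_le c.side.typeP hb))) a).mp ha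
        simpa using this
      · exact Subtype.ext (by simp)
    haveI : Group.IsNilpotent (↥⁅M, M⁆ ⧸ P.subgroupOf ⁅M, M⁆) := Group.nilpotent_of_surjective _ hsurj
    set I := (NK c).map (QuotientGroup.mk' (P.subgroupOf ⁅M, M⁆)) with hI
    have hII : ⁅I, ⊤⁆ = I := by
      rw [hI, ← map_top_of_surjective (QuotientGroup.mk' (P.subgroupOf ⁅M, M⁆))
        (QuotientGroup.mk'_surjective _), ← map_commutator, ← hL, hLeq]
    have hlow : ∀ n, I ≤ Subgroup.lowerCentralSeries ⊤ n := by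
      intro n
      induction n with
      | zero => simp
      | succ n ih =>
        rw [Subgroup.lowerCentralSeries_succ, ← hII]
        exact commutator_mono ih le_rfl
    obtain ⟨n, hn⟩ := Subgroup.nilpotent_iff_lowerCentralSeries.mp
      (inferInstance : Group.IsNilpotent (↥⁅M, M⁆ ⧸ P.subgroupOf ⁅M, M⁆))
    have hIbot : I = ⊥ := le_bot_iff.mp ((hlow n).trans hn.le)
    rw [hI, Subgroup.map_eq_bot_iff, QuotientGroup.ker_mk'] at hIbot
    have hNP : NN c = P := le_antisymm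
      (fun x hx => mem_subgroupOf.mp (hIbot (mem_subgroupOf.mpr hx : (⟨x, NN_le c hx⟩ : ↥⁅M, M⁆) ∈ NK c)))
      (fit_le_NN c)
    refine hne ⟨hNP, ?_⟩
    set T := (frattini ↥P).map P.subtype ⊔ ⁅P, U⁆ with hT
    have hPU : ⁅P, U⁆ ≤ P := le_normalizer_iff_commutator_le_left.mp ((TP.U_le c.side.typeP).trans hnP)
    have hTP : T ≤ P := sup_le (map_subtype_le _) hPU
    haveI : Group.IsNilpotent P := Basic.fittingHallOf_isNilpotent
    have hcm : ∀ a ∈ P, ∀ b ∈ P, ⁅a, b⁆ ∈ T := fun a ha b hb => mem_sup_left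
      ⟨⁅(⟨a, ha⟩ : P), ⟨b, hb⟩⁆, Solvable.FrattiniFitting.commutator_le_frattini
        (commutator_mem_commutator (mem_top _) (mem_top _)), rfl⟩
    have hPT : P ≤ T := by
      intro x hx
      have h1 : (⟨x, hPK hx⟩ : ↥⁅M, M⁆) ∈ L := hLeq ▸ mem_subgroupOf.mpr (fit_le_NN c hx)
      have h2 : L ≤ T.subgroupOf ⁅M, M⁆ := commutator_le.mpr fun n hn k _ => by
        obtain ⟨y, hy, u, hu, e⟩ := c.side.typeP.U_compl.2.2.2 k k.2
        have hn' : (n : G) ∈ P := hNP.le (mem_subgroupOf.mp hn)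
        have e2 : ((⁅n, k⁆ : ↥⁅M, M⁆) : G) = ⁅(n : G), y⁆ * (y * ⁅(n : G), u⁆ * y⁻¹) := by
          simp [commutatorElement_def, e, mul_assoc]
        rw [mem_subgroupOf, e2]
        have h3 : ⁅(n : G), u⁆ ∈ T := mem_sup_right (commutator_mem_commutator hn' hu)
        refine mul_mem (hcm _ hn' _ hy) ?_
        rw [show y * ⁅(n : G), u⁆ * y⁻¹ = ⁅y, ⁅(n : G), u⁆⁆ * ⁅(n : G), u⁆ by
          simp [commutatorElement_def, mul_assoc]]
        exact mul_mem (hcm _ hy _ (hTP h3)) h3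
      exact mem_subgroupOf.mp (h2 h1)
    have h4 : (⁅P, U⁆).subgroupOf P = ⊤ := by
      refine frattini_nongenerating (map_injective P.subtype_injective ?_)
      rw [Subgroup.map_sup, subgroupOf_map_subtype, ← MonoidHom.range_eq_map, range_subtype,
        inf_eq_left.mpr hPU, sup_comm]
      exact le_antisymm hTP hPT
    exact subgroupOf_eq_top.mp h4
  have hLle : L ≤ NK c := commutator_le_left _ _
  set A := (NK c).map (QuotientGroup.mk' L) with hA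
  haveI : IsMulCommutative A := ⟨⟨fun a b => by
    obtain ⟨_, n, hn, rfl⟩ := a
    obtain ⟨_, m, hm, rfl⟩ := b
    refine Subtype.ext ?_
    show ((n * m : ↥⁅M, M⁆) : ↥⁅M, M⁆ ⧸ L) = ((m * n : ↥⁅M, M⁆) : ↥⁅M, M⁆ ⧸ L)
    rw [QuotientGroup.eq]
    have e : (n * m)⁻¹ * (m * n) = ⁅m⁻¹, n⁻¹⁆ := by simp [commutatorElement_def, mul_assoc]
    rw [e]
    exact commutator_mem_commutator (inv_mem hm) (mem_top _)⟩⟩
  letI : CommGroup A := { (inferInstance : Group A) with mul_comm := mul_comm' }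
  obtain ⟨n, hn, hnL⟩ := SetLike.exists_of_lt (lt_of_le_of_ne hLle hLne)
  obtain ⟨f, hf⟩ := CommGroup.exists_apply_ne_one_of_hasEnoughRootsOfUnity A ℂ
    (a := ⟨_, n, hn, rfl⟩) fun e => hnL ((QuotientGroup.eq_one_iff n).mp (congrArg Subtype.val e))
  refine ⟨f.comp ((QuotientGroup.mk' L).subgroupMap (NK c)), fun k hk => MonoidHom.ext fun m => ?_,
    fun e => hf (DFunLike.congr_fun e ⟨n, hn⟩)⟩
  rw [SideInd.cjN_apply, MonoidHom.comp_apply, MonoidHom.comp_apply]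
  refine congrArg f (Subtype.ext ?_)
  show (((SideInd.backN (data c) k m : NK c) : ↥⁅M, M⁆) : ↥⁅M, M⁆ ⧸ L) = ((m : ↥⁅M, M⁆) : ↥⁅M, M⁆ ⧸ L)
  rw [QuotientGroup.eq]
  have e : ((SideInd.backN (data c) k m : NK c) : ↥⁅M, M⁆)⁻¹ * m =
      ⁅(⟨k, hk⟩⁻¹ : ↥⁅M, M⁆), (m : ↥⁅M, M⁆)⁻¹⁆ := Subtype.ext (by
    simp [SideInd.backN, commutatorElement_def, mul_assoc])
  rw [e]
  exact (commutator_comm (⊤ : Subgroup ↥⁅M, M⁆) (NK c)).le (commutator_mem_commutator (mem_top _) (inv_mem m.2))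

variable [Fintype ↥⁅M, M⁆]

/-- The induced character. -/
noncomputable def th (φ : V M U) (γ : NK c →* ℂˣ) : ↥⁅M, M⁆ → ℂ :=
  SideInd.theta (lift c φ * γ)

theorem th_one (φ : V M U) (γ : NK c →* ℂˣ) : th c φ γ 1 = (Nat.card (Ub c) : ℂ) := by
  rw [th, SideInd.theta_one (data c), ← index_NK]

theorem th_off (φ : V M U) (γ : NK c →* ℂˣ) {a : ↥⁅M, M⁆} (ha : (a : G) ∉ NN c) : th c φ γ a = 0 :=
  SideInd.theta_off (data c) _ ha

theorem cjN_prod {γ : NK c →* ℂˣ} (hγ : Inv c γ) (φ : V M U) (k : M) (hk : (k : G) ∈ ⁅M, M⁆) :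
    SideInd.cjN (data c) k (lift c φ * γ) = lift c (fa c k φ) * γ := by
  rw [SideInd.cjN_hom, cjN_lift, hγ k hk]

theorem th_irr {γ : NK c →* ℂˣ} (hγ : Inv c γ) {φ : V M U}
    (hφ : ∀ v ∈ Ub c, v φ = φ → v = 1) : Cfsg.IsIrrCharacter ↥⁅M, M⁆ (th c φ γ) :=
  SideInd.theta_irr (data c) fun k hk => by
    rw [cjN_prod c hγ φ ⟨k, derived_le M k.2⟩ k.2] at hk
    exact (mem_NN c).mpr (hφ _ ⟨k, rfl⟩ (lift_injective c (mul_right_cancel hk)))

theorem th_kernel {γ : NK c →* ℂˣ} (hγ : Inv c γ) {φ : V M U} (hφ : φ ≠ 1) :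
    ∃ a : ↥⁅M, M⁆, (a : G) ∈ Cfsg.fittingHallOf M ∧ th c φ γ a ≠ th c φ γ 1 := by
  refine SideInd.theta_kernel (data c) _ (fit_le_NN c)
    ((derived_le M).trans Basic.le_normalizer_fittingHallOf) ?_
  by_contra hn
  push Not at hn
  refine hφ (eq_one_of_commutator c fun z hz => ?_)
  have hzP : z ∈ Cfsg.fittingHallOf M := le_normalizer_iff_commutator_le_left.mp
    ((TP.U_le c.side.typeP).trans Basic.le_normalizer_fittingHallOf) hz
  let n : NK c := ⟨⟨z, TP.fit_le_derived c.side.typeP hzP⟩, mem_subgroupOf.mpr (fit_le_NN c hzP)⟩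
  refine ⟨⟨z, hzP⟩, ?_, rfl⟩
  have h1 := hn n hzP
  rw [MonoidHom.mul_apply, Inv.apply_commutator c hγ (n := n) hz, mul_one,
    lift_fit c (n := n) ⟨z, hzP⟩ rfl] at h1
  exact h1

theorem th_act {γ : NK c →* ℂˣ} (hγ : Inv c γ) (φ : V M U) {v : MulAut (V M U)} (hv : v ∈ Ub c) :
    th c (v φ) γ = th c φ γ := by
  obtain ⟨k, rfl⟩ := hv
  rw [th, fK_apply, ← cjN_prod c hγ φ ⟨k, derived_le M k.2⟩ k.2, SideInd.theta_cjN]
  rfl

theorem th_eq {γ γ' : NK c →* ℂˣ} (hγ : Inv c γ) (hγ' : Inv c γ') {φ φ' : V M U}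
    (e : th c φ γ = th c φ' γ') : γ = γ' ∧ ∃ v ∈ Ub c, φ = v φ' := by
  obtain ⟨k, hk⟩ := SideInd.exists_of_eq (data c) e
  rw [cjN_prod c hγ' φ' ⟨k, derived_le M k.2⟩ k.2] at hk
  set ψ := fa c ⟨k, derived_le M k.2⟩ φ' with hψ
  have h1 : φ = ψ := by
    rw [← div_eq_one]
    refine eq_one_of_commutator c fun z hz => ?_
    have hzP : z ∈ Cfsg.fittingHallOf M := le_normalizer_iff_commutator_le_left.mp
      ((TP.U_le c.side.typeP).trans Basic.le_normalizer_fittingHallOf) hz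
    let n : NK c := ⟨⟨z, TP.fit_le_derived c.side.typeP hzP⟩, mem_subgroupOf.mpr (fit_le_NN c hzP)⟩
    refine ⟨⟨z, hzP⟩, ?_, rfl⟩
    have h2 := DFunLike.congr_fun hk n
    rw [MonoidHom.mul_apply, MonoidHom.mul_apply, Inv.apply_commutator c hγ (n := n) hz,
      Inv.apply_commutator c hγ' (n := n) hz, mul_one, mul_one,
      lift_fit c (n := n) ⟨z, hzP⟩ rfl, lift_fit c (n := n) ⟨z, hzP⟩ rfl] at h2
    show (φ / ψ).1 ⟨z, hzP⟩ = 1
    rw [Subgroup.coe_div, MonoidHom.div_apply, h2, div_self']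
  rw [← h1] at hk
  exact ⟨mul_left_cancel hk, _, ⟨k, rfl⟩, h1⟩

/-- Moving by an element of `M`. -/
theorem th_move (φ : V M U) (γ : NK c →* ℂˣ) (w : M) {a b : ↥⁅M, M⁆}
    (hb : (b : G) = (w : G) * a * (w : G)⁻¹) :
    th c (fa c w⁻¹ φ) (SideInd.cjN (data c) w⁻¹ γ) a = th c φ γ b := by
  rw [th, th, ← cjN_lift, ← SideInd.cjN_hom]
  exact SideInd.theta_move (data c) _ w hb

end CfsgLib.OddOrder.Final.SideLift
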