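import Cfsg.Agent.Lib.OddOrder.Final.PairFacts
import Cfsg.Agent.Lib.Char.Clifford
import Cfsg.Agent.S1513

/-!
Characters induced from the derived subgroup of a maximal subgroup of type P.
-/

set_option autoImplicit false

namespace CfsgLib.OddOrder.Final.SideInduce

open CfsgLib.Char

variable {G : Type*} [Group G] (M : Subgroup G)

/-- `M'` as a subgroup of `M`. -/
abbrev Km : Subgroup M := (⁅M, M⁆ : Subgroup G).subgroupOf M

/-- A function on `M'`, on the subgroup of `M`. -/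
def res (θ : ↥⁅M, M⁆ → ℂ) : Km M → ℂ := fun a => θ ⟨((a : M) : G), a.2⟩

variable {M}

theorem res_apply (θ : ↥⁅M, M⁆ → ℂ) (a : Km M) : res M θ a = θ ⟨((a : M) : G), a.2⟩ := rfl

section

variable [Finite G]

instance Km_normal : (Km M).Normal :=
  ⟨fun n hn g => Subgroup.mem_subgroupOf.mpr
    ((Subgroup.mem_normalizer_iff.mp (DadeSets.derived_normal g.2) _).mp (Subgroup.mem_subgroupOf.mp hn))⟩

theorem res_irr {θ : ↥⁅M, M⁆ → ℂ} (hθ : Cfsg.IsIrrCharacter ↥⁅M, M⁆ θ) :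
    Cfsg.IsIrrCharacter (Km M) (res M θ) :=
  IsIrrCharacter.comp_equiv hθ (Subgroup.subgroupOfEquivOfLe (derived_le M))

theorem res_injective : Function.Injective (res M) := fun θ φ h => funext fun a => by
  simpa [res_apply] using congrFun h ⟨⟨a, derived_le M a.2⟩, Subgroup.mem_subgroupOf.mpr a.2⟩

theorem conjG_res (θ : ↥⁅M, M⁆ → ℂ) (g : M) (a : Km M) :
    conjG (res M θ) g a =
      θ ⟨(g : G) * ((a : M) : G) * (g : G)⁻¹,
        (Subgroup.mem_normalizer_iff.mp (DadeSets.derived_normal g.2) _).mp a.2⟩ := rfl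

variable [Fintype M]

open Classical in
/-- The character induced to `M`. -/
noncomputable def ind (θ : ↥⁅M, M⁆ → ℂ) : M → ℂ := Cfsg.indFun (Km M) (res M θ)

theorem ind_classFunction (θ : ↥⁅M, M⁆ → ℂ) : Cfsg.IsClassFunction M (ind θ) := indFun_isClassFunction _ _

theorem ind_off (θ : ↥⁅M, M⁆ → ℂ) {x : M} (hx : (x : G) ∉ ⁅M, M⁆) : ind θ x = 0 :=
  indFun_eq_zero_of_normal _ _ fun h => hx (Subgroup.mem_subgroupOf.mp h)

variable {W₁ U W₂ : Subgroup G} (hP : Cfsg.IsTypePWith M W₁ U W₂)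
include hP

theorem index_Km : (Km M).index = Nat.card W₁ := Basic.IsComplIn.relIndex_left hP.W₁_compl

theorem card_mul : Nat.card M = Nat.card W₁ * Nat.card (Km M) := by
  rw [← index_Km hP, Subgroup.index_mul_card]

theorem ind_one (θ : ↥⁅M, M⁆ → ℂ) : ind θ 1 = (Nat.card W₁ : ℂ) * θ 1 := by
  rw [ind, indFun_one, index_Km hP]
  rfl

/-- Every element of `M` is a product of an element of `M'` and one of `W₁`. -/
theorem exists_mul (g : M) : ∃ k w : M, (k : G) ∈ ⁅M, M⁆ ∧ (w : G) ∈ W₁ ∧ g = k * w := by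
  obtain ⟨a, ha, b, hb, e⟩ := hP.W₁_compl.2.2.2 g g.2
  exact ⟨⟨a, derived_le M ha⟩, ⟨b, TP.W₁_le hP hb⟩, ha, hb, Subtype.ext e⟩

/-- A conjugate by an element of `M` is a conjugate by an element of `W₁`. -/
theorem conjG_eq {θ : ↥⁅M, M⁆ → ℂ} (hθ : Cfsg.IsIrrCharacter ↥⁅M, M⁆ θ) (g : M) :
    ∃ w : M, (w : G) ∈ W₁ ∧ conjG (res M θ) g = conjG (res M θ) w := by
  obtain ⟨k, w, hk, hw, rfl⟩ := exists_mul hP g
  refine ⟨w, hw, ?_⟩
  rw [← conjG_mul, conjG_of_mem (IsIrrCharacter.isClassFunction (res_irr hθ)) (Subgroup.mem_subgroupOf.mpr hk)]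

/-- `θ` is fixed by `W₁`. -/
def Fixed (W : Subgroup G) (θ : ↥⁅M, M⁆ → ℂ) : Prop :=
  ∀ w ∈ W, ∀ a b : ↥⁅M, M⁆, (b : G) = w * a * w⁻¹ → θ a = θ b

omit [Fintype M] in
theorem fixed_iff (θ : ↥⁅M, M⁆ → ℂ) :
    Fixed W₁ θ ↔ ∀ w : M, (w : G) ∈ W₁ → conjG (res M θ) w = res M θ := by
  constructor
  · intro h w hw
    funext a
    rw [conjG_res, res_apply]
    exact (h w hw _ _ rfl).symm
  · intro h w hw a b hb
    have e := congrFun (h ⟨w, TP.W₁_le hP hw⟩ hw) ⟨⟨a, derived_le M a.2⟩, Subgroup.mem_subgroupOf.mpr a.2⟩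
    rw [conjG_res, res_apply] at e
    rw [← e]
    exact congrArg θ (Subtype.ext (by simpa using hb.symm))

theorem card_stab_fixed {θ : ↥⁅M, M⁆ → ℂ} (hθ : Cfsg.IsIrrCharacter ↥⁅M, M⁆ θ) (hf : Fixed W₁ θ) :
    Nat.card (stab (res M θ)) = Nat.card M := by
  rw [show stab (res M θ) = ⊤ from top_le_iff.mp fun g _ => by
    obtain ⟨w, hw, e⟩ := conjG_eq hP hθ g
    rw [mem_stab, e]
    exact (fixed_iff hP θ).mp hf w hw, Subgroup.card_top]

theorem stab_eq {θ : ↥⁅M, M⁆ → ℂ} (hθ : Cfsg.IsIrrCharacter ↥⁅M, M⁆ θ) (hq : (Nat.card W₁).Prime)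
    (hf : ¬ Fixed W₁ θ) : stab (res M θ) = Km M := by
  have hle : Km M ≤ stab (res M θ) := le_stab (IsIrrCharacter.isClassFunction (res_irr hθ))
  have h := Subgroup.relIndex_mul_index hle
  rw [index_Km hP] at h
  rcases (Nat.dvd_prime hq).mp (Dvd.intro_left _ h) with h1 | h1
  · refine absurd ((fixed_iff hP θ).mpr fun w _ => mem_stab.mp ?_) hf
    rw [Subgroup.index_eq_one.mp h1]
    exact Subgroup.mem_top w
  · rw [h1] at h
    have h2 : (Km M).relIndex (stab (res M θ)) = 1 :=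
      Nat.eq_of_mul_eq_mul_right hq.pos (by rw [h, one_mul])
    exact le_antisymm (Subgroup.relIndex_eq_one.mp h2) hle

theorem inner_fixed [Fintype G] {θ : ↥⁅M, M⁆ → ℂ} (hθ : Cfsg.IsIrrCharacter ↥⁅M, M⁆ θ) (hf : Fixed W₁ θ) :
    Cfsg.classInner (ind θ) (ind θ) = (Nat.card W₁ : ℂ) := by
  classical
  rw [ind, classInner_indFun_irr (res_irr hθ) (res_irr hθ),
    show Nat.card {g : M // conjG (res M θ) g = res M θ} = Nat.card (stab (res M θ)) from rfl,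
    card_stab_fixed hP hθ hf, card_mul hP, Nat.cast_mul,
    mul_div_assoc, div_self (Nat.cast_ne_zero.mpr Nat.card_pos.ne'), mul_one]

theorem inner_moved {θ : ↥⁅M, M⁆ → ℂ} (hθ : Cfsg.IsIrrCharacter ↥⁅M, M⁆ θ) (hq : (Nat.card W₁).Prime)
    (hf : ¬ Fixed W₁ θ) : Cfsg.classInner (ind θ) (ind θ) = 1 := by
  classical
  rw [ind, classInner_indFun_irr (res_irr hθ) (res_irr hθ),
    show Nat.card {g : M // conjG (res M θ) g = res M θ} = Nat.card (stab (res M θ)) from rfl,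
    stab_eq hP hθ hq hf, div_self (Nat.cast_ne_zero.mpr Nat.card_pos.ne')]

theorem ind_irr {θ : ↥⁅M, M⁆ → ℂ} (hθ : Cfsg.IsIrrCharacter ↥⁅M, M⁆ θ) (hq : (Nat.card W₁).Prime)
    (hf : ¬ Fixed W₁ θ) : Cfsg.IsIrrCharacter M (ind θ) := by
  classical
  exact IsCharacter.isIrrCharacter_of_norm_one
    (IsCharacter.indFun _ (IsIrrCharacter.isCharacter (res_irr hθ))) (inner_moved hP hθ hq hf)

theorem inner_eq_zero {θ φ : ↥⁅M, M⁆ → ℂ} (hθ : Cfsg.IsIrrCharacter ↥⁅M, M⁆ θ)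
    (hφ : Cfsg.IsIrrCharacter ↥⁅M, M⁆ φ) (h : ∀ w : M, (w : G) ∈ W₁ → res M θ ≠ conjG (res M φ) w) :
    Cfsg.classInner (ind θ) (ind φ) = 0 := by
  classical
  refine classInner_indFun_eq_zero (res_irr hθ) (res_irr hφ) fun g e => ?_
  obtain ⟨w, hw, e'⟩ := conjG_eq hP hφ g
  exact h w hw (e.trans e')

/-- A fixed character is not conjugate to another one. -/
theorem ne_of_fixed {θ φ : ↥⁅M, M⁆ → ℂ} (hf : Fixed W₁ θ) (h : θ ≠ φ) (w : M) (hw : (w : G) ∈ W₁) :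
    res M θ ≠ conjG (res M φ) w := by
  intro e
  refine h (res_injective ?_)
  calc res M θ = conjG (res M θ) w⁻¹ := ((fixed_iff hP θ).mp hf w⁻¹ (W₁.inv_mem hw)).symm
    _ = res M φ := by rw [e, conjG_mul, mul_inv_cancel, conjG_one]

theorem ind_eq_iff {θ φ : ↥⁅M, M⁆ → ℂ} (hθ : Cfsg.IsIrrCharacter ↥⁅M, M⁆ θ)
    (hφ : Cfsg.IsIrrCharacter ↥⁅M, M⁆ φ) :
    ind θ = ind φ ↔ ∃ w : M, (w : G) ∈ W₁ ∧ res M θ = conjG (res M φ) w := by
  classical
  constructor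
  · intro e
    by_contra hn
    push Not at hn
    have h0 := inner_eq_zero hP hθ hφ hn
    rw [← e, classInner_self_eq_zero] at h0
    have h1 := ind_one hP θ
    rw [h0, Pi.zero_apply, eq_comm, mul_eq_zero] at h1
    exact h1.elim (Nat.cast_ne_zero.mpr Nat.card_pos.ne') (IsIrrCharacter.apply_one_ne_zero hθ)
  · rintro ⟨w, -, e⟩
    rw [ind, ind, e, indFun_conjG]

/-- The number of irreducible characters of `M'` fixed by `W₁`. -/
theorem card_fixed (hodd : Odd (Nat.card ↥(W₁ ⊔ W₂))) :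
    Nat.card {θ : ↥⁅M, M⁆ → ℂ // Cfsg.IsIrrCharacter ↥⁅M, M⁆ θ ∧ Fixed W₁ θ} = Nat.card W₂ := by
  classical
  have hW1 : W₁ ≤ M := TP.W₁_le hP
  have hW2 : W₂ ≤ M := TP.W₂_le_M hP
  have h1 : Km M ⊓ W₁.subgroupOf M = ⊥ := by
    refine le_bot_iff.mp fun x hx => Subgroup.mem_bot.mpr (Subtype.ext (Subgroup.mem_bot.mp
      (hP.W₁_compl.2.2.1.le ⟨hx.1, hx.2⟩)))
  have h2 : Km M ⊔ W₁.subgroupOf M = ⊤ := top_le_iff.mp fun g _ => by
    obtain ⟨k, w, hk, hw, rfl⟩ := exists_mul hP g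
    exact mul_mem (Subgroup.mem_sup_left (Subgroup.mem_subgroupOf.mpr hk))
      (Subgroup.mem_sup_right (Subgroup.mem_subgroupOf.mpr hw))
  have hne : ∀ {H : Subgroup G}, H ≤ M → H ≠ ⊥ → H.subgroupOf M ≠ ⊥ := fun hle hH e =>
    hH (by rw [Subgroup.subgroupOf_eq_bot, disjoint_iff, inf_eq_left.mpr hle] at e; exact e)
  haveI := hP.W₁_cyclic
  have hc : ∀ {H : Subgroup G}, H ≤ M → IsCyclic H → IsCyclic (H.subgroupOf M) := fun hle hH =>
    (Subgroup.subgroupOfEquivOfLe hle).isCyclic.mpr hH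
  have hW2c : IsCyclic W₂ := by
    haveI := hP.selfNormalizing.2.2.2.2.1
    exact isCyclic_of_injective (Subgroup.inclusion (le_sup_right : W₂ ≤ W₁ ⊔ W₂))
      (Subgroup.inclusion_injective le_sup_right)
  have hHall : Nat.Coprime (Nat.card (W₁.subgroupOf M)) (W₁.subgroupOf M).index := by
    rw [Nat.card_congr (Subgroup.subgroupOfEquivOfLe hW1).toEquiv]
    exact hP.W₁_hall
  have hC : ∀ x ∈ W₁.subgroupOf M, x ≠ 1 →
      Km M ⊓ Subgroup.centralizer ({x} : Set M) = W₂.subgroupOf M := by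
    intro x hx hx1
    have e := hP.W₂_centralizer x hx fun e => hx1 (Subtype.ext e)
    ext y
    rw [Subgroup.mem_inf, Subgroup.mem_subgroupOf, Subgroup.mem_subgroupOf, ← e, Subgroup.mem_inf,
      Subgroup.mem_centralizer_singleton_iff, Subgroup.mem_centralizer_singleton_iff]
    exact and_congr_right fun _ => Subtype.ext_iff
  have hodd' : Odd (Nat.card ↥(W₁.subgroupOf M ⊔ W₂.subgroupOf M)) := by
    rw [← Subgroup.subgroupOf_sup hW1 hW2, Nat.card_congr (Subgroup.subgroupOfEquivOfLe (sup_le hW1 hW2)).toEquiv]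
    exact hodd
  have h := (Cfsg.Agent.S1513.result (Km M) (W₁.subgroupOf M) (W₂.subgroupOf M) h1 h2 (hne hW1 hP.W₁_ne)
    (hc hW1 hP.W₁_cyclic) hHall (hne hW2 hP.selfNormalizing.2.1) (hc hW2 hW2c)
    (fun a ha => TP.W₂_le_derived hP ha) hC hodd').2.1
  rw [Nat.card_congr (Subgroup.subgroupOfEquivOfLe hW2).toEquiv] at h
  rw [← h]
  let e := Subgroup.subgroupOfEquivOfLe (derived_le M)
  refine Nat.card_congr (Equiv.ofBijective (fun θ => ⟨⟨res M θ.1, res_irr θ.2.1⟩, fun x hx =>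
    (fixed_iff hP θ.1).mp θ.2.2 x hx⟩) ⟨fun θ φ he => Subtype.ext (res_injective ?_), fun φ => ?_⟩)
  · exact congrArg (fun z => (z.1 : Km M → ℂ)) he
  · have hres : res M ((φ.1 : Km M → ℂ) ∘ e.symm) = (φ.1 : Km M → ℂ) := funext fun a => by
      show (φ.1 : Km M → ℂ) (e.symm (e a)) = _
      rw [e.symm_apply_apply]
    refine ⟨⟨(φ.1 : Km M → ℂ) ∘ e.symm, IsIrrCharacter.comp_equiv φ.1.2 e.symm,
      (fixed_iff hP _).mpr fun w hw => ?_⟩, Subtype.ext (Subtype.ext hres)⟩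
    rw [hres]
    exact φ.2 w hw

end

end CfsgLib.OddOrder.Final.SideInduce
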