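import Mathlib

set_option autoImplicit false

/-!
An abelian group of automorphisms of `V`, of order prime to `p`, normalised by an automorphism `σ` of prime
order `q` without fixed points on it, when `V` has order `p ^ q` and `σ` has `p` fixed points: a set of
regular vectors closed under both and containing the fixed vectors of `σ`.
-/

namespace CfsgLib.OddOrder.Final.SideModule

variable {V : Type*} [CommGroup V] {p q : ℕ}

/-- The scalar automorphisms. -/
def scal (hpow : ∀ x : V, x ^ p = 1) [NeZero p] : (ZMod p)ˣ →* MulAut V where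
  toFun a :=
    { toFun := fun x => x ^ (a : ZMod p).val
      invFun := fun x => x ^ ((a⁻¹ : (ZMod p)ˣ) : ZMod p).val
      left_inv := fun x => by
        rcases Nat.lt_or_ge 1 p with h | h
        · haveI : Fact (1 < p) := ⟨h⟩
          show (x ^ _) ^ _ = x
          rw [← pow_mul, pow_eq_pow_mod _ (hpow x), ← ZMod.val_mul, a.mul_inv, ZMod.val_one, pow_one]
        · obtain rfl : p = 1 := by have := NeZero.ne p; omega
          have := hpow x
          rw [pow_one] at this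
          simp [this]
      right_inv := fun x => by
        rcases Nat.lt_or_ge 1 p with h | h
        · haveI : Fact (1 < p) := ⟨h⟩
          show (x ^ _) ^ _ = x
          rw [← pow_mul, pow_eq_pow_mod _ (hpow x), ← ZMod.val_mul, a.inv_mul, ZMod.val_one, pow_one]
        · obtain rfl : p = 1 := by have := NeZero.ne p; omega
          have := hpow x
          rw [pow_one] at this
          simp [this]
      map_mul' := fun x y => mul_pow x y _ }
  map_one' := by
    ext x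
    rcases Nat.lt_or_ge 1 p with h | h
    · haveI : Fact (1 < p) := ⟨h⟩
      simp [ZMod.val_one]
    · obtain rfl : p = 1 := by have := NeZero.ne p; omega
      have := hpow x
      rw [pow_one] at this
      simp [this]
  map_mul' a b := by
    ext x
    show x ^ ((a * b : (ZMod p)ˣ) : ZMod p).val = (x ^ (b : ZMod p).val) ^ (a : ZMod p).val
    rw [← pow_mul, pow_eq_pow_mod _ (hpow x), pow_eq_pow_mod ((b : ZMod p).val * _) (hpow x), Units.val_mul,
      ZMod.val_mul, Nat.mod_mod, mul_comm]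

theorem scal_apply (hpow : ∀ x : V, x ^ p = 1) [NeZero p] (a : (ZMod p)ˣ) (x : V) :
    scal hpow a x = x ^ (a : ZMod p).val := rfl

theorem map_scal (hpow : ∀ x : V, x ^ p = 1) [NeZero p] (e : MulAut V) (a : (ZMod p)ˣ) (x : V) :
    e (scal hpow a x) = scal hpow a (e x) := map_pow e x _

/-- A group acting freely on a finite invariant set has order dividing its size. -/
theorem card_dvd {H : Type*} [Group H] (f : H →* MulAut V) (R : Set V) (hR : ∀ h, ∀ x ∈ R, f h x ∈ R)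
    (free : ∀ x ∈ R, ∀ h, f h x = x → h = 1) : Nat.card H ∣ Nat.card R := by
  letI : MulAction H R :=
    { smul := fun h x => ⟨f h x, hR h x x.2⟩
      one_smul := fun x => Subtype.ext (show f 1 (x : V) = x by simp)
      mul_smul := fun g h x => Subtype.ext (show f (g * h) (x : V) = f g (f h x) by simp) }
  have hs : ∀ b : R, MulAction.stabilizer H b = ⊥ := fun b => eq_bot_iff.mpr fun h hh =>
    Subgroup.mem_bot.mpr (free b b.2 h (congrArg Subtype.val (MulAction.mem_stabilizer_iff.mp hh)))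
  rw [Nat.card_congr (MulAction.selfEquivOrbitsQuotientProd hs), Nat.card_prod]
  exact Dvd.intro_left _ rfl

/-- An abelian group acting regularly on the nontrivial elements is cyclic. -/
theorem isCyclic_of_regular [Finite V] {H : Type*} [CommGroup H] [Finite H] (f : H →* MulAut V) {x₀ : V}
    (hx₀ : x₀ ≠ 1) (free : ∀ h, f h x₀ = x₀ → h = 1) (htr : ∀ y, y ≠ 1 → ∃ h, f h x₀ = y) : IsCyclic H := by
  let e : H →* AddMonoid.End (Additive V) :=
    { toFun := fun h => MonoidHom.toAdditive (f h).toMonoidHom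
      map_one' := DFunLike.ext _ _ fun x => show Additive.ofMul (f 1 x.toMul) = x by simp
      map_mul' := fun g h => DFunLike.ext _ _ fun x =>
        show Additive.ofMul (f (g * h) x.toMul) = Additive.ofMul (f g (f h x.toMul)) by simp }
  have he : ∀ h (x : Additive V), e h x = Additive.ofMul (f h x.toMul) := fun _ _ => rfl
  have hinj : Function.Injective e := fun g h hgh => by
    have h1 : f g x₀ = f h x₀ := congrArg Additive.toMul (DFunLike.congr_fun hgh (Additive.ofMul x₀))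
    rw [← inv_mul_eq_one]
    refine free _ ?_
    rw [map_mul, MulAut.mul_apply, map_inv, ← h1, MulAut.inv_apply, MulEquiv.symm_apply_apply]
  set A := Subring.centralizer (Set.range e) with hA
  have hcen : ∀ a ∈ A, ∀ h (x : Additive V), a (e h x) = e h (a x) := fun a ha h x =>
    (DFunLike.congr_fun (Subring.mem_centralizer_iff.mp ha (e h) ⟨h, rfl⟩) x).symm
  have hex : ∀ x : Additive V, x ≠ 0 → ∃ h, e h (Additive.ofMul x₀) = x := fun x hx => by
    obtain ⟨h, hh⟩ := htr x.toMul fun e1 => hx e1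
    exact ⟨h, hh⟩
  have hdet : ∀ a ∈ A, ∀ b ∈ A, a (Additive.ofMul x₀) = b (Additive.ofMul x₀) → a = b := by
    intro a ha b hb hab
    refine DFunLike.ext _ _ fun x => ?_
    rcases eq_or_ne x 0 with rfl | hx
    · rw [map_zero, map_zero]
    obtain ⟨h, rfl⟩ := hex x hx
    rw [hcen a ha, hcen b hb, hab]
  have heA : ∀ h, e h ∈ A := fun h => Subring.mem_centralizer_iff.mpr (by
    rintro _ ⟨g, rfl⟩
    rw [← map_mul, ← map_mul, mul_comm])
  have hform : ∀ a ∈ A, a = 0 ∨ ∃ h, a = e h := by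
    intro a ha
    rcases eq_or_ne (a (Additive.ofMul x₀)) 0 with h0 | h0
    · exact Or.inl (hdet a ha 0 A.zero_mem h0)
    · obtain ⟨h, hh⟩ := hex _ h0
      exact Or.inr ⟨h, hdet a ha _ (heA h) hh.symm⟩
  have hne : e 1 ≠ 0 := fun h => hx₀ (by
    have := DFunLike.congr_fun h (Additive.ofMul x₀)
    rw [he] at this
    simpa using congrArg Additive.toMul this)
  letI : CommRing A :=
    { (inferInstance : Ring A) with
      mul_comm := by
        rintro ⟨a, ha⟩ ⟨b, hb⟩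
        rcases hform a ha with rfl | ⟨g, rfl⟩
        · exact Subtype.ext (by simp)
        · exact Subtype.ext (Subring.mem_centralizer_iff.mp hb _ ⟨g, rfl⟩) }
  haveI : Nontrivial A := ⟨⟨1, 0, fun h => hne (by rw [map_one]; exact congrArg Subtype.val h)⟩⟩
  haveI : NoZeroDivisors A := ⟨by
    rintro ⟨a, ha⟩ ⟨b, hb⟩ hab
    have hab' : a * b = 0 := congrArg Subtype.val hab
    rcases hform a ha with rfl | ⟨g, rfl⟩
    · exact Or.inl rfl
    · refine Or.inr (Subtype.ext ?_)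
      have := congrArg (e g⁻¹ * ·) hab'
      simpa [← mul_assoc, ← map_mul] using this⟩
  haveI : IsDomain A := NoZeroDivisors.to_isDomain A
  refine isCyclic_of_injective_ringHom (e.codRestrict A.toSubmonoid heA : H →* A) fun g h hgh => ?_
  exact hinj (congrArg Subtype.val hgh)

section Module

variable {Ub : Subgroup (MulAut V)} {σ : MulAut V}

theorem conj_pow_mem (hnorm : ∀ u ∈ Ub, σ * u * σ⁻¹ ∈ Ub) (n : ℕ) {u : MulAut V} (hu : u ∈ Ub) :
    σ ^ n * u * (σ ^ n)⁻¹ ∈ Ub := by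
  induction n with
  | zero => simpa using hu
  | succ n ih => simpa [pow_succ', mul_inv_rev, mul_assoc] using hnorm _ ih

theorem conj_pow_mem' (hσ : σ ^ q = 1) (hq : 0 < q) (hnorm : ∀ u ∈ Ub, σ * u * σ⁻¹ ∈ Ub) (n : ℕ)
    {u : MulAut V} (hu : u ∈ Ub) : (σ ^ n)⁻¹ * u * σ ^ n ∈ Ub := by
  have h : (σ ^ n)⁻¹ = σ ^ (q * n - n) := by
    refine inv_eq_of_mul_eq_one_left ?_
    rw [← pow_add, Nat.sub_add_cancel (Nat.le_mul_of_pos_left n hq), pow_mul, hσ, one_pow]
  have := conj_pow_mem hnorm (q * n - n) hu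
  rwa [← h, inv_inv] at this

theorem eq_one_of_commute_pow (hq : q.Prime) (hσ : σ ^ q = 1) (hfpf : ∀ u ∈ Ub, σ * u = u * σ → u = 1)
    {i : ℕ} (hi : ¬ q ∣ i) {u : MulAut V} (hu : u ∈ Ub) (h : Commute (σ ^ i) u) : u = 1 := by
  obtain ⟨j, hj⟩ := exists_pow_eq_self_of_coprime (n := i) (x := σ)
    (((hq.coprime_iff_not_dvd).mpr hi).symm.coprime_dvd_right (orderOf_dvd_of_pow_eq_one hσ))
  have := h.pow_left j
  rw [hj] at this
  exact hfpf u hu this.eq

variable [Finite V]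

/-- An invariant subgroup containing the fixed points of `σ` on an invariant `W` contains `W`. -/
theorem le_of_fixed_le (hq : q.Prime) (hσ : σ ^ q = 1) (hnorm : ∀ u ∈ Ub, σ * u * σ⁻¹ ∈ Ub)
    (hfpf : ∀ u ∈ Ub, σ * u = u * σ → u = 1) (hcopV : (Nat.card Ub).Coprime (Nat.card V))
    (hU : ∀ x : V, (∀ u ∈ Ub, u x = x) → x = 1) (W W' : Subgroup V) (hWu : ∀ u ∈ Ub, ∀ x ∈ W, u x ∈ W)
    (hWs : ∀ x ∈ W, σ x ∈ W) (hW' : ∀ u ∈ Ub, ∀ x ∈ W', u x ∈ W') (hfix : ∀ y ∈ W, σ y = y → y ∈ W') :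
    W ≤ W' := by
  classical
  intro x hx
  letI : Fintype Ub := Fintype.ofFinite Ub
  have hpw : ∀ i, ∀ y ∈ W, (σ ^ i) y ∈ W := by
    intro i
    induction i with
    | zero => simp
    | succ i ih => intro y hy; rw [pow_succ']; exact hWs _ (ih y hy)
  have horb : ∀ u : Ub, (u : MulAut V) (∏ i ∈ Finset.range q, (σ ^ i) ((u : MulAut V)⁻¹ x)) ∈ W' := by
    intro u
    set y := (u : MulAut V)⁻¹ x with hy
    have hyW : y ∈ W := hWu _ (inv_mem u.2) _ hx
    set z := ∏ i ∈ Finset.range q, (σ ^ i) y with hz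
    have hfz : σ z = z := by
      rw [hz, map_prod]
      have h3 := Finset.prod_range_succ' (fun i => (σ ^ i) y) q
      rw [Finset.prod_range_succ (fun i => (σ ^ i) y) q, hσ, pow_zero] at h3
      refine Eq.trans ?_ (mul_right_cancel h3).symm
      exact Finset.prod_congr rfl fun i _ => by rw [pow_succ']; rfl
    exact hW' _ u.2 _ (hfix _ (Subgroup.prod_mem W fun i _ => hpw i y hyW) hfz)
  have hall : ∏ i ∈ Finset.range q, ∏ u : Ub, ((u : MulAut V) * σ ^ i * (u : MulAut V)⁻¹) x ∈ W' := by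
    rw [Finset.prod_comm]
    refine Subgroup.prod_mem W' fun u _ => ?_
    have := horb u
    rw [map_prod] at this
    exact this
  have hrest : ∀ i ∈ (Finset.range q).erase 0, ∏ u : Ub, ((u : MulAut V) * σ ^ i * (u : MulAut V)⁻¹) x = 1 := by
    intro i hi
    rw [Finset.mem_erase, Finset.mem_range] at hi
    have hd : ¬ q ∣ i := fun h => absurd (Nat.le_of_dvd (by omega) h) (by omega)
    let g : Ub → Ub := fun u => ⟨(u : MulAut V) * (σ ^ i * (u : MulAut V)⁻¹ * (σ ^ i)⁻¹),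
      mul_mem u.2 (conj_pow_mem hnorm i (inv_mem u.2))⟩
    have hg : Function.Injective g := by
      intro a b hab
      have h : (a : MulAut V) * σ ^ i * (a : MulAut V)⁻¹ = b * σ ^ i * (b : MulAut V)⁻¹ := by
        refine mul_right_cancel (b := (σ ^ i)⁻¹) ?_
        simpa [g, mul_assoc] using congrArg Subtype.val hab
      have hc : Commute (σ ^ i) ((b : MulAut V)⁻¹ * a) := by
        show σ ^ i * ((b : MulAut V)⁻¹ * a) = (b : MulAut V)⁻¹ * a * σ ^ i
        calc σ ^ i * ((b : MulAut V)⁻¹ * a) = (b : MulAut V)⁻¹ * (b * σ ^ i * (b : MulAut V)⁻¹) * a := by group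
          _ = (b : MulAut V)⁻¹ * (a * σ ^ i * (a : MulAut V)⁻¹) * a := by rw [h]
          _ = _ := by group
      exact Subtype.ext (inv_mul_eq_one.mp (eq_one_of_commute_pow hq hσ hfpf hd (mul_mem (inv_mem b.2) a.2) hc)).symm
    have e : ∏ u : Ub, ((u : MulAut V) * σ ^ i * (u : MulAut V)⁻¹) x = ∏ v : Ub, (v : MulAut V) ((σ ^ i) x) := by
      refine Fintype.prod_equiv (Equiv.ofBijective g (Finite.injective_iff_bijective.mp hg)) _ _ fun u => ?_
      show _ = ((u : MulAut V) * (σ ^ i * (u : MulAut V)⁻¹ * (σ ^ i)⁻¹) * σ ^ i) x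
      congr 1
      group
    rw [e]
    refine hU _ fun c hc => ?_
    rw [map_prod]
    exact Fintype.prod_equiv (Equiv.mulLeft (⟨c, hc⟩ : Ub)) _ _ fun v => rfl
  rw [← Finset.prod_erase_mul _ _ (Finset.mem_range.mpr hq.pos), Finset.prod_eq_one hrest, one_mul] at hall
  have h0 : ∏ u : Ub, ((u : MulAut V) * σ ^ 0 * (u : MulAut V)⁻¹) x = x ^ Nat.card Ub := by
    simp [Nat.card_eq_fintype_card]
  rw [h0] at hall
  obtain ⟨j, hj⟩ := exists_pow_eq_self_of_coprime (n := Nat.card Ub) (x := x)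
    (hcopV.coprime_dvd_right (orderOf_dvd_natCard x))
  exact hj ▸ W'.pow_mem hall j

/-- **Irreducibility.** -/
theorem irreducible (hp : p.Prime) (hq : q.Prime) (hσ : σ ^ q = 1) (hnorm : ∀ u ∈ Ub, σ * u * σ⁻¹ ∈ Ub)
    (hfpf : ∀ u ∈ Ub, σ * u = u * σ → u = 1) (hcopV : (Nat.card Ub).Coprime (Nat.card V))
    (hcent : Nat.card {x : V // σ x = x} = p) (hU : ∀ x : V, (∀ u ∈ Ub, u x = x) → x = 1) (W : Subgroup V)
    (hWu : ∀ u ∈ Ub, ∀ x ∈ W, u x ∈ W) (hWs : ∀ x ∈ W, σ x ∈ W) (hW : W ≠ ⊥) : W = ⊤ := by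
  let F : Subgroup V :=
    { carrier := {x | σ x = x}
      one_mem' := map_one σ
      mul_mem' := fun {a b} ha hb => by simp_all
      inv_mem' := fun {a} ha => by simp_all }
  haveI : Fact p.Prime := ⟨hp⟩
  have hFW : ∀ y, σ y = y → y ∈ W := by
    obtain ⟨y, hyW, hy, hy1⟩ : ∃ y ∈ W, σ y = y ∧ y ≠ 1 := by
      by_contra h
      push Not at h
      exact hW (eq_bot_iff.mpr (le_of_fixed_le hq hσ hnorm hfpf hcopV hU W ⊥ hWu hWs
        (fun u _ x hx => by simp [Subgroup.mem_bot.mp hx]) fun y hyW hy => Subgroup.mem_bot.mpr (h y hyW hy)))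
    intro z hz
    have hm : (⟨z, hz⟩ : F) ∈ Subgroup.zpowers (⟨y, hy⟩ : F) := by
      rw [zpowers_eq_top_of_prime_card (G := F) hcent fun e => hy1 (congrArg Subtype.val e)]
      exact Subgroup.mem_top _
    obtain ⟨i, hi⟩ := Subgroup.mem_zpowers_iff.mp hm
    rw [← show (y ^ i : V) = z from congrArg Subtype.val hi]
    exact W.zpow_mem hyW i
  exact eq_top_iff.mpr (le_of_fixed_le hq hσ hnorm hfpf hcopV hU ⊤ W (fun _ _ _ _ => trivial)
    (fun _ _ => trivial) hWu fun y _ hy => hFW y hy)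

theorem card_sup_of_inf_eq_bot (A B : Subgroup V) (h : A ⊓ B = ⊥) :
    Nat.card ↥(A ⊔ B) = Nat.card A * Nat.card B := by
  let f : A × B →* V := A.subtype.coprod B.subtype
  have hf : Function.Injective f := by
    refine (injective_iff_map_eq_one f).mpr ?_
    rintro ⟨⟨a, ha⟩, ⟨b, hb⟩⟩ hab
    have hab' : a * b = 1 := by simpa [f] using hab
    have ha1 : a = 1 := by
      rw [← Subgroup.mem_bot, ← h]
      refine ⟨ha, ?_⟩
      rw [eq_inv_of_mul_eq_one_left hab']
      exact B.inv_mem hb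
    subst ha1
    rw [one_mul] at hab'
    subst hab'
    rfl
  have hr : f.range = A ⊔ B := by
    refine le_antisymm ?_ (sup_le (fun a ha => ⟨(⟨a, ha⟩, 1), by simp [f]⟩) fun b hb => ⟨(1, ⟨b, hb⟩), by simp [f]⟩)
    rintro _ ⟨⟨⟨a, ha⟩, ⟨b, hb⟩⟩, rfl⟩
    simpa [f] using Subgroup.mul_mem_sup ha hb
  rw [← hr, ← Nat.card_congr (MonoidHom.ofInjective hf).toEquiv, Nat.card_prod]

/-- A proper `Ub`-invariant subgroup contains an invariant line, whose conjugates under `σ` span `V`. -/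
theorem exists_line (hp : p.Prime) (hq : q.Prime) (hσ : σ ^ q = 1) (hnorm : ∀ u ∈ Ub, σ * u * σ⁻¹ ∈ Ub)
    (hV : Nat.card V = p ^ q)
    (hirr : ∀ W : Subgroup V, (∀ u ∈ Ub, ∀ x ∈ W, u x ∈ W) → (∀ x ∈ W, σ x ∈ W) → W ≠ ⊥ → W = ⊤)
    {E : Subgroup V} (hEu : ∀ u ∈ Ub, ∀ x ∈ E, u x ∈ E) (hE : E ≠ ⊥) (hE' : E ≠ ⊤) :
    ∃ L : Subgroup V, L ≤ E ∧ Nat.card L = p ∧ (∀ u ∈ Ub, ∀ x ∈ L, u x ∈ L) ∧
      Function.Bijective fun f : Fin q → L => ∏ i : Fin q, (σ ^ (i : ℕ)) (f i : V) := by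
  classical
  obtain ⟨L, ⟨hLE, hLu, hL⟩, hmin⟩ := (Set.toFinite {L : Subgroup V | L ≤ E ∧ (∀ u ∈ Ub, ∀ x ∈ L, u x ∈ L) ∧
    L ≠ ⊥}).exists_minimal ⟨E, le_rfl, hEu, hE⟩
  let Li : ℕ → Subgroup V := fun i => L.map (σ ^ i).toMonoidHom
  have hLiu : ∀ i, ∀ u ∈ Ub, ∀ x ∈ Li i, u x ∈ Li i := by
    rintro i u hu _ ⟨x, hx, rfl⟩
    exact ⟨((σ ^ i)⁻¹ * u * σ ^ i) x, hLu _ (conj_pow_mem' hσ hq.pos hnorm i hu) x hx,
      (σ ^ i).apply_symm_apply _⟩
  have hLimin : ∀ i (M : Subgroup V), M ≤ Li i → (∀ u ∈ Ub, ∀ x ∈ M, u x ∈ M) → M = ⊥ ∨ M = Li i := by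
    intro i M hM hMu
    rcases eq_or_ne (M.comap (σ ^ i).toMonoidHom) ⊥ with h0 | h0
    · refine Or.inl (eq_bot_iff.mpr fun m hm => ?_)
      obtain ⟨x, -, rfl⟩ := hM hm
      have : x ∈ M.comap (σ ^ i).toMonoidHom := hm
      rw [h0, Subgroup.mem_bot] at this
      simp [this]
    · refine Or.inr (le_antisymm hM ?_)
      rintro _ ⟨x, hx, rfl⟩
      have hle : M.comap (σ ^ i).toMonoidHom ≤ L := fun y hy => by
        obtain ⟨z, hz, hzy⟩ := hM hy
        rwa [(σ ^ i).injective hzy] at hz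
      have hin : ∀ u ∈ Ub, ∀ y ∈ M.comap (σ ^ i).toMonoidHom, u y ∈ M.comap (σ ^ i).toMonoidHom := by
        intro u hu y hy
        have := hMu _ (conj_pow_mem hnorm i hu) _ hy
        simpa using this
      exact hmin ⟨hle.trans hLE, hin, h0⟩ hle hx
  let S : ℕ → Subgroup V := fun j => ⨆ i ∈ Finset.range j, Li i
  have hSu : ∀ j, ∀ u ∈ Ub, ∀ x ∈ S j, u x ∈ S j := by
    intro j u hu
    have : S j ≤ (S j).comap u.toMonoidHom := iSup₂_le fun i hi x hx =>
      le_iSup₂ (f := fun i (_ : i ∈ Finset.range j) => Li i) i hi (hLiu i u hu x hx)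
    exact fun x hx => this hx
  have hcardLi : ∀ i, Nat.card (Li i) = Nat.card L := fun i =>
    Subgroup.card_map_of_injective (σ ^ i).injective
  have hcard : ∀ j, ∃ m, Nat.card (S j) = Nat.card L ^ m := by
    intro j
    induction j with
    | zero => exact ⟨0, by simp [S]⟩
    | succ j ih =>
      obtain ⟨m, hm⟩ := ih
      have hS : S (j + 1) = Li j ⊔ S j := by
        simp only [S, Finset.range_add_one, Finset.iSup_insert]
      rcases hLimin j (Li j ⊓ S j) inf_le_left fun u hu x hx => ⟨hLiu j u hu x hx.1, hSu j u hu x hx.2⟩ with h | h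
      · exact ⟨m + 1, by rw [hS, card_sup_of_inf_eq_bot _ _ h, hcardLi, hm, pow_succ']⟩
      · exact ⟨m, by rw [hS, sup_eq_right.mpr (inf_eq_left.mp h), hm]⟩
  have hST : S q = ⊤ := by
    refine hirr _ (hSu q) ?_ fun h => hL (eq_bot_iff.mpr fun x hx => ?_)
    · have : S q ≤ (S q).comap σ.toMonoidHom := iSup₂_le fun i hi => by
        rintro _ ⟨x, hx, rfl⟩
        rw [Finset.mem_range] at hi
        show σ ((σ ^ i) x) ∈ S q
        rw [← MulAut.mul_apply, ← pow_succ', pow_eq_pow_mod (i + 1) hσ]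
        exact le_iSup₂ (f := fun i (_ : i ∈ Finset.range q) => Li i) ((i + 1) % q)
          (Finset.mem_range.mpr (Nat.mod_lt _ hq.pos)) ⟨x, hx, rfl⟩
      exact fun x hx => this hx
    · have : x ∈ S q := le_iSup₂ (f := fun i (_ : i ∈ Finset.range q) => Li i) 0
        (Finset.mem_range.mpr hq.pos) ⟨x, hx, by simp⟩
      rwa [h] at this
  obtain ⟨d, -, hd⟩ := (Nat.dvd_prime_pow hp).mp (hV ▸ L.card_subgroup_dvd_card)
  obtain ⟨m, hm⟩ := hcard q
  rw [hST, Subgroup.card_top, hV, hd, ← pow_mul] at hm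
  have hdq : d ∣ q := Dvd.intro _ (Nat.pow_right_injective hp.two_le hm).symm
  rcases hq.eq_one_or_self_of_dvd d hdq with rfl | rfl
  swap
  · exact absurd (eq_top_iff.mpr ((Subgroup.eq_top_of_card_eq L (hd.trans hV.symm)).ge.trans hLE)) hE'
  rw [pow_one] at hd
  refine ⟨L, hLE, hd, hLu, ?_⟩
  let Φ : (Fin q → L) →* V :=
    { toFun := fun f => ∏ i : Fin q, (σ ^ (i : ℕ)) (f i : V)
      map_one' := by simp
      map_mul' := fun f g => by simp [Finset.prod_mul_distrib] }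
  have hr : Φ.range = ⊤ := by
    refine eq_top_iff.mpr (hST ▸ iSup₂_le fun i hi => ?_)
    rintro _ ⟨x, hx, rfl⟩
    rw [Finset.mem_range] at hi
    refine ⟨Pi.mulSingle ⟨i, hi⟩ ⟨x, hx⟩, ?_⟩
    show ∏ j : Fin q, (σ ^ (j : ℕ)) (((Pi.mulSingle (⟨i, hi⟩ : Fin q) (⟨x, hx⟩ : L) : Fin q → L) j : L) : V) = _
    rw [Finset.prod_eq_single (⟨i, hi⟩ : Fin q) (fun j _ hj => by simp [hj]) (by simp)]
    simp
  refine (Nat.bijective_iff_surjective_and_card Φ).mpr ⟨MonoidHom.range_eq_top.mp hr, ?_⟩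
  rw [Nat.card_pi, hV]
  simp [hd]

/-- **The regular vectors.** -/
theorem exists_regular (Ub : Subgroup (MulAut V)) (σ : MulAut V) {p q : ℕ}
    (hp : p.Prime) (hp2 : p ≠ 2) (hq : q.Prime) (hq2 : q ≠ 2) (hpow : ∀ x : V, x ^ p = 1)
    (hV : Nat.card V = p ^ q) (hcomm : ∀ a ∈ Ub, ∀ b ∈ Ub, a * b = b * a) (hne : Ub ≠ ⊥)
    (hodd : Odd (Nat.card Ub)) (hcop : (Nat.card Ub).Coprime p)
    (hσ : σ ^ q = 1) (hnorm : ∀ u ∈ Ub, σ * u * σ⁻¹ ∈ Ub) (hfpf : ∀ u ∈ Ub, σ * u = u * σ → u = 1)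
    (hcent : Nat.card {x : V // σ x = x} = p) (hU : ∀ x : V, (∀ u ∈ Ub, u x = x) → x = 1) :
    2 * q ∣ Nat.card Ub - 1 ∧ 1 < Nat.card Ub ∧ ∃ (R : Set V) (k : ℕ),
      (1 ∉ R) ∧ (∀ x, x ≠ 1 → σ x = x → x ∈ R) ∧ (∀ u ∈ Ub, ∀ x ∈ R, u x ∈ R) ∧ (∀ x ∈ R, σ x ∈ R) ∧
      (∀ x ∈ R, ∀ u ∈ Ub, u x = x → u = 1) ∧ Nat.card R = k * (p - 1) * Nat.card Ub ∧
      ((k = 1 ∧ R = {x | x ≠ 1} ∧ IsCyclic Ub ∧ Nat.card Ub = (p ^ q - 1) / (p - 1) ∧
          (Nat.card Ub).Coprime (p - 1)) ∨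
       (3 ≤ k ∧ k * Nat.card Ub = (p ^ q - 1) / (p - 1)) ∨ (4 ≤ k ∧ k * Nat.card Ub = (p - 1) ^ (q - 1))) := by
  classical
  haveI : Fact p.Prime := ⟨hp⟩
  haveI : Fact q.Prime := ⟨hq⟩
  haveI : NeZero p := ⟨hp.ne_zero⟩
  letI : Fintype Ub := Fintype.ofFinite Ub
  have hu1 : 1 < Nat.card Ub := Subgroup.one_lt_card_iff_ne_bot Ub |>.mpr hne
  have h2q : 2 * q ∣ Nat.card Ub - 1 := by
    refine Nat.Coprime.mul_dvd_of_dvd_of_dvd ((Nat.coprime_primes Nat.prime_two hq).mpr hq2.symm) ?_ ?_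
    · obtain ⟨m, hm⟩ := hodd
      exact ⟨m, by omega⟩
    let c : Function.End Ub := fun u => ⟨σ * u * σ⁻¹, hnorm _ u.2⟩
    have hcn : ∀ n u, ((c ^ n) u : MulAut V) = σ ^ n * (u : MulAut V) * (σ ^ n)⁻¹ := by
      intro n
      induction n with
      | zero => intro u; simp [Function.End.one_def]
      | succ n ih =>
        intro u
        rw [pow_succ']
        show σ * ((c ^ n) u : MulAut V) * σ⁻¹ = _
        rw [ih, pow_succ', mul_inv_rev]
        group
    have hm := Equiv.Perm.card_fixedPoints_modEq (p := q) (n := 1) (f := c) (by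
      funext u
      refine Subtype.ext ?_
      rw [hcn, pow_one, hσ]
      simp [Function.End.one_def])
    have hfix : Fintype.card (Function.fixedPoints c) = 1 := by
      refine Fintype.card_eq_one_iff.mpr ⟨⟨1, Subtype.ext (show σ * 1 * σ⁻¹ = 1 by group)⟩, ?_⟩
      rintro ⟨u, hu⟩
      refine Subtype.ext (Subtype.ext (hfpf u u.2 (mul_inv_eq_iff_eq_mul.mp ?_)))
      exact congrArg Subtype.val hu
    rw [hfix, ← Nat.card_eq_fintype_card] at hm
    exact (Nat.modEq_iff_dvd' hu1.le).mp hm.symm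
  refine ⟨h2q, hu1, ?_⟩
  have hcopV : (Nat.card Ub).Coprime (Nat.card V) := hV ▸ hcop.pow_right q
  have hirr : ∀ W : Subgroup V, (∀ u ∈ Ub, ∀ x ∈ W, u x ∈ W) → (∀ x ∈ W, σ x ∈ W) → W ≠ ⊥ → W = ⊤ :=
    fun W => irreducible hp hq hσ hnorm hfpf hcopV hcent hU W
  haveI : IsMulCommutative Ub := ⟨⟨fun a b => Subtype.ext (hcomm a a.2 b b.2)⟩⟩
  let ψ : Ub × (ZMod p)ˣ →* MulAut V :=
    MonoidHom.noncommCoprod Ub.subtype (scal hpow) fun u a => MulEquiv.ext fun x => map_scal hpow u a x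
  have hψ : ∀ h x, ψ h x = (h.1 : MulAut V) (scal hpow h.2 x) := fun _ _ => rfl
  have hH : Nat.card (Ub × (ZMod p)ˣ) = Nat.card Ub * (p - 1) := by
    rw [Nat.card_prod, Nat.card_eq_fintype_card (α := (ZMod p)ˣ), ZMod.card_units]
  by_cases hcase : ∀ x : V, x ≠ 1 → ∀ h, ψ h x = x → h = 1
  · -- free on all nontrivial vectors
    have hR : Nat.card {x : V | x ≠ 1} = p ^ q - 1 := by
      rw [Nat.card_coe_set_eq, show {x : V | x ≠ 1} = ({1} : Set V)ᶜ from rfl, Set.ncard_compl,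
        Set.ncard_singleton, hV]
    have hd : Nat.card (Ub × (ZMod p)ˣ) ∣ p ^ q - 1 := hR ▸ card_dvd ψ {x : V | x ≠ 1}
      (fun h x hx e => hx ((ψ h).injective (e.trans (map_one _).symm))) hcase
    obtain ⟨k, hk⟩ := hd
    rw [hH] at hk
    have hgeom : (p ^ q - 1) / (p - 1) = k * Nat.card Ub := by
      rw [hk, show Nat.card Ub * (p - 1) * k = k * Nat.card Ub * (p - 1) by ring,
        Nat.mul_div_cancel _ (by have := hp.two_le; omega)]
    have hgodd : Odd ((p ^ q - 1) / (p - 1)) := by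
      rw [← Nat.geomSum_eq hp.two_le, ← ZMod.natCast_eq_one_iff_odd, Nat.cast_sum]
      simp [ZMod.natCast_eq_one_iff_odd.mpr (hp.odd_of_ne_two hp2),
        ZMod.natCast_eq_one_iff_odd.mpr (hq.odd_of_ne_two hq2)]
    have hkodd : Odd k := (Nat.odd_mul.mp (hgeom ▸ hgodd)).1
    refine ⟨{x | x ≠ 1}, k, fun h => h rfl, fun x hx _ => hx,
      fun u _ x hx e => hx (u.injective (e.trans (map_one _).symm)),
      fun x hx e => hx (σ.injective (e.trans (map_one _).symm)),
      fun x hx u hu e => congrArg (fun h : Ub × (ZMod p)ˣ => (h.1 : MulAut V))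
        (hcase x hx (⟨u, hu⟩, 1) (by rw [hψ, map_one]; exact e)),
      by rw [hR, hk]; ring, ?_⟩
    rcases Nat.lt_or_ge k 3 with hk3 | hk3
    swap
    · exact Or.inr (Or.inl ⟨hk3, hgeom.symm⟩)
    obtain rfl : k = 1 := by obtain ⟨m, hm⟩ := hkodd; omega
    rw [mul_one] at hk
    rw [one_mul] at hgeom
    obtain ⟨x₀, hx₀⟩ : ∃ x : V, x ≠ 1 := by
      have : 1 < Nat.card V := hV ▸ Nat.one_lt_pow hq.ne_zero hp.one_lt
      haveI := Finite.one_lt_card_iff_nontrivial.mp this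
      obtain ⟨x, hx⟩ := exists_ne (1 : V)
      exact ⟨x, hx⟩
    have hbij : Function.Bijective fun h => (⟨ψ h x₀, fun e =>
        hx₀ ((ψ h).injective (e.trans (map_one _).symm))⟩ : {x : V | x ≠ 1}) := by
      refine (Nat.bijective_iff_injective_and_card _).mpr ⟨fun g h hgh => ?_, by rw [hR, hH, hk]⟩
      have h1 : ψ g x₀ = ψ h x₀ := congrArg Subtype.val hgh
      rw [← inv_mul_eq_one]
      refine hcase x₀ hx₀ _ ?_
      rw [map_mul, MulAut.mul_apply, map_inv, ← h1, MulAut.inv_apply, MulEquiv.symm_apply_apply]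
    open scoped IsMulCommutative in
    haveI hcyc : IsCyclic (Ub × (ZMod p)ˣ) := isCyclic_of_regular ψ hx₀ (hcase x₀ hx₀) fun y hy => by
      obtain ⟨h, hh⟩ := hbij.2 ⟨y, hy⟩
      exact ⟨h, congrArg Subtype.val hh⟩
    refine Or.inl ⟨rfl, rfl, isCyclic_of_injective (MonoidHom.inl Ub (ZMod p)ˣ)
      (fun a b e => congrArg Prod.fst e), hgeom.symm, ?_⟩
    have := coprime_card_of_isCyclic_prod (M := Ub) (N := (ZMod p)ˣ)
    rwa [Nat.card_eq_fintype_card (α := (ZMod p)ˣ), ZMod.card_units] at this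
  · -- a monomial module
    push Not at hcase
    obtain ⟨x₁, hx₁, ⟨⟨u₀, hu₀⟩, a⟩, he, hne1⟩ := hcase
    rw [hψ] at he
    have hu₀1 : u₀ ≠ 1 := by
      rintro rfl
      have ha : x₁ ^ (a : ZMod p).val = x₁ ^ 1 := by rw [pow_one]; simpa [scal_apply] using he
      rw [pow_eq_pow_iff_modEq, orderOf_eq_prime (hpow x₁) hx₁] at ha
      refine hne1 (Prod.ext rfl (Units.ext ?_))
      show (a : ZMod p) = 1
      rw [← ZMod.natCast_zmod_val (a : ZMod p), ← Nat.cast_one]
      exact (ZMod.natCast_eq_natCast_iff _ _ _).mpr ha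
    let E : Subgroup V :=
      { carrier := {x | u₀ (scal hpow a x) = x}
        one_mem' := by simp
        mul_mem' := fun {x y} hx hy => by simp_all
        inv_mem' := fun {x} hx => by simp_all }
    have hEu : ∀ u ∈ Ub, ∀ x ∈ E, u x ∈ E := fun u hu x hx => by
      show u₀ (scal hpow a (u x)) = u x
      rw [← map_scal, ← MulAut.mul_apply, hcomm u₀ hu₀ u hu, MulAut.mul_apply, show u₀ (scal hpow a x) = x from hx]
    have hscal : ∀ (u : MulAut V) (b : (ZMod p)ˣ), u ∈ Ub → (∀ x, u (scal hpow b x) = x) → u = 1 := by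
      intro u b hu h
      refine hfpf u hu (MulEquiv.ext fun x => ?_)
      rw [MulAut.mul_apply, MulAut.mul_apply]
      obtain ⟨y, rfl⟩ := (scal hpow b).surjective x
      rw [h, map_scal hpow σ, h]
    obtain ⟨L, hLE, hLc, hLu, hbij⟩ := exists_line hp hq hσ hnorm hV hirr hEu
      (fun e => hx₁ (by rw [← Subgroup.mem_bot, ← e]; exact he))
      (fun e => hu₀1 (hscal u₀ a hu₀ fun x => (e ▸ Subgroup.mem_top x : x ∈ E)))
    let T : (Fin q → L) → V := fun f => ∏ i : Fin q, (σ ^ (i : ℕ)) (f i : V)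
    let R : Set V := T '' {f | ∀ i, f i ≠ 1}
    have hact : ∀ (u : MulAut V) (hu : u ∈ Ub), ∀ (b : (ZMod p)ˣ) (f : Fin q → L), u (scal hpow b (T f)) = T fun i =>
        ⟨((σ ^ (i : ℕ))⁻¹ * u * σ ^ (i : ℕ)) (scal hpow b (f i : V)),
          hLu _ (conj_pow_mem' hσ hq.pos hnorm i hu) _ (L.pow_mem (f i).2 _)⟩ := by
      intro u hu b f
      simp only [T, map_prod]
      refine Finset.prod_congr rfl fun i _ => ?_
      rw [← map_scal hpow (σ ^ (i : ℕ))]
      exact ((σ ^ (i : ℕ)).apply_symm_apply _).symm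
    have hmapR : ∀ h : Ub × (ZMod p)ˣ, ∀ x ∈ R, ψ h x ∈ R := by
      rintro ⟨⟨u, hu⟩, b⟩ _ ⟨f, hf, rfl⟩
      refine ⟨_, fun i e => ?_, (hact u hu b f).symm⟩
      refine hf i (Subtype.ext ((scal hpow b).injective (MulEquiv.injective
        ((σ ^ (i : ℕ))⁻¹ * u * σ ^ (i : ℕ)) ?_)))
      simpa using congrArg Subtype.val e
    have hshift : ∀ f : Fin q → L, σ (T f) = T fun i => f (i - 1) := by
      intro f
      obtain ⟨n, rfl⟩ : ∃ n, q = n + 1 := ⟨q - 1, by have := hq.pos; omega⟩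
      simp only [T, map_prod]
      refine Fintype.prod_equiv (Equiv.addRight (1 : Fin (n + 1))) _ _ fun i => ?_
      show σ ((σ ^ (i : ℕ)) (f i : V)) = (σ ^ ((i + 1 : Fin (n + 1)) : ℕ)) (f ((i + 1) - 1) : V)
      rw [add_sub_cancel_right, ← MulAut.mul_apply, ← pow_succ', Fin.val_add, Fin.val_one', Nat.add_mod_mod]
      exact congrArg (fun e : MulAut V => e (f i : V)) (pow_eq_pow_mod _ hσ)
    have hfree : ∀ x ∈ R, ∀ h, ψ h x = x → h = 1 := by
      rintro _ ⟨f, hf, rfl⟩ ⟨⟨u, hu⟩, b⟩ e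
      rw [hψ, hact u hu b f] at e
      have e' := hbij.1 e
      have hall : ∀ (i : Fin q) (l : V), l ∈ L → ((σ ^ (i : ℕ))⁻¹ * u * σ ^ (i : ℕ)) (scal hpow b l) = l := by
        intro i l hl
        have hfi : (f i : V) ≠ 1 := fun h => hf i (Subtype.ext h)
        have hm : (⟨l, hl⟩ : L) ∈ Subgroup.zpowers (f i) := by
          rw [zpowers_eq_top_of_prime_card hLc (hf i)]
          exact Subgroup.mem_top _
        obtain ⟨n, hn⟩ := Subgroup.mem_zpowers_iff.mp hm
        have hn' : (f i : V) ^ n = l := congrArg Subtype.val hn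
        rw [← hn', map_zpow, map_zpow]
        congr 1
        exact congrArg Subtype.val (congrFun e' i)
      have hu1' : u = 1 := hscal u b hu fun x => by
        obtain ⟨g, rfl⟩ := hbij.2 x
        rw [show (fun f : Fin q → L => ∏ i : Fin q, (σ ^ (i : ℕ)) (f i : V)) g = T g from rfl, hact u hu b g]
        congr 1
        funext i
        exact Subtype.ext (hall i _ (g i).2)
      subst hu1'
      have hb := hall ⟨0, hq.pos⟩ (f ⟨0, hq.pos⟩ : V) (f _).2
      have hb' : (f ⟨0, hq.pos⟩ : V) ^ (b : ZMod p).val = (f ⟨0, hq.pos⟩ : V) ^ 1 := by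
        rw [pow_one]; simpa [scal_apply] using hb
      rw [pow_eq_pow_iff_modEq, orderOf_eq_prime (hpow _) fun h => hf _ (Subtype.ext h)] at hb'
      refine Prod.ext rfl (Units.ext ?_)
      rw [← ZMod.natCast_zmod_val (b : ZMod p)]
      simpa using (ZMod.natCast_eq_natCast_iff _ _ _).mpr hb'
    have hRc : Nat.card R = (p - 1) ^ q := by
      rw [Nat.card_image_of_injective (f := T) hbij.1, Nat.card_congr
        (show {f : Fin q → L | ∀ i, f i ≠ 1} ≃ (Fin q → {l : L // l ≠ 1}) from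
          Equiv.subtypePiEquivPi (p := fun (_ : Fin q) (l : L) => l ≠ 1)),
        Nat.card_fun, Nat.card_fin]
      congr 1
      have h1 : Nat.card {l : L // l ≠ 1} = Nat.card L - 1 := by
        rw [show {l : L // l ≠ 1} = (({1} : Set L)ᶜ : Set L) from rfl, Nat.card_coe_set_eq, Set.ncard_compl,
          Set.ncard_singleton]
      rw [h1, hLc]
    obtain ⟨k, hk⟩ := hH ▸ hRc ▸ card_dvd ψ R hmapR hfree
    have hp1 : 0 < p - 1 := by have := hp.two_le; omega
    have hk' : k * Nat.card Ub = (p - 1) ^ (q - 1) := by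
      refine Nat.eq_of_mul_eq_mul_left hp1 ?_
      rw [← pow_succ', Nat.sub_add_cancel hq.pos, hk]
      ring
    have hk4 : 4 ≤ k := by
      have h2 : 2 ^ 2 ∣ k * Nat.card Ub := hk' ▸
        (pow_dvd_pow 2 (by have := hq.two_le; omega : 2 ≤ q - 1)).trans
          (pow_dvd_pow_of_dvd (Nat.Odd.sub_odd (hp.odd_of_ne_two hp2) odd_one).two_dvd _)
      refine Nat.le_of_dvd (Nat.pos_of_ne_zero fun e => ?_)
        (((Nat.Prime.coprime_iff_not_dvd Nat.prime_two).mpr hodd.not_two_dvd_nat).pow_left 2 |>.dvd_of_dvd_mul_right h2)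
      rw [e, zero_mul] at hk'
      exact pow_ne_zero _ hp1.ne' hk'.symm
    refine ⟨R, k, ?_, ?_, fun u hu x hx => ?_, ?_, fun x hx u hu e => ?_, by rw [hRc, hk]; ring,
      Or.inr (Or.inr ⟨hk4, hk'⟩)⟩
    · rintro ⟨f, hf, e⟩
      have : f = fun _ => 1 := hbij.1 (e.trans (show (1 : V) = T fun _ => 1 by simp [T]))
      exact hf ⟨0, hq.pos⟩ (congrFun this _)
    · intro x hx1 hx
      obtain ⟨f, rfl⟩ := hbij.2 x
      have hs := hbij.1 ((hshift f).symm.trans hx)
      refine ⟨f, fun i hi => hx1 ?_, rfl⟩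
      obtain ⟨n, rfl⟩ : ∃ n, q = n + 1 := ⟨q - 1, by have := hq.pos; omega⟩
      have hconst : ∀ j : Fin (n + 1), f j = f 0 := by
        intro j
        induction j using Fin.induction with
        | zero => rfl
        | succ j ih =>
          rw [← ih]
          have := congrFun hs j.succ
          rw [← this]
          congr 1
          rw [sub_eq_iff_eq_add, Fin.coeSucc_eq_succ]
      exact Finset.prod_eq_one fun j _ => by rw [hconst j, ← hconst i, hi]; simp
    · simpa [hψ] using hmapR (⟨u, hu⟩, 1) x hx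
    · rintro _ ⟨f, hf, rfl⟩
      exact ⟨_, fun i => hf _, (hshift f).symm⟩
    · exact congrArg (fun h : Ub × (ZMod p)ˣ => (h.1 : MulAut V)) (hfree x hx (⟨u, hu⟩, 1) (by simpa [hψ] using e))

end Module

end CfsgLib.OddOrder.Final.SideModule
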