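import Cfsg.Agent.Lib.OddOrder.Final.SideCharsDef
import Cfsg.Agent.Lib.OddOrder.Final.SideCharsLift
import Cfsg.Agent.Lib.OddOrder.Final.SideInduce
import Cfsg.Agent.Lib.OddOrder.Final.SideModule

/-!
The set of characters of the derived subgroup of a side: a set of regular orbits on the dual of `P / P₀`,
or, when there is only one orbit and an invariant linear character of `N` moved by `W₁`, its translates.
-/

set_option autoImplicit false

namespace CfsgLib.OddOrder.Final.SideCharsBuild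

open Subgroup SideModuleData SideLift
open scoped commutatorElement

variable {G : Type*} [Group G] [Finite G] {M W₁ U W₂ : Subgroup G} (c : Ctx M W₁ U W₂)
include c

theorem finite_V : Finite (V M U) := by
  refine Nat.finite_of_card_ne_zero ?_
  rw [card_dual c.facts.comm, c.facts.index]
  exact (pow_pos Nat.card_pos _).ne'

theorem card_V : Nat.card (V M U) = Nat.card W₂ ^ Nat.card W₁ := by
  rw [card_dual c.facts.comm, c.facts.index]

theorem pow_V (φ : V M U) : φ ^ Nat.card W₂ = 1 :=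
  Subtype.ext (MonoidHom.ext fun x => by
    rw [SubmonoidClass.coe_pow, MonoidHom.pow_apply, ← map_pow, φ.2 _ (c.facts.pow x x.2)]
    rfl)

theorem p_dvd : Nat.card W₂ ∣ Nat.card ↥(Cfsg.fittingHallOf M) :=
  card_dvd_of_le (TP.W₂_le_fit c.side.typeP)

theorem p_ne_two : Nat.card W₂ ≠ 2 := fun e => by
  have h := c.odd.1.of_dvd_nat (card_subgroup_dvd_card W₂)
  rw [e] at h
  exact Nat.not_even_iff_odd.mpr h ⟨1, rfl⟩

theorem q_ne_two : Nat.card W₁ ≠ 2 := fun e => by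
  have h := c.odd.1.of_dvd_nat (card_subgroup_dvd_card W₁)
  rw [e] at h
  exact Nat.not_even_iff_odd.mpr h ⟨1, rfl⟩

theorem exists_zpow {w w' : M} (hw : (w : G) ∈ W₁) (hw1 : w ≠ 1) (hw' : (w' : G) ∈ W₁) :
    ∃ i : ℤ, w ^ i = w' := by
  haveI := Fact.mk c.side.prime₁
  obtain ⟨i, hi⟩ := mem_zpowers_iff.mp (mem_zpowers_of_prime_card (G := W₁) (p := Nat.card W₁) rfl
    (g := ⟨w, hw⟩) (g' := ⟨w', hw'⟩) fun e => hw1 (Subtype.ext (congrArg Subtype.val e :)))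
  exact ⟨i, Subtype.ext (by simpa using congrArg Subtype.val hi)⟩

theorem fixed_all {w : M} (hw : (w : G) ∈ W₁) (hw1 : w ≠ 1) {φ : V M U} (h : fa c w φ = φ)
    {w' : M} (hw' : (w' : G) ∈ W₁) : fa c w' φ = φ := by
  obtain ⟨i, rfl⟩ := exists_zpow c hw hw1 hw'
  rw [map_zpow]
  exact (MulAction.stabilizer (MulAut (V M U)) φ).zpow_mem (MulAction.mem_stabilizer_iff.mpr h) i

theorem inv_fixed_all {w : M} (hw : (w : G) ∈ W₁) (hw1 : w ≠ 1) {γ : NK c →* ℂˣ}
    (h : SideInd.cjN (data c) w γ = γ) {w' : M} (hw' : (w' : G) ∈ W₁) :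
    SideInd.cjN (data c) w' γ = γ := by
  obtain ⟨i, rfl⟩ := exists_zpow c hw hw1 hw'
  let S : Subgroup M :=
    { carrier := {g | SideInd.cjN (data c) g γ = γ}
      one_mem' := SideInd.cjN_one _ γ
      mul_mem' := fun {a b} ha hb => by
        show SideInd.cjN (data c) (a * b) γ = γ
        rw [SideInd.cjN_mul, hb, ha]
      inv_mem' := fun {a} ha => by
        show SideInd.cjN (data c) a⁻¹ γ = γ
        conv_lhs => rw [← show SideInd.cjN (data c) a γ = γ from ha, ← SideInd.cjN_mul, inv_mul_cancel,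
          SideInd.cjN_one] }
  exact S.zpow_mem h i

/-- A character fixed by `W₁` is trivial on `[P, W₁]`. -/
theorem apply_commutator_W₁ {φ : V M U} (hφ : ∀ w : M, (w : G) ∈ W₁ → fa c w φ = φ) :
    ⁅Cfsg.fittingHallOf M, W₁⁆ ≤ φ.1.ker.map (Cfsg.fittingHallOf M).subtype :=
  commutator_le.mpr fun x hx w hw => by
    have hy : w * x⁻¹ * w⁻¹ ∈ Cfsg.fittingHallOf M :=
      (mem_normalizer_iff.mp (Basic.le_normalizer_fittingHallOf (TP.W₁_le c.side.typeP hw)) _).mp (inv_mem hx)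
    refine ⟨⟨x, hx⟩ * ⟨_, hy⟩, MonoidHom.mem_ker.mpr ?_, by simp [commutatorElement_def, mul_assoc]⟩
    have h1 := fa_apply c ⟨w, TP.W₁_le c.side.typeP hw⟩ φ ⟨_, hy⟩
    rw [hφ ⟨w, _⟩ hw, show bk c ⟨w, _⟩ ⟨_, hy⟩ = (⟨x, hx⟩ : Cfsg.fittingHallOf M)⁻¹ from
      Subtype.ext (by simp [bk_coe, mul_assoc]), map_inv] at h1
    rw [map_mul, h1, mul_inv_cancel]

theorem card_fixed_V {w₀ : M} (hw : (w₀ : G) ∈ W₁) (hw1 : w₀ ≠ 1) :
    Nat.card {φ : V M U // fa c w₀ φ = φ} = Nat.card W₂ := by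
  haveI := finite_V c
  haveI := Fact.mk c.side.prime₂
  haveI : NeZero (Nat.card W₂) := ⟨Nat.card_pos.ne'⟩
  have hP := c.side.typeP
  have hWP := TP.W₂_le_fit hP
  let Fx : Subgroup (V M U) :=
    { carrier := {φ | fa c w₀ φ = φ}
      one_mem' := map_one _
      mul_mem' := fun {a b} ha hb => by
        show fa c w₀ (a * b) = a * b
        rw [map_mul, ha, hb]
      inv_mem' := fun {a} ha => by
        show fa c w₀ a⁻¹ = a⁻¹
        rw [map_inv, ha] }
  change Nat.card Fx = _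
  obtain ⟨z, hz, hz1⟩ := (bot_or_exists_ne_one W₂).resolve_left hP.selfNormalizing.2.1
  have hzp : ∀ φ : V M U, φ.1 ⟨z, hWP hz⟩ ^ Nat.card W₂ = 1 := fun φ => by
    rw [← map_pow]
    exact φ.2 _ (c.facts.pow z (hWP hz))
  let e : Fx →* rootsOfUnity (Nat.card W₂) ℂ :=
    MonoidHom.mk' (fun φ => ⟨(φ : V M U).1 ⟨z, hWP hz⟩, (mem_rootsOfUnity _ _).mpr (hzp φ)⟩)
      fun a b => rfl
  have hinj : Function.Injective e := (injective_iff_map_eq_one e).mpr fun φ hφ => by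
    have h1 : (φ : V M U).1 ⟨z, hWP hz⟩ = 1 := congrArg Subtype.val hφ
    have hker : W₂ ≤ (φ : V M U).1.ker.map (Cfsg.fittingHallOf M).subtype := fun y hy => by
      obtain ⟨i, hi⟩ := mem_zpowers_iff.mp (mem_zpowers_of_prime_card (G := W₂) (p := Nat.card W₂) rfl
        (g := ⟨z, hz⟩) (g' := ⟨y, hy⟩) fun e' => hz1 (congrArg Subtype.val e'))
      refine ⟨⟨z, hWP hz⟩ ^ i, ?_, by simpa using congrArg Subtype.val hi⟩
      show (φ : V M U).1 (⟨z, hWP hz⟩ ^ i) = 1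
      rw [map_zpow, h1, one_zpow]
    have hgen := Coprime.commutator_sup_centralizer
      ((TP.W₁_le hP).trans (Basic.le_normalizer_fittingHallOf (M := M)))
      (TP.coprime_fit_W₁ hP).symm (Or.inl (by haveI := hP.W₁_cyclic; infer_instance))
    rw [TP.inf_centralizer_W₁ hP] at hgen
    refine Subtype.ext (Subtype.ext (MonoidHom.ext fun x => ?_))
    obtain ⟨y, hy, e'⟩ := sup_le (apply_commutator_W₁ c fun w hw' => fixed_all c hw hw1 φ.2 hw') hker
      (hgen.ge x.2)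
    rw [← show y = x from Subtype.ext e']
    exact hy
  have hle : Nat.card Fx ≤ Nat.card W₂ := by
    refine (Nat.card_le_card_of_injective e hinj).trans (le_of_eq ?_)
    rw [Complex.card_rootsOfUnity]
  obtain ⟨i, -, hi⟩ := (Nat.dvd_prime_pow c.side.prime₂).mp (card_V c ▸ card_subgroup_dvd_card Fx)
  rcases Nat.eq_zero_or_pos i with h0 | h0
  · exfalso
    rw [h0, pow_zero, card_eq_one] at hi
    have hzP₀ : z ∉ base (Cfsg.fittingHallOf M) U := fun hb =>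
      hz1 (mem_bot.mp (c.facts.disj.le ⟨hb, hz⟩))
    obtain ⟨φ, hφ⟩ := exists_sep c.facts.comm c.facts.le (x := ⟨z, hWP hz⟩) hzP₀
    set σ := fa c w₀ with hσ
    have hσq : σ ^ Nat.card W₁ = 1 := by
      have h1 : (⟨(w₀ : G), hw⟩ : W₁) ^ Nat.card W₁ = 1 := pow_card_eq_one'
      have h2 := congrArg Subtype.val h1
      rw [SubmonoidClass.coe_pow, Subgroup.coe_one] at h2
      rw [hσ, ← map_pow, show w₀ ^ Nat.card W₁ = 1 from Subtype.ext
        ((SubmonoidClass.coe_pow w₀ _).trans h2), map_one]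
    set ν : V M U := ∏ j ∈ Finset.range (Nat.card W₁), (σ ^ j) φ with hν
    have hfix : σ ν = ν := by
      have h1 := Finset.prod_range_succ (fun j => (σ ^ j) φ) (Nat.card W₁)
      rw [Finset.prod_range_succ', hσq, pow_zero, mul_left_inj] at h1
      rw [hν, map_prod, ← h1]
      exact Finset.prod_congr rfl fun j _ => by rw [pow_succ', MulAut.mul_apply]
    have hval : ν.1 ⟨z, hWP hz⟩ = φ.1 ⟨z, hWP hz⟩ ^ Nat.card W₁ := by
      rw [hν, Subgroup.val_finset_prod, MonoidHom.finsetProd_apply, Finset.prod_eq_pow_card (fun j _ => ?_),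
        Finset.card_range]
      rw [hσ, ← map_pow, fa_apply]
      refine congrArg φ.1 (Subtype.ext ?_)
      rw [bk_coe]
      have hc : (w₀ : G) * z = z * w₀ := (hP.selfNormalizing.2.2.2.1 _ hw _ hz)
      have hcj : Commute ((w₀ ^ j : M) : G) z := by
        rw [SubmonoidClass.coe_pow]
        exact Commute.pow_left hc j
      rw [mul_assoc, ← hcj.eq, inv_mul_cancel_left]
    have hν1 : ν = 1 := (mem_bot.mp (hi.le (show ν ∈ Fx from hfix)) :)
    rw [hν1] at hval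
    have hcop : (Nat.card W₂).Coprime (Nat.card W₁) :=
      (TP.coprime_fit_W₁ hP).coprime_dvd_left (p_dvd c)
    have hord : orderOf (φ.1 ⟨z, hWP hz⟩) ∣ Nat.gcd (Nat.card W₂) (Nat.card W₁) :=
      Nat.dvd_gcd (orderOf_dvd_of_pow_eq_one (hzp φ)) (orderOf_dvd_of_pow_eq_one hval.symm)
    rw [hcop.gcd_eq_one, Nat.dvd_one, orderOf_eq_one_iff] at hord
    exact hφ hord
  · exact le_antisymm hle (hi ▸ Nat.le_self_pow h0.ne' _)

theorem fixed_free {w₀ : M} (hw : (w₀ : G) ∈ W₁) (hw1 : w₀ ≠ 1) {v : MulAut (V M U)} (hv : v ∈ Ub c)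
    (hcomm : fa c w₀ * v = v * fa c w₀) : v = 1 := by
  obtain ⟨u, hu, rfl⟩ := (mem_Ub c).mp hv
  have hP := c.side.typeP
  let C : Subgroup G := NN c ⊓ U
  have hwU : ∀ x ∈ U, (w₀ : G) * x * (w₀ : G)⁻¹ ∈ U := fun x hx =>
    (mem_normalizer_iff.mp (hP.U_normal hw) x).mp hx
  have hinC : ∀ x : C, (x : G)⁻¹ * ((w₀ : G) * x * (w₀ : G)⁻¹) ∈ C := fun x =>
    C.mul_mem (C.inv_mem x.2)
      ⟨(mem_normalizer_iff.mp (NN_normal c w₀.2) _).mp x.2.1, hwU _ x.2.2⟩
  have hinj : ∀ x ∈ U, ∀ y ∈ U,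
      x⁻¹ * ((w₀ : G) * x * (w₀ : G)⁻¹) = y⁻¹ * ((w₀ : G) * y * (w₀ : G)⁻¹) → x = y := by
    intro x hx y hy e
    refine (mul_inv_eq_one.mp (TP.fpf hP w₀ hw (fun e1 => hw1 (Subtype.ext e1)) _
      (mul_mem hy (inv_mem hx)) ?_)).symm
    calc (w₀ : G) * (y * x⁻¹) = y * (y⁻¹ * ((w₀ : G) * y * (w₀ : G)⁻¹)) * ((w₀ : G) * x⁻¹) := by group
      _ = y * (x⁻¹ * ((w₀ : G) * x * (w₀ : G)⁻¹)) * ((w₀ : G) * x⁻¹) := by rw [e]
      _ = y * x⁻¹ * w₀ := by group
  have hD : (u : G)⁻¹ * ((w₀ : G) * u * (w₀ : G)⁻¹) ∈ C := by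
    refine ⟨?_, U.mul_mem (U.inv_mem hu) (hwU _ hu)⟩
    have hk : (u : G)⁻¹ * ((w₀ : G) * u * (w₀ : G)⁻¹) ∈ ⁅M, M⁆ :=
      mul_mem (inv_mem (TP.U_le_derived hP hu)) (TP.U_le_derived hP (hwU _ hu))
    refine (mem_NN c (k := ⟨_, hk⟩)).mpr ?_
    rw [fK_apply, show (⟨_, derived_le M hk⟩ : M) = u⁻¹ * (w₀ * u * w₀⁻¹) from rfl, map_mul, map_inv,
      map_mul, map_mul, hcomm, map_inv, mul_inv_cancel_right, inv_mul_cancel]
  obtain ⟨x, hx⟩ := (Finite.injective_iff_surjective (f := fun x : C => (⟨_, hinC x⟩ : C))).mp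
    (fun x y e => Subtype.ext (hinj x x.2.2 y y.2.2 (congrArg Subtype.val e))) ⟨_, hD⟩
  have e := hinj x x.2.2 u hu (congrArg Subtype.val hx)
  have h1 : (u : G) ∈ NN c := e ▸ x.2.1
  exact (mem_NN c (k := ⟨u, TP.U_le_derived hP hu⟩)).mp h1

/-- The properties used of the regular set. -/
structure Reg (R : Set (V M U)) (w₀ : M) : Prop where
  one_notMem : (1 : V M U) ∉ R
  fixed : ∀ φ, φ ≠ 1 → fa c w₀ φ = φ → φ ∈ R
  ub : ∀ v ∈ Ub c, ∀ φ ∈ R, v φ ∈ R
  sigma : ∀ φ ∈ R, fa c w₀ φ ∈ R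
  free : ∀ φ ∈ R, ∀ v ∈ Ub c, v φ = φ → v = 1

omit c in
theorem one_irr {K : Type*} [Group K] [Fintype K] : Cfsg.IsIrrCharacter K (fun _ => 1) :=
  CfsgLib.Char.isIrrCharacter_one

variable [Fintype ↥⁅M, M⁆] {R : Set (V M U)} {w₀ : M}

theorem th_move_one {γ : NK c →* ℂˣ} {φ : V M U} {w : G} (hw : w ∈ W₁) (hφ : ∀ w : M, (w : G) ∈ W₁ → fa c w φ = φ)
    (hγ : ∀ w : M, (w : G) ∈ W₁ → SideInd.cjN (data c) w γ = γ) {a b : ↥⁅M, M⁆}
    (hb : (b : G) = w * a * w⁻¹) : th c φ γ a = th c φ γ b := by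
  have h := th_move c φ γ ⟨w, TP.W₁_le c.side.typeP hw⟩ hb
  rwa [hφ _ (inv_mem hw), hγ _ (inv_mem hw)] at h

theorem th_ne_const {φ : V M U} (hφ : φ ≠ 1) {γ : NK c →* ℂˣ} (hγ : Inv c γ) :
    th c φ γ ≠ fun _ => 1 := by
  intro e
  obtain ⟨a, -, ha⟩ := th_kernel c hγ hφ
  exact ha (by rw [e])

theorem fixed_exists (hw : (w₀ : G) ∈ W₁) (hw1 : w₀ ≠ 1) (hR : Reg c R w₀) {θ : ↥⁅M, M⁆ → ℂ}
    (hθ : Cfsg.IsIrrCharacter ↥⁅M, M⁆ θ)
    (hker : ∃ a : ↥⁅M, M⁆, (a : G) ∈ Cfsg.fittingHallOf M ∧ θ a ≠ θ 1)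
    (hfix : SideInduce.Fixed W₁ θ) : ∃ φ : V M U, φ ≠ 1 ∧ fa c w₀ φ = φ ∧ θ = th c φ 1 := by
  classical
  letI : Fintype M := Fintype.ofFinite M
  haveI := finite_V c
  have hfree : ∀ φ : V M U, φ ≠ 1 → fa c w₀ φ = φ → ∀ v ∈ Ub c, v φ = φ → v = 1 :=
    fun φ h1 h2 => hR.free φ (hR.fixed φ h1 h2)
  let S := {θ : ↥⁅M, M⁆ → ℂ // Cfsg.IsIrrCharacter ↥⁅M, M⁆ θ ∧ SideInduce.Fixed W₁ θ}
  let f : {φ : V M U // fa c w₀ φ = φ} → S := fun φ =>
    if h1 : (φ : V M U) = 1 then ⟨fun _ => 1, one_irr, fun _ _ _ _ _ => rfl⟩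
    else ⟨th c φ 1, th_irr c (inv_one' c) (hfree φ h1 φ.2), fun w hw' a b hb =>
      th_move_one c hw' (fun w' hw'' => fixed_all c hw hw1 φ.2 hw'') (fun w' _ => SideInd.cjN_triv _ w') hb⟩
  have hinj : Function.Injective f := by
    intro φ ψ e
    have e' := congrArg Subtype.val e
    by_cases h1 : (φ : V M U) = 1 <;> by_cases h2 : (ψ : V M U) = 1
    · exact Subtype.ext (h1.trans h2.symm)
    · simp only [f, h1, h2, dif_pos, dif_neg, not_false_eq_true] at e'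
      exact absurd e'.symm (th_ne_const c h2 (inv_one' c))
    · simp only [f, h1, h2, dif_pos, dif_neg, not_false_eq_true] at e'
      exact absurd e' (th_ne_const c h1 (inv_one' c))
    · simp only [f, h1, h2, dif_neg, not_false_eq_true] at e'
      obtain ⟨-, v, hv, hve⟩ := th_eq c (inv_one' c) (inv_one' c) e'
      obtain ⟨u, hu, rfl⟩ := (mem_Ub c).mp hv
      have hconj : fa c (w₀ * u * w₀⁻¹) ∈ Ub c := (mem_Ub c).mpr ⟨_,
        (mem_normalizer_iff.mp (c.side.typeP.U_normal hw) _).mp hu, rfl⟩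
      have h3 : ((fa c u)⁻¹ * fa c (w₀ * u * w₀⁻¹)) (ψ : V M U) = (ψ : V M U) := by
        rw [map_mul, map_mul, MulAut.mul_apply, MulAut.mul_apply, MulAut.mul_apply,
          fixed_all c hw hw1 ψ.2 (inv_mem hw), ← hve, φ.2, hve]
        exact MulEquiv.symm_apply_apply _ _
      have h4 := hfree ψ h2 ψ.2 _ (mul_mem (inv_mem ((mem_Ub c).mpr ⟨u, hu, rfl⟩)) hconj) h3
      rw [inv_mul_eq_one, map_mul, map_mul, map_inv, eq_mul_inv_iff_mul_eq] at h4
      have h5 := fixed_free c hw hw1 ((mem_Ub c).mpr ⟨u, hu, rfl⟩) h4.symm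
      refine Subtype.ext ?_
      rw [hve, h5, MulAut.one_apply]
  have hcard : Nat.card {φ : V M U // fa c w₀ φ = φ} = Nat.card S := by
    rw [card_fixed_V c hw hw1]
    exact (SideInduce.card_fixed c.side.typeP
      (c.odd.1.of_dvd_nat (card_subgroup_dvd_card _))).symm
  haveI : Finite S := Nat.finite_of_card_ne_zero (by
    rw [← hcard, card_fixed_V c hw hw1]; exact Nat.card_pos.ne')
  obtain ⟨φ, hφ⟩ := ((Nat.bijective_iff_injective_and_card f).mpr ⟨hinj, hcard⟩).2 ⟨θ, hθ, hfix⟩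
  have e := congrArg Subtype.val hφ
  by_cases h1 : (φ : V M U) = 1
  · simp only [f, h1, dif_pos] at e
    obtain ⟨a, -, ha⟩ := hker
    exact absurd (by rw [← e]) ha
  · simp only [f, h1, dif_neg, not_false_eq_true] at e
    exact ⟨φ, h1, φ.2, e.symm⟩

theorem inv_not_fixed (hw : (w₀ : G) ∈ W₁) (hw1 : w₀ ≠ 1) (hR : Reg c R w₀) {γ : NK c →* ℂˣ}
    (hγ : Inv c γ) (hfix : ∀ w : M, (w : G) ∈ W₁ → SideInd.cjN (data c) w γ = γ) : γ = 1 := by
  haveI := finite_V c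
  haveI : Nontrivial {φ : V M U // fa c w₀ φ = φ} := Finite.one_lt_card_iff_nontrivial.mp
    (card_fixed_V c hw hw1 ▸ c.side.prime₂.one_lt)
  obtain ⟨φ, hφ⟩ := exists_ne (⟨1, map_one _⟩ : {φ : V M U // fa c w₀ φ = φ})
  have h1 : (φ : V M U) ≠ 1 := fun e => hφ (Subtype.ext e)
  have hfree := hR.free φ (hR.fixed φ h1 φ.2)
  obtain ⟨ψ, -, -, e⟩ := fixed_exists c hw hw1 hR (th_irr c hγ hfree) (th_kernel c hγ h1)
    fun w hw' a b hb => th_move_one c hw' (fun w' hw'' => fixed_all c hw hw1 φ.2 hw'') hfix hb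
  exact (th_eq c hγ (inv_one' c) e).1

/-- The set of characters and its properties. -/
theorem build (hw : (w₀ : G) ∈ W₁) (hw1 : w₀ ≠ 1) (hR : Reg c R w₀) (k : ℕ)
    (hcard : Nat.card R = k * (Nat.card W₂ - 1) * Nat.card (Ub c))
    (Γ : Finset (NK c →* ℂˣ)) (h1Γ : (1 : NK c →* ℂˣ) ∈ Γ) (hΓ : ∀ γ ∈ Γ, Inv c γ)
    (hΓW : ∀ γ ∈ Γ, ∀ w : M, (w : G) ∈ W₁ → SideInd.cjN (data c) w γ ∈ Γ)
    (h2q : 2 * Nat.card W₁ ∣ Nat.card (Ub c) - 1) (hlt : 1 < Nat.card (Ub c))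
    (hshape : (k * Γ.card = 1 ∧ NN c = Cfsg.fittingHallOf M ∧ Nat.card (Ub c) = Nat.card U ∧ IsCyclic U ∧
      Nat.card U = (Nat.card W₂ ^ Nat.card W₁ - 1) / (Nat.card W₂ - 1) ∧
      (Nat.card U).Coprime (Nat.card W₂ - 1) ∧ U ⊓ centralizer (Cfsg.fittingHallOf M : Set G) = ⊥ ∧
      (Nat.card ↥(Cfsg.fittingHallOf M) = Nat.card W₂ ^ Nat.card W₁ →
        ∀ u ∈ U, u ≠ 1 → Cfsg.fittingHallOf M ⊓ centralizer ({u} : Set G) = ⊥) ∧
      Cfsg.fittingHallOf M ≤ ⁅Cfsg.fittingHallOf M, U⁆) ∨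
      Numeric.Shape (Nat.card W₁) (Nat.card W₂) (k * Γ.card) (Nat.card (Ub c))) :
    ∃ Θ : Finset (↥⁅M, M⁆ → ℂ),
      SideChars M W₁ U W₂ (NN c) Θ (k * Γ.card) (Nat.card (Ub c)) := by
  classical
  haveI := finite_V c
  letI : Fintype R := Fintype.ofFinite R
  haveI : Finite (Ub c) := Nat.finite_of_card_ne_zero (by omega)
  letI : Fintype (Ub c) := Fintype.ofFinite _
  set s := R.toFinset ×ˢ Γ with hs
  set F : V M U × (NK c →* ℂˣ) → ↥⁅M, M⁆ → ℂ := fun x => th c x.1 x.2 with hF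
  have hRw : ∀ w : M, (w : G) ∈ W₁ → ∀ φ ∈ R, fa c w φ ∈ R := by
    intro w hw' φ hφ
    obtain ⟨i, rfl⟩ := exists_zpow c hw hw1 hw'
    obtain ⟨n, hn : w₀ ^ n = w₀ ^ i⟩ :=
      (isOfFinOrder_of_finite w₀).mem_powers_iff_mem_zpowers.mpr (⟨i, rfl⟩ : w₀ ^ i ∈ zpowers w₀)
    rw [← hn]
    clear hn hw'
    induction n with
    | zero => rw [pow_zero, map_one]; exact hφ
    | succ n ih => rw [pow_succ', map_mul, MulAut.mul_apply]; exact hR.sigma _ ih
  have hmem : ∀ θ, θ ∈ s.image F → ∃ φ ∈ R, ∃ γ ∈ Γ, θ = th c φ γ := by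
    intro θ hθ
    obtain ⟨⟨φ, γ⟩, hx, rfl⟩ := Finset.mem_image.mp hθ
    rw [Finset.mem_product, Set.mem_toFinset] at hx
    exact ⟨φ, hx.1, γ, hx.2, rfl⟩
  have hintro : ∀ φ ∈ R, ∀ γ ∈ Γ, th c φ γ ∈ s.image F := fun φ hφ γ hγ =>
    Finset.mem_image.mpr ⟨(φ, γ), Finset.mem_product.mpr ⟨Set.mem_toFinset.mpr hφ, hγ⟩, rfl⟩
  have hfib : ∀ θ ∈ s.image F, (s.filter fun x => F x = θ).card = Nat.card (Ub c) := by
    intro θ hθ
    obtain ⟨φ, hφ, γ, hγ, rfl⟩ := hmem θ hθ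
    have e : (s.filter fun x => F x = th c φ γ) =
        Finset.image (fun v : Ub c => (v.1 φ, γ)) Finset.univ := by
      ext ⟨ψ, δ⟩
      simp only [Finset.mem_filter, Finset.mem_image, Finset.mem_univ, true_and, hs, Finset.mem_product,
        Set.mem_toFinset, Prod.mk.injEq]
      constructor
      · rintro ⟨⟨-, hδ⟩, h⟩
        obtain ⟨e1, v, hv, e2⟩ := th_eq c (hΓ δ hδ) (hΓ γ hγ) h
        exact ⟨⟨v, hv⟩, e2.symm, e1.symm⟩
      · rintro ⟨v, rfl, rfl⟩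
        exact ⟨⟨hR.ub _ v.2 φ hφ, hγ⟩, th_act c (hΓ γ hγ) φ v.2⟩
    rw [e, Finset.card_image_of_injective, Finset.card_univ, Nat.card_eq_fintype_card]
    intro v v' hvv
    have h := hR.free φ hφ ((v' : MulAut (V M U))⁻¹ * v) (mul_mem (inv_mem v'.2) v.2) (by
      rw [MulAut.mul_apply, show v.1 φ = v'.1 φ from congrArg Prod.fst hvv]
      exact MulEquiv.symm_apply_apply _ _)
    exact Subtype.ext (inv_mul_eq_one.mp h).symm
  have hΘ : (s.image F).card = k * Γ.card * (Nat.card W₂ - 1) := by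
    have h := Finset.card_eq_sum_card_image F s
    rw [Finset.sum_congr rfl hfib, Finset.sum_const, smul_eq_mul, hs, Finset.card_product,
      Set.toFinset_card, ← Nat.card_eq_fintype_card, hcard] at h
    refine Nat.eq_of_mul_eq_mul_right (show 0 < Nat.card (Ub c) by omega) ?_
    rw [← h]; ring
  have hP := c.side.typeP
  refine ⟨s.image F, ?_⟩
  exact {
    fit_le := fit_le_NN c
    le_derived := NN_le c
    normal := NN_normal c
    card_derived := card_derived c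
    ub_dvd := h2q
    one_lt := hlt
    ub_le := Nat.le_of_dvd Nat.card_pos (card_Ub_dvd c)
    pow_le := by
      rw [← c.facts.index]
      exact Nat.le_of_dvd Nat.card_pos (Dvd.intro_left _ (Coprime.card_mul_relIndex_eq c.facts.le))
    irr := fun θ hθ => by
      obtain ⟨φ, hφ, γ, hγ, rfl⟩ := hmem θ hθ
      exact th_irr c (hΓ γ hγ) (hR.free φ hφ)
    degree := fun θ hθ => by
      obtain ⟨φ, -, γ, -, rfl⟩ := hmem θ hθ
      exact th_one c φ γ
    off := fun θ hθ a ha => by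
      obtain ⟨φ, -, γ, -, rfl⟩ := hmem θ hθ
      exact th_off c φ γ ha
    kernel := fun θ hθ => by
      obtain ⟨φ, hφ, γ, hγ, rfl⟩ := hmem θ hθ
      exact th_kernel c (hΓ γ hγ) fun e => hR.one_notMem (e ▸ hφ)
    stable := fun w hw' θ hθ => by
      obtain ⟨φ, hφ, γ, hγ, rfl⟩ := hmem θ hθ
      let wm : M := ⟨w, TP.W₁_le hP hw'⟩
      have hwi : ((wm⁻¹ : M) : G) ∈ W₁ := inv_mem hw'
      exact ⟨_, hintro _ (hRw _ hwi φ hφ) _ (hΓW γ hγ _ hwi), fun a b hb => th_move c φ γ wm hb⟩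
    fixed := fun θ hθ hker hfix => by
      obtain ⟨φ, h1, h2, rfl⟩ := fixed_exists c hw hw1 hR hθ hker hfix
      exact hintro φ (hR.fixed φ h1 h2) 1 h1Γ
    card_eq := hΘ
    shape := hshape }

end CfsgLib.OddOrder.Final.SideCharsBuild

namespace CfsgLib.OddOrder.Final

open Subgroup SideModuleData SideLift SideCharsBuild

variable {G : Type*} [Group G] [Finite G]

/-- **The characters of a side.** -/
theorem exists_sideChars (hG : Cfsg.IsMinSimpleOddOrder G) {M W₁ U W₂ : Subgroup G} (h : Side M W₁ U W₂) :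
    ∃ (N : Subgroup G) (Θ : Finset (↥⁅M, M⁆ → ℂ)) (k ub : ℕ), SideChars M W₁ U W₂ N Θ k ub := by
  classical
  have c : Ctx M W₁ U W₂ := ⟨hG, h, facts hG h⟩
  letI : Fintype ↥⁅M, M⁆ := Fintype.ofFinite _
  haveI := finite_V c
  have hP := h.typeP
  obtain ⟨w, hw, hw1⟩ := (bot_or_exists_ne_one W₁).resolve_left hP.W₁_ne
  set w₀ : M := ⟨w, TP.W₁_le hP hw⟩ with hw₀
  have hw₀1 : w₀ ≠ 1 := fun e => hw1 (congrArg Subtype.val e)
  have hσ : fa c w₀ ^ Nat.card W₁ = 1 := by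
    have h1 : (⟨w, hw⟩ : W₁) ^ Nat.card W₁ = 1 := pow_card_eq_one'
    have h2 := congrArg Subtype.val h1
    rw [SubmonoidClass.coe_pow, Subgroup.coe_one] at h2
    rw [← map_pow, show w₀ ^ Nat.card W₁ = 1 from Subtype.ext
      ((SubmonoidClass.coe_pow w₀ _).trans h2), map_one]
  have hUn : ∀ u ∈ Ub c, fa c w₀ * u * (fa c w₀)⁻¹ ∈ Ub c := by
    intro v hv
    obtain ⟨u, hu, rfl⟩ := (mem_Ub c).mp hv
    exact (mem_Ub c).mpr ⟨w₀ * u * w₀⁻¹, (mem_normalizer_iff.mp (hP.U_normal hw) _).mp hu,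
      by rw [map_mul, map_mul, map_inv]⟩
  have hne : Ub c ≠ ⊥ := fun e => by
    have h1 : ∀ φ : V M U, φ = 1 := fun φ => eq_one_of_fixed c fun v hv => by
      rw [e, mem_bot] at hv
      rw [hv, MulAut.one_apply]
    haveI : Subsingleton (V M U) := ⟨fun a b => (h1 a).trans (h1 b).symm⟩
    exact absurd ((card_V c).symm.trans (Nat.card_of_subsingleton (1 : V M U)))
      (Nat.one_lt_pow h.prime₁.ne_zero h.prime₂.one_lt).ne'
  obtain ⟨h2q, hlt, R, k, hR1, hR2, hR3, hR4, hR5, hR6, hR7⟩ := SideModule.exists_regular (Ub c)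
    (fa c w₀) h.prime₂ (p_ne_two c) h.prime₁ (q_ne_two c) (pow_V c) (card_V c) (Ub_comm c) hne
    (hG.1.of_dvd_nat ((card_Ub_dvd c).trans (card_subgroup_dvd_card U)))
    (((TP.coprime_fit_U hP).symm.coprime_dvd_left (card_Ub_dvd c)).coprime_dvd_right (p_dvd c))
    hσ hUn (fun u hu e => fixed_free c (w₀ := w₀) hw hw₀1 hu e) (card_fixed_V c (w₀ := w₀) hw hw₀1)
    (fun φ hφ => eq_one_of_fixed c hφ)
  have hR : Reg c R w₀ := ⟨hR1, hR2, hR3, hR4, hR5⟩
  have hone : ∀ γ ∈ ({1} : Finset (NK c →* ℂˣ)), Inv c γ := fun γ hγ => by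
    rw [Finset.mem_singleton.mp hγ]; exact inv_one' c
  have honeW : ∀ γ ∈ ({1} : Finset (NK c →* ℂˣ)), ∀ w : M, (w : G) ∈ W₁ →
      SideInd.cjN (data c) w γ ∈ ({1} : Finset (NK c →* ℂˣ)) := fun γ hγ w _ => by
    rw [Finset.mem_singleton.mp hγ, SideInd.cjN_triv]; exact Finset.mem_singleton_self 1
  rcases hR7 with ⟨rfl, hall, hcyc, hform, hcop⟩ | hrest
  · by_cases hA : NN c = Cfsg.fittingHallOf M ∧ Cfsg.fittingHallOf M ≤ ⁅Cfsg.fittingHallOf M, U⁆
    · have hub : Nat.card (Ub c) = Nat.card U := by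
        have h1 := card_derived c
        rw [TP.card_derived hP, hA.1, mul_comm] at h1
        exact (Nat.eq_of_mul_eq_mul_right Nat.card_pos h1).symm
      have hinj : ∀ u : M, (u : G) ∈ U → fa c u = 1 → (u : G) = 1 := fun u hu e =>
        mem_bot.mp (hP.U_compl.2.2.1.le
          ⟨hA.1.le ((mem_NN c (k := ⟨u, TP.U_le_derived hP hu⟩)).mpr e), hu⟩)
      have hU : IsCyclic U := by
        haveI := hcyc
        let f : U →* Ub c := ((fa c).comp (Subgroup.inclusion (TP.U_le hP))).codRestrict (Ub c)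
          fun u => (mem_Ub c).mpr ⟨_, u.2, rfl⟩
        exact isCyclic_of_injective f ((injective_iff_map_eq_one f).mpr fun u hu =>
          Subtype.ext (hinj _ u.2 (congrArg Subtype.val hu)))
      refine Exists.elim (build c (w₀ := w₀) hw hw₀1 hR 1 hR6 {1} (Finset.mem_singleton_self 1) hone honeW
        h2q hlt (Or.inl ⟨by simp, hA.1, hub, hU, hub ▸ hform, hub ▸ hcop, ?_, ?_, hA.2⟩))
        fun Θ hΘ => ⟨_, Θ, _, _, hΘ⟩
      · refine le_bot_iff.mp fun u hu => mem_bot.mpr ?_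
        exact hinj ⟨u, TP.U_le hP hu.1⟩ hu.1 (fa_cen c hu.2)
      · intro hcard u hu hu1
        have hb : base (Cfsg.fittingHallOf M) U = ⊥ := by
          refine eq_bot_of_card_eq _ ?_
          have h1 := Coprime.card_mul_relIndex_eq c.facts.le
          rw [c.facts.index, ← hcard] at h1
          exact Nat.eq_of_mul_eq_mul_right Nat.card_pos (h1.trans (one_mul _).symm)
        refine le_bot_iff.mp fun x hx => mem_bot.mpr ?_
        by_contra hx1
        have hxb : x ∉ base (Cfsg.fittingHallOf M) U := fun e => hx1 (mem_bot.mp (hb ▸ e))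
        obtain ⟨φ, hφ⟩ := exists_sep c.facts.comm c.facts.le (x := ⟨x, hx.1⟩) hxb
        set um : M := ⟨u, TP.U_le hP hu⟩ with hum
        set D : V M U → V M U := fun ψ => fa c um ψ / ψ with hD
        have hDi : Function.Injective D := fun a b e => by
          have e1 : fa c um (a / b) = a / b := by rw [map_div]; exact div_eq_div_iff_div_eq_div.mp e
          by_contra hab
          have hmem : a / b ∈ R := by
            rw [hall]
            exact fun e2 => hab (div_eq_one.mp e2)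
          exact hu1 (hinj um hu (hR5 _ hmem _ ((mem_Ub c).mpr ⟨um, hu, rfl⟩) e1))
        obtain ⟨ψ, hψ⟩ := Finite.injective_iff_surjective.mp hDi φ
        refine hφ ?_
        rw [← hψ]
        show (fa c um ψ / ψ).1 ⟨x, hx.1⟩ = 1
        rw [Subgroup.coe_div, MonoidHom.div_apply, fa_apply]
        have e : bk c um ⟨x, hx.1⟩ = ⟨x, hx.1⟩ := Subtype.ext (by
          rw [bk_coe, mul_assoc, mem_centralizer_singleton_iff.mp hx.2, inv_mul_cancel_left])
        rw [e, div_self']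
    · obtain ⟨γ, hγ, hγ1⟩ := exists_inv c hA
      letI : Fintype W₁ := Fintype.ofFinite _
      let g : W₁ → (NK c →* ℂˣ) := fun a => SideInd.cjN (data c) ⟨a, TP.W₁_le hP a.2⟩ γ
      have hgi : Function.Injective g := by
        intro a b e
        by_contra hab
        set d : M := (⟨b, TP.W₁_le hP b.2⟩ : M)⁻¹ * ⟨a, TP.W₁_le hP a.2⟩ with hd
        have hdW : (d : G) ∈ W₁ := mul_mem (inv_mem b.2) a.2
        have hd1 : d ≠ 1 := fun e1 => hab (Subtype.ext (congrArg Subtype.val (inv_mul_eq_one.mp e1)).symm)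
        have hdγ : SideInd.cjN (data c) d γ = γ := by
          rw [hd, SideInd.cjN_mul, show SideInd.cjN (data c) ⟨a, _⟩ γ = g b from e, ← SideInd.cjN_mul,
            inv_mul_cancel, SideInd.cjN_one]
        exact hγ1 (inv_not_fixed c (w₀ := w₀) hw hw₀1 hR hγ fun w' hw' =>
          inv_fixed_all c hdW hd1 hdγ hw')
      have hg1 : ∀ a, g a ≠ 1 := fun a e => hγ1 (by
        have h1 := congrArg (SideInd.cjN (data c) (⟨a, TP.W₁_le hP a.2⟩ : M)⁻¹) e
        rwa [SideInd.cjN_triv, ← SideInd.cjN_mul, inv_mul_cancel, SideInd.cjN_one] at h1)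
      set Γ : Finset (NK c →* ℂˣ) := insert 1 (Finset.univ.image g) with hΓdef
      have hΓc : Γ.card = Nat.card W₁ + 1 := by
        rw [hΓdef, Finset.card_insert_of_notMem, Finset.card_image_of_injective _ hgi, Finset.card_univ,
          Nat.card_eq_fintype_card]
        simp only [Finset.mem_image, Finset.mem_univ, true_and, not_exists]
        exact hg1
      refine Exists.elim (build c (w₀ := w₀) hw hw₀1 hR 1 hR6 Γ (Finset.mem_insert_self _ _) ?_ ?_ h2q hlt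
        (Or.inr ⟨h2q, hlt, Or.inr (Or.inr ⟨by rw [hΓc, one_mul], hform.ge⟩)⟩))
        fun Θ hΘ => ⟨_, Θ, _, _, hΘ⟩
      · intro δ hδ
        rcases Finset.mem_insert.mp hδ with rfl | hδ
        · exact inv_one' c
        · obtain ⟨a, -, rfl⟩ := Finset.mem_image.mp hδ
          exact hγ.move c _
      · intro δ hδ w' hw'
        rcases Finset.mem_insert.mp hδ with rfl | hδ
        · rw [SideInd.cjN_triv]; exact Finset.mem_insert_self _ _
        · obtain ⟨a, -, rfl⟩ := Finset.mem_image.mp hδ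
          refine Finset.mem_insert_of_mem (Finset.mem_image.mpr
            ⟨⟨(w' : G) * a, mul_mem hw' a.2⟩, Finset.mem_univ _, ?_⟩)
          rw [← SideInd.cjN_mul]
          exact congrArg (fun z => SideInd.cjN (data c) z γ) (Subtype.ext rfl)
  · obtain ⟨Θ, hΘ⟩ := build c (w₀ := w₀) hw hw₀1 hR k hR6 {1} (Finset.mem_singleton_self 1) hone honeW h2q hlt
      (Or.inr ⟨h2q, hlt, by
        rw [Finset.card_singleton, mul_one]
        rcases hrest with h1 | h1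
        · exact Or.inl h1
        · exact Or.inr (Or.inl h1)⟩)
    exact ⟨_, Θ, _, _, hΘ⟩

end CfsgLib.OddOrder.Final
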