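import Cfsg.Agent.Lib.OddOrder.Final.Glue
import Cfsg.Agent.Lib.OddOrder.Final.SideChars
import Cfsg.Agent.Lib.OddOrder.Final.Neighbour

/-!
A minimal simple group of odd order has a maximal subgroup of Type V.
-/

set_option autoImplicit false

namespace CfsgLib.OddOrder.Final

/-- No minimal simple group of odd order is without Type V. -/
theorem false_of_noTypeV {G : Type*} [Group G] [Finite G] (hG : Cfsg.IsMinSimpleOddOrder G)
    (noV : ∀ M : Subgroup G, IsCoatom M → ¬ Cfsg.IsOfTypeV M) : False :=
  false_of_glue hG noV (fun _ _ _ _ h => exists_sideChars hG h)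
    fun _ _ _ _ _ _ h hfS hfT hSII hTII => Neighbour.exists_mover_II hG h hfS hfT hSII hTII

end CfsgLib.OddOrder.Final
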