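import Cfsg.Agent.Lib.OddOrder.Final.NeighbourParity
import Cfsg.Agent.Lib.OddOrder.Final.GridXf
import Cfsg.Agent.S1508
import Mathlib

/-!
The grid of a family whose support avoids the regular part of a cyclic TI subgroup, and parity of values.
-/

set_option autoImplicit false

open scoped ComplexConjugate

namespace CfsgLib.OddOrder.Final.Neighbour

open CfsgLib.Char CfsgLib.Char.CyclicTI CfsgLib.Char.Coherence
open Grid (fst₀ snd₀)

section arith

variable {ι κ : Type*} [Fintype ι] [Fintype κ] [DecidableEq κ]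

/-- A grid `x i + y l` of squared norm at most two vanishing at the origin is zero. -/
theorem line_zero (hι : 3 ≤ Fintype.card ι) (hκ : 3 ≤ Fintype.card κ) {a : ι → κ → ℤ} {i₀ : ι} {l₀ : κ}
    (hlin : ∀ i l, a i l = a i l₀ + a i₀ l - a i₀ l₀) (h0 : a i₀ l₀ = 0) (hsum : ∑ i, ∑ l, a i l ^ 2 ≤ 2) :
    ∀ i l, a i l = 0 := by
  classical
  have hx : ∀ i, a i l₀ = 0 := by
    intro i
    by_contra hne
    have hi : i ≠ i₀ := fun e => hne (e ▸ h0)
    have h1 : ∀ l, 1 ≤ a i l ^ 2 + a i₀ l ^ 2 := fun l => by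
      by_cases hl : a i₀ l = 0
      · have : a i l = a i l₀ := by rw [hlin i l, hl, h0]; ring
        rw [this]
        have : 0 < a i l₀ ^ 2 := sq_pos_iff.mpr hne
        nlinarith [sq_nonneg (a i₀ l)]
      · have : 0 < a i₀ l ^ 2 := sq_pos_iff.mpr hl
        nlinarith [sq_nonneg (a i l)]
    have h2 : ∑ l, (a i l ^ 2 + a i₀ l ^ 2) ≤ ∑ i, ∑ l, a i l ^ 2 := by
      rw [Finset.sum_add_distrib, ← Finset.sum_pair hi (f := fun i' => ∑ l, a i' l ^ 2)]
      exact Finset.sum_le_sum_of_subset_of_nonneg (Finset.subset_univ _)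
        fun i' _ _ => Finset.sum_nonneg fun l _ => sq_nonneg _
    have h3 := Finset.card_nsmul_le_sum Finset.univ _ _ fun l _ => h1 l
    rw [Finset.card_univ, nsmul_eq_mul, mul_one] at h3
    have : (3 : ℤ) ≤ Fintype.card κ := by exact_mod_cast hκ
    linarith
  have hy : ∀ l, a i₀ l = 0 := by
    intro l
    by_contra hne
    have h1 : ∀ i, 1 ≤ ∑ l', a i l' ^ 2 := fun i => by
      refine le_trans ?_ (Finset.single_le_sum (f := fun l' => a i l' ^ 2) (fun l' _ => sq_nonneg _) (Finset.mem_univ l))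
      rw [show a i l = a i₀ l by rw [hlin i l, hx, h0]; ring]
      exact sq_pos_iff.mpr hne
    have h3 := Finset.card_nsmul_le_sum Finset.univ _ _ fun i _ => h1 i
    rw [Finset.card_univ, nsmul_eq_mul, mul_one] at h3
    have : (3 : ℤ) ≤ Fintype.card ι := by exact_mod_cast hι
    linarith
  exact fun i l => by rw [hlin, hx, hy, h0]; ring

/-- A grid `x i + y l` with `1` at the origin and squared norm at most `|ι| + 1 < |κ|` is a column. -/
theorem column_eq (hι : 2 ≤ Fintype.card ι) (hlt : Fintype.card ι + 1 < Fintype.card κ) {a : ι → κ → ℤ} {i₀ : ι}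
    {l₀ : κ} (hlin : ∀ i l, a i l = a i l₀ + a i₀ l - a i₀ l₀) (h0 : a i₀ l₀ = 1)
    (hsum : ∑ i, ∑ l, a i l ^ 2 ≤ Fintype.card ι + 1) :
    ∀ i l, a i l = if l = l₀ then 1 else 0 := by
  classical
  have hx : ∀ i, a i l₀ = a i₀ l₀ := by
    intro i
    by_contra hne
    have hi : i ≠ i₀ := fun e => hne (by rw [e])
    have h1 : ∀ l, 1 ≤ a i l ^ 2 + a i₀ l ^ 2 := fun l => by
      by_cases hl : a i₀ l = 0
      · have : a i l ≠ 0 := by rw [hlin i l, hl]; intro e; exact hne (by linarith)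
        have : 0 < a i l ^ 2 := sq_pos_iff.mpr this
        nlinarith [sq_nonneg (a i₀ l)]
      · have : 0 < a i₀ l ^ 2 := sq_pos_iff.mpr hl
        nlinarith [sq_nonneg (a i l)]
    have h2 : ∑ l, (a i l ^ 2 + a i₀ l ^ 2) ≤ ∑ i, ∑ l, a i l ^ 2 := by
      rw [Finset.sum_add_distrib, ← Finset.sum_pair hi (f := fun i' => ∑ l, a i' l ^ 2)]
      exact Finset.sum_le_sum_of_subset_of_nonneg (Finset.subset_univ _)
        fun i' _ _ => Finset.sum_nonneg fun l _ => sq_nonneg _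
    have h3 := Finset.card_nsmul_le_sum Finset.univ _ _ fun l _ => h1 l
    rw [Finset.card_univ, nsmul_eq_mul, mul_one] at h3
    have : (Fintype.card ι : ℤ) + 2 ≤ Fintype.card κ := by exact_mod_cast hlt
    linarith
  have hrow : ∀ i l, a i l = a i₀ l := fun i l => by rw [hlin, hx]; ring
  have hq : (2 : ℤ) ≤ Fintype.card ι := by exact_mod_cast hι
  simp only [hrow, Finset.sum_const, Finset.card_univ, nsmul_eq_mul] at hsum
  intro i l
  rw [hrow]
  by_cases hl : l = l₀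
  · rw [if_pos hl, hl, h0]
  · rw [if_neg hl]
    by_contra hne
    have h1 : 1 ≤ a i₀ l ^ 2 := sq_pos_iff.mpr hne
    have h2 : a i₀ l ^ 2 + a i₀ l₀ ^ 2 ≤ ∑ l, a i₀ l ^ 2 := by
      rw [← Finset.sum_pair hl (f := fun l' => a i₀ l' ^ 2)]
      exact Finset.sum_le_sum_of_subset_of_nonneg (Finset.subset_univ _) fun l _ _ => sq_nonneg _
    rw [h0] at h2
    nlinarith

end arith

variable {G : Type*} [Group G] [Fintype G] {W₁ W₂ : Subgroup G} {η : (↥(W₁ ⊔ W₂) →* ℂˣ) → (G → ℂ)}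

/-- The family at the inverse character is the complex conjugate. -/
theorem family_conj (hW : Cfsg.IsSelfNormalizingCyclic W₁ W₂) (hodd : Odd (Nat.card ↥(W₁ ⊔ W₂)))
    (hη : Cfsg.IsCyclicTIFamily W₁ W₂ η) (ω : ↥(W₁ ⊔ W₂) →* ℂˣ) (g : G) : η ω⁻¹ g = conj (η ω g) := by
  rw [show conj (η ω g) = Grid.cstar (η ω g) from rfl, family_map hW hodd hη]
  refine congrArg (fun f => η f g) (MonoidHom.ext fun w => Units.ext ?_)
  have h1 : ‖((ω w : ℂˣ) : ℂ)‖ = 1 := Complex.norm_eq_one_of_pow_eq_one (n := Nat.card ↥(W₁ ⊔ W₂))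
    (by rw [← Units.val_pow_eq_pow_val, ← map_pow, pow_card_eq_one', map_one, Units.val_one]) Nat.card_pos.ne'
  simp [Grid.cstar, Complex.inv_eq_conj h1]

theorem hom_eq_one_of_sq (hodd : Odd (Nat.card ↥(W₁ ⊔ W₂))) {ω : ↥(W₁ ⊔ W₂) →* ℂˣ} (h : ω⁻¹ = ω) : ω = 1 := by
  refine MonoidHom.ext fun w => ?_
  have h2 : ω w * ω w = 1 := by
    conv_lhs => arg 1; rw [← h]
    exact inv_mul_cancel _
  obtain ⟨k, hk⟩ := hodd
  have h3 : ω w ^ (2 * k + 1) = 1 := by rw [← map_pow, ← hk, pow_card_eq_one', map_one]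
  rw [pow_succ, pow_mul, sq, h2, one_pow, one_mul] at h3
  exact h3

variable [Fintype (FstChar W₁ W₂)] [Fintype (SndChar W₁ W₂)]

/-- The grid of a virtual character vanishing on the regular part. -/
theorem exists_lin (hW : Cfsg.IsSelfNormalizingCyclic W₁ W₂) (hη : Cfsg.IsCyclicTIFamily W₁ W₂ η) {θ : G → ℂ}
    (hθ : Cfsg.IsGeneralizedCharacter G θ) (hθV : ∀ g ∈ vset W₁ W₂, θ g = 0) :
    ∃ a : FstChar W₁ W₂ → SndChar W₁ W₂ → ℤ, (∀ f g, Cfsg.classInner θ (η (f.1 * g.1)) = a f g) ∧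
      (∀ f g, a f g = a f (snd₀ W₁ W₂) + a (fst₀ W₁ W₂) g - a (fst₀ W₁ W₂) (snd₀ W₁ W₂)) ∧
      Cfsg.classInner θ (fun _ => 1) = a (fst₀ W₁ W₂) (snd₀ W₁ W₂) := by
  obtain ⟨a, ha⟩ := Grid.exists_grid hW hη hθ
  have e1 := fun f => ha f (snd₀ W₁ W₂)
  have e2 := fun g => ha (fst₀ W₁ W₂) g
  have e3 := ha (fst₀ W₁ W₂) (snd₀ W₁ W₂)
  simp only [show (snd₀ W₁ W₂).1 = 1 from rfl, Grid.hom_mul_one'] at e1
  simp only [show (fst₀ W₁ W₂).1 = 1 from rfl, Grid.hom_one_mul'] at e2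
  simp only [show (fst₀ W₁ W₂).1 = 1 from rfl, show (snd₀ W₁ W₂).1 = 1 from rfl, Grid.hom_one_mul'] at e3
  refine ⟨a, ha, fun f g => ?_, by rw [← e3, hη.map_one]⟩
  have h := Grid.coef_mul hW hη (IsGeneralizedCharacter.isClassFunction hθ) hθV f g
  rw [ha, e1, e2, e3] at h
  exact_mod_cast h

/-- A short virtual character orthogonal to `1` and zero on the regular part has no grid. -/
theorem grid_short (hW : Cfsg.IsSelfNormalizingCyclic W₁ W₂) (hodd : Odd (Nat.card ↥(W₁ ⊔ W₂)))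
    (hη : Cfsg.IsCyclicTIFamily W₁ W₂ η) {θ : G → ℂ} (hθ : Cfsg.IsGeneralizedCharacter G θ)
    (hθV : ∀ g ∈ vset W₁ W₂, θ g = 0) (h1 : Cfsg.classInner θ (fun _ => 1) = 0) {N : ℕ} (hN : N ≤ 2)
    (hn : Cfsg.classInner θ θ = N) (ω : ↥(W₁ ⊔ W₂) →* ℂˣ) : Cfsg.classInner θ (η ω) = 0 := by
  classical
  obtain ⟨a, ha, hlin, h0⟩ := exists_lin hW hη hθ hθV
  rw [h1] at h0
  obtain ⟨h31, h32, -, -⟩ := Grid.three_le hW hodd
  obtain ⟨hc1, hc2⟩ := card_fstChar hW
  have hz := line_zero (a := a) (by rwa [← Nat.card_eq_fintype_card, hc1]) (by rwa [← Nat.card_eq_fintype_card, hc2])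
    hlin (by exact_mod_cast h0.symm) (((Grid.bessel hW hη hθ ha hn).1).trans (by exact_mod_cast hN))
  obtain ⟨⟨f, g⟩, rfl⟩ := (mul_bijective hW).2 ω
  rw [ha, hz]; simp

namespace Fam

variable {ι : Type*} [Fintype ι] {X : Set G} {e : ℕ} {Φ : G → ℂ} {χ : ι → G → ℂ} {d : ι → ℕ} {i₀ : ι}
  {c : ι → ι} (F : Fam X e Φ χ d i₀ c)
include F

omit [Fintype (FstChar W₁ W₂)] [Fintype (SndChar W₁ W₂)] in
/-- No member is real. -/
theorem conj_ne' (hodd : Odd (Nat.card G)) (i : ι) : c i ≠ i := by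
  intro h
  obtain ⟨z, φ, hz, hz'⟩ := CharDeep.GenChar.exists_sign_irr (F.gen i) (F.norm_one i)
  have hr : ∀ g, ((φ : G → ℂ) g).im = 0 := fun g => by
    have h1 := F.conj_mem i g
    rw [h, hz', Pi.smul_apply, smul_eq_mul, map_mul, map_intCast] at h1
    refine Complex.conj_eq_iff_im.1 (mul_left_cancel₀ ?_ h1)
    rcases hz with rfl | rfl <;> norm_num
  have h1 := F.orth_one i
  rw [hz', classInner_smul_left, Cfsg.Agent.S0161.result hodd φ hr, inner_one_one, mul_one] at h1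
  rcases hz with rfl | rfl <;> norm_num at h1

/-- The members are orthogonal to the whole grid when the support avoids the regular part. -/
theorem grid_orth (hG : Odd (Nat.card G)) (hW : Cfsg.IsSelfNormalizingCyclic W₁ W₂)
    (hodd : Odd (Nat.card ↥(W₁ ⊔ W₂))) (hη : Cfsg.IsCyclicTIFamily W₁ W₂ η) (hX : ∀ g ∈ vset W₁ W₂, g ∉ X)
    (i : ι) (ω : ↥(W₁ ⊔ W₂) →* ℂˣ) : Cfsg.classInner (χ i) (η ω) = 0 := by
  have hne := F.conj_ne' hG i
  have hgen : Cfsg.IsGeneralizedCharacter G (χ i - χ (c i)) := IsGeneralizedCharacter.sub (F.gen i) (F.gen (c i))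
  have h := grid_short hW hodd hη hgen (fun g hg => by
      rw [Pi.sub_apply, F.diff_van i g (hX g hg), F.diff_van (c i) g (hX g hg), F.conj_weight, sub_self])
    (by rw [classInner_sub_left, F.orth_one, F.orth_one, sub_zero]) (N := 2) le_rfl (by
      rw [classInner_sub_left, classInner_sub_right, classInner_sub_right, F.norm_one, F.norm_one,
        F.orth _ _ hne, F.orth _ _ hne.symm]
      norm_num) ω
  rw [classInner_sub_left, sub_eq_zero] at h
  by_contra hz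
  obtain ⟨ε, -, hε⟩ := eq_smul_of_norm_one (F.gen i) (F.norm_one i) (Grid.isGeneralizedCharacter_member hη ω)
    (by rw [hη.orthonormal, if_pos rfl]) hz
  rw [hε] at h hz
  rw [classInner_smul_right, classInner_smul_right, F.orth (c i) i hne, mul_zero] at h
  rw [classInner_smul_right] at hz
  exact hz h

/-- When the grid takes the whole norm, `Φ` is the grid minus the distinguished member. -/
theorem eq_grid (hG : Odd (Nat.card G)) (hW : Cfsg.IsSelfNormalizingCyclic W₁ W₂)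
    (hodd : Odd (Nat.card ↥(W₁ ⊔ W₂))) (hη : Cfsg.IsCyclicTIFamily W₁ W₂ η) (hX : ∀ g ∈ vset W₁ W₂, g ∉ X)
    (hbig : e + 2 < wt d) {a : FstChar W₁ W₂ → SndChar W₁ W₂ → ℤ}
    (ha : ∀ f g, Cfsg.classInner Φ (η (f.1 * g.1)) = a f g) (hsum : ∑ f, ∑ g, a f g ^ 2 = (e : ℤ)) :
    Φ = ∑ f, ∑ g, (a f g : ℂ) • η (f.1 * g.1) - χ i₀ := by
  classical
  set D : G → ℂ := ∑ f, ∑ g, (a f g : ℂ) • η (f.1 * g.1) with hD
  have hDχ : Cfsg.classInner D (χ i₀) = 0 := by
    rw [hD, classInner_sum_left]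
    refine Finset.sum_eq_zero fun f _ => ?_
    rw [classInner_sum_left]
    refine Finset.sum_eq_zero fun g _ => ?_
    rw [classInner_smul_left, ← classInner_conj_symm, F.grid_orth hG hW hodd hη hX i₀, map_zero, mul_zero]
  have hΦD : Cfsg.classInner Φ D = (e : ℂ) := by
    rw [hD, classInner_sum_right, ← Int.cast_natCast, ← hsum]
    push_cast
    refine Finset.sum_congr rfl fun f _ => ?_
    rw [classInner_sum_right]
    exact Finset.sum_congr rfl fun g _ => by rw [classInner_smul_right, map_intCast, ha, sq]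
  have hDD : Cfsg.classInner D D = (e : ℂ) := by
    conv_lhs => arg 2; rw [hD]
    rw [classInner_sum_right, ← Int.cast_natCast, ← hsum]
    push_cast
    refine Finset.sum_congr rfl fun f _ => ?_
    rw [classInner_sum_right]
    exact Finset.sum_congr rfl fun g _ => by
      rw [classInner_smul_right, map_intCast, hD, Grid.classInner_comb hW hη, sq]
  have hDΦ : Cfsg.classInner D Φ = (e : ℂ) := by rw [← classInner_conj_symm, hΦD, Complex.conj_natCast]
  have hΦχ : Cfsg.classInner Φ (χ i₀) = -1 := by rw [F.coef_eq hbig, if_pos rfl]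
  have hχΦ : Cfsg.classInner (χ i₀) Φ = -1 := by rw [← classInner_conj_symm, hΦχ, map_neg, map_one]
  have hχD : Cfsg.classInner (χ i₀) D = 0 := by rw [← classInner_conj_symm, hDχ, map_zero]
  refine sub_eq_zero.mp (classInner_self_eq_zero.mp ?_)
  simp only [classInner_sub_left, classInner_sub_right, F.norm, F.norm_one, hΦD, hDD, hDΦ, hΦχ, hχΦ, hDχ, hχD]
  ring

/-- With `e = |W₁|` and `|W₁| + 1 < |W₂|`, `Φ` is a column minus the distinguished member. -/
theorem column (hG : Odd (Nat.card G)) (hW : Cfsg.IsSelfNormalizingCyclic W₁ W₂)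
    (hodd : Odd (Nat.card ↥(W₁ ⊔ W₂))) (hη : Cfsg.IsCyclicTIFamily W₁ W₂ η) (hX : ∀ g ∈ vset W₁ W₂, g ∉ X)
    (he : e = Nat.card W₁) (hlt : Nat.card W₁ + 1 < Nat.card W₂) (hbig : e + 2 < wt d) :
    Φ = ∑ f : FstChar W₁ W₂, η f.1 - χ i₀ := by
  classical
  obtain ⟨a, ha, hlin, h0⟩ := exists_lin hW hη F.gen_Φ fun g hg => F.van g (hX g hg)
  rw [F.inner_one] at h0
  obtain ⟨h31, -, -, -⟩ := Grid.three_le hW hodd
  obtain ⟨hc1, hc2⟩ := card_fstChar hW
  have hcol := column_eq (a := a) (by rw [← Nat.card_eq_fintype_card, hc1]; omega)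
    (by rwa [← Nat.card_eq_fintype_card, hc1, ← Nat.card_eq_fintype_card, hc2]) hlin (by exact_mod_cast h0.symm)
    (by
      have := (Grid.bessel hW hη F.gen_Φ ha (N := e + 1) (by rw [F.norm]; push_cast; rfl)).1
      rw [← Nat.card_eq_fintype_card, hc1, ← he]
      exact_mod_cast this)
  rw [F.eq_grid hG hW hodd hη hX hbig ha (by
    simp only [hcol, ite_pow, one_pow, zero_pow two_ne_zero, Finset.sum_ite_eq', Finset.mem_univ, if_true,
      Finset.sum_const, Finset.card_univ, nsmul_eq_mul, mul_one]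
    rw [he, ← hc1, Nat.card_eq_fintype_card])]
  congr 1
  refine Finset.sum_congr rfl fun f _ => ?_
  rw [Finset.sum_eq_single (snd₀ W₁ W₂) (fun l _ hl => by simp [hcol, hl]) (by simp), hcol, if_pos rfl]
  simp [snd₀, Grid.hom_mul_one']

end Fam

/-- A symmetric integral combination of the grid takes odd values where all members are integral. -/
theorem odd_comb (hW : Cfsg.IsSelfNormalizingCyclic W₁ W₂) (hodd : Odd (Nat.card ↥(W₁ ⊔ W₂)))
    (hη : Cfsg.IsCyclicTIFamily W₁ W₂ η) {a : FstChar W₁ W₂ → SndChar W₁ W₂ → ℤ}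
    (ha0 : Odd (a (fst₀ W₁ W₂) (snd₀ W₁ W₂)))
    (hasym : ∀ (f f' : FstChar W₁ W₂) (g g' : SndChar W₁ W₂), f'.1 = f.1⁻¹ → g'.1 = g.1⁻¹ →
      (Odd (a f' g') ↔ Odd (a f g)))
    {x : G} (hint : ∀ ω, ∃ n : ℤ, η ω x = n) :
    ∃ z : ℤ, (∑ f, ∑ g, (a f g : ℂ) • η (f.1 * g.1)) x = z ∧ Odd z := by
  classical
  choose n hn using hint
  have hninv : ∀ ω, n ω⁻¹ = n ω := fun ω => by
    have h := family_conj hW hodd hη ω x
    rw [hn, hn, map_intCast] at h
    exact_mod_cast h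
  have hn1 : n 1 = 1 := by
    have h := hn 1
    rw [hη.map_one] at h
    simp only at h
    exact_mod_cast h.symm
  refine ⟨∑ p : FstChar W₁ W₂ × SndChar W₁ W₂, a p.1 p.2 * n (p.1.1 * p.2.1), ?_, ?_⟩
  · rw [Fintype.sum_prod_type]
    simp [Finset.sum_apply, hn]
  let inv : FstChar W₁ W₂ × SndChar W₁ W₂ → FstChar W₁ W₂ × SndChar W₁ W₂ := fun p =>
    (⟨p.1.1⁻¹, fun w hw => by rw [MonoidHom.inv_apply, p.1.2 w hw, inv_one]⟩,
      ⟨p.2.1⁻¹, fun w hw => by rw [MonoidHom.inv_apply, p.2.2 w hw, inv_one]⟩)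
  set o : FstChar W₁ W₂ × SndChar W₁ W₂ := (fst₀ W₁ W₂, snd₀ W₁ W₂)
  have hz : ((∑ p ∈ Finset.univ.erase o, a p.1 p.2 * n (p.1.1 * p.2.1) : ℤ) : ZMod 2) = 0 := by
    push_cast
    have hinv : ∀ p, inv (inv p) = p := fun p => Prod.ext (Subtype.ext (inv_inv (p.1.1))) (Subtype.ext (inv_inv (p.2.1)))
    have hino : inv o = o := Prod.ext (Subtype.ext (MonoidHom.ext fun w => (inv_one : (1 : ℂˣ)⁻¹ = 1))) (Subtype.ext (MonoidHom.ext fun w => (inv_one : (1 : ℂˣ)⁻¹ = 1)))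
    refine Finset.sum_involution (fun p _ => inv p) (fun p _ => ?_) (fun p hp _ e => ?_) (fun p hp => ?_)
      (fun p _ => hinv p)
    · have e1 : ((inv p).1.1 * (inv p).2.1) = (p.1.1 * p.2.1)⁻¹ :=
        MonoidHom.ext fun w => (mul_inv (p.1.1 w) (p.2.1 w)).symm
      have e2 : ((a (inv p).1 (inv p).2 : ℤ) : ZMod 2) = (a p.1 p.2 : ℤ) := by
        by_cases hp : Odd (a p.1 p.2)
        · rw [ZMod.intCast_eq_one_iff_odd.mpr hp,
            ZMod.intCast_eq_one_iff_odd.mpr ((hasym p.1 _ p.2 _ rfl rfl).mpr hp)]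
        · rw [ZMod.intCast_eq_zero_iff_even.mpr (Int.not_odd_iff_even.mp hp),
            ZMod.intCast_eq_zero_iff_even.mpr (Int.not_odd_iff_even.mp fun h => hp ((hasym p.1 _ p.2 _ rfl rfl).mp h))]
      rw [e1, hninv, e2]
      exact CharTwo.add_self_eq_zero _
    · refine Finset.ne_of_mem_erase hp ?_
      exact Prod.ext (Subtype.ext (hom_eq_one_of_sq hodd (congrArg (fun p => p.1.1) e)))
        (Subtype.ext (hom_eq_one_of_sq hodd (congrArg (fun p => p.2.1) e)))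
    · exact Finset.mem_erase.mpr ⟨fun e => Finset.ne_of_mem_erase hp (by rw [← hinv p, e, hino]), Finset.mem_univ _⟩
  rw [← ZMod.intCast_eq_one_iff_odd, ← Finset.add_sum_erase _ _ (Finset.mem_univ o), Int.cast_add, hz, add_zero,
    show o.1.1 * o.2.1 = 1 from Grid.hom_mul_one' _, hn1, mul_one]
  exact ZMod.intCast_eq_one_iff_odd.mpr ha0

end CfsgLib.OddOrder.Final.Neighbour
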