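import Cfsg.Agent.Lib.OddOrder.Final.NeighbourGrid
import Cfsg.Agent.Lib.OddOrder.Final.NeighbourLocal
import Cfsg.Agent.Lib.OddOrder.Final.PairSets
import Cfsg.Agent.Lib.Char.DadeGen
import Mathlib

/-!
The test function of a full side: the Dade image of the character induced from `1 - λ`, `λ` a linear
character of `M_F W₁` extending a character of `W₂`.
-/

set_option autoImplicit false

open scoped ComplexConjugate

namespace CfsgLib.OddOrder.Final.Neighbour

open CfsgLib.Char CfsgLib.Char.CyclicTI CfsgLib.Char.Coherence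
open Cfsg (fittingHallOf)
open Grid (fst₀ snd₀)

variable {G : Type*} [Group G] [Fintype G] {S W₁ U W₂ : Subgroup G}

theorem avg_one (H : Subgroup G) [Fintype H] : (Nat.card H : ℂ)⁻¹ * ∑ _u : H, (1 : ℂ) = 1 := by
  rw [Finset.sum_const, Finset.card_univ, nsmul_eq_mul, mul_one, ← Nat.card_eq_fintype_card,
    inv_mul_cancel₀ (Nat.cast_ne_zero.mpr Nat.card_pos.ne')]

theorem hom_conj {H : Type*} [Group H] [Finite H] (m : H →* ℂˣ) (h : H) :
    conj ((m h : ℂˣ) : ℂ) = (((m h)⁻¹ : ℂˣ) : ℂ) := by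
  rw [Units.val_inv_eq_inv_val, Complex.inv_eq_conj]
  exact norm_eq_one_of_pow_orderOf (g := h) (by
    rw [← Units.val_pow_eq_pow_val, ← map_pow, pow_orderOf_eq_one, map_one, Units.val_one])

/-- The group `M_F W₁`. -/
def PW (S W₁ : Subgroup G) : Subgroup G := fittingHallOf S ⊔ W₁

theorem Full.PW_le (hS : Full S W₁ U W₂) : PW S W₁ ≤ S := sup_le Basic.fittingHallOf_le hS.W₁_le

theorem Full.normalizes (hS : Full S W₁ U W₂) {g : G} (hg : g ∈ S) {x : G} (hx : x ∈ fittingHallOf S) :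
    g * x * g⁻¹ ∈ fittingHallOf S :=
  TypeSets.conj_mem_of_le_normalizer Basic.le_normalizer_fittingHallOf hg hx

theorem Full.mem_PW (hS : Full S W₁ U W₂) {x : G} (hx : x ∈ PW S W₁) :
    ∃ a ∈ fittingHallOf S, ∃ w ∈ W₁, a * w = x := by
  have h : x ∈ fittingHallOf S ⊔ W₁ := hx
  rw [← SetLike.mem_coe, Subgroup.coe_mul_of_right_le_normalizer_left _ W₁
    (hS.W₁_le.trans Basic.le_normalizer_fittingHallOf)] at h
  exact Set.mem_mul.mp h

theorem Full.core_inf_W₁ (hS : Full S W₁ U W₂) : fittingHallOf S ⊓ W₁ = ⊥ :=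
  le_bot_iff.mp ((inf_le_inf_left _ (le_sup_right : W₁ ≤ U ⊔ W₁)).trans (TP.sup_inf hS.typeP).le)

theorem Full.card_PW (hS : Full S W₁ U W₂) :
    Nat.card (PW S W₁) = Nat.card (fittingHallOf S) * Nat.card W₁ :=
  Coprime.card_sup_of_le_normalizer (hS.W₁_le.trans Basic.le_normalizer_fittingHallOf)
    (disjoint_iff.mpr hS.core_inf_W₁)

theorem Full.U_inf_PW (hS : Full S W₁ U W₂) : U ⊓ PW S W₁ = ⊥ := by
  refine Subgroup.inf_eq_bot_of_coprime ?_
  rw [hS.card_PW]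
  exact ((TP.coprime_fit_U hS.typeP).symm).mul_right hS.coprime_U_W₁

/-- Outside the kernel, a conjugate by a nontrivial element of `U` leaves `M_F W₁`. -/
theorem Full.conj_notMem (hS : Full S W₁ U W₂) {a w u : G} (ha : a ∈ fittingHallOf S) (hw : w ∈ W₁) (hw1 : w ≠ 1)
    (hu : u ∈ U) (h : u⁻¹ * (a * w) * u ∈ PW S W₁) : u = 1 := by
  have huS : u ∈ S := hS.U_le.trans hS.derived_le hu
  have h1 : u⁻¹ * a * u ∈ PW S W₁ := by
    have := hS.normalizes (inv_mem huS) ha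
    rw [inv_inv] at this
    exact Subgroup.mem_sup_left this
  have h2 : u⁻¹ * w * u * w⁻¹ ∈ PW S W₁ := by
    rw [show u⁻¹ * w * u * w⁻¹ = (u⁻¹ * a * u)⁻¹ * (u⁻¹ * (a * w) * u) * w⁻¹ by group]
    exact mul_mem (mul_mem (inv_mem h1) h) (inv_mem (Subgroup.mem_sup_right hw))
  have h3 : u⁻¹ * w * u * w⁻¹ ∈ U := by
    rw [show u⁻¹ * w * u * w⁻¹ = u⁻¹ * (w * u * w⁻¹) by group]
    exact mul_mem (inv_mem hu) ((Subgroup.mem_normalizer_iff.mp (hS.typeP.U_normal hw) u).mp hu)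
  have h4 : u⁻¹ * w * u * w⁻¹ ∈ U ⊓ PW S W₁ := ⟨h3, h2⟩
  rw [hS.U_inf_PW, Subgroup.mem_bot, mul_inv_eq_one, mul_assoc, inv_mul_eq_iff_eq_mul] at h4
  exact hS.U_fix hw hw1 hu h4

/-- Every element of `M_F W₁` outside `M_F` is conjugate in `M_F W₁` to an element of `W₂ w`. -/
theorem Full.conj_form (hS : Full S W₁ U W₂) {a w : G} (ha : a ∈ fittingHallOf S) (hw : w ∈ W₁) (hw1 : w ≠ 1) :
    ∃ b ∈ fittingHallOf S, ∃ z ∈ W₂, b * (z * w) * b⁻¹ = a * w := by
  set P := fittingHallOf S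
  haveI := hS.core_comm
  have hcomm : ∀ x ∈ P, ∀ y ∈ P, x * y = y * x := fun x hx y hy =>
    congrArg Subtype.val (mul_comm' (⟨x, hx⟩ : P) ⟨y, hy⟩)
  have hwS := hS.W₁_le hw
  let Φ : W₂ × P → P := fun p => ⟨(p.1 : G) * ((p.2 : G) * (w * (p.2 : G)⁻¹ * w⁻¹)),
    mul_mem (hS.W₂_le_core p.1.2) (mul_mem p.2.2 (hS.normalizes hwS (inv_mem p.2.2)))⟩
  have hwz : ∀ z ∈ W₂, w * z = z * w := fun z hz => hS.typeP.selfNormalizing.2.2.2.1 w hw z hz
  let c : P →* P := MonoidHom.mk' (fun x => ⟨(x : G) * (w * (x : G)⁻¹ * w⁻¹),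
    mul_mem x.2 (hS.normalizes hwS (inv_mem x.2))⟩) fun x y => Subtype.ext (by
      show (x : G) * y * (w * ((x : G) * y)⁻¹ * w⁻¹) =
        (x : G) * (w * (x : G)⁻¹ * w⁻¹) * ((y : G) * (w * (y : G)⁻¹ * w⁻¹))
      have h1 := hcomm _ y.2 _ (hS.normalizes hwS (inv_mem x.2))
      rw [hcomm _ x.2 _ y.2, mul_inv_rev]
      rw [show w * ((x : G)⁻¹ * (y : G)⁻¹) * w⁻¹ = (w * (x : G)⁻¹ * w⁻¹) * (w * (y : G)⁻¹ * w⁻¹) by group]
      rw [← hcomm _ x.2 _ y.2]
      calc (x : G) * y * ((w * (x : G)⁻¹ * w⁻¹) * (w * (y : G)⁻¹ * w⁻¹))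
          = (x : G) * ((y : G) * (w * (x : G)⁻¹ * w⁻¹)) * (w * (y : G)⁻¹ * w⁻¹) := by group
        _ = _ := by rw [h1]; group)
  have hker : ∀ x : P, c x = 1 → (x : G) ∈ W₂ := fun x hx => by
    have h1 : (x : G) * (w * (x : G)⁻¹ * w⁻¹) = 1 := congrArg Subtype.val hx
    rw [← hS.typeP.W₂_centralizer w hw hw1]
    refine ⟨TP.fit_le_derived hS.typeP x.2, Subgroup.mem_centralizer_singleton_iff.mpr ?_⟩
    calc (x : G) * w = (x : G) * (w * (x : G)⁻¹ * w⁻¹) * (w * x) := by group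
      _ = w * x := by rw [h1, one_mul]
  have hker' : c.ker = W₂.subgroupOf P := by
    ext x
    refine ⟨fun hx => Subgroup.mem_subgroupOf.mpr (hker x (MonoidHom.mem_ker.mp hx)), fun hx => ?_⟩
    refine MonoidHom.mem_ker.mpr (Subtype.ext ?_)
    show (x : G) * (w * (x : G)⁻¹ * w⁻¹) = 1
    rw [hwz _ (inv_mem (Subgroup.mem_subgroupOf.mp hx))]
    group
  haveI := Fact.mk hS.prime₂
  -- the fixed points meet the commutators trivially
  have hdis : W₂.subgroupOf P ⊓ c.range = ⊥ := by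
    letI : CommGroup P := { mul_comm := hS.core_comm.is_comm.comm }
    rw [eq_bot_iff]
    rintro z ⟨hz, x, rfl⟩
    rw [Subgroup.mem_bot]
    have hwpow : ∀ (i : ℕ), w ^ i ∈ S := fun i => pow_mem hwS i
    set o := orderOf w
    have ho : o = Nat.card W₁ := ((Nat.dvd_prime hS.prime₁).1 (Subgroup.orderOf_dvd_natCard W₁ hw)).resolve_left
      fun e => hw1 (orderOf_eq_one_iff.1 e)
    let C : ℕ → P := fun i => ⟨w ^ i * (x : G) * (w ^ i)⁻¹, hS.normalizes (hwpow i) x.2⟩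
    have hC : ∀ i, C i * (C (i + 1))⁻¹ = c x := fun i => by
      have hi : (w ^ i * ((c x : P) : G) * (w ^ i)⁻¹) = ((c x : P) : G) := by
        have hc : ∀ j : ℕ, w ^ j * ((c x : P) : G) = ((c x : P) : G) * w ^ j := fun j =>
          (Commute.pow_left (show Commute w ((c x : P) : G) from hwz _ (Subgroup.mem_subgroupOf.mp hz)) j).eq
        rw [hc, mul_inv_cancel_right]
      refine Subtype.ext ?_
      show w ^ i * (x : G) * (w ^ i)⁻¹ * (w ^ (i + 1) * (x : G) * (w ^ (i + 1))⁻¹)⁻¹ = ((c x : P) : G)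
      rw [← hi]
      show _ = w ^ i * ((x : G) * (w * (x : G)⁻¹ * w⁻¹)) * (w ^ i)⁻¹
      rw [pow_succ]; group
    have hprod : ∀ n, C 0 * (C n)⁻¹ = c x ^ n := fun n => by
      induction n with
      | zero => simp
      | succ n ih =>
        rw [pow_succ, ← ih, ← hC n]
        group
    have h0 : c x ^ o = 1 := by
      rw [← hprod o, mul_inv_eq_one]
      exact Subtype.ext (by simp [C, o, pow_orderOf_eq_one])
    have hp : (c x) ^ Nat.card W₂ = 1 := Subtype.ext (by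
      rw [SubgroupClass.coe_pow, OneMemClass.coe_one]
      exact orderOf_dvd_iff_pow_eq_one.mp (Subgroup.orderOf_dvd_natCard W₂ (Subgroup.mem_subgroupOf.mp hz)))
    have hco : (Nat.card W₁).Coprime (Nat.card W₂) :=
      ((TP.coprime_fit_W₁ hS.typeP).coprime_dvd_left (Subgroup.card_dvd_of_le hS.W₂_le_core)).symm
    rw [← orderOf_eq_one_iff]
    exact Nat.eq_one_of_dvd_coprimes hco (ho ▸ orderOf_dvd_of_pow_eq_one h0) (orderOf_dvd_of_pow_eq_one hp)
  have hcard : Nat.card P = Nat.card (W₂.subgroupOf P) * Nat.card c.range := by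
    rw [← hker', ← c.ker.card_mul_index, Subgroup.index_ker]
  have htop : W₂.subgroupOf P ⊔ c.range = ⊤ := by
    letI : CommGroup P := { mul_comm := hS.core_comm.is_comm.comm }
    refine Subgroup.eq_top_of_card_eq _ ?_
    rw [Coprime.card_sup_of_le_normalizer (by
      rw [Subgroup.normalizer_eq_top]
      exact le_top) (disjoint_iff.mpr hdis), hcard]
  have hmem : (⟨a, ha⟩ : P) ∈ W₂.subgroupOf P ⊔ c.range := htop ▸ Subgroup.mem_top _
  haveI : (W₂.subgroupOf P).Normal := ⟨fun n hn g => by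
    rw [show g * n * g⁻¹ = n by rw [mul_comm' g n, mul_inv_cancel_right]]
    exact hn⟩
  obtain ⟨z, hz, r, ⟨x, rfl⟩, he⟩ := Subgroup.mem_sup_of_normal_left.mp hmem
  refine ⟨x, x.2, z, Subgroup.mem_subgroupOf.mp hz, ?_⟩
  have h1 : (z : G) * ((x : G) * (w * (x : G)⁻¹ * w⁻¹)) = a := congrArg Subtype.val he
  rw [← h1]
  calc (x : G) * ((z : G) * w) * (x : G)⁻¹ = (x : G) * (z : G) * (w * (x : G)⁻¹) := by group
    _ = (z : G) * (x : G) * (w * (x : G)⁻¹) := by rw [hcomm _ x.2 _ z.2]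
    _ = _ := by group

/-- The extension of a character of `W₂` to `M_F W₁`, trivial on `W₁`. -/
theorem Full.exists_ext (hS : Full S W₁ U W₂) (g : SndChar W₁ W₂) :
    ∃ l : ↥(PW S W₁) →* ℂˣ, (∀ x : ↥(PW S W₁), (x : G) ∈ W₁ → l x = 1) ∧
      ∀ (x : ↥(PW S W₁)) (hx : (x : G) ∈ W₂), l x = g.1 ⟨x, Subgroup.mem_sup_right hx⟩ := by
  classical
  set P := fittingHallOf S with hP
  letI : CommGroup P := { mul_comm := hS.core_comm.is_comm.comm }
  cases nonempty_fintype W₁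
  let cj : W₁ → (P →* P) := fun w => MonoidHom.mk' (fun x => ⟨(w : G) * x * (w : G)⁻¹, hS.normalizes (hS.W₁_le w.2) x.2⟩)
    fun x y => Subtype.ext (by simp [mul_assoc])
  let π : P →* P := ∏ w : W₁, cj w
  have hπ : ∀ x, π x = ∏ w : W₁, cj w x := fun x => MonoidHom.finsetProd_apply _ _ _
  have hcjmul : ∀ (v w : W₁) (x : P), cj v (cj w x) = cj (v * w) x := fun v w x =>
    Subtype.ext (by simp [cj, mul_assoc])
  have hπinv : ∀ (v : W₁) (x : P), π (cj v x) = π x := fun v x => by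
    rw [hπ, hπ]
    exact Fintype.prod_equiv (Equiv.mulRight v) _ _ fun w => hcjmul w v x
  have hπW : ∀ x, (π x : G) ∈ W₂ := fun x => by
    obtain ⟨w, hw, hw1⟩ := (Subgroup.bot_or_exists_ne_one W₁).resolve_left hS.typeP.W₁_ne
    rw [← hS.typeP.W₂_centralizer w hw hw1]
    refine ⟨TP.fit_le_derived hS.typeP (π x).2, Subgroup.mem_centralizer_singleton_iff.mpr ?_⟩
    have h1 : cj ⟨w, hw⟩ (π x) = π x := by
      rw [hπ, map_prod]
      exact Fintype.prod_equiv (Equiv.mulLeft ⟨w, hw⟩) _ _ fun v => hcjmul _ v x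
    have h2 : w * (π x : G) * w⁻¹ = π x := congrArg Subtype.val h1
    exact (mul_inv_eq_iff_eq_mul.mp h2).symm
  have hπz : ∀ z : P, (z : G) ∈ W₂ → π z = z ^ Nat.card W₁ := fun z hz => by
    rw [hπ, Finset.prod_congr rfl fun w _ => show cj w z = z from Subtype.ext (by
      show (w : G) * z * (w : G)⁻¹ = z
      rw [hS.typeP.selfNormalizing.2.2.2.1 _ w.2 _ hz, mul_inv_cancel_right]), Finset.prod_const, Finset.card_univ,
      Nat.card_eq_fintype_card]
  haveI := Fact.mk hS.prime₂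
  have hco : (Nat.card W₁).Coprime (Nat.card W₂) :=
    ((TP.coprime_fit_W₁ hS.typeP).coprime_dvd_left (Subgroup.card_dvd_of_le hS.W₂_le_core)).symm
  obtain ⟨k, hk⟩ := Nat.exists_mul_mod_eq_one_of_coprime hco hS.prime₂.one_lt
  let π' : P →* ↥(W₁ ⊔ W₂) := MonoidHom.mk' (fun x => ⟨((π x : P) : G), Subgroup.mem_sup_right (hπW x)⟩)
    fun x y => Subtype.ext (by simp)
  let ψ : P →* ℂˣ := (g.1.comp π') ^ k
  have hψz : ∀ (z : P) (hz : (z : G) ∈ W₂), ψ z = g.1 ⟨z, Subgroup.mem_sup_right hz⟩ := fun z hz => by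
    set z' : ↥(W₁ ⊔ W₂) := ⟨z, Subgroup.mem_sup_right hz⟩
    have e : π' z = z' ^ Nat.card W₁ := Subtype.ext (by
      show ((π z : P) : G) = _
      rw [hπz z hz, SubgroupClass.coe_pow, SubgroupClass.coe_pow])
    show (g.1 (π' z)) ^ k = _
    rw [e, ← map_pow, ← pow_mul]
    congr 1
    refine Subtype.ext ?_
    rw [SubgroupClass.coe_pow]
    show (z : G) ^ _ = z
    rw [pow_eq_pow_mod (n := Nat.card W₂) _ (orderOf_dvd_iff_pow_eq_one.mp (Subgroup.orderOf_dvd_natCard W₂ hz)), hk.2,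
      pow_one]
  have hψinv : ∀ (v : W₁) (x : P), ψ (cj v x) = ψ x := fun v x => by
    show (g.1 (π' _)) ^ k = (g.1 (π' x)) ^ k
    rw [show π' (cj v x) = π' x from Subtype.ext (show ((π (cj v x) : P) : G) = ((π x : P) : G) by rw [hπinv])]
  choose pa hpa pw hpw hdec using fun x : ↥(PW S W₁) => hS.mem_PW x.2
  have huniq : ∀ (x : ↥(PW S W₁)) (a : P) (w : G), w ∈ W₁ → (a : G) * w = x → (⟨pa x, hpa x⟩ : P) = a := by
    intro x a w hw e
    have h1 : (a : G)⁻¹ * pa x = w * (pw x)⁻¹ := by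
      rw [eq_mul_inv_iff_mul_eq, mul_assoc, hdec, ← e, inv_mul_cancel_left]
    have h2 : (a : G)⁻¹ * pa x ∈ P ⊓ W₁ := ⟨P.mul_mem (P.inv_mem a.2) (hpa x), h1 ▸ W₁.mul_mem hw (W₁.inv_mem (hpw x))⟩
    rw [hS.core_inf_W₁, Subgroup.mem_bot, inv_mul_eq_one] at h2
    exact Subtype.ext h2.symm
  refine ⟨MonoidHom.mk' (fun x => ψ ⟨pa x, hpa x⟩) fun x y => ?_, fun x hx => ?_, fun x hx => ?_⟩
  · rw [huniq (x * y) (⟨pa x, hpa x⟩ * cj ⟨pw x, hpw x⟩ ⟨pa y, hpa y⟩) (pw x * pw y) (mul_mem (hpw x) (hpw y)) ?_,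
      map_mul, hψinv]
    show pa x * (pw x * pa y * (pw x)⁻¹) * (pw x * pw y) = (x : G) * y
    rw [← hdec x, ← hdec y]; group
  · show ψ ⟨pa x, hpa x⟩ = 1
    rw [huniq x 1 x hx (by simp), map_one]
  · show ψ ⟨pa x, hpa x⟩ = _
    rw [huniq x ⟨x, hS.W₂_le_core hx⟩ 1 W₁.one_mem (by simp), hψz _ hx]

/-- A nontrivial character of `M_F` is moved, and not inverted, by each nontrivial element of `U`. -/
theorem Full.move (hS : Full S W₁ U W₂) (hodd : Odd (Nat.card G)) {l : ↥(PW S W₁) →* ℂˣ}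
    (hl : ∃ x : ↥(PW S W₁), (x : G) ∈ fittingHallOf S ∧ l x ≠ 1) {u : G} (hu : u ∈ U) (hu1 : u ≠ 1) (ε : Bool) :
    ∃ x : ↥(fittingHallOf S), l ⟨u⁻¹ * x * u, Subgroup.mem_sup_left (by
        simpa using hS.normalizes (inv_mem (hS.U_le.trans hS.derived_le hu)) x.2)⟩ ≠
      bif ε then l ⟨x, Subgroup.mem_sup_left x.2⟩ else (l ⟨x, Subgroup.mem_sup_left x.2⟩)⁻¹ := by
  set P := fittingHallOf S
  letI : CommGroup P := { mul_comm := hS.core_comm.is_comm.comm }
  have huS := hS.U_le.trans hS.derived_le hu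
  let σ : P →* P := MonoidHom.mk' (fun x => ⟨u⁻¹ * x * u, by simpa using hS.normalizes (inv_mem huS) x.2⟩)
    fun x y => Subtype.ext (by simp [mul_assoc])
  let lP : P →* ℂˣ := l.comp (Subgroup.inclusion (le_sup_left : P ≤ PW S W₁))
  by_contra hc
  push Not at hc
  let δ : P →* P := σ * (bif ε then (MonoidHom.id P)⁻¹ else MonoidHom.id P)
  have hδ : ∀ x, lP (δ x) = 1 := fun x => by
    have h1 : lP (σ x) = bif ε then lP x else (lP x)⁻¹ := hc x
    cases ε
    · simp only [δ, cond_false, MonoidHom.mul_apply, MonoidHom.id_apply, map_mul] at h1 ⊢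
      rw [h1, inv_mul_cancel]
    · simp only [δ, cond_true, MonoidHom.mul_apply, MonoidHom.inv_apply, MonoidHom.id_apply, map_mul, map_inv] at h1 ⊢
      rw [h1, mul_inv_cancel]
  have hinj : Function.Injective δ := by
    rw [injective_iff_map_eq_one]
    intro x hx
    refine Subtype.ext ?_
    cases ε
    · -- `u` inverts `x`, so `u²` centralises it
      have h1 : u⁻¹ * x * u * x = 1 := congrArg Subtype.val hx
      have h2 : u⁻¹ * x * u = (x : G)⁻¹ := eq_inv_of_mul_eq_one_left h1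
      have hu2 : u * u ≠ 1 := fun e => hu1 (by
        obtain ⟨k, hk⟩ := hodd
        have h3 : u ^ (2 * k + 1) = 1 := by rw [← hk]; exact pow_card_eq_one'
        rw [pow_succ, pow_mul, sq, e, one_pow, one_mul] at h3
        exact h3)
      refine hS.fpf (u * u) (mul_mem hu hu) hu2 x x.2 ?_
      have h4 : (x : G) * u = u * (x : G)⁻¹ := by rw [← h2]; group
      have h5 : (x : G)⁻¹ * u = u * x := by
        have := congrArg (fun t => (x : G)⁻¹ * t * x) h4
        simpa [mul_assoc] using this.symm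
      calc u * u * (x : G) = u * (u * x) := by group
        _ = u * ((x : G)⁻¹ * u) := by rw [h5]
        _ = u * (x : G)⁻¹ * u := by group
        _ = (x : G) * u * u := by rw [h4]
        _ = _ := by group
    · have h1 : u⁻¹ * x * u * (x : G)⁻¹ = 1 := congrArg Subtype.val hx
      refine hS.fpf u hu hu1 x x.2 ?_
      calc u * (x : G) = u * (u⁻¹ * x * u * (x : G)⁻¹ * x) := by rw [h1, one_mul]
        _ = _ := by group
  obtain ⟨x, hx, hx1⟩ := hl
  obtain ⟨y, hy⟩ := (Finite.injective_iff_surjective.mp hinj) ⟨x, hx⟩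
  have := hδ y
  rw [hy] at this
  exact hx1 this

/-- **The test function of a full side.** -/
theorem exists_test (hG : Cfsg.IsMinSimpleOddOrder G) (hS : Full S W₁ U W₂)
    {η : (↥(W₁ ⊔ W₂) →* ℂˣ) → (G → ℂ)} (hη : Cfsg.IsCyclicTIFamily W₁ W₂ η) (g : SndChar W₁ W₂) (hg : g.1 ≠ 1) :
    ∃ (Ψ : G → ℂ) (n : ℕ), Cfsg.IsGeneralizedCharacter G Ψ ∧
      (∀ x, Ψ x ≠ 0 → ∃ y : G, y * x * y⁻¹ ∈ (fittingHallOf S : Set G) \ {1} ∨ y * x * y⁻¹ ∈ vset W₁ W₂) ∧
      Cfsg.classInner Ψ (fun _ => 1) = 1 ∧ Cfsg.classInner Ψ Ψ = n ∧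
      n * Nat.card W₁ + 1 = 2 * Nat.card W₁ + Nat.card U ∧
      ∀ x, conj (Ψ x + η g.1 x) = Ψ x + η g.1 x := by
  classical
  have hP := hS.typeP
  have hW := hP.selfNormalizing
  have hoddW : Odd (Nat.card ↥(W₁ ⊔ W₂)) := hG.1.of_dvd_nat (Subgroup.card_subgroup_dvd_card _)
  cases nonempty_fintype S
  set P := fittingHallOf S with hPdef
  set Np := PW S W₁ with hNp
  obtain ⟨l, hl1, hl2⟩ := hS.exists_ext g
  change ↥Np →* ℂˣ at l
  set N : Subgroup S := Np.subgroupOf S with hN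
  cases nonempty_fintype N
  have hPS : P ≤ S := Basic.fittingHallOf_le
  have hUS : U ≤ S := hS.U_le.trans hS.derived_le
  let ln : N →* ℂˣ := l.comp (Subgroup.subgroupOfEquivOfLe hS.PW_le).toMonoidHom
  have hln : ∀ n : N, ln n = l ⟨((n : S) : G), n.2⟩ := fun n => rfl
  set f : N → ℂ := fun n => 1 - (ln n : ℂ) with hf
  set f' : N → ℂ := fun n => (ln n : ℂ) - conj (ln n : ℂ) with hf'
  have hfc : Cfsg.IsClassFunction N f := fun a b => by
    simp only [hf, map_mul, map_inv, mul_inv_cancel_comm]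
  have hf'c : Cfsg.IsClassFunction N f' := fun a b => by
    simp only [hf', map_mul, map_inv, mul_inv_cancel_comm]
  have hfg : Cfsg.IsGeneralizedCharacter N f :=
    ⟨_, _, isCharacter_one, isCharacter_hom ln, rfl⟩
  -- `S = U N`
  have hcardS : Nat.card U * Nat.card N = Nat.card S := by
    rw [hN, Nat.card_congr (Subgroup.subgroupOfEquivOfLe hS.PW_le).toEquiv, hS.card_PW, TP.card_eq hP,
      TP.card_derived hP]
    ring
  let emb : U → S := fun u => ⟨u, hUS u.2⟩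
  have hbij : Function.Bijective fun p : U × N => emb p.1 * (p.2 : S) := by
    refine (Nat.bijective_iff_injective_and_card _).mpr ⟨fun p p' e => ?_, by rw [Nat.card_prod, hcardS]⟩
    have e' : (p.1 : G) * ((p.2 : S) : G) = (p'.1 : G) * ((p'.2 : S) : G) := congrArg Subtype.val e
    have h1 : (p'.1 : G)⁻¹ * p.1 = ((p'.2 : S) : G) * ((p.2 : S) : G)⁻¹ := by
      rw [eq_mul_inv_iff_mul_eq, mul_assoc, e', inv_mul_cancel_left]
    have h2 : (p'.1 : G)⁻¹ * p.1 ∈ U ⊓ Np := ⟨U.mul_mem (U.inv_mem p'.1.2) p.1.2, h1 ▸ Np.mul_mem p'.2.2 (Np.inv_mem p.2.2)⟩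
    rw [hS.U_inf_PW, Subgroup.mem_bot, inv_mul_eq_one] at h2
    have h3 : p'.1 = p.1 := Subtype.ext h2
    rw [h3] at e'
    exact Prod.ext h3.symm (Subtype.ext (Subtype.ext (mul_left_cancel e')))
  have hind : ∀ (φ : N → ℂ), Cfsg.IsClassFunction N φ → ∀ s : S,
      Cfsg.indFun N φ s = ∑ u : U, Cfsg.extendByZero N φ ((emb u)⁻¹ * s * emb u) := by
    intro φ hφ s
    rw [indFun_def, ← hbij.sum_comp, Fintype.sum_prod_type, Finset.mul_sum]
    refine Finset.sum_congr rfl fun u _ => ?_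
    rw [Finset.sum_congr rfl (g := fun _ => Cfsg.extendByZero N φ ((emb u)⁻¹ * s * emb u)) fun n _ => ?_,
      Finset.sum_const, Finset.card_univ, nsmul_eq_mul, ← Nat.card_eq_fintype_card, ← mul_assoc,
      inv_mul_cancel₀ (Nat.cast_ne_zero.mpr Nat.card_pos.ne'), one_mul]
    set y := (emb u)⁻¹ * s * emb u with hy
    have he : (emb u * (n : S))⁻¹ * s * (emb u * (n : S)) = (n : S)⁻¹ * y * n := by rw [hy]; group
    simp only [he]
    by_cases hyN : y ∈ N
    · rw [extendByZero_apply_mem _ _ hyN, extendByZero_apply_mem _ _ (mul_mem (mul_mem (inv_mem n.2) hyN) n.2)]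
      rw [← hφ ⟨y, hyN⟩ n⁻¹]
      exact congrArg φ (Subtype.ext (by simp))
    · rw [extendByZero_apply_notMem _ _ hyN, extendByZero_apply_notMem]
      intro h
      exact hyN (by simpa [mul_assoc] using mul_mem (mul_mem n.2 h) (inv_mem n.2))
  have houter : ∀ (φ : N → ℂ), Cfsg.IsClassFunction N φ → ∀ n : N, ((n : S) : G) ∉ P →
      Cfsg.indFun N φ (n : S) = φ n := by
    intro φ hφ n hn
    obtain ⟨a, ha, w, hw, (e : a * w = ((n : S) : G))⟩ := hS.mem_PW (n.2 : ((n : S) : G) ∈ Np)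
    have hw1 : w ≠ 1 := fun h => hn (by rw [← e, h, mul_one]; exact ha)
    rw [hind φ hφ, Finset.sum_eq_single (1 : U)]
    · rw [show emb 1 = 1 from rfl, inv_one, one_mul, mul_one, extendByZero_coe]
    · intro u _ hu
      refine extendByZero_apply_notMem _ _ fun h => hu (Subtype.ext ?_)
      have h' : (u : G)⁻¹ * ((n : S) : G) * u ∈ Np := h
      rw [← e] at h'
      exact hS.conj_notMem ha hw hw1 u.2 h'
    · simp
  -- sums over `P`
  let inP : P → N := fun x => ⟨⟨x, hPS x.2⟩, Subgroup.mem_sup_left x.2⟩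
  let cU : U → P → P := fun u x => ⟨(u : G)⁻¹ * x * u, by simpa using hS.normalizes (inv_mem (hUS u.2)) x.2⟩
  have hnorm : ∀ (φ : N → ℂ), Cfsg.IsClassFunction N φ →
      (Nat.card N : ℂ) * Cfsg.classInner (Cfsg.indFun N φ) (Cfsg.indFun N φ) = ∑ n : N, φ n * conj (φ n) +
        ∑ u ∈ Finset.univ.erase (1 : U), ∑ x : P, φ (inP x) * conj (φ (inP (cU u x))) := by
    intro φ hφ
    rw [classInner_indFun N φ (indFun_isClassFunction N φ), Cfsg.classInner, ← mul_assoc,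
      mul_inv_cancel₀ (Nat.cast_ne_zero.mpr Nat.card_pos.ne'), one_mul]
    set B : N → ℂ := fun n => if ((n : S) : G) ∈ P then
      ∑ u ∈ Finset.univ.erase (1 : U), Cfsg.extendByZero N φ ((emb u)⁻¹ * (n : S) * emb u) else 0 with hB
    have hval : ∀ n : N, Cfsg.indFun N φ (n : S) = φ n + B n := by
      intro n
      by_cases hn : ((n : S) : G) ∈ P
      · rw [hB, hind φ hφ, ← Finset.add_sum_erase _ _ (Finset.mem_univ (1 : U))]
        simp only [if_pos hn]
        rw [show emb 1 = 1 from rfl, inv_one, one_mul, mul_one, extendByZero_coe]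
      · rw [houter φ hφ n hn, hB]; simp [hn]
    simp only [hval, map_add, mul_add, Finset.sum_add_distrib]
    congr 1
    rw [Finset.sum_comm]
    rw [← Finset.sum_filter_add_sum_filter_not Finset.univ (fun n : N => ((n : S) : G) ∈ P),
      Finset.sum_eq_zero (s := Finset.univ.filter fun n : N => ¬((n : S) : G) ∈ P) fun n hn => by
        simp [hB, (Finset.mem_filter.mp hn).2], add_zero]
    refine Finset.sum_bij' (fun n hn => (⟨_, (Finset.mem_filter.mp hn).2⟩ : P)) (fun x _ => inP x)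
      (fun _ _ => Finset.mem_univ _) (fun x _ => Finset.mem_filter.mpr ⟨Finset.mem_univ _, x.2⟩)
      (fun n hn => rfl) (fun x _ => rfl) fun n hn => ?_
    have hn' := (Finset.mem_filter.mp hn).2
    simp only [hB, if_pos hn', map_sum, Finset.mul_sum]
    refine Finset.sum_congr rfl fun u _ => ?_
    congr 2
    rw [show (emb u)⁻¹ * (n : S) * emb u = ((inP (cU u ⟨_, hn'⟩) : N) : S) from Subtype.ext rfl, extendByZero_coe]
  have hPcard : (∑ _x : P, (1 : ℂ)) = Nat.card P := by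
    rw [Finset.sum_const, Finset.card_univ, nsmul_eq_mul, mul_one, Nat.card_eq_fintype_card]
  have hsum0 : ∀ m : P →* ℂˣ, (∃ x, m x ≠ 1) → ∑ x : P, (m x : ℂ) = 0 := fun m ⟨x, hx⟩ =>
    sum_hom_units_eq_zero ((Units.coeHom ℂ).comp m) fun e => hx (Units.ext (DFunLike.congr_fun e x))
  let lP : P →* ℂˣ := l.comp (Subgroup.inclusion (le_sup_left : P ≤ Np))
  have hlP : ∀ x : P, ((ln (inP x) : ℂˣ) : ℂ) = (lP x : ℂ) := fun x => rfl
  have hlne : ∃ x : ↥Np, (x : G) ∈ P ∧ l x ≠ 1 := by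
    by_contra hc
    push Not at hc
    refine hg (hom_eq_one g.1 g.2 fun w hw => ?_)
    rw [← hl2 ⟨(w : G), Subgroup.mem_sup_left (S := P) (T := W₁) (hS.W₂_le_core hw)⟩ hw]
    exact hc ⟨(w : G), Subgroup.mem_sup_left (S := P) (T := W₁) (hS.W₂_le_core hw)⟩ (hS.W₂_le_core hw)
  obtain ⟨x₀, hx₀, hx₀1⟩ := hlne
  have hlP1 : ∃ x, lP x ≠ 1 := ⟨⟨_, hx₀⟩, hx₀1⟩
  have hlPinv : ∃ x, lP⁻¹ x ≠ 1 := ⟨⟨_, hx₀⟩, fun e => hx₀1 (inv_eq_one.mp e)⟩
  -- the support
  have hsupN : ∀ (φ : N → ℂ), Cfsg.IsClassFunction N φ → (∀ n : N, ((n : S) : G) ∈ W₁ → φ n = 0) → ∀ s : S,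
      Cfsg.indFun N φ s ≠ 0 → ∃ y ∈ S, y * (s : G) * y⁻¹ ∈ (P : Set G) \ {1} ∨ y * (s : G) * y⁻¹ ∈ vset W₁ W₂ := by
    intro φ hφ hφW s hs
    rw [hind φ hφ] at hs
    obtain ⟨u, -, hu⟩ := Finset.exists_ne_zero_of_sum_ne_zero hs
    have hm : (emb u)⁻¹ * s * emb u ∈ N := by_contra fun h => hu (extendByZero_apply_notMem _ _ h)
    rw [extendByZero_apply_mem _ _ hm] at hu
    obtain ⟨a, ha, w, hw, e⟩ := hS.mem_PW (show (u : G)⁻¹ * s * u ∈ Np from hm)
    by_cases hw1 : w = 1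
    · refine ⟨(u : G)⁻¹, inv_mem (hUS u.2), Or.inl ⟨?_, fun h => hu (hφW _ ?_)⟩⟩
      · rw [inv_inv, SetLike.mem_coe, ← e, hw1, mul_one]; exact ha
      · rw [inv_inv] at h
        show (u : G)⁻¹ * s * u ∈ W₁
        rw [Set.mem_singleton_iff.mp h]; exact W₁.one_mem
    · obtain ⟨b, hb, z, hz, hbz⟩ := hS.conj_form ha hw hw1
      by_cases hz1 : z = 1
      · refine absurd ?_ hu
        have hbN : (⟨b, hPS hb⟩ : S) ∈ N := Subgroup.mem_sup_left hb
        have hwN : (⟨w, hS.W₁_le hw⟩ : S) ∈ N := Subgroup.mem_sup_right hw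
        rw [← hφW ⟨_, hwN⟩ hw, ← hφ ⟨_, hwN⟩ ⟨_, hbN⟩]
        refine congrArg φ (Subtype.ext (Subtype.ext ?_))
        show (u : G)⁻¹ * s * u = b * w * b⁻¹
        rw [← e, ← hbz, hz1, one_mul]
      · refine ⟨b⁻¹ * (u : G)⁻¹, mul_mem (inv_mem (hPS hb)) (inv_mem (hUS u.2)), Or.inr ?_⟩
        have e2 : b⁻¹ * (u : G)⁻¹ * s * (b⁻¹ * (u : G)⁻¹)⁻¹ = z * w := by
          calc _ = b⁻¹ * ((u : G)⁻¹ * s * u) * b := by group
            _ = b⁻¹ * (b * (z * w) * b⁻¹) * b := by rw [← e, hbz]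
            _ = _ := by group
        rw [e2, mem_vset]
        refine ⟨mul_mem (Subgroup.mem_sup_right hz) (Subgroup.mem_sup_left hw), fun h => hz1 ?_, fun h => hw1 ?_⟩
        · have : z ∈ W₁ ⊓ W₂ := ⟨(Subgroup.mul_mem_cancel_right W₁ hw).mp h, hz⟩
          rwa [hW.2.2.1, Subgroup.mem_bot] at this
        · have : w ∈ W₁ ⊓ W₂ := ⟨hw, (Subgroup.mul_mem_cancel_left W₂ hz).mp h⟩
          rwa [hW.2.2.1, Subgroup.mem_bot] at this
  have hD : Cfsg.DadeHypothesis (Cfsg.typeA0 S) S fun _ => ⊥ := TP.dade hG hS.coatom hP (Or.inr (Or.inr rfl))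
  have hA0 : ∀ (φ : N → ℂ), Cfsg.IsClassFunction N φ → (∀ n : N, ((n : S) : G) ∈ W₁ → φ n = 0) → ∀ s : S,
      (s : G) ∉ Cfsg.typeA0 S → Cfsg.indFun N φ s = 0 := by
    intro φ hφ hφW s hs
    by_contra hne
    obtain ⟨y, hy, h⟩ := hsupN φ hφ hφW s hne
    have hmem : y * (s : G) * y⁻¹ ∈ Cfsg.typeA0 S := by
      rcases h with h | h
      · exact Or.inl (TP.typeA1_sub hG hS.coatom hP ⟨TP.fit_le_core hG hS.coatom hP h.1, h.2⟩)
      · obtain ⟨h1, h2, h3⟩ := mem_vset.mp h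
        exact Or.inr ⟨TP.not_typeI hG hS.coatom hP, W₁, U, W₂, hP, 1, S.one_mem, _, h1, h2, h3, by group⟩
    refine hs ?_
    simpa [mul_assoc] using hD.conj_mem y⁻¹ (inv_mem hy) _ hmem
  have hfW : ∀ n : N, ((n : S) : G) ∈ W₁ → f n = 0 := fun n hn => by
    show (1 : ℂ) - ((l ⟨((n : S) : G), n.2⟩ : ℂˣ) : ℂ) = 0
    rw [hl1 ⟨((n : S) : G), n.2⟩ hn]; simp
  have hf'W : ∀ n : N, ((n : S) : G) ∈ W₁ → f' n = 0 := fun n hn => by
    show ((l ⟨((n : S) : G), n.2⟩ : ℂˣ) : ℂ) - conj ((l ⟨((n : S) : G), n.2⟩ : ℂˣ) : ℂ) = 0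
    rw [hl1 ⟨((n : S) : G), n.2⟩ hn]; simp
  set β := Cfsg.indFun N f with hβ
  set β' := Cfsg.indFun N f' with hβ'
  have hβg : Cfsg.IsGeneralizedCharacter S β := IsGeneralizedCharacter.indFun N hfg
  have hβc := IsGeneralizedCharacter.isClassFunction hβg
  have hβA := hA0 f hfc hfW
  have hβ'A := hA0 f' hf'c hf'W
  set τ := Cfsg.dadeIsometry (Cfsg.typeA0 S) S fun _ => (⊥ : Subgroup G) with hτ
  set Ψ := τ β with hΨ
  have hΨg : Cfsg.IsGeneralizedCharacter G Ψ := Dade.isGeneralizedCharacter_dade hD hβg hβA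
  have hΨ1 : Cfsg.classInner Ψ (fun _ => 1) = Cfsg.classInner β (fun _ => 1) := by
    exact Dade.classInner_dade' hD hβc hβA (fun _ _ => rfl) _ fun a _ => by convert (avg_one (⊥ : Subgroup G)).symm
  have hlnne : (fun n : N => (ln n : ℂ)) ≠ fun _ => 1 := fun e => by
    have := congrFun e (inP ⟨_, hx₀⟩)
    exact hx₀1 (Units.ext this)
  have hβ1 : Cfsg.classInner β (fun _ => 1) = 1 := by
    rw [hβ, classInner_indFun N f (fun _ _ => rfl), show f = (fun _ => 1) - fun n => (ln n : ℂ) from rfl,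
      classInner_sub_left, inner_one_one, classInner_irr_ne (isIrrCharacter_hom ln) isIrrCharacter_one hlnne, sub_zero]
  -- the norms
  have hNcard : (Nat.card N : ℂ) = Nat.card W₁ * Nat.card P := by
    rw [hN, Nat.card_congr (Subgroup.subgroupOfEquivOfLe hS.PW_le).toEquiv, hS.card_PW]
    push_cast; ring
  have hN0 : (Nat.card N : ℂ) ≠ 0 := Nat.cast_ne_zero.mpr Nat.card_pos.ne'
  have htwist : ∀ u ∈ Finset.univ.erase (1 : U), (∃ x, (lP * (lP.comp
      (MonoidHom.mk' (cU u) fun x y => Subtype.ext (by simp [cU, mul_assoc])))⁻¹ : P →* ℂˣ) x ≠ 1) ∧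
      ∃ x, (lP * (lP.comp (MonoidHom.mk' (cU u) fun x y => Subtype.ext (by simp [cU, mul_assoc]))) : P →* ℂˣ) x ≠ 1 := by
    intro u hu
    have hu1 : (u : G) ≠ 1 := fun e => Finset.ne_of_mem_erase hu (Subtype.ext e)
    obtain ⟨x, hx⟩ := hS.move hG.1 ⟨x₀, hx₀, hx₀1⟩ u.2 hu1 true
    obtain ⟨x', hx'⟩ := hS.move hG.1 ⟨x₀, hx₀, hx₀1⟩ u.2 hu1 false
    exact ⟨⟨x, fun e => hx (mul_inv_eq_one.mp e).symm⟩, ⟨x', fun e => hx' (eq_inv_of_mul_eq_one_right e)⟩⟩
  have hsumP : ∀ m : P →* ℂˣ, ∀ a : P → ℂ, (∀ x, a x = (m x : ℂ)) → (∃ x, m x ≠ 1) → ∑ x, a x = 0 :=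
    fun m a ha hm => by rw [Finset.sum_congr rfl fun x _ => ha x]; exact hsum0 m hm
  have hin : ∀ φ : N → ℂ, ∑ n : N, φ n * conj (φ n) = (Nat.card N : ℂ) * Cfsg.classInner φ φ := fun φ => by
    rw [Cfsg.classInner, ← mul_assoc, mul_inv_cancel₀ hN0, one_mul]
  have hff : Cfsg.classInner f f = 2 := by
    rw [show f = (fun _ => 1) - fun n => (ln n : ℂ) from rfl, classInner_sub_left, classInner_sub_right,
      classInner_sub_right, inner_one_one, classInner_irr_ne isIrrCharacter_one (isIrrCharacter_hom ln) hlnne.symm,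
      classInner_irr_ne (isIrrCharacter_hom ln) isIrrCharacter_one hlnne, classInner_irr_self (isIrrCharacter_hom ln)]
    norm_num
  have hf'f' : Cfsg.classInner f' f' = 2 := by
    have hne : (fun n : N => (ln n : ℂ)) ≠ fun n => (ln⁻¹ n : ℂ) := fun e => by
      have h1 : ln = ln⁻¹ := MonoidHom.ext fun n => Units.ext (congrFun e n)
      have h2 := DFunLike.congr_fun h1 (inP ⟨_, hx₀⟩)
      have h3 : l x₀ * l x₀ = 1 := by
        have : l x₀ = (l x₀)⁻¹ := h2
        nth_rewrite 2 [this]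
        exact mul_inv_cancel _
      obtain ⟨k, hk⟩ := hG.1.of_dvd_nat (Subgroup.card_subgroup_dvd_card Np)
      have h4 : l x₀ ^ (2 * k + 1) = 1 := by rw [← map_pow, ← hk, pow_card_eq_one', map_one]
      rw [pow_succ, pow_mul, sq, h3, one_pow, one_mul] at h4
      exact hx₀1 h4
    rw [show f' = (fun n => (ln n : ℂ)) - fun n => (ln⁻¹ n : ℂ) from funext fun n => by
        simp only [hf', Pi.sub_apply, hom_conj ln n, MonoidHom.inv_apply], classInner_sub_left, classInner_sub_right,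
      classInner_sub_right, classInner_irr_self (isIrrCharacter_hom ln), classInner_irr_self (isIrrCharacter_hom ln⁻¹),
      classInner_irr_ne (isIrrCharacter_hom ln) (isIrrCharacter_hom ln⁻¹) hne,
      classInner_irr_ne (isIrrCharacter_hom ln⁻¹) (isIrrCharacter_hom ln) hne.symm]
    norm_num
  have hnf : (Nat.card W₁ : ℂ) * Cfsg.classInner β β = 2 * Nat.card W₁ + ((Nat.card U : ℂ) - 1) := by
    have h1 : ∀ u ∈ Finset.univ.erase (1 : U), ∑ x : P, f (inP x) * conj (f (inP (cU u x))) = Nat.card P := by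
      intro u hu
      have e : ∀ x : P, f (inP x) * conj (f (inP (cU u x))) = 1 - (lP x : ℂ) - ((lP⁻¹ (cU u x) : ℂˣ) : ℂ) +
          (((lP * (lP.comp (MonoidHom.mk' (cU u) fun x y => Subtype.ext (by simp [cU, mul_assoc])))⁻¹) x : ℂˣ) : ℂ) :=
        fun x => by
          simp only [hf, map_sub, map_one, hlP, hom_conj lP, MonoidHom.mul_apply, MonoidHom.inv_apply,
            MonoidHom.comp_apply, MonoidHom.mk'_apply, Units.val_mul]
          ring
      have hinjc : Function.Injective (cU u) := fun x y h => Subtype.ext (by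
        have : (u : G)⁻¹ * x * u = (u : G)⁻¹ * y * u := congrArg Subtype.val h
        exact mul_left_cancel (mul_right_cancel this))
      rw [Finset.sum_congr rfl fun x _ => e x, Finset.sum_add_distrib, Finset.sum_sub_distrib, Finset.sum_sub_distrib,
        hPcard, hsum0 lP hlP1,
        (Finite.injective_iff_bijective.mp hinjc).sum_comp (fun x => ((lP⁻¹ x : ℂˣ) : ℂ)), hsum0 lP⁻¹ hlPinv,
        hsum0 _ (htwist u hu).1]
      ring
    have := hnorm f hfc
    rw [hin, hff, Finset.sum_congr rfl h1, Finset.sum_const, Finset.card_erase_of_mem (Finset.mem_univ _),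
      Finset.card_univ, nsmul_eq_mul, ← Nat.card_eq_fintype_card, ← hβ, hNcard,
      Nat.cast_sub (Nat.card_pos (α := U)), Nat.cast_one] at this
    have hP0 : (Nat.card P : ℂ) ≠ 0 := Nat.cast_ne_zero.mpr Nat.card_pos.ne'
    refine mul_left_cancel₀ hP0 ?_
    linear_combination this
  have hnf' : Cfsg.classInner β' β' = 2 := by
    have h1 : ∀ u ∈ Finset.univ.erase (1 : U), ∑ x : P, f' (inP x) * conj (f' (inP (cU u x))) = 0 := by
      intro u hu
      obtain ⟨⟨a, ha⟩, ⟨b, hb⟩⟩ := htwist u hu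
      set c := MonoidHom.mk' (cU u) fun x y => Subtype.ext (by simp [cU, mul_assoc]) with hc
      have e : ∀ x : P, f' (inP x) * conj (f' (inP (cU u x))) = (((lP * (lP.comp c)⁻¹) x : ℂˣ) : ℂ) -
          (((lP * lP.comp c) x : ℂˣ) : ℂ) - (((lP * lP.comp c)⁻¹ x : ℂˣ) : ℂ) +
          (((lP * (lP.comp c)⁻¹)⁻¹ x : ℂˣ) : ℂ) := fun x => by
        simp only [hf', hlP, map_sub, Complex.conj_conj]
        simp only [hom_conj lP, hc, MonoidHom.mul_apply, MonoidHom.inv_apply,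
          MonoidHom.comp_apply, MonoidHom.mk'_apply, Units.val_mul, mul_inv_rev, inv_inv]
        ring
      rw [Finset.sum_congr rfl fun x _ => e x, Finset.sum_add_distrib, Finset.sum_sub_distrib, Finset.sum_sub_distrib,
        hsum0 _ ⟨a, ha⟩, hsum0 _ ⟨b, hb⟩, hsum0 _ ⟨b, fun e => hb (inv_eq_one.mp e)⟩,
        hsum0 _ ⟨a, fun e => ha (inv_eq_one.mp e)⟩]
      ring
    have := hnorm f' hf'c
    rw [hin, hf'f', Finset.sum_eq_zero h1, add_zero, ← hβ'] at this
    exact mul_left_cancel₀ hN0 this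
  -- the norm is a natural number
  obtain ⟨z, hz⟩ := IsGeneralizedCharacter.classInner_int hβg hβg
  have hzq : (Nat.card W₁ : ℤ) * z = 2 * Nat.card W₁ + ((Nat.card U : ℤ) - 1) := by
    rw [hz] at hnf; exact_mod_cast hnf
  have hzpos : 0 ≤ z := by
    have hU := Nat.card_pos (α := U)
    have hq := hS.prime₁.pos
    by_contra hc
    push Not at hc
    nlinarith
  obtain ⟨n, rfl⟩ := Int.eq_ofNat_of_zero_le hzpos
  -- reality
  have hβconj : (fun s => conj (β s)) = β + β' := by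
    rw [hβ, hβ', ← indFun_conj, ← indFun_add]
    congr 1
    funext m
    simp only [hf, hf', Pi.add_apply, map_sub, map_one]
    ring
  have hDg : Cfsg.IsGeneralizedCharacter G ((fun x => conj (Ψ x)) - Ψ) := IsGeneralizedCharacter.sub (by
    obtain ⟨a, b, ha, hb, e⟩ := hΨg
    exact ⟨_, _, IsCharacter.conj' ha, IsCharacter.conj' hb, by rw [e]; funext x; simp⟩) hΨg
  set D : G → ℂ := (fun x => conj (Ψ x)) - Ψ with hDdef
  have hDτ : D = τ β' := by
    rw [hDdef, hΨ, hτ, ← Dade.dade_conj hD hβc, hβconj, Test.dade_add, add_sub_cancel_left]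
  have hinv : g.1⁻¹ ≠ g.1 := fun e => hg (hom_eq_one_of_sq hoddW e)
  let g' : SndChar W₁ W₂ := ⟨g.1⁻¹, fun w hw => by rw [MonoidHom.inv_apply, g.2 w hw, inv_one]⟩
  have hgg' : g ≠ g' := fun e => hinv (congrArg Subtype.val e).symm

  haveI := finite_hom (W₁ := W₁) (W₂ := W₂)
  cases nonempty_fintype (FstChar W₁ W₂)
  cases nonempty_fintype (SndChar W₁ W₂)
  obtain ⟨hc1, hc2⟩ := card_fstChar hW
  obtain ⟨h31, h32, -, -⟩ := Grid.three_le hW hoddW
  have hηg := Grid.isGeneralizedCharacter_member hη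
  have hvV : ∀ v ∈ vset W₁ W₂, (D - (η g.1 - η g'.1)) v = 0 := by
    intro v hv
    obtain ⟨hvW, hv1, hv2⟩ := mem_vset.mp hv
    obtain ⟨⟨w, z'⟩, e⟩ := (exists_prodEquiv hW).choose.surjective ⟨v, hvW⟩
    have e' : (w : G) * (z' : G) = v := by
      rw [← (exists_prodEquiv hW).choose_spec (w, z'), e]
    have hwz : (w : G) * z' = (z' : G) * w := hW.2.2.2.1 _ w.2 _ z'.2
    have hvNp : v ∈ Np := e' ▸ mul_mem (Subgroup.mem_sup_right w.2) (Subgroup.mem_sup_left (hS.W₂_le_core z'.2))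
    have hvS : v ∈ S := hS.PW_le hvNp
    have hvP : v ∉ P := fun h => hv2 (by
      have h1 : (w : G) ∈ P ⊓ W₁ := ⟨by
        rw [← e'] at h; exact (Subgroup.mul_mem_cancel_right P (hS.W₂_le_core z'.2)).mp h, w.2⟩
      rw [hS.core_inf_W₁, Subgroup.mem_bot] at h1
      rw [← e', h1, one_mul]; exact z'.2)
    have hvA : v ∈ Cfsg.typeA0 S :=
      Or.inr ⟨TP.not_typeI hG hS.coatom hP, W₁, U, W₂, hP, 1, S.one_mem, v, hvW, hv1, hv2, by group⟩
    have hlv : ((ln ⟨⟨v, hvS⟩, hvNp⟩ : ℂˣ) : ℂ) = (g.1 ⟨v, hvW⟩ : ℂ) := by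
      congr 1
      rw [hln, show (⟨v, hvNp⟩ : Np) = ⟨(w : G), Subgroup.mem_sup_right w.2⟩ *
          ⟨(z' : G), Subgroup.mem_sup_left (hS.W₂_le_core z'.2)⟩ from Subtype.ext e'.symm, map_mul, hl1 _ w.2,
        one_mul, hl2 _ z'.2, show (⟨v, hvW⟩ : ↥(W₁ ⊔ W₂)) = ⟨(w : G), Subgroup.mem_sup_left w.2⟩ *
          ⟨(z' : G), Subgroup.mem_sup_right z'.2⟩ from Subtype.ext e'.symm, map_mul, g.2 ⟨(w : G), Subgroup.mem_sup_left w.2⟩ w.2, one_mul]
    rw [Pi.sub_apply, Pi.sub_apply, hDτ, hτ, Dade.dade_apply hD (indFun_isClassFunction N f') ⟨v, hvS⟩ hvA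
      (x := 1) (u := 1) (Subgroup.one_mem _) (by simp)]
    rw [show (⟨v, hvS⟩ : S) = ((⟨⟨v, hvS⟩, hvNp⟩ : N) : S) from rfl, houter f' hf'c _ hvP,
      hη.eq_on g.1 ⟨v, hvW⟩ hv1 hv2, hη.eq_on g'.1 ⟨v, hvW⟩ hv1 hv2]
    simp only [hf', hlv, hom_conj g.1, g', MonoidHom.inv_apply, sub_self]
  obtain ⟨a, ha⟩ := Grid.exists_grid hW hη hDg
  obtain ⟨b, hb, hblin, hb0⟩ := exists_lin hW hη
    (IsGeneralizedCharacter.sub hDg (IsGeneralizedCharacter.sub (hηg g.1) (hηg g'.1))) hvV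
  have hab : ∀ f l, b f l = a f l -
      (if f = fst₀ W₁ W₂ then ((if l = g then 1 else 0) - if l = g' then 1 else 0) else 0) := by
    intro f l
    have h := hb f l
    rw [classInner_sub_left D, classInner_sub_left (η g.1) (η g'.1), ha, hη.orthonormal, hη.orthonormal] at h
    have e1 : ∀ m : SndChar W₁ W₂, (m.1 = f.1 * l.1) ↔ f = fst₀ W₁ W₂ ∧ l = m := fun m => by
      rw [show m.1 = (fst₀ W₁ W₂).1 * m.1 from (Grid.hom_one_mul' _).symm, Grid.mul_ne_iff hW (fst₀ W₁ W₂, m) (f, l),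
        Prod.mk.injEq, eq_comm (a := fst₀ W₁ W₂), eq_comm (a := m)]
    simp only [e1] at h
    by_cases hf0 : f = fst₀ W₁ W₂
    · subst hf0
      simp only [true_and, if_true] at h ⊢
      apply Int.cast_injective (α := ℂ)
      push_cast
      rw [← h]
    · simp only [hf0, false_and, if_false] at h ⊢
      have : (b f l : ℂ) = a f l := by rw [← h]; ring
      rw [sub_zero]; exact_mod_cast this
  have hD1 : Cfsg.classInner D D = ((2 : ℕ) : ℂ) := by
    rw [hDτ, hτ, Dade.classInner_dade_dade hD (indFun_isClassFunction N f') hβ'A (indFun_isClassFunction N f'),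
      ← hβ', hnf']
    norm_num
  have hbes := Grid.bessel hW hη hDg ha hD1
  have hpat := Grid.two_entries (a := a) (x := fun f => b f (snd₀ W₁ W₂) - b (fst₀ W₁ W₂) (snd₀ W₁ W₂))
    (y := fun l => b (fst₀ W₁ W₂) l) (δ := 1) (by rwa [← Nat.card_eq_fintype_card, hc1])
    (by rwa [← Nat.card_eq_fintype_card, hc2]) (Or.inl rfl) hgg' (fun f l => by
      have := hblin f l
      rw [hab f l] at this
      linarith) (by exact_mod_cast hbes.1)
  have hDeq : D = η g.1 - η g'.1 := by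
    rw [hbes.2.1 (by
      simp only [hpat, ite_pow, zero_pow two_ne_zero]
      rw [Finset.sum_eq_single (fst₀ W₁ W₂) (fun f _ hf => by simp [hf]) (by simp)]
      rw [← Finset.sum_subset (Finset.subset_univ {g, g'}) (fun l _ hl => by
        simp only [Finset.mem_insert, Finset.mem_singleton, not_or] at hl
        simp [hl.1, hl.2]), Finset.sum_pair hgg']
      simp [hgg', hgg'.symm])]
    rw [Finset.sum_eq_single (fst₀ W₁ W₂) (fun f _ hf => by simp [hpat, hf]) (by simp),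
      ← Finset.sum_subset (Finset.subset_univ {g, g'}) (fun l _ hl => by
        simp only [Finset.mem_insert, Finset.mem_singleton, not_or] at hl
        simp [hpat, hl.1, hl.2]), Finset.sum_pair hgg']
    simp only [hpat, if_true, hgg', hgg'.symm, if_false, show (fst₀ W₁ W₂).1 = 1 from rfl, Grid.hom_one_mul']
    simp [sub_eq_add_neg]
  refine ⟨Ψ, n, hΨg, fun x hx => ?_, by rw [hΨ1, hβ1],
    by rw [hΨ, hτ, Dade.classInner_dade_dade hD hβc hβA hβc, hz, Int.cast_natCast], by exact_mod_cast (show (n : ℤ) * Nat.card W₁ + 1 = 2 * Nat.card W₁ + Nat.card U by linarith), fun x => ?_⟩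
  · have hxs : x ∈ Dade.supp (Cfsg.typeA0 S) S (fun _ => ⊥) := by_contra fun h => hx (Dade.dade_eq_zero h)
    obtain ⟨s, hs, y, v, hv, e⟩ := hxs
    rw [Subgroup.mem_bot] at hv
    rw [hv, mul_one] at e
    have hne : β s ≠ 0 := by
      rw [hΨ, hτ, Dade.dade_apply hD hβc s hs (x := y) (u := 1) (Subgroup.one_mem _) (by rw [e, mul_one])] at hx
      exact hx
    obtain ⟨y', -, h⟩ := hsupN f hfc hfW s hne
    exact ⟨y' * y, by rwa [show y' * y * x * (y' * y)⁻¹ = y' * (y * x * y⁻¹) * y'⁻¹ by group, e]⟩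
  · have h := congrFun hDeq x
    simp only [hDdef, Pi.sub_apply, g'] at h
    rw [family_conj hW hoddW hη] at h
    rw [map_add]
    linear_combination h

end CfsgLib.OddOrder.Final.Neighbour
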