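import Cfsg.Agent.Lib.OddOrder.Final.DOne
import Cfsg.Agent.Lib.OddOrder.Final.GridSetup
import Cfsg.Agent.Lib.OddOrder.Final.NeighbourSide
import Cfsg.Agent.Lib.OddOrder.SupportCount
import Cfsg.Agent.Lib.OddOrder.SigmaNeighbour
import Cfsg.Agent.S1377
import Cfsg.Agent.S1379
import Cfsg.Agent.S1502
import Cfsg.Agent.S1508

/-!
The neighbour with complement of order `pq`: the whole grid appears in its family, so its distinguished member
is odd, hence non-zero, on too many elements.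
-/

set_option autoImplicit false

open scoped ComplexConjugate

namespace CfsgLib.OddOrder.Final.Neighbour

open CfsgLib.Char CfsgLib.Char.CyclicTI
open Engine (orbit mem_orbit meas)
open Grid (fst₀ snd₀)
open Cfsg (fittingHallOf sigmaCore)

variable {G : Type*} [Group G] [Fintype G] {S T L W₁ W₂ U V : Subgroup G}

theorem typeP_ne_conj (hG : Cfsg.IsMinSimpleOddOrder G) (hκ : Cfsg.kappa L = ∅) (hT : IsCoatom T)
    (hP : Cfsg.IsTypePWith T W₂ V W₁) (g : G) : T ≠ SigmaFusion.cj g L := by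
  intro e
  refine TP.not_typeI hG hT hP (TypeOneClass.typeI_of_empty hG hT ?_)
  refine Set.eq_empty_iff_forall_notMem.mpr fun t ht => ?_
  have h1 := SigmaNeighbour.kappa_cj hG hT ht g⁻¹
  rw [show SigmaFusion.cj g⁻¹ T = L by
    rw [e, SigmaFusion.cj_cj, inv_mul_cancel, SigmaFusion.cj_one]] at h1
  rw [hκ] at h1
  exact h1

/-- A conjugate of a non-identity element of `T_F` lies outside the support of the neighbour. -/
theorem core_notMem_tilde (hG : Cfsg.IsMinSimpleOddOrder G) (hL : IsCoatom L) (hκ : Cfsg.kappa L = ∅)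
    (hT : IsCoatom T) (hP : Cfsg.IsTypePWith T W₂ V W₁) {x y : G}
    (hx : y * x * y⁻¹ ∈ (fittingHallOf T : Set G) \ {1}) :
    x ∉ Cfsg.tildeOf L ((sigmaCore L : Set G) \ {1}) := by
  intro hm
  have h := SupportCount.tilde_disjoint hG hL hT (typeP_ne_conj hG hκ hT hP)
  refine Set.eq_empty_iff_forall_notMem.mp h x ⟨hm, y * x * y⁻¹, ⟨?_, hx.2⟩, 1, one_mem _, y⁻¹, by group⟩
  exact SigmaCentralizer.fittingHallOf_le_sigmaCore hG hT hx.1

omit [Fintype G] in
/-- For a full side of Type II the set `A` lies in the kernel. -/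
theorem typeA_sub_core [Finite G] (hG : Cfsg.IsMinSimpleOddOrder G) (hs : Side S W₁ U W₂) (hS : Full S W₁ U W₂)
    (hII : Cfsg.IsOfTypeII S) {z : G} (hz : z ∈ Cfsg.typeA S) : z ∈ fittingHallOf S := by
  rw [TP.typeA_eq hG hs.coatom hs.typeP, Side.typeCore_II hG hs hII] at hz
  obtain ⟨hzd, -, x, hx, hx1, hc⟩ := hz
  obtain ⟨f, hf, v, hv, e⟩ := hs.typeP.U_compl.2.2.2 _ hzd
  have hv1 : v = 1 := by
    by_contra hne
    refine hx1 (hS.fpf v hv hne x hx ?_)
    have hfx : f * x = x * f :=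
      congrArg (fun z : ↥(fittingHallOf S) => (z : G)) (hS.core_comm.is_comm.comm ⟨f, hf⟩ ⟨x, hx⟩)
    have h3 : f * (v * x) = f * (x * v) := by
      rw [← mul_assoc, ← e, hc, e, ← mul_assoc, ← mul_assoc, hfx]
    exact mul_left_cancel h3
  rw [e, hv1, mul_one]
  exact hf

theorem meas_typeA_le (hG : Cfsg.IsMinSimpleOddOrder G) (hs : Side S W₁ U W₂) (hS : Full S W₁ U W₂)
    (hII : Cfsg.IsOfTypeII S) : meas S (Cfsg.typeA S) ≤ 1 / ((Nat.card W₁ : ℝ) * Nat.card U) := by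
  classical
  have h1 : (Engine.pts S (Cfsg.typeA S)).card ≤ Nat.card ↥(fittingHallOf S) := by
    rw [Nat.card_eq_fintype_card, ← Finset.card_univ]
    refine Finset.card_le_card_of_injOn (fun a => if hh : (a : G) ∈ fittingHallOf S then ⟨a, hh⟩ else 1)
      (fun _ _ => Finset.mem_univ _) fun a ha b hb e => ?_
    simp only [dif_pos (typeA_sub_core hG hs hS hII (Engine.mem_pts.mp ha)),
      dif_pos (typeA_sub_core hG hs hS hII (Engine.mem_pts.mp hb))] at e
    exact Subtype.ext (congrArg (fun z : ↥(fittingHallOf S) => (z : G)) e)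
  have hU : (0 : ℝ) < Nat.card U := Nat.cast_pos.mpr Nat.card_pos
  have hP : (0 : ℝ) < Nat.card ↥(fittingHallOf S) := Nat.cast_pos.mpr Nat.card_pos
  have hW : (0 : ℝ) < Nat.card W₁ := Nat.cast_pos.mpr Nat.card_pos
  rw [meas, TP.card_eq hs.typeP, TP.card_derived hs.typeP]
  push_cast
  rw [inv_mul_le_iff₀ (mul_pos (mul_pos hP hU) hW)]
  calc ((Engine.pts S (Cfsg.typeA S)).card : ℝ) ≤ Nat.card ↥(fittingHallOf S) := Nat.cast_le.mpr h1
    _ = _ := by field_simp

/-- The final inequality. -/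
theorem grid_arith {q p u v w N : ℝ} (hq : 3 ≤ q) (hp : 5 ≤ p) (hu : p ≤ u) (hv : q ≤ v) (hN : q * p ≤ N)
    (hw : q * p + 3 ≤ w) :
    1 < w * (1 / p + 1 / q - 2 / (q * p) - 1 / (q * u) - 1 / (p * v) - 1 / N) := by
  have hq0 : 0 < q := by linarith
  have hp0 : 0 < p := by linarith
  have h1 : 1 / (q * u) ≤ 1 / (q * p) :=
    one_div_le_one_div_of_le (by positivity) (mul_le_mul_of_nonneg_left hu hq0.le)
  have h2 : 1 / (p * v) ≤ 1 / (q * p) := by
    rw [mul_comm q p]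
    exact one_div_le_one_div_of_le (by positivity) (mul_le_mul_of_nonneg_left hv hp0.le)
  have h3 : 1 / N ≤ 1 / (q * p) := one_div_le_one_div_of_le (by positivity) hN
  have h4 : 1 / p + 1 / q - 2 / (q * p) - 1 / (q * p) - 1 / (q * p) - 1 / (q * p) = (q + p - 5) / (q * p) := by
    field_simp; ring
  have h5 : 3 / (q * p) ≤ (q + p - 5) / (q * p) := by gcongr; linarith
  have h6 : 1 < w * (3 / (q * p)) := by
    rw [← mul_div_assoc, one_lt_div (by positivity)]
    nlinarith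
  have hw0 : 0 ≤ w := by nlinarith
  calc (1 : ℝ) < w * (3 / (q * p)) := h6
    _ ≤ _ := mul_le_mul_of_nonneg_left (by linarith) hw0

/-- **The neighbour of a pair of full Type II sides cannot have a large kernel and a complement of order `pq`.** -/
theorem false_of_grid (hG : Cfsg.IsMinSimpleOddOrder G) (h : Pair S T W₁ W₂ U V) (hS : Full S W₁ U W₂)
    (hT : Full T W₂ V W₁) (hSII : Cfsg.IsOfTypeII S) (hTII : Cfsg.IsOfTypeII T) (hL : IsCoatom L)
    (hκ : Cfsg.kappa L = ∅) (hLq : (sigmaCore L).relIndex L = Nat.card W₁ * Nat.card W₂)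
    (hu : (2 * Nat.card W₁ + Nat.card U) * Nat.card W₂ ≤ Nat.card (sigmaCore L) - 1)
    (hv : (2 * Nat.card W₂ + Nat.card V) * Nat.card W₁ ≤ Nat.card (sigmaCore L) - 1)
    (hbig : (Nat.card W₁ * Nat.card W₂ + 3) * (Nat.card W₁ * Nat.card W₂) ≤ Nat.card (sigmaCore L) - 1) :
    False := by
  classical
  set q := Nat.card W₁ with hqd
  set p := Nat.card W₂ with hpd
  set X := Cfsg.tildeOf L ((sigmaCore L : Set G) \ {1}) with hXd
  have hW := h.sideS.typeP.selfNormalizing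
  have hodd : Odd (Nat.card ↥(W₁ ⊔ W₂)) := hG.1.of_dvd_nat (Subgroup.card_subgroup_dvd_card _)
  obtain ⟨hq3, hp3, hqo, hpo⟩ := Grid.three_le hW hodd
  have hp5 : 5 ≤ p := by
    have := h.lt
    obtain ⟨a, ha⟩ := hqo
    obtain ⟨b, hb⟩ := hpo
    omega
  obtain ⟨n, Φ, χ, d, i₀, c, F, hw⟩ := fam_typeI hG hL hκ
  rw [hLq] at F hw
  set w := wt d with hwd
  have hqp0 : 0 < q * p := Nat.mul_pos (by omega) (by omega)
  have hwq : 2 * q + Nat.card U ≤ w * q := by
    refine Nat.le_of_mul_le_mul_right ?_ (show 0 < p by omega)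
    rw [mul_assoc, hw]; exact hu
  have hwp : 2 * p + Nat.card V ≤ w * p := by
    refine Nat.le_of_mul_le_mul_right ?_ (show 0 < q by omega)
    rw [mul_assoc, mul_comm p q, hw]; exact hv
  have hwb : q * p + 3 ≤ w := Nat.le_of_mul_le_mul_right (hw.symm ▸ hbig) hqp0
  obtain ⟨η, hη⟩ := Cfsg.Agent.S1502.result W₁ W₂ hW hodd
  haveI := finite_hom (W₁ := W₁) (W₂ := W₂)
  cases nonempty_fintype (FstChar W₁ W₂)
  cases nonempty_fintype (SndChar W₁ W₂)
  -- the support avoids the regular part and the two kernels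
  have hXV : ∀ (v y : G), y * v * y⁻¹ ∈ vset W₁ W₂ → v ∉ X := by
    intro v y hvy hm
    have h3 := ((Cfsg.Agent.S1379.result hG).2.2 S W₁ U h.sideS.coatom (hS.decomp hG hSII)
      h.sideS.typeP.W₁_ne).2 L hL
    rw [hS.core_inf hG] at h3
    obtain ⟨h1, h2, h4⟩ := mem_vset.mp hvy
    refine h3 y⁻¹ (y * v * y⁻¹) ⟨h1, fun hu => hu.elim h2 h4⟩ ?_
    rw [show y⁻¹ * (y * v * y⁻¹) * y⁻¹⁻¹ = v by group]
    exact hm
  have hXv : ∀ v ∈ vset W₁ W₂, v ∉ X := fun v hv => hXV v 1 (by simpa using hv)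
  have hsym : vset W₂ W₁ = vset W₁ W₂ := vset_symm
  -- both base lines are odd
  obtain ⟨a, ha, hlin, h0⟩ := exists_lin hW hη F.gen_Φ fun v hv => F.van v (hXv v hv)
  rw [F.inner_one] at h0
  have ha00 : a (fst₀ W₁ W₂) (snd₀ W₁ W₂) = 1 := by exact_mod_cast h0.symm
  have horth : ∀ ω i, Cfsg.classInner (η ω) (χ i) = 0 := fun ω i => by
    rw [← classInner_conj_symm, F.grid_orth hG.1 hW hodd hη hXv i ω, map_zero]
  have hη1 : ∀ ω, ω ≠ 1 → Cfsg.classInner (η ω) (fun _ => 1) = 0 := fun ω hω => by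
    have h1 := hη.orthonormal ω 1
    rwa [hη.map_one, if_neg hω] at h1
  have hsnd : ∀ l : SndChar W₁ W₂, Odd (a (fst₀ W₁ W₂) l) := by
    intro l
    by_cases hl : l.1 = 1
    · rw [show l = snd₀ W₁ W₂ from Subtype.ext hl, ha00]; exact odd_one
    obtain ⟨Ψ, m, hΨg, hΨs, hΨ1, hΨn, hm, hΨr⟩ := exists_test hG hS hη l hl
    have hvan : ∀ x ∈ X, Ψ x = 0 := fun x hx => by
      by_contra hne
      obtain ⟨y, hy | hy⟩ := hΨs x hne
      · exact core_notMem_tilde hG hL hκ h.sideS.coatom h.sideS.typeP hy hx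
      · exact hXV x y hy hx
    obtain ⟨z, hz⟩ := F.odd_of_test hG.1 hΨg hvan hΨ1 hΨn
      (Nat.lt_of_mul_lt_mul_right (a := q) (by simp only [← hqd, ← hpd, ← hwd] at hm ⊢; omega)) (Grid.isGeneralizedCharacter_member hη _)
      (horth _) (hη1 _ hl) hΨr
    have he := ha (fst₀ W₁ W₂) l
    rw [show (fst₀ W₁ W₂).1 * l.1 = l.1 from Grid.hom_one_mul' _, hz] at he
    exact ⟨z, by exact_mod_cast he.symm⟩
  have hfst : ∀ f : FstChar W₁ W₂, Odd (a f (snd₀ W₁ W₂)) := by
    intro f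
    by_cases hf : f.1 = 1
    · rw [show f = fst₀ W₁ W₂ from Subtype.ext hf, ha00]; exact odd_one
    set e := MulEquiv.subgroupCongr (sup_comm W₁ W₂) with he
    let g' : SndChar W₂ W₁ := ⟨f.1.comp e.symm.toMonoidHom, fun x hx => f.2 _ hx⟩
    have hback : g'.1.comp e.toMonoidHom = f.1 := MonoidHom.ext fun x => by simp [g']
    have hg' : g'.1 ≠ 1 := fun e' => hf (by rw [← hback, e']; rfl)
    obtain ⟨Ψ, m, hΨg, hΨs, hΨ1, hΨn, hm, hΨr⟩ := exists_test hG hT (Grid.swap_family hη) g' hg'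
    simp only [← he, hback] at hΨr
    have hvan : ∀ x ∈ X, Ψ x = 0 := fun x hx => by
      by_contra hne
      obtain ⟨y, hy | hy⟩ := hΨs x hne
      · exact core_notMem_tilde hG hL hκ h.sideT.coatom h.sideT.typeP hy hx
      · exact hXV x y (hsym ▸ hy) hx
    obtain ⟨z, hz⟩ := F.odd_of_test hG.1 hΨg hvan hΨ1 hΨn
      (Nat.lt_of_mul_lt_mul_right (a := p) (by simp only [← hqd, ← hpd, ← hwd] at hm ⊢; omega)) (Grid.isGeneralizedCharacter_member hη _)
      (horth _) (hη1 _ hf) hΨr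
    have he' := ha f (snd₀ W₁ W₂)
    rw [show f.1 * (snd₀ W₁ W₂).1 = f.1 from Grid.hom_mul_one' _, hz] at he'
    exact ⟨z, by exact_mod_cast he'.symm⟩
  have hall : ∀ f l, Odd (a f l) := fun f l => by
    obtain ⟨x, hx⟩ := hfst f
    obtain ⟨y, hy⟩ := hsnd l
    exact ⟨x + y, by rw [hlin, ha00, hx, hy]; ring⟩
  -- every coefficient has square one
  have hsum : ∑ f, ∑ l, a f l ^ 2 = ((q * p : ℕ) : ℤ) := by
    have hb := (Grid.bessel hW hη F.gen_Φ ha (N := q * p + 1) (by rw [F.norm]; push_cast; rfl)).1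
    obtain ⟨hc1, hc2⟩ := card_fstChar hW
    have hcard : (Finset.univ : Finset (FstChar W₁ W₂ × SndChar W₁ W₂)).card = q * p := by
      rw [Finset.card_univ, Fintype.card_prod, ← Nat.card_eq_fintype_card, ← Nat.card_eq_fintype_card, hc1, hc2]
    rw [← Fintype.sum_prod_type'] at hb ⊢
    have hge : ∀ x : FstChar W₁ W₂ × SndChar W₁ W₂, 1 ≤ a x.1 x.2 ^ 2 := fun x =>
      Int.add_one_le_iff.mpr (sq_pos_iff.mpr fun e : a x.1 x.2 = 0 => Int.not_odd_zero (e ▸ hall x.1 x.2))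
    have hone : ∀ x : FstChar W₁ W₂ × SndChar W₁ W₂, a x.1 x.2 ^ 2 = 1 := by
      intro x
      by_contra hne
      obtain ⟨k, hk⟩ := hall x.1 x.2
      have h9 : 3 ≤ a x.1 x.2 ^ 2 := by
        have h2 := hge x
        have h4 : a x.1 x.2 ^ 2 ≠ 2 := fun e => by
          rw [hk] at e
          have : (2 : ℤ) ∣ 1 := ⟨1 - 2 * k * k - 2 * k, by linarith⟩
          norm_num at this
        omega
      have h2 := Finset.card_nsmul_le_sum ((Finset.univ : Finset (FstChar W₁ W₂ × SndChar W₁ W₂)).erase x) _ _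
        fun y _ => hge y
      rw [← Finset.add_sum_erase _ _ (Finset.mem_univ x)] at hb
      rw [Finset.card_erase_of_mem (Finset.mem_univ x), hcard, nsmul_eq_mul, mul_one,
        Nat.cast_sub (by omega)] at h2
      push_cast at h2 hb
      linarith
    rw [Finset.sum_congr rfl fun x _ => hone x, Finset.sum_const, hcard, nsmul_eq_mul, mul_one]
  have hΦ := F.eq_grid hG.1 hW hodd hη hXv (by omega) ha hsum
  -- the remaining elements
  set oV := orbit (W₁ ⊔ W₂) (vset W₁ W₂) with hoV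
  set oS := orbit S (Cfsg.typeA S) with hoS
  set oT := orbit T (Cfsg.typeA T) with hoT
  set oX := Finset.univ.filter (· ∈ X) with hoX
  set Z : Finset G := Finset.univ \ (insert 1 (oV ∪ oS ∪ oT ∪ oX)) with hZ
  have hZX : ∀ g ∈ Z, g ∉ X := fun g hg hm => by
    simp only [hZ, Finset.mem_sdiff, Finset.mem_insert, Finset.mem_union, not_or] at hg
    exact hg.2.2.2 (Finset.mem_filter.mpr ⟨Finset.mem_univ _, hm⟩)
  have hval : ∀ g ∈ Z, (1 : ℝ) ≤ ‖χ i₀ g‖ ^ 2 := fun g hg => by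
    have hgX := hZX g hg
    simp only [hZ, Finset.mem_sdiff, Finset.mem_insert, Finset.mem_union, not_or] at hg
    obtain ⟨-, -, ⟨⟨hgV, hgS⟩, hgT⟩, -⟩ := hg
    have hne : q ≠ p := h.lt.ne
    have hcq := DOne.coprime_order' hG h.sideS h.sideT hne hTII hgV hgT
    have hgV' : g ∉ orbit (W₂ ⊔ W₁) (vset W₂ W₁) := by
      rw [hsym]
      intro hm
      obtain ⟨b, hb, x, e⟩ := mem_orbit.mp hm
      exact hgV (mem_orbit.mpr ⟨⟨b, (mem_vset.mp hb).1⟩, hb, x, e⟩)
    have hcp := DOne.coprime_order' hG h.sideT h.sideS hne.symm hSII hgV' hgS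
    have hint : ∀ ω, ∃ m : ℤ, η ω g = m := fun ω => by
      refine Cfsg.Agent.S1508.result W₁ W₂ hW hodd η hη ω g
        ((hcq.mul_right hcp).coprime_dvd_right (orderOf_dvd_of_pow_eq_one (MonoidHom.ext fun x => ?_)))
      rw [MonoidHom.pow_apply, ← map_pow, MonoidHom.one_apply,
        show x ^ (q * p) = 1 by rw [← VSet.card_sup hW]; exact pow_card_eq_one', map_one]
    obtain ⟨z, hz, hzo⟩ := odd_comb hW hodd hη (hall _ _) (fun _ _ _ _ _ _ => iff_of_true (hall _ _) (hall _ _)) hint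
    have hχg : χ i₀ g = (z : ℂ) := by
      have h1 := congrFun hΦ g
      rw [F.van g hgX, Pi.sub_apply, hz] at h1
      exact (sub_eq_zero.mp h1.symm).symm
    rw [hχg, Complex.norm_intCast, sq_abs]
    have hz0 : z ≠ 0 := fun e => by simp [e] at hzo
    exact_mod_cast (show 1 ≤ z ^ 2 from sq_pos_iff.mpr hz0)
  have hmass := F.mass_out Z hZX
  have hZle : (Z.card : ℝ) ≤ ∑ g ∈ Z, ‖χ i₀ g‖ ^ 2 := by
    simpa using Finset.sum_le_sum (f := fun _ : G => (1 : ℝ)) hval
  have hGc : (Nat.card G : ℝ) ≤ Z.card + (1 + oV.card + oS.card + oT.card + oX.card) := by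
    have h1 : (Finset.univ : Finset G).card ≤ Z.card + (insert 1 (oV ∪ oS ∪ oT ∪ oX)).card :=
      Finset.card_le_card_sdiff_add_card
    have h2 := Finset.card_insert_le (1 : G) (oV ∪ oS ∪ oT ∪ oX)
    have h3 := Finset.card_union_le (oV ∪ oS ∪ oT) oX
    have h4 := Finset.card_union_le (oV ∪ oS) oT
    have h5 := Finset.card_union_le oV oS
    rw [Finset.card_univ, ← Nat.card_eq_fintype_card] at h1
    exact_mod_cast (show Nat.card G ≤ Z.card + (1 + oV.card + oS.card + oT.card + oX.card) by omega)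
  have hsides := h.sides hG
  have hV0 := DOne.card_orbit (VSet.dade hW h.nonempty_vset)
  rw [← hoV, VSet.meas_vset hW] at hV0
  have hS0 := DOne.card_orbit hsides.dadeA
  rw [← hoS] at hS0
  have hT0 := DOne.card_orbit hsides.dadeB
  rw [← hoT] at hT0
  have hX0 : oX.card * (q * p) ≤ Nat.card G := by
    have h1 : oX.card = (Nat.card (sigmaCore L) - 1) * L.index := by
      rw [← Cfsg.Agent.S1377.result hG L hL, ← hXd, ← Set.ncard_coe_finset]
      congr 1
      ext g; simp [hoX]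
    rw [h1, ← L.card_mul_index, ← Coprime.card_mul_relIndex_eq (SigmaTools.sigmaCore_le L), hLq]
    calc (Nat.card (sigmaCore L) - 1) * L.index * (q * p) ≤ Nat.card (sigmaCore L) * L.index * (q * p) :=
          Nat.mul_le_mul_right _ (Nat.mul_le_mul_right _ (Nat.sub_le _ _))
      _ = _ := by ring
  have hGbig : q * p ≤ Nat.card G := by
    rw [← VSet.card_sup hW]; exact Subgroup.card_le_card_group _
  have hu' : p ≤ Nat.card U := by
    have h1 := hS.U_mod₂
    have h2 : 1 < Nat.card U := (Subgroup.one_lt_card_iff_ne_bot U).mpr hS.U_ne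
    have := Nat.le_of_dvd (by omega) ((Nat.modEq_iff_dvd' h2.le).mp h1.symm)
    omega
  have hv' : q ≤ Nat.card V := by
    have h1 := hT.U_mod₂
    have h2 : 1 < Nat.card V := (Subgroup.one_lt_card_iff_ne_bot V).mpr hT.U_ne
    have := Nat.le_of_dvd (by omega) ((Nat.modEq_iff_dvd' h2.le).mp h1.symm)
    omega
  have hA := grid_arith (q := (q : ℝ)) (p := p) (u := Nat.card U) (v := Nat.card V) (w := w) (N := Nat.card G)
    (by exact_mod_cast hq3) (by exact_mod_cast hp5) (by exact_mod_cast hu') (by exact_mod_cast hv')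
    (by exact_mod_cast hGbig) (by exact_mod_cast hwb)
  have hmS := meas_typeA_le hG h.sideS hS hSII
  have hmT := meas_typeA_le hG h.sideT hT hTII
  have hG0 : (0 : ℝ) < Nat.card G := Nat.cast_pos.mpr Nat.card_pos
  have hw0 : (0 : ℝ) ≤ w := Nat.cast_nonneg _
  have hXr : (oX.card : ℝ) ≤ Nat.card G * (1 / ((q : ℝ) * p)) := by
    rw [mul_one_div, le_div_iff₀ (by positivity)]
    exact_mod_cast hX0
  have h8 : (1 - (q : ℝ)⁻¹) * (1 - (p : ℝ)⁻¹) = 1 - 1 / (q : ℝ) - 1 / p + 1 / (q * p) := by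
    have : (q : ℝ) ≠ 0 := by exact_mod_cast (show q ≠ 0 by omega)
    have : (p : ℝ) ≠ 0 := by exact_mod_cast (show p ≠ 0 by omega)
    field_simp; ring
  rw [h8] at hV0
  have hlow : (1 / (p : ℝ) + 1 / q - 2 / ((q : ℝ) * p) - 1 / ((q : ℝ) * Nat.card U) - 1 / ((p : ℝ) * Nat.card V) -
      1 / (Nat.card G : ℝ)) * Nat.card G ≤ Z.card := by
    have h5 : (1 / (Nat.card G : ℝ)) * Nat.card G = 1 := by field_simp
    have h6 := mul_le_mul_of_nonneg_right hmS hG0.le
    have h7 := mul_le_mul_of_nonneg_right hmT hG0.le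
    have h9 : (2 : ℝ) / ((q : ℝ) * p) = 2 * (1 / ((q : ℝ) * p)) := by ring
    rw [h9]
    nlinarith
  have h9 : (w : ℝ) * ((1 / (p : ℝ) + 1 / q - 2 / ((q : ℝ) * p) - 1 / ((q : ℝ) * Nat.card U) -
      1 / ((p : ℝ) * Nat.card V) - 1 / (Nat.card G : ℝ)) * Nat.card G) ≤ Nat.card G :=
    (mul_le_mul_of_nonneg_left (hlow.trans hZle) hw0).trans hmass
  rw [← mul_assoc] at h9
  nlinarith

end CfsgLib.OddOrder.Final.Neighbour
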