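import Cfsg.Agent.S0161
import Cfsg.Agent.Lib.Char.Coherence
import Cfsg.Agent.Lib.Char.CoherenceIrr
import Mathlib

/-!
Parity in groups of odd order, families of virtual characters attached to a supported virtual character,
and the impossibility of two large families with disjoint supports.
-/

set_option autoImplicit false

open scoped ComplexConjugate

namespace CfsgLib.OddOrder.Final.Neighbour

open CfsgLib.Char CfsgLib.Char.Coherence

variable {G : Type*} [Group G] [Fintype G]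

/-- Virtual characters are closed under the operations used below. -/
theorem gen_zero : Cfsg.IsGeneralizedCharacter G (0 : G → ℂ) :=
  ⟨_, _, isCharacter_zero, isCharacter_zero, (sub_self _).symm⟩

theorem gen_one : Cfsg.IsGeneralizedCharacter G (fun _ => 1 : G → ℂ) :=
  IsCharacter.isGeneralizedCharacter isCharacter_one

theorem gen_neg {θ : G → ℂ} (hθ : Cfsg.IsGeneralizedCharacter G θ) : Cfsg.IsGeneralizedCharacter G (-θ) := by
  simpa using IsGeneralizedCharacter.sub gen_zero hθ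

theorem gen_add {θ η : G → ℂ} (hθ : Cfsg.IsGeneralizedCharacter G θ) (hη : Cfsg.IsGeneralizedCharacter G η) :
    Cfsg.IsGeneralizedCharacter G (θ + η) := by
  simpa using IsGeneralizedCharacter.sub hθ (gen_neg hη)

theorem gen_smul {θ : G → ℂ} (hθ : Cfsg.IsGeneralizedCharacter G θ) (n : ℤ) :
    Cfsg.IsGeneralizedCharacter G ((n : ℂ) • θ) := by
  simpa using isGen_sum ({0} : Finset ℕ) (fun _ => θ) (fun _ => n) (fun _ _ => hθ)

theorem inner_conj_conj (a b : G → ℂ) :
    Cfsg.classInner (fun g => conj (a g)) (fun g => conj (b g)) = conj (Cfsg.classInner a b) := by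
  simp only [Cfsg.classInner, map_mul, map_inv₀, map_natCast, map_sum]

theorem inner_one_one : Cfsg.classInner (fun _ => 1 : G → ℂ) (fun _ => 1) = 1 :=
  classInner_irr_self isIrrCharacter_one

/-- **Parity**: in odd order, two real virtual characters, one orthogonal to `1`, have even inner product. -/
theorem even_inner (hodd : Odd (Nat.card G)) {θ η : G → ℂ} (hθ : Cfsg.IsGeneralizedCharacter G θ)
    (hη : Cfsg.IsGeneralizedCharacter G η) (hθr : ∀ g, conj (θ g) = θ g) (hηr : ∀ g, conj (η g) = η g)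
    (h1 : Cfsg.classInner θ (fun _ => 1) = 0) : ∃ z : ℤ, Cfsg.classInner θ η = 2 * z := by
  classical
  obtain ⟨a, ha, -, -⟩ := IsGeneralizedCharacter.exists_coeff hθ
  obtain ⟨b, hb, -, -⟩ := IsGeneralizedCharacter.exists_coeff hη
  have hsum : Cfsg.classInner θ η = ((∑ φ : Cfsg.IrrCharacter G, a φ * b φ : ℤ) : ℂ) := by
    rw [classInner_eq_sum_irr (IsGeneralizedCharacter.isClassFunction hθ)]
    push_cast
    refine Finset.sum_congr rfl fun φ _ => ?_
    rw [ha φ, ← classInner_conj_symm η (φ : G → ℂ), hb φ, map_intCast]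
  let cj : Cfsg.IrrCharacter G → Cfsg.IrrCharacter G := fun φ =>
    ⟨fun g => conj ((φ : G → ℂ) g), IsIrrCharacter.conj' φ.2⟩
  have hcj : ∀ φ, cj (cj φ) = φ := fun φ => Subtype.ext (funext fun g => Complex.conj_conj _)
  have hinv : ∀ (ψ : G → ℂ) (c : Cfsg.IrrCharacter G → ℤ), (∀ g, conj (ψ g) = ψ g) →
      (∀ φ : Cfsg.IrrCharacter G, Cfsg.classInner ψ (φ : G → ℂ) = c φ) → ∀ φ, c (cj φ) = c φ := by
    intro ψ c hψ hc φ
    have h := inner_conj_conj ψ (φ : G → ℂ)
    rw [funext hψ, hc φ, map_intCast] at h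
    exact_mod_cast (hc (cj φ)).symm.trans h
  let one : Cfsg.IrrCharacter G := ⟨_, isIrrCharacter_one⟩
  have hfix : ∀ φ, cj φ = φ → φ = one := fun φ e => Subtype.ext
    (Cfsg.Agent.S0161.result hodd φ fun g => Complex.conj_eq_iff_im.1 (congrFun (congrArg Subtype.val e) g))
  have hz : ((∑ φ : Cfsg.IrrCharacter G, a φ * b φ : ℤ) : ZMod 2) = 0 := by
    push_cast
    refine Finset.sum_involution (fun φ _ => cj φ) (fun φ _ => ?_) (fun φ _ hne e => hne ?_)
      (fun φ _ => Finset.mem_univ _) (fun φ _ => hcj φ)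
    · rw [hinv θ a hθr ha, hinv η b hηr hb]
      exact CharTwo.add_self_eq_zero _
    · have : a φ = 0 := by
        have h := ha one
        rw [show ((one : Cfsg.IrrCharacter G) : G → ℂ) = (fun _ => 1) from rfl, h1] at h
        rw [hfix φ e]
        exact_mod_cast h.symm
      rw [this]; simp
  obtain ⟨z, hz'⟩ := (ZMod.intCast_zmod_eq_zero_iff_dvd _ 2).1 hz
  exact ⟨z, by rw [hsum, hz']; push_cast; ring⟩

variable {ι : Type*} [Fintype ι]

/-- A virtual character `Φ` of norm `e + 1` supported on `X`, and an orthonormal family `χ` of virtual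
characters with weights `d`, whose weighted differences are supported on `X`. -/
structure Fam (X : Set G) (e : ℕ) (Φ : G → ℂ) (χ : ι → G → ℂ) (d : ι → ℕ) (i₀ : ι) (c : ι → ι) : Prop where
  gen_Φ : Cfsg.IsGeneralizedCharacter G Φ
  van : ∀ g ∉ X, Φ g = 0
  inner_one : Cfsg.classInner Φ (fun _ => 1) = 1
  norm : Cfsg.classInner Φ Φ = (e : ℂ) + 1
  gen : ∀ i, Cfsg.IsGeneralizedCharacter G (χ i)
  norm_one : ∀ i, Cfsg.classInner (χ i) (χ i) = 1
  orth : ∀ i j, i ≠ j → Cfsg.classInner (χ i) (χ j) = 0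
  weight_zero : d i₀ = 1
  diff_van : ∀ i, ∀ g ∉ X, χ i g = (d i : ℂ) * χ i₀ g
  diff_one : ∀ i, Cfsg.classInner (χ i) (fun _ => 1) = (d i : ℂ) * Cfsg.classInner (χ i₀) (fun _ => 1)
  pairing : ∀ i, i ≠ i₀ → Cfsg.classInner Φ (χ i) = (d i : ℂ) * Cfsg.classInner Φ (χ i₀) + d i
  conj_mem : ∀ i g, conj (χ i g) = χ (c i) g
  conj_invol : ∀ i, c (c i) = i
  conj_weight : ∀ i, d (c i) = d i
  conj_ne : c i₀ ≠ i₀
  conj_Φ : ∀ g, conj (Φ g) = Φ g + χ i₀ g - χ (c i₀) g

/-- The weight of a family. -/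
def wt (d : ι → ℕ) : ℕ := ∑ i, d i ^ 2

/-- The part of `Φ` orthogonal to `1` and to the family. -/
noncomputable def rest (Φ : G → ℂ) (χ : ι → G → ℂ) : G → ℂ :=
  Φ - (fun _ => 1) - ∑ i, Cfsg.classInner Φ (χ i) • χ i

namespace Fam

variable {X : Set G} {e : ℕ} {Φ : G → ℂ} {χ : ι → G → ℂ} {d : ι → ℕ} {i₀ : ι} {c : ι → ι}
  (F : Fam X e Φ χ d i₀ c)

include F

theorem coef {Ψ : G → ℂ} (hΨ : ∀ g ∈ X, Ψ g = 0) (i : ι) :
    Cfsg.classInner Ψ (χ i) = (d i : ℂ) * Cfsg.classInner Ψ (χ i₀) := by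
  rw [← Complex.conj_natCast (d i), ← classInner_smul_right]
  simp only [Cfsg.classInner]
  congr 1
  refine Finset.sum_congr rfl fun g _ => ?_
  by_cases hg : g ∈ X
  · rw [hΨ g hg, zero_mul, zero_mul]
  · rw [Pi.smul_apply, smul_eq_mul, F.diff_van i g hg]

theorem bessel_le {Ψ : G → ℂ} (a : ι → ℤ) (ha : ∀ i, Cfsg.classInner Ψ (χ i) = a i) {n : ℕ}
    (hn : Cfsg.classInner Ψ Ψ = n) : ∑ i, a i ^ 2 ≤ (n : ℤ) := by
  classical
  have h := (bessel (Finset.univ : Finset ι) χ (fun _ => 1) (fun _ _ => Nat.one_pos)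
    (fun i _ j _ => by
      split_ifs with e
      · rw [e, F.norm_one, Nat.cast_one]
      · exact F.orth i j e) Ψ a (fun i _ => ha i)).1
  rw [hn, Complex.natCast_re] at h
  simp only [Nat.cast_one, div_one] at h
  exact_mod_cast h

theorem orth_of_small {Ψ : G → ℂ} (hΨ : Cfsg.IsGeneralizedCharacter G Ψ) (hΨX : ∀ g ∈ X, Ψ g = 0) {n : ℕ}
    (hn : Cfsg.classInner Ψ Ψ = n) (hlt : n < wt d) (i : ι) : Cfsg.classInner Ψ (χ i) = 0 := by
  obtain ⟨a, ha⟩ := IsGeneralizedCharacter.classInner_int hΨ (F.gen i₀)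
  have hc : ∀ j, Cfsg.classInner Ψ (χ j) = (((d j : ℤ) * a : ℤ) : ℂ) := fun j => by
    rw [F.coef hΨX j, ha]; push_cast; rfl
  have h := F.bessel_le _ hc hn
  simp only [mul_pow, ← Finset.sum_mul] at h
  rw [show (∑ j, (d j : ℤ) ^ 2) = (wt d : ℤ) by simp [wt]] at h
  have ha0 : a = 0 := by
    by_contra hne
    have : (1 : ℤ) ≤ a ^ 2 := by nlinarith [mul_self_pos.2 hne]
    nlinarith
  rw [hc, ha0, mul_zero, Int.cast_zero]

theorem weight_ge : 2 ≤ wt d := by
  classical
  have h : ({i₀, c i₀} : Finset ι).sum (fun i => d i ^ 2) ≤ wt d :=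
    Finset.sum_le_sum_of_subset (Finset.subset_univ _)
  rw [Finset.sum_pair F.conj_ne.symm, F.conj_weight, F.weight_zero] at h
  simpa using h

theorem orth_one (i : ι) : Cfsg.classInner (χ i) (fun _ => 1) = 0 := by
  obtain ⟨a, ha⟩ := IsGeneralizedCharacter.classInner_int (F.gen i₀) gen_one
  have hc : ∀ j, Cfsg.classInner (fun _ => 1 : G → ℂ) (χ j) = (((d j : ℤ) * a : ℤ) : ℂ) := fun j => by
    rw [← classInner_conj_symm, F.diff_one j, ha]
    simp
  have h := F.bessel_le _ hc (n := 1) (by rw [inner_one_one]; simp)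
  simp only [mul_pow, ← Finset.sum_mul, Nat.cast_one] at h
  rw [show (∑ j, (d j : ℤ) ^ 2) = (wt d : ℤ) by simp [wt]] at h
  have h2 : (2 : ℤ) ≤ wt d := by exact_mod_cast F.weight_ge
  have ha0 : a = 0 := by
    by_contra hne
    have : (1 : ℤ) ≤ a ^ 2 := by nlinarith [mul_self_pos.2 hne]
    nlinarith
  rw [F.diff_one, ha, ha0, Int.cast_zero, mul_zero]

theorem one_orth (i : ι) : Cfsg.classInner (fun _ => 1 : G → ℂ) (χ i) = 0 := by
  rw [← classInner_conj_symm, F.orth_one, map_zero]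

theorem sum_coef_inner (a : ι → ℂ) (j : ι) : Cfsg.classInner (∑ i, a i • χ i) (χ j) = a j := by
  classical
  rw [classInner_sum_left, Finset.sum_eq_single j]
  · rw [classInner_smul_left, F.norm_one, mul_one]
  · intro i _ hij
    rw [classInner_smul_left, F.orth i j hij, mul_zero]
  · exact fun h => absurd (Finset.mem_univ j) h

theorem rest_orth (i : ι) : Cfsg.classInner (rest Φ χ) (χ i) = 0 := by
  rw [rest, classInner_sub_left, classInner_sub_left, F.sum_coef_inner, F.one_orth]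
  ring

theorem rest_one : Cfsg.classInner (rest Φ χ) (fun _ => 1) = 0 := by
  rw [rest, classInner_sub_left, classInner_sub_left, F.inner_one, inner_one_one, classInner_sum_left,
    Finset.sum_eq_zero fun i _ => by rw [classInner_smul_left, F.orth_one, mul_zero]]
  ring

theorem rest_gen : Cfsg.IsGeneralizedCharacter G (rest Φ χ) := by
  choose a ha using fun i => IsGeneralizedCharacter.classInner_int F.gen_Φ (F.gen i)
  refine IsGeneralizedCharacter.sub (IsGeneralizedCharacter.sub F.gen_Φ gen_one) ?_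
  rw [show (∑ i, Cfsg.classInner Φ (χ i) • χ i) = ∑ i, (a i : ℂ) • χ i from
    Finset.sum_congr rfl fun i _ => by rw [ha i]]
  exact isGen_sum _ _ _ fun i _ => F.gen i

theorem rest_real (g : G) : conj (rest Φ χ g) = rest Φ χ g := by
  classical
  choose a ha using fun i => IsGeneralizedCharacter.classInner_int F.gen_Φ (F.gen i)
  have hΦ : ∀ i, (a (c i) : ℂ) = a i + (if i = i₀ then 1 else 0) - (if i = c i₀ then 1 else 0) := by
    intro i
    have h := inner_conj_conj Φ (χ i)
    rw [funext F.conj_Φ, funext (F.conj_mem i), ha i, map_intCast] at h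
    have h2 : Cfsg.classInner (fun g => Φ g + χ i₀ g - χ (c i₀) g) (χ (c i)) =
        Cfsg.classInner Φ (χ (c i)) + Cfsg.classInner (χ i₀) (χ (c i)) - Cfsg.classInner (χ (c i₀)) (χ (c i)) := by
      rw [← classInner_add_left, ← classInner_sub_left]; rfl
    rw [h2, ha] at h
    have e1 : Cfsg.classInner (χ i₀) (χ (c i)) = if i = c i₀ then 1 else 0 := by
      split_ifs with e
      · rw [e, F.conj_invol, F.norm_one]
      · exact F.orth _ _ fun h' => e (by rw [h', F.conj_invol])
    have e2 : Cfsg.classInner (χ (c i₀)) (χ (c i)) = if i = i₀ then 1 else 0 := by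
      split_ifs with e
      · rw [e, F.norm_one]
      · exact F.orth _ _ fun h' => e (by
          have := congrArg c h'
          rw [F.conj_invol, F.conj_invol] at this
          exact this.symm)
    rw [e1, e2] at h
    linear_combination h
  have e : ∀ g, rest Φ χ g = Φ g - 1 - ∑ i, (a i : ℂ) * χ i g := fun g => by
    simp [rest, Finset.sum_apply, ha]
  rw [e, map_sub, map_sub, map_one, map_sum, F.conj_Φ]
  have e3 : ∑ i, conj ((a i : ℂ) * χ i g) = ∑ i, (a (c i) : ℂ) * χ i g := by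
    rw [← (Equiv.sum_comp (⟨c, c, F.conj_invol, F.conj_invol⟩ : ι ≃ ι) fun i => (a (c i) : ℂ) * χ i g)]
    refine Finset.sum_congr rfl fun i _ => ?_
    rw [map_mul, map_intCast, F.conj_mem]
    simp [F.conj_invol]
  rw [e3, Finset.sum_congr rfl fun i (_ : i ∈ Finset.univ) => by rw [hΦ i, sub_mul, add_mul]]
  rw [Finset.sum_sub_distrib, Finset.sum_add_distrib]
  simp only [ite_mul, one_mul, zero_mul, Finset.sum_ite_eq', Finset.mem_univ, if_true]
  ring

omit F in
theorem eq_sum : Φ = (fun _ => 1) + rest Φ χ + ∑ i, Cfsg.classInner Φ (χ i) • χ i := by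
  rw [rest]; abel

/-- Two large families with disjoint supports cannot coexist in a group of odd order. -/
theorem pair (hodd : Odd (Nat.card G)) {ι' : Type*} [Fintype ι'] {X' : Set G} {e' : ℕ} {Φ' : G → ℂ}
    {χ' : ι' → G → ℂ} {d' : ι' → ℕ} {j₀ : ι'} {c' : ι' → ι'} (F' : Fam X' e' Φ' χ' d' j₀ c')
    (hdisj : Disjoint X X') (hN : e' + 1 < wt d) (hN' : e + 1 < wt d') : False := by
  classical
  have hΦX' : ∀ g ∈ X', Φ g = 0 := fun g hg => F.van g (Set.disjoint_right.1 hdisj hg)
  have hΦ'X : ∀ g ∈ X, Φ' g = 0 := fun g hg => F'.van g (Set.disjoint_left.1 hdisj hg)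
  have h1 : ∀ j, Cfsg.classInner Φ (χ' j) = 0 := fun j =>
    F'.orth_of_small F.gen_Φ hΦX' (n := e + 1) (by rw [F.norm]; push_cast; rfl) hN' j
  have h2 : ∀ i, Cfsg.classInner Φ' (χ i) = 0 := fun i =>
    F.orth_of_small F'.gen_Φ hΦ'X (n := e' + 1) (by rw [F'.norm]; push_cast; rfl) hN i
  have h0 : Cfsg.classInner Φ Φ' = 0 := by
    simp only [Cfsg.classInner]
    rw [Finset.sum_eq_zero, mul_zero]
    intro g _
    by_cases hg : g ∈ X
    · rw [hΦ'X g hg, map_zero, mul_zero]
    · rw [F.van g hg, zero_mul]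
  have hCC : ∀ i j, Cfsg.classInner Φ' (χ' j) * Cfsg.classInner (χ i) (χ' j) = 0 := by
    intro i j
    by_cases hz : Cfsg.classInner (χ i) (χ' j) = 0
    · rw [hz, mul_zero]
    obtain ⟨ε, -, hε⟩ := eq_smul_of_norm_one (F.gen i) (F.norm_one i) (F'.gen j) (F'.norm_one j) hz
    rw [show Cfsg.classInner Φ' (χ' j) = 0 by rw [hε, classInner_smul_right, h2, mul_zero], zero_mul]
  have hχΓ : ∀ i, Cfsg.classInner (χ i) (rest Φ' χ') = 0 := by
    intro i
    rw [rest, classInner_sub_right, classInner_sub_right, F.orth_one, classInner_sum_right,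
      ← classInner_conj_symm, h2, map_zero, Finset.sum_eq_zero fun j _ => ?_]
    · ring
    · rw [classInner_smul_right]
      have := congrArg conj (hCC i j)
      obtain ⟨m, hm⟩ := IsGeneralizedCharacter.classInner_int F'.gen_Φ (F'.gen j)
      rw [hm, map_intCast]
      have := hCC i j
      rwa [hm] at this
  obtain ⟨z, hz⟩ := even_inner hodd F.rest_gen F'.rest_gen F.rest_real F'.rest_real F.rest_one
  have key : Cfsg.classInner Φ Φ' = 1 + 2 * (z : ℂ) := by
    conv_lhs => arg 2; rw [eq_sum (Φ := Φ') (χ := χ')]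
    rw [classInner_add_right, classInner_add_right, F.inner_one, classInner_sum_right,
      Finset.sum_eq_zero fun j _ => by rw [classInner_smul_right, h1, mul_zero], add_zero]
    congr 1
    conv_lhs => arg 1; rw [eq_sum (Φ := Φ) (χ := χ)]
    rw [classInner_add_left, classInner_add_left, classInner_sum_left,
      Finset.sum_eq_zero fun i _ => by rw [classInner_smul_left, hχΓ, mul_zero], hz,
      ← classInner_conj_symm, F'.rest_one, map_zero]
    ring
  rw [h0] at key
  have h3 : (0 : ℤ) = 1 + 2 * z := by exact_mod_cast key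
  omega

/-- With a large family, `Φ` contains exactly one member, once, negatively. -/
theorem coef_eq (hN : e + 2 < wt d) [DecidableEq ι] (i : ι) :
    Cfsg.classInner Φ (χ i) = if i = i₀ then -1 else 0 := by
  obtain ⟨a, ha⟩ := IsGeneralizedCharacter.classInner_int F.gen_Φ (F.gen i₀)
  have hc : ∀ j, Cfsg.classInner Φ (χ j) = (((d j : ℤ) * (a + 1) - if j = i₀ then 1 else 0 : ℤ) : ℂ) := by
    intro j
    by_cases hj : j = i₀
    · subst hj; rw [ha, F.weight_zero]; simp
    · rw [F.pairing j hj, ha, if_neg hj]; push_cast; ring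
  have hc' : ∀ j, Cfsg.classInner (Φ - fun _ => 1) (χ j) =
      (((d j : ℤ) * (a + 1) - if j = i₀ then 1 else 0 : ℤ) : ℂ) := fun j => by
    rw [classInner_sub_left, F.one_orth, sub_zero, hc j]
  have hn : Cfsg.classInner (Φ - fun _ => 1) (Φ - fun _ => 1) = (e : ℕ) := by
    have h1 : Cfsg.classInner (fun _ => 1 : G → ℂ) Φ = 1 := by rw [← classInner_conj_symm, F.inner_one, map_one]
    rw [classInner_sub_left, classInner_sub_right, classInner_sub_right, F.norm, F.inner_one, h1, inner_one_one]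
    ring
  have hb := F.bessel_le _ hc' hn
  have hsq : ∑ j, ((d j : ℤ) * (a + 1) - if j = i₀ then 1 else 0) ^ 2 =
      (wt d : ℤ) * (a + 1) ^ 2 - 2 * (a + 1) + 1 := by
    simp only [sub_sq, mul_pow, Finset.sum_add_distrib, Finset.sum_sub_distrib]
    rw [← Finset.sum_mul]
    simp [mul_ite, ite_pow, Finset.sum_ite_eq', F.weight_zero, wt]
  rw [hsq] at hb
  have hN' : (e : ℤ) + 3 ≤ wt d := by exact_mod_cast hN
  have ha0 : a + 1 = 0 := by
    by_contra hne
    have h1 : (1 : ℤ) ≤ (a + 1) ^ 2 := by nlinarith [mul_self_pos.2 hne]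
    have h2 : a + 1 ≤ (a + 1) ^ 2 := by nlinarith [le_sq (a + 1)]
    nlinarith
  rw [hc, ha0, mul_zero]
  split_ifs <;> simp

/-- With a large family: a test function `Ψ` which vanishes on `X`, is orthogonal to the family and differs from
`1 - η` by a real virtual character forces `⟨Φ, η⟩` to be odd. -/
theorem odd_of_test (hodd : Odd (Nat.card G)) {Ψ η : G → ℂ} (hΨ : Cfsg.IsGeneralizedCharacter G Ψ)
    (hΨX : ∀ g ∈ X, Ψ g = 0) (hΨ1 : Cfsg.classInner Ψ (fun _ => 1) = 1) {n : ℕ}
    (hn : Cfsg.classInner Ψ Ψ = n) (hlt : n < wt d)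
    (hη : Cfsg.IsGeneralizedCharacter G η) (hηχ : ∀ i, Cfsg.classInner η (χ i) = 0)
    (hη1 : Cfsg.classInner η (fun _ => 1) = 0) (hreal : ∀ g, conj (Ψ g + η g) = Ψ g + η g) :
    ∃ z : ℤ, Cfsg.classInner Φ η = 2 * z + 1 := by
  classical
  set R : G → ℂ := Ψ + η - fun _ => 1 with hR
  have hRg : Cfsg.IsGeneralizedCharacter G R := IsGeneralizedCharacter.sub (gen_add hΨ hη) gen_one
  have hR1 : Cfsg.classInner R (fun _ => 1) = 0 := by
    rw [hR, classInner_sub_left, classInner_add_left, hΨ1, hη1, inner_one_one]; ring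
  have hRχ : ∀ i, Cfsg.classInner R (χ i) = 0 := fun i => by
    rw [hR, classInner_sub_left, classInner_add_left, F.orth_of_small hΨ hΨX hn hlt, hηχ, F.one_orth]; ring
  have hRr : ∀ g, conj (R g) = R g := fun g => by
    simp only [hR, Pi.sub_apply, Pi.add_apply, map_sub, map_one, hreal]
  obtain ⟨z, hz⟩ := even_inner hodd F.rest_gen hRg F.rest_real hRr F.rest_one
  have h0 : Cfsg.classInner Φ Ψ = 0 := by
    simp only [Cfsg.classInner]
    rw [Finset.sum_eq_zero, mul_zero]
    intro g _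
    by_cases hg : g ∈ X
    · rw [hΨX g hg, map_zero, mul_zero]
    · rw [F.van g hg, zero_mul]
  have hΦR : Cfsg.classInner Φ R = 2 * (z : ℂ) := by
    conv_lhs => arg 1; rw [eq_sum (Φ := Φ) (χ := χ)]
    rw [classInner_add_left, classInner_add_left, classInner_sum_left,
      Finset.sum_eq_zero fun i _ => by
        rw [classInner_smul_left, show Cfsg.classInner (χ i) R = 0 by rw [← classInner_conj_symm, hRχ, map_zero],
          mul_zero],
      hz, show Cfsg.classInner (fun _ => 1 : G → ℂ) R = 0 by rw [← classInner_conj_symm, hR1, map_zero]]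
    ring
  refine ⟨z, ?_⟩
  have : Cfsg.classInner Φ R = Cfsg.classInner Φ Ψ + Cfsg.classInner Φ η - Cfsg.classInner Φ (fun _ => 1) := by
    rw [hR, classInner_sub_right, classInner_add_right]
  rw [h0, hΦR, F.inner_one] at this
  linear_combination -this

/-- Outside the support, the distinguished member has small squared mass. -/
theorem mass_out (s : Finset G) (hs : ∀ g ∈ s, g ∉ X) :
    (wt d : ℝ) * ∑ g ∈ s, ‖χ i₀ g‖ ^ 2 ≤ Nat.card G := by
  classical
  set v : G → ℂ := ∑ i, (d i : ℂ) • χ i with hv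
  have hvv : Cfsg.classInner v v = ((wt d : ℕ) : ℂ) := by
    conv_lhs => arg 1; rw [hv]
    rw [classInner_sum_left]
    simp only [wt, Nat.cast_sum, Nat.cast_pow]
    refine Finset.sum_congr rfl fun i _ => ?_
    rw [classInner_smul_left, ← classInner_conj_symm, hv, F.sum_coef_inner, Complex.conj_natCast, sq]
  have hvs : ∀ g ∈ s, v g = (wt d : ℂ) * χ i₀ g := fun g hg => by
    rw [show (wt d : ℂ) = ∑ i, (d i : ℂ) ^ 2 by simp [wt], Finset.sum_mul, hv, Finset.sum_apply]
    exact Finset.sum_congr rfl fun i _ => by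
      rw [Pi.smul_apply, smul_eq_mul, F.diff_van i g (hs g hg)]; ring
  have htot : (∑ g, ‖v g‖ ^ 2 : ℝ) = Nat.card G * (wt d : ℝ) := by
    have h := hvv
    rw [classInner_self, ← Complex.ofReal_natCast, Complex.ofReal_inj] at h
    rw [← h, ← mul_assoc, mul_inv_cancel₀ (Nat.cast_ne_zero.2 Nat.card_pos.ne'), one_mul]
  have hle : (∑ g ∈ s, ‖v g‖ ^ 2 : ℝ) ≤ ∑ g, ‖v g‖ ^ 2 :=
    Finset.sum_le_sum_of_subset_of_nonneg (Finset.subset_univ _) fun g _ _ => sq_nonneg _
  rw [Finset.sum_congr rfl fun g hg => by rw [hvs g hg, norm_mul, Complex.norm_natCast, mul_pow],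
    ← Finset.mul_sum, htot] at hle
  have hpos : (0 : ℝ) < wt d := by
    have := F.weight_ge
    exact_mod_cast (by omega : 0 < wt d)
  refine le_of_mul_le_mul_left ?_ hpos
  calc (wt d : ℝ) * ((wt d : ℝ) * ∑ g ∈ s, ‖χ i₀ g‖ ^ 2) = (wt d : ℝ) ^ 2 * ∑ g ∈ s, ‖χ i₀ g‖ ^ 2 := by ring
    _ ≤ Nat.card G * (wt d : ℝ) := hle
    _ = (wt d : ℝ) * Nat.card G := by ring

end Fam

end CfsgLib.OddOrder.Final.Neighbour
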