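import Cfsg.Agent.Lib.OddOrder.TypeOneClass
import Cfsg.Agent.S1381
import Cfsg.Agent.S1382
import Cfsg.Agent.S1383
import Cfsg.Agent.S1369
import Cfsg.Agent.S1386

/-!
The pair of non-conjugate maximal subgroups of type P with the data used by the final argument:
both are of Type II, III or IV (Type V excluded by hypothesis), with complements of distinct prime orders,
oriented so that `|W₁| < |W₂|`.
-/

set_option autoImplicit false

namespace CfsgLib.OddOrder.Final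

variable {G : Type*} [Group G]

/-- One side of the pair: `M = (M_F U) W₁`, with `W₂ = C_{M'}(W₁)`. -/
structure Side (M W₁ U W₂ : Subgroup G) : Prop where
  coatom : IsCoatom M
  typeP : Cfsg.IsTypePWith M W₁ U W₂
  U_ne : U ≠ ⊥
  prime₁ : (Nat.card W₁).Prime
  prime₂ : (Nat.card W₂).Prime
  types : Cfsg.IsOfTypeII M ∨ Cfsg.IsOfTypeIII M ∨ Cfsg.IsOfTypeIV M
  fittingTI : Cfsg.IsTISubset (Cfsg.fittingOf M : Set G)

/-- The pair `S = (P U) W₁`, `T = (Q V) W₂`, with `q = |W₁| < p = |W₂|`. -/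
structure Pair (S T W₁ W₂ U V : Subgroup G) : Prop where
  sideS : Side S W₁ U W₂
  sideT : Side T W₂ V W₁
  inf_eq : S ⊓ T = W₁ ⊔ W₂
  lt : Nat.card W₁ < Nat.card W₂
  typeII : Cfsg.IsOfTypeII S ∨ Cfsg.IsOfTypeII T
  nonconj : ∀ g : G, T ≠ S.map (MulAut.conj g).toMonoidHom
  cover : ∀ M : Subgroup G, IsCoatom M → Cfsg.IsOfTypeI M ∨
    ∃ g : G, M = S.map (MulAut.conj g).toMonoidHom ∨ M = T.map (MulAut.conj g).toMonoidHom

variable [Finite G]

theorem card_eq_of_compl {A B B' M : Subgroup G} (h : Cfsg.IsComplIn A B M) (h' : Cfsg.IsComplIn A B' M) :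
    Nat.card B = Nat.card B' := by
  rw [← Basic.IsComplIn.relIndex_left h, Basic.IsComplIn.relIndex_left h']

/-- The type-P data of a maximal subgroup with `K ≠ 1`, Type V excluded. -/
theorem exists_side_aux (hG : Cfsg.IsMinSimpleOddOrder G) {M K U : Subgroup G} (hM : IsCoatom M)
    (h : Cfsg.IsSigmaDecomposition M K U) (hK : K ≠ ⊥) (h5 : ¬ Cfsg.IsOfTypeV M) :
    ∃ V : Subgroup G, Cfsg.IsTypePWith M K V (StarPartner.Dstar M K) ∧ V ≠ ⊥ ∧ (Nat.card K).Prime ∧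
      (Cfsg.IsOfTypeII M ∨ Cfsg.IsOfTypeIII M ∨ Cfsg.IsOfTypeIV M) ∧
      Cfsg.IsTISubset (Cfsg.fittingOf M : Set G) := by
  have hprime : ∀ (W X Y : Subgroup G), Cfsg.IsTypePWith M W X Y → (Nat.card W).Prime → (Nat.card K).Prime :=
    fun W X Y hP hW => card_eq_of_compl hP.W₁_compl (TypeP.compl_K hG hM h hK) ▸ hW
  by_cases hU : U = ⊥
  · have hne : Cfsg.fittingHallOf M ≠ Cfsg.sigmaCore M :=
      fun e => h5 ((Cfsg.Agent.S1383.result hG M hM K U h).mpr ⟨hK, hU, e⟩)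
    obtain ⟨V, hV, hVn, hKV⟩ := TypeP.exists_compl hG hM h hK hU
    have h34 := (Cfsg.Agent.S1382.result hG M hM K U h).mpr ⟨hK, hU, hne⟩
    refine ⟨V, TypeP.typePWith hG hM h hK hV hVn hKV, fun e => ?_, ?_, Or.inr h34, ?_⟩
    · refine hne (le_antisymm (SigmaCentralizer.fittingHallOf_le_sigmaCore hG hM) fun m hm => ?_)
      rw [← TypeP.derived_bot hG hM h hK hU] at hm
      obtain ⟨a, ha, b, hb, rfl⟩ := hV.2.2.2 m hm
      rw [e, Subgroup.mem_bot] at hb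
      rw [hb, mul_one]; exact ha
    · rcases h34 with ⟨W, X, Y, hP, -, hp, -⟩ | ⟨W, X, Y, hP, -, hp, -⟩ <;> exact hprime W X Y hP hp
    · rcases h34 with ⟨W, X, Y, -, -, -, hTI, -⟩ | ⟨W, X, Y, -, -, -, hTI, -⟩ <;> exact hTI
  · have hII := (Cfsg.Agent.S1381.result hG M hM K U h).mpr ⟨hK, hU⟩
    have hn := TypeP.nilpotent_of_U hG hM h hU
    have hd := TypeP.derived_compl hG hM h hK
    refine ⟨U, TypeP.typePWith hG hM h hK ((TypeP.fittingHall_eq hG hM hn).symm ▸ hd)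
      (FittingStructure.nilpotent_of_comm (Cfsg.Agent.S1363.result hG M hM K U h hK).1) h.normal, hU, ?_,
      Or.inl hII, ?_⟩
    · exact (Cfsg.Agent.S1372.result hG M hM K U h hK hU).1
    · exact (Cfsg.Agent.S1372.result hG M hM K U h hK hU).2.1

/-- **The pair exists** in a minimal simple group of odd order without Type V, as soon as some maximal
subgroup is not of Type I. -/
theorem exists_pair (hG : Cfsg.IsMinSimpleOddOrder G)
    (h5 : ∀ M : Subgroup G, IsCoatom M → ¬ Cfsg.IsOfTypeV M)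
    (hnI : ∃ M : Subgroup G, IsCoatom M ∧ ¬ Cfsg.IsOfTypeI M) :
    ∃ S T W₁ W₂ U V : Subgroup G, Pair S T W₁ W₂ U V := by
  obtain ⟨S, hS, hnI⟩ := hnI
  obtain ⟨K, U₀, h⟩ := FittingStructure.exists_decomp hG hS
  have hK : K ≠ ⊥ := fun e => hnI (TypeOneClass.typeI_of hG hS h e)
  obtain ⟨T, hp, -⟩ := StarPair.exists_pair hG (M := S) (K := K) ⟨hS, hK, h.hall⟩
  obtain ⟨V₀, h'⟩ := SigmaDecomp.exists_decomp hG hp.right.coatom (StarPair.Pair.cyclic hG hp.symm) hp.right.hall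
  have hK' := hp.right.ne
  have hT := hp.right.coatom
  obtain ⟨hU, hconj⟩ := Cfsg.Agent.S1369.result hG S hS K U₀ h hK T hT hp.eq.symm hp.right.hall
  obtain ⟨U, hSP, hU1, hq, hSt, hSTI⟩ := exists_side_aux hG hS h hK (h5 S hS)
  obtain ⟨V, hTP, hV1, hp', hTt, hTTI⟩ := exists_side_aux hG hT h' hK' (h5 T hT)
  rw [hp.eq] at hTP
  have hcov : ∀ M : Subgroup G, IsCoatom M → Cfsg.IsOfTypeI M ∨
      ∃ g : G, M = S.map (MulAut.conj g).toMonoidHom ∨ M = T.map (MulAut.conj g).toMonoidHom := fun M hM => by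
    by_cases hκ : Cfsg.kappa M = ∅
    · exact Or.inl (TypeOneClass.typeI_of_empty hG hM hκ)
    · exact Or.inr (hconj M hM (Set.nonempty_iff_ne_empty.mpr hκ))
  have hII : Cfsg.IsOfTypeII S ∨ Cfsg.IsOfTypeII T := hU.imp
    (fun hU => (Cfsg.Agent.S1381.result hG S hS K U₀ h).mpr ⟨hK, hU⟩)
    fun hU => (Cfsg.Agent.S1381.result hG T hT _ V₀ h').mpr ⟨hK', hU V₀ h'⟩
  have hinf := StarPair.Pair.inf_eq hG hp
  have hcop := Cfsg.Agent.S1386.coprime_of_cyclic K (StarPartner.Dstar S K) hSP.selfNormalizing.2.2.1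
    hSP.selfNormalizing.2.2.2.2.1
  have hne : Nat.card K ≠ Nat.card ↥(StarPartner.Dstar S K) := fun e => by
    rw [e, Nat.coprime_self] at hcop
    exact hp'.ne_one hcop
  rcases hne.lt_or_gt with hlt | hlt
  · exact ⟨S, T, K, _, U, V, ⟨hS, hSP, hU1, hq, hp', hSt, hSTI⟩, ⟨hT, hTP, hV1, hp', hq, hTt, hTTI⟩,
      hinf, hlt, hII, hp.nonconj, hcov⟩
  · refine ⟨T, S, _, K, V, U, ⟨hT, hTP, hV1, hp', hq, hTt, hTTI⟩, ⟨hS, hSP, hU1, hq, hp', hSt, hSTI⟩,
      by rw [inf_comm, sup_comm]; exact hinf, hlt, hII.symm, hp.symm.nonconj, fun M hM => ?_⟩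
    exact (hcov M hM).imp id fun ⟨g, hg⟩ => ⟨g, hg.symm⟩

end CfsgLib.OddOrder.Final
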