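import Cfsg.Agent.Lib.OddOrder.Final.Pair
import Cfsg.Agent.S1545

/-!
Orders and coprimality in a maximal subgroup with type-P data; for a Type II side the group `M_F` is
elementary abelian of order `p ^ q` and `U` has no fixed point on it.
-/

set_option autoImplicit false

namespace CfsgLib.OddOrder.Final

variable {G : Type*} [Group G]

theorem derived_le [Finite G] (M : Subgroup G) : ⁅M, M⁆ ≤ M := SigmaComplement.derived_le_self M

theorem orderOf_conj (g a : G) : orderOf (g * a * g⁻¹) = orderOf a :=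
  orderOf_injective (MulAut.conj g).toMonoidHom (MulEquiv.injective _) a

variable [Finite G] {M W₁ U W₂ : Subgroup G}

namespace TP

variable (hP : Cfsg.IsTypePWith M W₁ U W₂)
include hP

omit [Finite G] in
theorem U_le_derived : U ≤ ⁅M, M⁆ := hP.U_compl.2.1

omit [Finite G] in
theorem fit_le_derived : Cfsg.fittingHallOf M ≤ ⁅M, M⁆ := hP.U_compl.1

omit [Finite G] in
theorem W₁_le : W₁ ≤ M := hP.W₁_compl.2.1

theorem U_le : U ≤ M := (U_le_derived hP).trans (derived_le M)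

omit [Finite G] in
theorem W₂_le_fit : W₂ ≤ Cfsg.fittingHallOf M := hP.W₂_le.trans inf_le_left

omit [Finite G] in
theorem W₂_le_derived : W₂ ≤ ⁅M, M⁆ := (W₂_le_fit hP).trans (fit_le_derived hP)

theorem W₂_le_M : W₂ ≤ M := (W₂_le_derived hP).trans (derived_le M)

theorem card_derived : Nat.card ↥⁅M, M⁆ = Nat.card ↥(Cfsg.fittingHallOf M) * Nat.card U := by
  rw [← Coprime.card_mul_relIndex_eq hP.U_compl.1, Basic.IsComplIn.relIndex_left hP.U_compl]

theorem card_eq : Nat.card M = Nat.card ↥⁅M, M⁆ * Nat.card W₁ := by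
  rw [← Coprime.card_mul_relIndex_eq hP.W₁_compl.1, Basic.IsComplIn.relIndex_left hP.W₁_compl]

theorem coprime_derived : (Nat.card W₁).Coprime (Nat.card ↥⁅M, M⁆) := by
  have h := hP.W₁_hall
  rwa [Basic.IsComplIn.relIndex_right hP.W₁_compl] at h

theorem coprime_fit_U : (Nat.card ↥(Cfsg.fittingHallOf M)).Coprime (Nat.card U) := by
  have h := (Basic.fittingHallOf_coprime (M := M)).coprime_dvd_right
    (Dvd.intro _ (Subgroup.relIndex_mul_relIndex _ _ M hP.U_compl.1 (derived_le M)))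
  rwa [Basic.IsComplIn.relIndex_left hP.U_compl] at h

theorem coprime_fit_W₁ : (Nat.card ↥(Cfsg.fittingHallOf M)).Coprime (Nat.card W₁) :=
  ((coprime_derived hP).coprime_dvd_right (Subgroup.card_dvd_of_le (fit_le_derived hP))).symm

omit [Finite G] in
theorem eq_of_mem_derived {x : G} (hx : x ∈ W₁) (hx1 : x ≠ 1) {y : G} (hy : y ∈ ⁅M, M⁆)
    (hc : x * y = y * x) : y ∈ W₂ := by
  rw [← hP.W₂_centralizer x hx hx1]
  exact ⟨hy, Subgroup.mem_centralizer_singleton_iff.mpr hc.symm⟩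

omit [Finite G] in
/-- `W₁` acts without fixed points on `U`. -/
theorem fpf : ∀ w ∈ W₁, w ≠ 1 → ∀ u ∈ U, w * u = u * w → u = 1 := fun w hw hw1 u hu hc =>
  Subgroup.mem_bot.mp (hP.U_compl.2.2.1.le
    ⟨W₂_le_fit hP (eq_of_mem_derived hP hw hw1 (U_le_derived hP hu) hc), hu⟩)

omit [Finite G] in
theorem inf_centralizer_W₁ : Cfsg.fittingHallOf M ⊓ Subgroup.centralizer (W₁ : Set G) = W₂ := by
  obtain ⟨x, hx, hx1⟩ := (Subgroup.bot_or_exists_ne_one W₁).resolve_left hP.W₁_ne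
  refine le_antisymm (fun y hy => ?_) (le_inf (W₂_le_fit hP) fun y hy => ?_)
  · exact eq_of_mem_derived hP hx hx1 (fit_le_derived hP hy.1) (Subgroup.mem_centralizer_iff.mp hy.2 x hx)
  · exact Subgroup.mem_centralizer_iff.mpr fun a ha => hP.selfNormalizing.2.2.2.1 a ha y hy

theorem U_inf_W₁ : U ⊓ W₁ = ⊥ :=
  le_bot_iff.mp ((inf_le_inf_right _ (U_le_derived hP)).trans hP.W₁_compl.2.2.1.le)

theorem sup_inf : Cfsg.fittingHallOf M ⊓ (U ⊔ W₁) = ⊥ := by
  refine Subgroup.inf_eq_bot_of_coprime ?_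
  rw [Coprime.card_sup_of_le_normalizer hP.U_normal ?_]
  · exact (coprime_fit_U hP).mul_right (coprime_fit_W₁ hP)
  · exact disjoint_iff.mpr (U_inf_W₁ hP)

theorem card_sup : Nat.card ↥(U ⊔ W₁) = Nat.card U * Nat.card W₁ := by
  rw [Coprime.card_sup_of_le_normalizer hP.U_normal ?_]
  exact disjoint_iff.mpr (U_inf_W₁ hP)

/-- The fixed point formula for a `U W₁`-invariant subgroup of `M_F`. -/
theorem card_pow (hU : U ≠ ⊥) (hG : Cfsg.IsMinSimpleOddOrder G) (hM : IsCoatom M) (H : Subgroup G)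
    (hH : H ≤ Cfsg.fittingHallOf M) (hn : U ⊔ W₁ ≤ Subgroup.normalizer (H : Set G))
    (hC : Cfsg.fittingHallOf M ⊓ Subgroup.centralizer (U : Set G) = ⊥) :
    Nat.card H = Nat.card ↥(H ⊓ Subgroup.centralizer (W₁ : Set G)) ^ Nat.card W₁ := by
  have h := Cfsg.Agent.S1545.result U W₁ H hU hP.W₁_ne
    (le_bot_iff.mp ((inf_le_inf_right _ (U_le_derived hP)).trans hP.W₁_compl.2.2.1.le))
    (fun e he u hu => (Subgroup.mem_normalizer_iff.mp (hP.U_normal he) u).mp hu) (fpf hP)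
    (fun x hx y hy => (Subgroup.mem_normalizer_iff.mp (hn hx) y).mp hy)
    (le_bot_iff.mp ((inf_le_inf_right _ hH).trans (sup_inf hP).le))
    (hG.2.2.2 H fun e => hM.1 (top_le_iff.mp (e ▸ hH.trans Basic.fittingHallOf_le)))
    (by rw [card_sup hP]
        exact ((coprime_fit_U hP).mul_right (coprime_fit_W₁ hP)).coprime_dvd_left (Subgroup.card_dvd_of_le hH))
  have h1 : H ⊓ Subgroup.centralizer (U : Set G) = ⊥ := le_bot_iff.mp ((inf_le_inf_right _ hH).trans hC.le)
  have h2 : H ⊓ Subgroup.centralizer ((U ⊔ W₁ : Subgroup G) : Set G) = ⊥ :=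
    le_bot_iff.mp ((inf_le_inf_left _ (Subgroup.centralizer_le (show (U : Set G) ⊆ (U ⊔ W₁ : Subgroup G) from
      fun x hx => Subgroup.mem_sup_left hx))).trans h1.le)
  rwa [h1, h2, Subgroup.card_bot, one_pow, one_mul, mul_one] at h

end TP

namespace Side

variable (h : Side M W₁ U W₂)
include h

/-- In Type II some element of `U` has no fixed point on `M_F`. -/
theorem exists_free (hG : Cfsg.IsMinSimpleOddOrder G) (hII : Cfsg.IsOfTypeII M) :
    ∃ u ∈ U, u ≠ 1 ∧ Cfsg.fittingHallOf M ⊓ Subgroup.centralizer ({u} : Set G) = ⊥ := by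
  obtain ⟨K, U₀, hd⟩ := FittingStructure.exists_decomp hG h.coatom
  obtain ⟨hK, hU₀⟩ := (Cfsg.Agent.S1381.result hG M h.coatom K U₀ hd).mp hII
  obtain ⟨t, ht, htd⟩ := Nat.exists_prime_and_dvd (mt Subgroup.card_eq_one.mp hU₀)
  obtain ⟨u, hu, huo, hfix⟩ := TypeF.exists_free hG h.coatom hd ht htd
  have hFH := TypeP.fittingHall_eq hG h.coatom (TypeP.nilpotent_of_U hG h.coatom hd hU₀)
  have hc := TypeP.derived_compl hG h.coatom hd hK
  have hcop : (Nat.card (Cfsg.sigmaCore M)).Coprime ((Cfsg.sigmaCore M).relIndex ⁅M, M⁆) := by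
    rw [← hFH, Basic.IsComplIn.relIndex_left h.typeP.U_compl]
    exact TP.coprime_fit_U h.typeP
  have hsol : Group.IsSolvable ↥⁅M, M⁆ :=
    hG.2.2.2 _ fun e => h.coatom.1 (top_le_iff.mp (e ▸ derived_le M))
  obtain ⟨g, hg, e⟩ := Coprime.hall_conj hsol (TypeP.hall_of_compl hcop hc)
    (TypeP.hall_of_compl hcop (hFH ▸ h.typeP.U_compl))
  refine ⟨g * u * g⁻¹, e.le ⟨u, hu, rfl⟩, fun e1 => ?_, le_bot_iff.mp fun z hz => ?_⟩
  · rw [conj_eq_one_iff.mp e1, orderOf_one] at huo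
    exact ht.ne_one huo.symm
  · have hgM : g⁻¹ ∈ M := M.inv_mem (derived_le M hg)
    have h1 : g⁻¹ * z * g ∈ Cfsg.sigmaCore M := by
      simpa using (Subgroup.mem_normalizer_iff.mp (SigmaTools.le_normalizer_sigmaCore M hgM) z).mp (hFH ▸ hz.1)
    have h2 : g⁻¹ * z * g ∈ Subgroup.centralizer ({u} : Set G) := by
      rw [Subgroup.mem_centralizer_singleton_iff]
      calc g⁻¹ * z * g * u = g⁻¹ * (z * (g * u * g⁻¹)) * g := by group
        _ = g⁻¹ * (g * u * g⁻¹ * z) * g := by rw [Subgroup.mem_centralizer_singleton_iff.mp hz.2]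
        _ = u * (g⁻¹ * z * g) := by group
    have h3 := Subgroup.mem_bot.mp (hfix.le ⟨h1, h2⟩)
    rw [Subgroup.mem_bot]
    calc z = g * (g⁻¹ * z * g) * g⁻¹ := by group
      _ = 1 := by rw [h3, mul_one, mul_inv_cancel]

theorem inf_centralizer_U (hG : Cfsg.IsMinSimpleOddOrder G) (hII : Cfsg.IsOfTypeII M) :
    Cfsg.fittingHallOf M ⊓ Subgroup.centralizer (U : Set G) = ⊥ := by
  obtain ⟨u, hu, -, hfix⟩ := h.exists_free hG hII
  exact le_bot_iff.mp ((inf_le_inf_left _ (Subgroup.centralizer_le (Set.singleton_subset_iff.mpr hu))).trans hfix.le)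

/-- In Type II: `|M_F| = p ^ q`. -/
theorem card_fit (hG : Cfsg.IsMinSimpleOddOrder G) (hII : Cfsg.IsOfTypeII M) :
    Nat.card ↥(Cfsg.fittingHallOf M) = Nat.card W₂ ^ Nat.card W₁ := by
  rw [TP.card_pow h.typeP h.U_ne hG h.coatom _ le_rfl ((sup_le (TP.U_le h.typeP) (TP.W₁_le h.typeP)).trans
    Basic.le_normalizer_fittingHallOf) (h.inf_centralizer_U hG hII), TP.inf_centralizer_W₁ h.typeP]

/-- In Type II `M_F` is elementary abelian. -/
theorem elementary (hG : Cfsg.IsMinSimpleOddOrder G) (hII : Cfsg.IsOfTypeII M) :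
    Cfsg.IsElementaryAbelian (Nat.card W₂) (Cfsg.fittingHallOf M) := by
  set H := Cfsg.fittingHallOf M with hH
  set p := Nat.card W₂ with hp
  haveI := Fact.mk h.prime₂
  have hcard := h.card_fit hG hII
  let Z : Subgroup G :=
    { carrier := {x | x ∈ H ∧ (∀ y ∈ H, x * y = y * x) ∧ x ^ p = 1}
      one_mem' := ⟨one_mem _, fun y _ => by simp, one_pow _⟩
      mul_mem' := by
        rintro a b ⟨ha, hac, hap⟩ ⟨hb, hbc, hbp⟩
        refine ⟨mul_mem ha hb, fun y hy => ((Commute.mul_left (hac y hy) (hbc y hy))).eq, ?_⟩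
        rw [Commute.mul_pow (hac b hb), hap, hbp, one_mul]
      inv_mem' := by
        rintro a ⟨ha, hac, hap⟩
        exact ⟨inv_mem ha, fun y hy => (Commute.inv_left (hac y hy)).eq, by rw [inv_pow, hap, inv_one]⟩ }
  have hZH : Z ≤ H := fun x hx => hx.1
  have hnM : M ≤ Subgroup.normalizer (H : Set G) := Basic.le_normalizer_fittingHallOf
  have hn : M ≤ Subgroup.normalizer (Z : Set G) := by
    intro m hm
    have key : ∀ m ∈ M, ∀ x ∈ Z, m * x * m⁻¹ ∈ Z := by
      rintro m hm x ⟨hx, hxc, hxp⟩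
      refine ⟨(Subgroup.mem_normalizer_iff.mp (hnM hm) x).mp hx, fun y hy => ?_,
        by rw [conj_pow, hxp, mul_one, mul_inv_cancel]⟩
      have hy' : m⁻¹ * y * m ∈ H := by
        simpa using (Subgroup.mem_normalizer_iff.mp (hnM (M.inv_mem hm)) y).mp hy
      calc m * x * m⁻¹ * y = m * (x * (m⁻¹ * y * m)) * m⁻¹ := by group
        _ = m * (m⁻¹ * y * m * x) * m⁻¹ := by rw [hxc _ hy']
        _ = y * (m * x * m⁻¹) := by group
    refine Subgroup.mem_normalizer_iff.mpr fun x => ⟨key m hm x, fun hx => ?_⟩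
    have := key _ (M.inv_mem hm) _ hx
    simpa [mul_assoc] using this
  have hZ := TP.card_pow h.typeP h.U_ne hG h.coatom Z hZH
    ((sup_le (TP.U_le h.typeP) (TP.W₁_le h.typeP)).trans hn) (h.inf_centralizer_U hG hII)
  have hne : Z ≠ ⊥ := by
    haveI : Group.IsNilpotent H := Basic.fittingHallOf_isNilpotent
    have hH1 : 1 < Nat.card H := by
      rw [hcard]; exact Nat.one_lt_pow h.prime₁.ne_zero h.prime₂.one_lt
    have hpg : IsPGroup p H := IsPGroup.of_card (n := Nat.card W₁) hcard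
    haveI : Nontrivial H := Finite.one_lt_card_iff_nontrivial.mp hH1
    have hc : p ∣ Nat.card (Subgroup.center H) := by
      rcases (hpg.to_subgroup (Subgroup.center H)).card_eq_or_dvd with h1 | h1
      · exact absurd ((Subgroup.eq_bot_of_card_eq _ h1)) (ne_of_gt hpg.bot_lt_center)
      · exact h1
    obtain ⟨z, hz⟩ := exists_prime_orderOf_dvd_card' p hc
    intro hbot
    have hmem : ((z : H) : G) ∈ Z := ⟨(z : H).2, fun y hy =>
      congrArg Subtype.val (Subgroup.mem_center_iff.mp z.2 ⟨y, hy⟩).symm, by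
      have := pow_orderOf_eq_one z
      rw [hz] at this
      exact congrArg (fun a : Subgroup.center H => ((a : H) : G)) this⟩
    rw [hbot, Subgroup.mem_bot] at hmem
    have : z = 1 := Subtype.ext (Subtype.ext hmem)
    rw [this, orderOf_one] at hz
    exact h.prime₂.ne_one hz.symm
  have hle : Z ⊓ Subgroup.centralizer (W₁ : Set G) ≤ W₂ :=
    (inf_le_inf_right _ hZH).trans (TP.inf_centralizer_W₁ h.typeP).le
  have hc2 : Nat.card ↥(Z ⊓ Subgroup.centralizer (W₁ : Set G)) = p := by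
    rcases (Nat.dvd_prime h.prime₂).mp (Subgroup.card_dvd_of_le hle) with h1 | h1
    · exact absurd (Subgroup.eq_bot_of_card_eq _ (by rw [hZ, h1, one_pow])) hne
    · exact h1
  have hZeq : Z = H := Subgroup.eq_of_le_of_card_ge hZH (by rw [hcard, hZ, hc2])
  refine ⟨⟨⟨fun a b => Subtype.ext ((hZeq.ge a.2).2.1 b b.2)⟩⟩, fun a ha => (hZeq.ge ha).2.2⟩

end Side

end CfsgLib.OddOrder.Final
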