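import Cfsg.Agent.Lib.OddOrder.Final.PairFacts
import Cfsg.Agent.Lib.Solvable.FrattiniFitting
import Cfsg.Agent.Lib.Coprime.Action
import Cfsg.Agent.Lib.OddOrder.WLine
import Cfsg.Agent.Lib.Components.GenFitting
import Cfsg.Agent.S1388

/-!
The module of a side: `P₀ = Φ(P) C_P(U)` for `P = M_F`, the linear characters of `P` trivial on `P₀`,
and the action of `M` on them.
-/

set_option autoImplicit false

namespace CfsgLib.OddOrder.Final.SideModuleData

open Subgroup
open scoped commutatorElement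

variable {G : Type*} [Group G]

/-- `Φ(P) C_P(U)`. -/
def base (P U : Subgroup G) : Subgroup G :=
  (frattini ↥P).map P.subtype ⊔ (P ⊓ centralizer (U : Set G))

/-- The linear characters of `P` trivial on `P₀`. -/
def dual (P P₀ : Subgroup G) : Subgroup (↥P →* ℂˣ) where
  carrier := {φ | ∀ x : P, (x : G) ∈ P₀ → φ x = 1}
  one_mem' := fun _ _ => rfl
  mul_mem' := fun {a b} ha hb x hx => by rw [MonoidHom.mul_apply, ha x hx, hb x hx, one_mul]
  inv_mem' := fun {a} ha x hx => by rw [MonoidHom.inv_apply, ha x hx, inv_one]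

/-- The subgroup normalising `P` and `P₀`. -/
abbrev norm2 (P P₀ : Subgroup G) : Subgroup G :=
  normalizer (P : Set G) ⊓ normalizer (P₀ : Set G)

variable {P P₀ : Subgroup G}

/-- `x ↦ g⁻¹ x g` on `P`. -/
def back (g : norm2 P P₀) (x : P) : P :=
  ⟨(g : G)⁻¹ * x * g, by
    have := (mem_normalizer_iff.mp (inv_mem g.2.1) (x : G)).mp x.2
    rwa [inv_inv] at this⟩

theorem back_mul (g : norm2 P P₀) (x y : P) : back g (x * y) = back g x * back g y :=
  Subtype.ext (by simp [back, mul_assoc])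

theorem back_mem (g : norm2 P P₀) {x : P} (hx : (x : G) ∈ P₀) : (back g x : G) ∈ P₀ := by
  have := (mem_normalizer_iff.mp (inv_mem g.2.2) (x : G)).mp hx
  rwa [inv_inv] at this

/-- The conjugate `x ↦ φ (g⁻¹ x g)`. -/
def twist (g : norm2 P P₀) (φ : dual P P₀) : dual P P₀ :=
  ⟨MonoidHom.mk' (fun x => φ.1 (back g x)) fun x y => by rw [back_mul, map_mul],
    fun _ hx => φ.2 _ (back_mem g hx)⟩

theorem twist_apply (g : norm2 P P₀) (φ : dual P P₀) (x : P) :
    (twist g φ).1 x = φ.1 (back g x) := rfl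

theorem twist_one (φ : dual P P₀) : twist 1 φ = φ :=
  Subtype.ext (MonoidHom.ext fun x => congrArg φ.1 (Subtype.ext (by simp [back])))

theorem twist_mul (a b : norm2 P P₀) (φ : dual P P₀) : twist (a * b) φ = twist a (twist b φ) :=
  Subtype.ext (MonoidHom.ext fun x => congrArg φ.1 (Subtype.ext (by simp [back, mul_assoc])))

/-- The action on the dual. -/
def act : norm2 P P₀ →* MulAut (dual P P₀) :=
  MonoidHom.mk' (fun g =>
    { toFun := twist g
      invFun := twist g⁻¹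
      left_inv := fun φ => by rw [← twist_mul, inv_mul_cancel, twist_one]
      right_inv := fun φ => by rw [← twist_mul, mul_inv_cancel, twist_one]
      map_mul' := fun φ ψ => Subtype.ext (MonoidHom.ext fun x => rfl) })
    fun a b => MulEquiv.ext fun φ => twist_mul a b φ

theorem act_apply (g : norm2 P P₀) (φ : dual P P₀) (x : P) :
    (act g φ).1 x = φ.1 (back g x) := rfl

section separation

variable [Finite G]

/-- Linear characters separate a normal subgroup with abelian quotient. -/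
theorem exists_sep (hc : ∀ x y : P, ⁅(x : G), (y : G)⁆ ∈ P₀) (hle : P₀ ≤ P) {x : P}
    (hx : (x : G) ∉ P₀) : ∃ φ : dual P P₀, φ.1 x ≠ 1 := by
  haveI : (P₀.subgroupOf P).Normal := ⟨fun n hn g => by
    have h1 : ⁅g, n⁆ ∈ P₀.subgroupOf P := hc g n
    have e : g * n * g⁻¹ = ⁅g, n⁆ * n := by simp [commutatorElement_def]
    rw [e]; exact mul_mem h1 hn⟩
  haveI : IsMulCommutative (P ⧸ P₀.subgroupOf P) := ⟨⟨fun a b => by
    obtain ⟨a, rfl⟩ := QuotientGroup.mk_surjective a
    obtain ⟨b, rfl⟩ := QuotientGroup.mk_surjective b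
    rw [← QuotientGroup.mk_mul, ← QuotientGroup.mk_mul, QuotientGroup.eq]
    have e : (a * b)⁻¹ * (b * a) = ⁅b⁻¹, a⁻¹⁆ := by simp [commutatorElement_def, mul_assoc]
    rw [e]; exact hc _ _⟩⟩
  letI : CommGroup (P ⧸ P₀.subgroupOf P) :=
    { (inferInstance : Group (P ⧸ P₀.subgroupOf P)) with mul_comm := mul_comm' }
  obtain ⟨f, hf⟩ := CommGroup.exists_apply_ne_one_of_hasEnoughRootsOfUnity (P ⧸ P₀.subgroupOf P) ℂ
    (a := (x : P ⧸ P₀.subgroupOf P)) fun e => hx ((QuotientGroup.eq_one_iff x).mp e)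
  exact ⟨⟨f.comp (QuotientGroup.mk' _), fun y hy => by
    show f (y : P ⧸ P₀.subgroupOf P) = 1
    rw [(QuotientGroup.eq_one_iff (N := P₀.subgroupOf P) y).mpr hy, map_one]⟩, hf⟩

/-- The dual has order `[P : P₀]`. -/
theorem card_dual (hc : ∀ x y : P, ⁅(x : G), (y : G)⁆ ∈ P₀) :
    Nat.card (dual P P₀) = P₀.relIndex P := by
  haveI : (P₀.subgroupOf P).Normal := ⟨fun n hn g => by
    have h1 : ⁅g, n⁆ ∈ P₀.subgroupOf P := hc g n
    have e : g * n * g⁻¹ = ⁅g, n⁆ * n := by simp [commutatorElement_def]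
    rw [e]; exact mul_mem h1 hn⟩
  haveI : IsMulCommutative (P ⧸ P₀.subgroupOf P) := ⟨⟨fun a b => by
    obtain ⟨a, rfl⟩ := QuotientGroup.mk_surjective a
    obtain ⟨b, rfl⟩ := QuotientGroup.mk_surjective b
    rw [← QuotientGroup.mk_mul, ← QuotientGroup.mk_mul, QuotientGroup.eq]
    have e : (a * b)⁻¹ * (b * a) = ⁅b⁻¹, a⁻¹⁆ := by simp [commutatorElement_def, mul_assoc]
    rw [e]; exact hc _ _⟩⟩
  letI : CommGroup (P ⧸ P₀.subgroupOf P) :=
    { (inferInstance : Group (P ⧸ P₀.subgroupOf P)) with mul_comm := mul_comm' }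
  have e : ((P ⧸ P₀.subgroupOf P) →* ℂˣ) ≃ dual P P₀ :=
    { toFun := fun f => ⟨f.comp (QuotientGroup.mk' _), fun y hy => by
        show f (y : P ⧸ P₀.subgroupOf P) = 1
        rw [(QuotientGroup.eq_one_iff (N := P₀.subgroupOf P) y).mpr hy, map_one]⟩
      invFun := fun φ => QuotientGroup.lift _ φ.1 fun y hy => φ.2 y hy
      left_inv := fun f => MonoidHom.ext fun z => by
        obtain ⟨z, rfl⟩ := QuotientGroup.mk_surjective z
        rfl
      right_inv := fun φ => Subtype.ext (MonoidHom.ext fun z => rfl) }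
  rw [← Nat.card_congr e, CommGroup.card_monoidHom_of_hasEnoughRootsOfUnity]
  rfl

end separation

/-- The facts about `P = M_F`, `P₀` used afterwards. -/
structure Facts (M W₁ U W₂ : Subgroup G) : Prop where
  le : base (Cfsg.fittingHallOf M) U ≤ Cfsg.fittingHallOf M
  comm : ∀ x y : Cfsg.fittingHallOf M, ⁅(x : G), (y : G)⁆ ∈ base (Cfsg.fittingHallOf M) U
  le_norm : M ≤ norm2 (Cfsg.fittingHallOf M) (base (Cfsg.fittingHallOf M) U)
  index : (base (Cfsg.fittingHallOf M) U).relIndex (Cfsg.fittingHallOf M) = Nat.card W₂ ^ Nat.card W₁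
  pow : ∀ x ∈ Cfsg.fittingHallOf M, x ^ Nat.card W₂ ∈ base (Cfsg.fittingHallOf M) U
  gen : ∀ x ∈ Cfsg.fittingHallOf M, x ∈ base (Cfsg.fittingHallOf M) U ⊔ ⁅Cfsg.fittingHallOf M, U⁆
  disj : base (Cfsg.fittingHallOf M) U ⊓ W₂ = ⊥

variable [Finite G] {M W₁ U W₂ : Subgroup G}

theorem frattini_normalised (P : Subgroup G) :
    normalizer (P : Set G) ≤ normalizer (((frattini ↥P).map P.subtype : Subgroup G) : Set G) :=
  fun _ hg => Components.map_subtype_normal_of_characteristic hg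

theorem facts (hG : Cfsg.IsMinSimpleOddOrder G) (h : Side M W₁ U W₂) : Facts M W₁ U W₂ := by
  have hP := h.typeP
  set P := Cfsg.fittingHallOf M with hPdef
  set P₀ := base P U with hP0
  haveI hPn : Group.IsNilpotent P := Basic.fittingHallOf_isNilpotent
  have hnP : M ≤ normalizer (P : Set G) := Basic.le_normalizer_fittingHallOf
  have hΦP : (frattini ↥P).map P.subtype ≤ P := map_subtype_le _
  have hle : P₀ ≤ P := sup_le hΦP inf_le_left
  have hcomm : ∀ x y : P, ⁅(x : G), (y : G)⁆ ∈ P₀ := fun x y =>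
    mem_sup_left ⟨⁅x, y⁆, Solvable.FrattiniFitting.commutator_le_frattini
      (commutator_mem_commutator (mem_top x) (mem_top y)), rfl⟩
  have hPnorm : P ≤ normalizer (P₀ : Set G) := le_normalizer_iff.mpr fun x hx y hy => by
    have e : x * y * x⁻¹ = ⁅x, y⁆ * y := by simp [commutatorElement_def]
    rw [e]
    exact mul_mem (hcomm ⟨x, hx⟩ ⟨y, hle hy⟩) hy
  have hWU : U ⊔ W₁ ≤ normalizer (U : Set G) := sup_le le_normalizer hP.U_normal
  have hUW0 : U ⊔ W₁ ≤ normalizer (P₀ : Set G) := le_normalizer_iff.mpr fun g hg y hy => by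
    have hgP : g ∈ normalizer (P : Set G) := hnP (sup_le (TP.U_le hP) (TP.W₁_le hP) hg)
    have hmap : P₀.map (MulAut.conj g).toMonoidHom ≤ P₀ := by
      rw [hP0, base, Subgroup.map_sup]
      refine sup_le_sup (fun z hz => ?_) ((map_inf_le _ _ _).trans (inf_le_inf ?_ ?_))
      · obtain ⟨z, hz, rfl⟩ := hz
        exact (mem_normalizer_iff.mp (frattini_normalised P hgP) z).mp hz
      · rintro _ ⟨z, hz, rfl⟩
        exact (mem_normalizer_iff.mp hgP z).mp hz
      · rintro _ ⟨z, hz, rfl⟩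
        exact (mem_normalizer_iff.mp (WLine.normalizer_le_normalizer_centralizer U (hWU hg)) z).mp hz
    exact hmap ⟨y, hy, rfl⟩
  have hMnorm : M ≤ normalizer (P₀ : Set G) := by
    intro m hm
    obtain ⟨a, ha, w, hw, rfl⟩ := hP.W₁_compl.2.2.2 m hm
    obtain ⟨x, hx, u, hu, rfl⟩ := hP.U_compl.2.2.2 a ha
    exact mul_mem (mul_mem (hPnorm hx) (hUW0 (mem_sup_left hu))) (hUW0 (mem_sup_right hw))
  have hW₂le : W₂ ≤ P := TP.W₂_le_fit hP
  have hS : ∀ H : Subgroup G, H ≤ P → U ⊔ W₁ ≤ normalizer (H : Set G) →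
      Nat.card ↥(H ⊓ centralizer ((U ⊔ W₁ : Subgroup G) : Set G)) ^ Nat.card W₁ * Nat.card H =
        Nat.card ↥(H ⊓ centralizer (W₁ : Set G)) ^ Nat.card W₁ *
          Nat.card ↥(H ⊓ centralizer (U : Set G)) := fun H hH hn =>
    Cfsg.Agent.S1545.result U W₁ H h.U_ne hP.W₁_ne (TP.U_inf_W₁ hP)
      (fun e he u hu => (mem_normalizer_iff.mp (hP.U_normal he) u).mp hu) (TP.fpf hP)
      (fun x hx y hy => (mem_normalizer_iff.mp (hn hx) y).mp hy)
      (le_bot_iff.mp ((inf_le_inf_right _ hH).trans (TP.sup_inf hP).le))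
      (hG.2.2.2 H fun e => h.coatom.1 (top_le_iff.mp (e ▸ hH.trans Basic.fittingHallOf_le)))
      (by rw [TP.card_sup hP]
          exact ((TP.coprime_fit_U hP).mul_right (TP.coprime_fit_W₁ hP)).coprime_dvd_left
            (card_dvd_of_le hH))
  have hUn : U ⊔ W₁ ≤ normalizer (P : Set G) := (sup_le (TP.U_le hP) (TP.W₁_le hP)).trans hnP
  -- the two centralisers of `U` agree on `P` and on the subgroups over `P₀`
  have hover : ∀ H : Subgroup G, P₀ ≤ H → H ≤ P →
      H ⊓ centralizer (U : Set G) = P ⊓ centralizer (U : Set G) ∧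
      H ⊓ centralizer ((U ⊔ W₁ : Subgroup G) : Set G) = P ⊓ centralizer ((U ⊔ W₁ : Subgroup G) : Set G) := by
    intro H h1 h2
    have e : P ⊓ centralizer (U : Set G) ≤ H := le_sup_right.trans h1
    refine ⟨le_antisymm (inf_le_inf_right _ h2) (le_inf e inf_le_right),
      le_antisymm (inf_le_inf_right _ h2) (le_inf (le_trans ?_ e) inf_le_right)⟩
    exact inf_le_inf_left _ (centralizer_le (show (U : Set G) ⊆ (U ⊔ W₁ : Subgroup G) from
      fun x hx => mem_sup_left hx))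
  have hcen : ∀ H : Subgroup G, H ≤ P → H ⊓ centralizer (W₁ : Set G) = H ⊓ W₂ := fun H hH => by
    rw [← TP.inf_centralizer_W₁ hP, ← inf_assoc, inf_eq_left.mpr hH]
  have hratio : ∀ H : Subgroup G, P₀ ≤ H → H ≤ P → U ⊔ W₁ ≤ normalizer (H : Set G) →
      Nat.card ↥(H ⊓ W₂) ^ Nat.card W₁ * Nat.card P₀ =
        Nat.card ↥(P₀ ⊓ W₂) ^ Nat.card W₁ * Nat.card H := by
    intro H h1 h2 hn
    have eH := hS H h2 hn
    have e0 := hS P₀ hle hUW0
    rw [(hover H h1 h2).1, (hover H h1 h2).2, hcen H h2] at eH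
    rw [(hover P₀ le_rfl hle).1, (hover P₀ le_rfl hle).2, hcen P₀ hle] at e0
    refine Nat.eq_of_mul_eq_mul_left (show 0 < Nat.card ↥(P ⊓ centralizer ((U ⊔ W₁ : Subgroup G) : Set G)) ^
      Nat.card W₁ from pow_pos Nat.card_pos _) ?_
    calc _ = Nat.card ↥(H ⊓ W₂) ^ Nat.card W₁ *
          (Nat.card ↥(P ⊓ centralizer ((U ⊔ W₁ : Subgroup G) : Set G)) ^ Nat.card W₁ * Nat.card P₀) := by ring
      _ = Nat.card ↥(P₀ ⊓ W₂) ^ Nat.card W₁ *
          (Nat.card ↥(P ⊓ centralizer ((U ⊔ W₁ : Subgroup G) : Set G)) ^ Nat.card W₁ * Nat.card H) := by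
        rw [e0, eH]; ring
      _ = _ := by ring
  have hne : P₀ ≠ P := by
    intro e
    refine (Cfsg.Agent.S1388.result M W₁ U W₂ hP).2 h.U_ne (le_centralizer_iff.mp ?_)
    have h1 : ((centralizer (U : Set G)).subgroupOf P) = ⊤ := by
      refine frattini_nongenerating (map_injective P.subtype_injective ?_)
      rw [Subgroup.map_sup, subgroupOf_map_subtype, ← MonoidHom.range_eq_map, range_subtype,
        inf_comm (centralizer (U : Set G)), sup_comm]
      exact e
    intro x hx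
    exact (h1.ge (mem_top (⟨x, hx⟩ : P)) :)
  have hdisj : P₀ ⊓ W₂ = ⊥ := by
    have hd : Nat.card ↥(P₀ ⊓ W₂) ∣ Nat.card W₂ := card_dvd_of_le inf_le_right
    rcases (Nat.dvd_prime h.prime₂).mp hd with h1 | h1
    · exact eq_bot_of_card_eq _ h1
    · exfalso
      have h2 := hratio P hle le_rfl hUn
      rw [inf_eq_right.mpr hW₂le, h1] at h2
      exact hne (eq_of_le_of_card_ge hle
        (Nat.eq_of_mul_eq_mul_left (pow_pos h.prime₂.pos _) h2).ge)
  have hPP : Nat.card P = Nat.card P₀ * Nat.card W₂ ^ Nat.card W₁ := by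
    have h2 := hratio P hle le_rfl hUn
    rw [inf_eq_right.mpr hW₂le, hdisj, card_bot, one_pow, one_mul] at h2
    rw [← h2, mul_comm]
  have hindex : P₀.relIndex P = Nat.card W₂ ^ Nat.card W₁ := by
    have := Coprime.card_mul_relIndex_eq hle
    rw [hPP] at this
    exact Nat.eq_of_mul_eq_mul_left Nat.card_pos this
  refine ⟨hle, hcomm, le_inf hnP hMnorm, hindex, fun x hx => ?_, fun x hx => ?_, hdisj⟩
  · -- exponent
    haveI : (P₀.subgroupOf P).Normal := (normal_subgroupOf_iff_le_normalizer hle).mpr hPnorm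
    set f := QuotientGroup.mk' (P₀.subgroupOf P) with hf
    have hQc : ∀ a b : P ⧸ P₀.subgroupOf P, Commute a b := fun a b => by
      obtain ⟨a, rfl⟩ := QuotientGroup.mk_surjective a
      obtain ⟨b, rfl⟩ := QuotientGroup.mk_surjective b
      show ((a * b : P) : P ⧸ P₀.subgroupOf P) = ((b * a : P) : P ⧸ P₀.subgroupOf P)
      rw [QuotientGroup.eq]
      have e : (a * b)⁻¹ * (b * a) = ⁅b⁻¹, a⁻¹⁆ := by simp [commutatorElement_def, mul_assoc]
      rw [e]; exact hcomm _ _
    let T : Subgroup P :=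
      { carrier := {z | (f z) ^ Nat.card W₂ = 1}
        one_mem' := by simp
        mul_mem' := fun {a b} ha hb => by
          simp only [Set.mem_setOf_eq, map_mul, (hQc (f a) (f b)).mul_pow] at ha hb ⊢
          rw [ha, hb, one_mul]
        inv_mem' := fun {a} ha => by
          simp only [Set.mem_setOf_eq, map_inv, inv_pow] at ha ⊢
          rw [ha, inv_one] }
    have hmemT : ∀ z : P, z ∈ T ↔ (z : G) ^ Nat.card W₂ ∈ P₀ := fun z => by
      change (f z) ^ Nat.card W₂ = 1 ↔ _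
      rw [← map_pow, hf, QuotientGroup.mk'_apply, QuotientGroup.eq_one_iff, mem_subgroupOf,
        Subgroup.coe_pow]
    set H := T.map P.subtype with hH
    have hHP : H ≤ P := map_subtype_le _
    have h0H : P₀ ≤ H := fun z hz => ⟨⟨z, hle hz⟩, (hmemT _).mpr (pow_mem hz _), rfl⟩
    have hHn : U ⊔ W₁ ≤ normalizer (H : Set G) := le_normalizer_iff.mpr fun g hg y hy => by
      obtain ⟨z, hz, rfl⟩ := hy
      refine ⟨⟨g * z * g⁻¹, (mem_normalizer_iff.mp (hUn hg) _).mp z.2⟩, (hmemT _).mpr ?_, rfl⟩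
      show (g * (z : G) * g⁻¹) ^ Nat.card W₂ ∈ P₀
      rw [conj_pow]
      exact (mem_normalizer_iff.mp (hUW0 hg) _).mp ((hmemT z).mp hz)
    have hW₂H : W₂ ≤ H := fun z hz => by
      refine ⟨⟨z, hW₂le hz⟩, (hmemT _).mpr ?_, rfl⟩
      show z ^ Nat.card W₂ ∈ P₀
      have : z ^ Nat.card W₂ = 1 := congrArg Subtype.val (pow_card_eq_one' (x := (⟨z, hz⟩ : W₂)))
      rw [this]; exact one_mem _
    have h2 := hratio H h0H hHP hHn
    rw [inf_eq_right.mpr hW₂H, hdisj, card_bot, one_pow, one_mul] at h2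
    have hHeq : H = P := eq_of_le_of_card_ge hHP (by rw [hPP, ← h2, mul_comm])
    obtain ⟨z, hz, rfl⟩ := hHeq.ge hx
    exact (hmemT z).mp hz
  · -- generation by `[P, U]`
    have h1 := Coprime.commutator_sup_centralizer ((TP.U_le hP).trans hnP)
      (TP.coprime_fit_U hP).symm (Or.inl (by haveI := hP.U_nilpotent; infer_instance))
    exact (show _ ≤ P₀ ⊔ ⁅P, U⁆ from sup_le le_sup_right (le_sup_right.trans le_sup_left)) (h1.ge hx)

end CfsgLib.OddOrder.Final.SideModuleData
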