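import Cfsg.Agent.Lib.Char.CentralTICongruence
import Cfsg.Agent.Lib.Char.CoherenceFeit
import Cfsg.Agent.Lib.Char.Linear
import Cfsg.Agent.S1513
import Mathlib

/-!
A cyclic Hall subgroup `W₁` of prime action on a normal subgroup `K`, with a common centraliser
`W₂ ≤ [K, K]` of prime order: congruences for invariant functions and the stabilisers of characters.
-/

set_option autoImplicit false
set_option linter.unusedSectionVars false
set_option linter.style.haveILetI false

open scoped ComplexConjugate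

namespace CfsgLib.OddOrder.Final.Ten

open CfsgLib.Char CfsgLib.Char.Coherence

/-- The configuration inside one group. -/
structure Act {L : Type*} [Group L] (K W₁ W₂ : Subgroup L) (q p : ℕ) : Prop where
  inf : K ⊓ W₁ = ⊥
  sup : K ⊔ W₁ = ⊤
  cyc : IsCyclic W₁
  cop : q.Coprime (Nat.card K)
  cardW₁ : Nat.card W₁ = q
  cardW₂ : Nat.card W₂ = p
  one_lt : 1 < q
  prime : p.Prime
  le : W₂ ≤ ⁅K, K⁆
  fix : ∀ x ∈ W₁, x ≠ 1 → K ⊓ Subgroup.centralizer ({x} : Set L) = W₂
  nil : Group.IsNilpotent K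
  odd : Odd (Nat.card L)

variable {L : Type*} [Group L] [Fintype L] {K W₁ W₂ : Subgroup L} [hK : K.Normal] {q p : ℕ}

/-- A prime number or natural number dividing another in the algebraic integers divides it. -/
theorem dvd_of_eq_mul {m : ℕ} (hm : m ≠ 0) {n : ℤ} {β : ℂ} (hβ : IsIntegral ℤ β)
    (h : (n : ℂ) = (m : ℂ) * β) : (m : ℤ) ∣ n := by
  obtain ⟨k, hk⟩ := exists_int_of_isIntegral_rat hβ (q := (n : ℚ) / m) (by
    push_cast
    rw [h, mul_div_cancel_left₀ _ (Nat.cast_ne_zero.mpr hm)])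
  refine ⟨k, ?_⟩
  rw [hk] at h
  exact_mod_cast h

namespace Act

variable (h : Act K W₁ W₂ q p)
include h

theorem W₂_le : W₂ ≤ K := h.le.trans (Subgroup.commutator_le_left K K)

theorem commute {x z : L} (hx : x ∈ W₁) (hz : z ∈ W₂) : x * z = z * x := by
  by_cases hx1 : x = 1
  · simp [hx1]
  · rw [← h.fix x hx hx1] at hz
    exact (Subgroup.mem_centralizer_singleton_iff.mp hz.2).symm

theorem conj_W₂ {x z : L} (hx : x ∈ W₁) (hz : z ∈ W₂) : x * z * x⁻¹ = z := by
  rw [h.commute hx hz, mul_inv_cancel_right]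

theorem odd_q : Odd q := h.cardW₁ ▸ h.odd.of_dvd_nat (Subgroup.card_subgroup_dvd_card W₁)

theorem odd_p : Odd p := h.cardW₂ ▸ h.odd.of_dvd_nat (Subgroup.card_subgroup_dvd_card W₂)

theorem three_le_p : 3 ≤ p := by
  obtain ⟨k, hk⟩ := h.odd_p
  have := h.prime.two_le
  omega

theorem three_le_q : 3 ≤ q := by
  obtain ⟨k, hk⟩ := h.odd_q
  have := h.one_lt
  omega

theorem p_dvd : p ∣ Nat.card K := h.cardW₂ ▸ Subgroup.card_dvd_of_le h.W₂_le

theorem coprime_qp : q.Coprime p := h.cop.coprime_dvd_right h.p_dvd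

open scoped Classical in
/-- An invariant integral function has the same sum on `K` as on `W₂`, modulo the order of the
acting subgroup. -/
theorem sum_eq_add_mul [Fintype K] (A : Subgroup L) (hA : A ≤ W₁) (F : K → ℂ)
    (hint : ∀ a, IsIntegral ℤ (F a))
    (hinv : ∀ x ∈ A, ∀ a : K, F ⟨x * a * x⁻¹, hK.conj_mem _ a.2 x⟩ = F a) :
    ∃ β : ℂ, IsIntegral ℤ β ∧
      ∑ a, F a = (∑ a ∈ Finset.univ.filter (fun a : K => (a : L) ∈ W₂), F a) + (Nat.card A : ℂ) * β := by
  let S := {a : K // (a : L) ∉ W₂}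
  letI : MulAction A S :=
    { smul := fun x a => ⟨⟨(x : L) * a.1 * (x : L)⁻¹, hK.conj_mem _ a.1.2 x⟩, fun hm => a.2 (by
        have h' : (x : L) * a.1 * (x : L)⁻¹ ∈ W₂ := hm
        have hc := h.conj_W₂ (inv_mem (hA x.2)) h'
        rw [inv_inv, show (x : L)⁻¹ * ((x : L) * a.1 * (x : L)⁻¹) * x = (a.1 : L) by group] at hc
        exact hc ▸ h')⟩
      one_smul := fun a => Subtype.ext (Subtype.ext (by
        show ((1 : A) : L) * a.1 * ((1 : A) : L)⁻¹ = a.1; simp))
      mul_smul := fun x y a => Subtype.ext (Subtype.ext (by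
        show ((x * y : A) : L) * a.1 * ((x * y : A) : L)⁻¹ =
          (x : L) * ((y : L) * a.1 * (y : L)⁻¹) * (x : L)⁻¹
        simp [mul_assoc])) }
  have hfree : ∀ (s : S) (x : A), x • s = s → x = 1 := by
    intro s x hx
    have hx' : (x : L) * s.1 * (x : L)⁻¹ = s.1 := congrArg (fun t : S => (t.1 : L)) hx
    by_contra hx1
    refine s.2 ((h.fix x (hA x.2) fun e => hx1 (Subtype.ext e)).le ⟨s.1.2, ?_⟩)
    exact Subgroup.mem_centralizer_singleton_iff.mpr (mul_inv_eq_iff_eq_mul.mp hx').symm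
  obtain ⟨β, hβ, e⟩ := CentralTI.exists_mul_of_free hfree (fun s : S => F s.1)
    (fun x s => hinv x x.2 s.1) (fun s => hint _)
  refine ⟨β, hβ, ?_⟩
  rw [← e, ← Finset.sum_filter_add_sum_filter_not Finset.univ (fun a : K => (a : L) ∈ W₂) F]
  congr 1
  exact Finset.sum_subtype _ (fun a => by simp) F

/-- The conjugation action of the elements of `W₁` is coprime to `K`. -/
theorem coprime_zpowers {x : L} (hx : x ∈ W₁) : (Nat.card (Subgroup.zpowers x)).Coprime (Nat.card K) :=
  h.cop.coprime_dvd_left (h.cardW₁ ▸ Subgroup.card_dvd_of_le (Subgroup.zpowers_le.mpr hx))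

omit h in
theorem conjG_zpowers {θ : K → ℂ} {x y : L} (hfix : conjG θ x = θ) (hy : y ∈ Subgroup.zpowers x) :
    conjG θ y = θ := by
  have : Subgroup.zpowers x ≤ stab θ := Subgroup.zpowers_le.mpr hfix
  exact this hy

omit h in
/-- Characters whose restriction to a normal subgroup contains the trivial one are trivial there. -/
theorem trivOn_of_sum_ne_zero [Fintype K] {θ : K → ℂ} (hθ : Cfsg.IsIrrCharacter K θ) (N : Subgroup L)
    [N.Normal] [DecidablePred fun a : K => (a : L) ∈ N]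
    (hne : ∑ a ∈ Finset.univ.filter (fun a : K => (a : L) ∈ N), θ a ≠ 0) : TrivOn K N θ := by
  classical
  set N' := N.subgroupOf K with hN'
  haveI : N'.Normal := Subgroup.Normal.subgroupOf ‹N.Normal› K
  cases nonempty_fintype N'
  have hsum : ∑ a : N', θ a = ∑ a ∈ Finset.univ.filter (fun a : K => (a : L) ∈ N), θ a :=
    (Finset.sum_subtype _ (fun a => by simp [hN', Subgroup.mem_subgroupOf]) θ).symm
  have hne' : Cfsg.classInner (fun a : N' => θ a) (fun _ => 1) ≠ 0 := by
    rw [classInner_fun_one_right, hsum]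
    exact mul_ne_zero (inv_ne_zero (Nat.cast_ne_zero.mpr Nat.card_pos.ne')) hne
  have hr := restrict_eq_smul_orbit (H := N') hθ isIrrCharacter_one hne'
  rw [show {ψ : N' → ℂ | ∃ g : K, ψ = conjG (fun _ => (1 : ℂ)) g} = {fun _ => (1 : ℂ)} from
    Set.ext fun ψ => ⟨fun ⟨g, hg⟩ => hg, fun hψ => ⟨1, hψ⟩⟩, finsum_mem_singleton] at hr
  intro a ha
  have h1 := congrFun hr ⟨a, Subgroup.mem_subgroupOf.mpr ha⟩
  have h2 := congrFun hr 1
  simp only [Pi.smul_apply, smul_eq_mul] at h1 h2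
  exact h1.trans h2.symm

/-- A character fixed by a non-identity element of `W₁` is trivial on a normal subgroup on which `W₁`
acts without fixed points. -/
theorem trivOn_of_fixed [Fintype K] {x : L} (hx : x ∈ W₁) (hx1 : x ≠ 1) {θ : K → ℂ}
    (hθ : Cfsg.IsIrrCharacter K θ) (hfix : conjG θ x = θ) (N : Subgroup L) [N.Normal]
    (hNW : N ⊓ W₂ = ⊥) : TrivOn K N θ := by
  classical
  refine trivOn_of_sum_ne_zero hθ N fun h0 => ?_
  have hχ := IsIrrCharacter.isCharacter hθ
  obtain ⟨β, hβ, e⟩ := h.sum_eq_add_mul (Subgroup.zpowers x) (Subgroup.zpowers_le.mpr hx)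
    (fun a : K => if (a : L) ∈ N then θ a else 0)
    (fun a => by split_ifs; exacts [IsCharacter.isIntegral hχ a, isIntegral_zero])
    (fun y hy a => by
      have hiff : y * a * y⁻¹ ∈ N ↔ (a : L) ∈ N := by
        refine ⟨fun hm => ?_, fun hm => ‹N.Normal›.conj_mem _ hm y⟩
        have := ‹N.Normal›.conj_mem _ hm y⁻¹
        simpa [mul_assoc] using this
      simp only [hiff]
      split_ifs
      · exact congrFun (conjG_zpowers hfix hy) a
      · rfl)
  rw [← Finset.sum_filter, h0, Finset.sum_eq_single (1 : K) (fun a ha ha1 => if_neg fun haN => ha1 ?_)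
    (fun hh => absurd (Finset.mem_filter.mpr ⟨Finset.mem_univ (1 : K), W₂.one_mem⟩) hh)] at e
  · rw [if_pos (show ((1 : K) : L) ∈ N from N.one_mem)] at e
    obtain ⟨d, hd, hdvd⟩ := IsIrrCharacter.apply_one_dvd_card hθ
    have hm : (Nat.card (Subgroup.zpowers x) : ℤ) ∣ -(d : ℤ) :=
      dvd_of_eq_mul Nat.card_pos.ne' hβ (by push_cast; rw [← hd]; linear_combination e)
    rw [dvd_neg, Int.natCast_dvd_natCast] at hm
    have := Nat.eq_one_of_dvd_coprimes (h.coprime_zpowers hx) dvd_rfl (hm.trans hdvd)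
    rw [Nat.card_zpowers, orderOf_eq_one_iff] at this
    exact hx1 this
  · have : (a : L) ∈ N ⊓ W₂ := ⟨haN, (Finset.mem_filter.mp ha).2⟩
    rw [hNW, Subgroup.mem_bot] at this
    exact Subtype.ext this

/-- A nontrivial linear character has trivial stabiliser in `W₁`. -/
theorem eq_one_of_fixed_linear [Fintype K] {x : L} (hx : x ∈ W₁) (hx1 : x ≠ 1) {θ : K → ℂ}
    (hθ : Cfsg.IsIrrCharacter K θ) (hd : natDeg θ = 1) (hfix : conjG θ x = θ) : θ = fun _ => 1 := by
  classical
  by_contra hne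
  have hχ := IsIrrCharacter.isCharacter hθ
  obtain ⟨β, hβ, e⟩ := h.sum_eq_add_mul (Subgroup.zpowers x) (Subgroup.zpowers_le.mpr hx) θ
    (IsCharacter.isIntegral hχ) (fun y hy a => congrFun (conjG_zpowers hfix hy) a)
  have h0 : ∑ a, θ a = 0 := by
    have := classInner_irr_ne hθ isIrrCharacter_one hne
    rwa [classInner_fun_one_right, mul_eq_zero, inv_eq_zero, Nat.cast_eq_zero,
      or_iff_right Nat.card_pos.ne'] at this
  have hW : ∑ a ∈ Finset.univ.filter (fun a : K => (a : L) ∈ W₂), θ a = (p : ℂ) := by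
    have htriv := (Feit.trivOn_commutator_iff K hθ).mpr hd
    rw [Finset.sum_congr rfl (g := fun _ => (1 : ℂ)) fun a ha => by
      rw [htriv a (h.le (Finset.mem_filter.mp ha).2), natDeg_spec hθ, hd, Nat.cast_one],
      Finset.sum_const, nsmul_eq_mul, mul_one, ← h.cardW₂]
    congr 1
    rw [Nat.card_eq_fintype_card, ← Fintype.card_subtype]
    exact Fintype.card_congr
      { toFun := fun a => ⟨(a.1 : L), a.2⟩
        invFun := fun a => ⟨⟨(a : L), h.W₂_le a.2⟩, a.2⟩
        left_inv := fun a => rfl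
        right_inv := fun a => rfl }
  rw [h0, hW] at e
  have hm : (Nat.card (Subgroup.zpowers x) : ℤ) ∣ -(p : ℤ) :=
    dvd_of_eq_mul Nat.card_pos.ne' hβ (by push_cast; linear_combination e)
  rw [dvd_neg, Int.natCast_dvd_natCast] at hm
  have := Nat.eq_one_of_dvd_coprimes (h.coprime_zpowers hx) dvd_rfl (hm.trans h.p_dvd)
  rw [Nat.card_zpowers, orderOf_eq_one_iff] at this
  exact hx1 this

/-- There is a non-principal character fixed by `W₁`. -/
theorem exists_fixed [Fintype K] :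
    ∃ θ : Cfsg.IrrCharacter K, (θ : K → ℂ) ≠ (fun _ => 1) ∧ ∀ x ∈ W₁, conjG (θ : K → ℂ) x = θ := by
  classical
  have hW₁ne : W₁ ≠ ⊥ := fun e => by
    have := h.one_lt
    rw [← h.cardW₁, e, Subgroup.card_bot] at this
    omega
  have hW₂ne : W₂ ≠ ⊥ := fun e => by
    have := h.prime.one_lt
    rw [← h.cardW₂, e, Subgroup.card_bot] at this
    omega
  have hHall : Nat.Coprime (Nat.card W₁) W₁.index := by
    rw [(Subgroup.IsComplement'.index_eq_card (Subgroup.isComplement'_of_disjoint_and_mul_eq_univ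
      (disjoint_iff.mpr h.inf) (by rw [← Subgroup.normal_mul, h.sup, Subgroup.coe_top]))), h.cardW₁]
    exact h.cop
  have hoddW : Odd (Nat.card ↥(W₁ ⊔ W₂)) := h.odd.of_dvd_nat (Subgroup.card_subgroup_dvd_card _)
  haveI : IsCyclic W₂ := haveI := Fact.mk h.prime; isCyclic_of_prime_card h.cardW₂
  obtain ⟨-, hcard, -⟩ := Cfsg.Agent.S1513.result K W₁ W₂ h.inf h.sup hW₁ne h.cyc hHall hW₂ne
    inferInstance h.W₂_le h.fix hoddW
  rw [h.cardW₂] at hcard
  by_contra hcon
  push Not at hcon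
  have hsub : Subsingleton {θ : Cfsg.IrrCharacter K // ∀ x ∈ W₁,
      (fun k : K => (θ : K → ℂ) ⟨x * k * x⁻¹, hK.conj_mem (k : L) k.2 x⟩) = θ} := by
    have key : ∀ θ : {θ : Cfsg.IrrCharacter K // ∀ x ∈ W₁,
        (fun k : K => (θ : K → ℂ) ⟨x * k * x⁻¹, hK.conj_mem (k : L) k.2 x⟩) = θ},
        (θ.1 : K → ℂ) = fun _ => 1 := fun θ => by
      by_contra hne
      obtain ⟨x, hx, hx'⟩ := hcon θ.1 hne
      exact hx' (θ.2 x hx)
    exact ⟨fun a b => Subtype.ext (Subtype.ext ((key a).trans (key b).symm))⟩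
  have := h.prime.one_lt
  rw [← hcard] at this
  exact absurd this (not_lt.mpr (Finite.card_le_one_iff_subsingleton.mpr hsub))

end Act

end CfsgLib.OddOrder.Final.Ten
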