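import Cfsg.Agent.Lib.OddOrder.Final.TenData
import Cfsg.Agent.S1508
import Mathlib

/-!
Integral combinations of the first row of a cyclic TI family, and the bound on `B`.
-/

set_option autoImplicit false
set_option linter.unusedSectionVars false
set_option linter.style.haveILetI false

open scoped ComplexConjugate

namespace CfsgLib.OddOrder.Final.Ten

open CfsgLib.Char CfsgLib.Char.Coherence

variable {G : Type*} [Group G] [Fintype G] {M : Subgroup G} {K W₁ W₂ : Subgroup M} [hK : K.Normal] {q p : ℕ}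

/-- The characters of `W` trivial on `W₂`. -/
abbrev Fst (W₁ W₂ : Subgroup M) := CyclicTI.FstChar (W₁.map M.subtype) (W₂.map M.subtype)

/-- `∑ s φ η φ`. -/
noncomputable def combo [Fintype (Fst W₁ W₂)] (η : (↥(W₁.map M.subtype ⊔ W₂.map M.subtype) →* ℂˣ) → G → ℂ)
    (s : Fst W₁ W₂ → ℤ) : G → ℂ := ∑ φ, (s φ : ℂ) • η φ.1

namespace Dat

variable [Fintype M] (d : Dat M K W₁ W₂ q p)
include d

theorem card_W : Nat.card ↥(W₁.map M.subtype ⊔ W₂.map M.subtype) = q * p := by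
  obtain ⟨e, -⟩ := CyclicTI.exists_prodEquiv d.pair
  rw [← Nat.card_congr e.toEquiv, Nat.card_prod, Subgroup.card_map_of_injective M.subtype_injective,
    Subgroup.card_map_of_injective M.subtype_injective, d.act.cardW₁, d.act.cardW₂]

theorem odd_W : Odd (Nat.card ↥(W₁.map M.subtype ⊔ W₂.map M.subtype)) :=
  d.card_W ▸ d.act.odd_q.mul d.act.odd_p

theorem card_fst [Fintype (Fst W₁ W₂)] : Fintype.card (Fst W₁ W₂) = q := by
  rw [← Nat.card_eq_fintype_card, (CyclicTI.card_fstChar d.pair).1,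
    Subgroup.card_map_of_injective M.subtype_injective, d.act.cardW₁]

theorem fst_order (φ : Fst W₁ W₂) : orderOf φ.1 ∣ q := by
  refine orderOf_dvd_of_pow_eq_one (MonoidHom.ext fun w => ?_)
  obtain ⟨e, he⟩ := CyclicTI.exists_prodEquiv d.pair
  obtain ⟨⟨a, b⟩, rfl⟩ := e.surjective w
  have hb : ((e (1, b) : ↥(W₁.map M.subtype ⊔ W₂.map M.subtype)) : G) ∈ W₂.map M.subtype := by simp [he]
  have ha : a ^ q = 1 := by
    have hc : Nat.card ↥(W₁.map M.subtype) = q := by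
      rw [Subgroup.card_map_of_injective M.subtype_injective, d.act.cardW₁]
    rw [← hc]
    exact pow_card_eq_one'
  have hab : e (a, b) = e (a, 1) * e (1, b) := by rw [← map_mul, Prod.mk_mul_mk, mul_one, one_mul]
  rw [MonoidHom.pow_apply, hab, map_mul, φ.2 _ hb, mul_one, ← map_pow, ← map_pow, Prod.pow_mk, ha, one_pow,
    Prod.mk_one_one, map_one, map_one, MonoidHom.one_apply]

variable {η : (↥(W₁.map M.subtype ⊔ W₂.map M.subtype) →* ℂˣ) → G → ℂ}
  (hη : Cfsg.IsCyclicTIFamily (W₁.map M.subtype) (W₂.map M.subtype) η)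
include hη

theorem eta_gen (ω : ↥(W₁.map M.subtype ⊔ W₂.map M.subtype) →* ℂˣ) :
    Cfsg.IsGeneralizedCharacter G (η ω) := by
  rcases hη.irr_or_neg ω with h | h
  · exact IsCharacter.isGeneralizedCharacter (IsIrrCharacter.isCharacter h)
  · obtain ⟨a, b, ha, hb, e⟩ := IsCharacter.isGeneralizedCharacter (IsIrrCharacter.isCharacter h)
    exact ⟨b, a, hb, ha, by rw [← neg_neg (η ω), e, neg_sub]⟩

theorem eta_int (φ : Fst W₁ W₂) {g : G} (hg : (orderOf g).Coprime q) : ∃ n : ℤ, η φ.1 g = n :=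
  Cfsg.Agent.S1508.result _ _ d.pair d.odd_W η hη φ.1 g (hg.coprime_dvd_right (d.fst_order φ))

theorem eta_good (φ : Fst W₁ W₂) : Good K (η φ.1) :=
  ⟨d.eta_gen hη φ.1, fun _ hg => d.eta_int hη φ (d.supp_coprime hg)⟩

variable [Fintype (Fst W₁ W₂)]

theorem combo_gen (s : Fst W₁ W₂ → ℤ) : Cfsg.IsGeneralizedCharacter G (combo η s) := by
  refine isGeneralizedCharacter_iff.mpr ⟨fun g y => ?_, fun ψ hψ => ?_⟩
  · simp only [combo, Finset.sum_apply, Pi.smul_apply]
    exact Finset.sum_congr rfl fun φ _ => by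
      rw [IsGeneralizedCharacter.isClassFunction (d.eta_gen hη φ.1) g y]
  · choose n hn using fun φ : Fst W₁ W₂ => IsGeneralizedCharacter.classInner_int (d.eta_gen hη φ.1)
      (IsCharacter.isGeneralizedCharacter (IsIrrCharacter.isCharacter hψ))
    refine ⟨∑ φ, s φ * n φ, ?_⟩
    rw [combo, classInner_sum_left]
    push_cast
    exact Finset.sum_congr rfl fun φ _ => by rw [classInner_smul_left, hn]

theorem combo_good (s : Fst W₁ W₂ → ℤ) : Good K (combo η s) := by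
  refine ⟨d.combo_gen hη s, fun g hg => ?_⟩
  choose n hn using fun φ : Fst W₁ W₂ => d.eta_int hη φ (d.supp_coprime hg)
  exact ⟨∑ φ, s φ * n φ, by simp [combo, Finset.sum_apply, hn]⟩

omit hη in
theorem rhoK_combo (s : Fst W₁ W₂ → ℤ) :
    rhoK K (combo η s) = ∑ φ, (s φ : ℂ) • rhoK K (η φ.1) := by
  classical
  funext a
  simp only [rhoK, rho, combo, Finset.sum_apply, Pi.smul_apply, smul_eq_mul]
  split_ifs
  · simp only [avg_eq, Finset.sum_apply, Pi.smul_apply, smul_eq_mul, Finset.mul_sum]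
    rw [Finset.sum_comm]
    exact Finset.sum_congr rfl fun φ _ => Finset.sum_congr rfl fun u _ => by ring
  · simp

omit hη in
theorem coef_combo [Fintype K] (s : Fst W₁ W₂ → ℤ) (θ : K → ℂ) :
    coef (combo η s) θ = ∑ φ, (s φ : ℂ) * coef (η φ.1) θ := by
  simp only [coef, kap, d.rhoK_combo, classInner_sum_right, classInner_smul_right, map_intCast,
    Finset.mul_sum, ← Finset.sum_sub_distrib]
  exact Finset.sum_congr rfl fun φ _ => by ring

theorem cI_combo [Fintype K] (s : Fst W₁ W₂ → ℤ) (θ : Cfsg.IrrCharacter K) :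
    cI (combo η s) θ = ∑ φ, s φ * cI (η φ.1) θ := by
  have h : ((cI (combo η s) θ : ℤ) : ℂ) = ((∑ φ, s φ * cI (η φ.1) θ : ℤ) : ℂ) := by
    rw [d.coe_cI (d.combo_good hη s), d.coef_combo]
    push_cast
    exact Finset.sum_congr rfl fun φ _ => by rw [d.coe_cI (d.eta_good hη φ)]
  exact_mod_cast h

open scoped Classical in
theorem norm_combo (s : Fst W₁ W₂ → ℤ) :
    Cfsg.classInner (combo η s) (combo η s) = ∑ φ, ((s φ : ℂ)) ^ 2 := by
  rw [combo, classInner_sum_left]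
  refine Finset.sum_congr rfl fun φ _ => ?_
  rw [classInner_smul_left, classInner_sum_right, Finset.sum_eq_single φ]
  · rw [classInner_smul_right, hη.orthonormal, if_pos rfl, map_intCast]
    ring
  · intro ψ _ hne
    rw [classInner_smul_right, hη.orthonormal, if_neg fun e => hne (Subtype.ext e.symm), mul_zero]
  · exact fun h => absurd (Finset.mem_univ φ) h

theorem combo_V (s : Fst W₁ W₂ → ℤ) (w : ↥(W₁.map M.subtype ⊔ W₂.map M.subtype))
    (hw : (w : G) ∈ CyclicTI.vset (W₁.map M.subtype) (W₂.map M.subtype)) :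
    combo η s w = ∑ φ, (s φ : ℂ) * (φ.1 w : ℂ) := by
  obtain ⟨-, h1, h2⟩ := CyclicTI.mem_vset.mp hw
  simp only [combo, Finset.sum_apply, Pi.smul_apply, smul_eq_mul]
  exact Finset.sum_congr rfl fun φ _ => by rw [hη.eq_on _ w h1 h2]

omit hη in
open scoped Classical in
/-- `∑_V |∑ s φ|² = (p - 1)(q ∑ s² - (∑ s)²)`. -/
theorem sum_V_sq (s : Fst W₁ W₂ → ℤ) :
    ∑ w ∈ Finset.univ.filter (fun w : ↥(W₁.map M.subtype ⊔ W₂.map M.subtype) =>
      (w : G) ∈ CyclicTI.vset (W₁.map M.subtype) (W₂.map M.subtype)), ‖∑ φ, (s φ : ℂ) * (φ.1 w : ℂ)‖ ^ 2 =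
      ((p : ℝ) - 1) * ((q : ℝ) * ∑ φ, (s φ : ℝ) ^ 2 - (∑ φ, (s φ : ℝ)) ^ 2) := by
  obtain ⟨e, he⟩ := CyclicTI.exists_prodEquiv d.pair
  let f : ↥(W₁.map M.subtype ⊔ W₂.map M.subtype) → ℂ := fun w => ∑ φ, (s φ : ℂ) * (φ.1 w : ℂ)
  have hf : ∀ a b, f (e (a, b)) = f (e (a, 1)) := fun a b => by
    refine Finset.sum_congr rfl fun φ _ => ?_
    have hb : ((e (1, b) : ↥(W₁.map M.subtype ⊔ W₂.map M.subtype)) : G) ∈ W₂.map M.subtype := by simp [he]
    rw [show e (a, b) = e (a, 1) * e (1, b) by rw [← map_mul, Prod.mk_mul_mk, mul_one, one_mul], map_mul,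
      φ.2 _ hb, mul_one]
  have hmem : ∀ a b, ((e (a, b) : ↥(W₁.map M.subtype ⊔ W₂.map M.subtype)) : G) ∈
      CyclicTI.vset (W₁.map M.subtype) (W₂.map M.subtype) ↔ a ≠ 1 ∧ b ≠ 1 := by
    intro a b
    rw [CyclicTI.mem_vset, he]
    constructor
    · rintro ⟨-, h1, h2⟩
      exact ⟨fun h => h2 (by rw [h]; simp), fun h => h1 (by rw [h]; simp)⟩
    · rintro ⟨ha, hb⟩
      refine ⟨(he (a, b)) ▸ (e (a, b)).2, fun h => hb ?_, fun h => ha ?_⟩
      · have : ((b : G)) ∈ W₁.map M.subtype ⊓ W₂.map M.subtype :=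
          ⟨by have := mul_mem (inv_mem a.2) h; rwa [inv_mul_cancel_left] at this, b.2⟩
        rw [d.pair.2.2.1, Subgroup.mem_bot] at this
        exact Subtype.ext this
      · have : ((a : G)) ∈ W₁.map M.subtype ⊓ W₂.map M.subtype :=
          ⟨a.2, by have := mul_mem h (inv_mem b.2); rwa [mul_inv_cancel_right] at this⟩
        rw [d.pair.2.2.1, Subgroup.mem_bot] at this
        exact Subtype.ext this
  have hone : f (e (1, 1)) = ((∑ φ, s φ : ℤ) : ℂ) := by
    simp [f, Prod.mk_one_one]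
  -- the sum over `W`
  have hall : ∑ w, ‖f w‖ ^ 2 = (q : ℝ) * p * ∑ φ, (s φ : ℝ) ^ 2 := by
    have h1 : Cfsg.classInner f f = ∑ φ, ((s φ : ℂ)) ^ 2 := by
      have : f = ∑ φ, (s φ : ℂ) • fun w => (φ.1 w : ℂ) := by
        funext w; simp [f, Finset.sum_apply]
      rw [this, classInner_sum_left]
      refine Finset.sum_congr rfl fun φ _ => ?_
      rw [classInner_smul_left, classInner_sum_right, Finset.sum_eq_single φ]
      · rw [classInner_smul_right, CyclicTI.classInner_hom, if_pos rfl, map_intCast]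
        ring
      · intro ψ _ hne
        rw [classInner_smul_right, CyclicTI.classInner_hom, if_neg fun e => hne (Subtype.ext e.symm), mul_zero]
      · exact fun h => absurd (Finset.mem_univ φ) h
    rw [classInner_self, d.card_W] at h1
    have h2 := congrArg Complex.re h1
    simp only [Complex.ofReal_re, Complex.re_sum, ← Int.cast_pow, Complex.intCast_re] at h2
    have hqp : ((q * p : ℕ) : ℝ) ≠ 0 := by
      have := d.act.three_le_q; have := d.act.three_le_p
      exact_mod_cast Nat.mul_ne_zero (by omega) (by omega)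
    rw [inv_mul_eq_iff_eq_mul₀ hqp] at h2
    rw [h2]
    push_cast
    rfl
  have hW2 : (Fintype.card ↥(W₂.map M.subtype) : ℝ) = p := by
    rw [← Nat.card_eq_fintype_card, Subgroup.card_map_of_injective M.subtype_injective, d.act.cardW₂]
  have hsum1 : ∑ a, ‖f (e (a, 1))‖ ^ 2 = (q : ℝ) * ∑ φ, (s φ : ℝ) ^ 2 := by
    have hp0 : (p : ℝ) ≠ 0 := Nat.cast_ne_zero.mpr d.act.prime.ne_zero
    refine mul_left_cancel₀ hp0 ?_
    calc (p : ℝ) * ∑ a, ‖f (e (a, 1))‖ ^ 2
        = ∑ a, ∑ _b : ↥(W₂.map M.subtype), ‖f (e (a, 1))‖ ^ 2 := by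
          rw [Finset.mul_sum]; exact Finset.sum_congr rfl fun a _ => by rw [Finset.sum_const, Finset.card_univ, nsmul_eq_mul, hW2]
      _ = ∑ w, ‖f w‖ ^ 2 := by
          rw [← e.toEquiv.sum_comp (fun w => ‖f w‖ ^ 2), Fintype.sum_prod_type]
          exact Finset.sum_congr rfl fun a _ => Finset.sum_congr rfl fun b _ =>
            (congrArg (fun z : ℂ => ‖z‖ ^ 2) (hf a b)).symm
      _ = _ := by rw [hall]; ring
  have key : ∑ w ∈ Finset.univ.filter (fun w : ↥(W₁.map M.subtype ⊔ W₂.map M.subtype) =>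
      (w : G) ∈ CyclicTI.vset (W₁.map M.subtype) (W₂.map M.subtype)), ‖f w‖ ^ 2 =
      ∑ ab ∈ (Finset.univ.erase (1 : ↥(W₁.map M.subtype))) ×ˢ (Finset.univ.erase (1 : ↥(W₂.map M.subtype))),
        ‖f (e ab)‖ ^ 2 := by
    refine (Finset.sum_equiv e.toEquiv (fun ab => ?_) fun ab _ => rfl).symm
    obtain ⟨a, b⟩ := ab
    simp only [Finset.mem_product, Finset.mem_erase, Finset.mem_univ, and_true, Finset.mem_filter, true_and]
    exact (hmem a b).symm
  refine key.trans ?_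
  rw [Finset.sum_product, Finset.sum_congr rfl fun a _ => by
    rw [Finset.sum_congr rfl fun b _ => by rw [hf a b], Finset.sum_const, Finset.card_erase_of_mem
      (Finset.mem_univ _), Finset.card_univ, nsmul_eq_mul], ← Finset.mul_sum,
    Finset.sum_erase_eq_sub (Finset.mem_univ _), hsum1, hone]
  have h1 : ((Fintype.card ↥(W₂.map M.subtype) - 1 : ℕ) : ℝ) = (p : ℝ) - 1 := by
    rw [Nat.cast_sub Fintype.card_pos, hW2, Nat.cast_one]
  rw [h1, Complex.norm_intCast, sq_abs, Int.cast_sum]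

open scoped Classical in
/-- The bound for a combination. -/
theorem BB_combo_le [Fintype K] (s : Fst W₁ W₂ → ℤ) :
    BB K (combo η s) ≤
      (q : ℝ) * (∑ φ, (s φ : ℝ) ^ 2) / p + (1 - 1 / (p : ℝ)) * (∑ φ, (s φ : ℝ)) ^ 2 := by
  set χ := combo η s
  have hgood := d.combo_good hη s
  have hcf := IsGeneralizedCharacter.isClassFunction hgood.gen
  refine (d.BB_le hcf).trans ?_
  set S := Finset.univ.filter (· ∈ Dade.supp (pos K) M (Cfsg.supportR M))
  set V := Finset.univ.filter (· ∈ Dade.supp (CyclicTI.vset (W₁.map M.subtype) (W₂.map M.subtype))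
      (W₁.map M.subtype ⊔ W₂.map M.subtype) fun _ => ⊥)
  have hdis : Disjoint S V := Finset.disjoint_left.mpr fun g hg hg' =>
    d.supp_disjoint (Finset.mem_filter.mp hg).2 (Finset.mem_filter.mp hg').2
  have htot : (Nat.card G : ℝ)⁻¹ * ∑ g, ‖χ g‖ ^ 2 = ∑ φ, (s φ : ℝ) ^ 2 := by
    have h := congrArg Complex.re (d.norm_combo hη s)
    rw [classInner_self, Complex.ofReal_re, Complex.re_sum] at h
    rw [h]
    exact Finset.sum_congr rfl fun φ _ => by rw [← Int.cast_pow, Complex.intCast_re, Int.cast_pow]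
  have hle : (Nat.card G : ℝ)⁻¹ * ∑ g ∈ S, ‖χ g‖ ^ 2 ≤
      ∑ φ, (s φ : ℝ) ^ 2 - (Nat.card G : ℝ)⁻¹ * ∑ g ∈ V, ‖χ g‖ ^ 2 := by
    rw [← htot, ← mul_sub]
    refine mul_le_mul_of_nonneg_left ?_ (by positivity)
    rw [le_sub_iff_add_le, ← Finset.sum_union hdis]
    exact Finset.sum_le_sum_of_subset_of_nonneg (Finset.subset_univ _) fun _ _ _ => by positivity
  have hV : (Nat.card G : ℝ)⁻¹ * ∑ g ∈ V, ‖χ g‖ ^ 2 =
      ((q : ℝ) * p)⁻¹ * (((p : ℝ) - 1) * ((q : ℝ) * ∑ φ, (s φ : ℝ) ^ 2 - (∑ φ, (s φ : ℝ)) ^ 2)) := by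
    rw [d.vsum (fun g => ‖χ g‖ ^ 2) (fun g y => congrArg (fun z : ℂ => ‖z‖ ^ 2) (hcf g y)), ← d.sum_V_sq s,
      Nat.cast_mul]
    congr 1
    exact Finset.sum_congr rfl fun w hw =>
      congrArg (fun z : ℂ => ‖z‖ ^ 2) (d.combo_V hη s w (Finset.mem_filter.mp hw).2)
  have hq : (0 : ℝ) < q := by exact_mod_cast Nat.zero_lt_of_lt d.act.one_lt
  have hp : (0 : ℝ) < p := by exact_mod_cast d.act.prime.pos
  refine (mul_le_mul_of_nonneg_left hle hq.le).trans (le_of_eq ?_)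
  rw [hV]
  field_simp
  ring

end Dat

end CfsgLib.OddOrder.Final.Ten
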