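import Cfsg.Agent.Lib.OddOrder.Final.TenOrbit
import Cfsg.Agent.Lib.Char.DadeGen
import Cfsg.Agent.Lib.Char.CyclicTIGalois
import Cfsg.Agent.S1525
import Cfsg.Prelude.Def_OddOrderLocal
import Mathlib

/-!
The coefficients `c χ θ = ⟨τ (Ind θ - θ(1) Ind 1), χ⟩` of a virtual character of `G` with integral values
on the support, and the bound `∑ (c - t e)² = B ≤ q (‖χ‖² - mass on V)`.
-/

set_option autoImplicit false
set_option linter.unusedSectionVars false
set_option linter.style.haveILetI false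

open scoped ComplexConjugate

namespace CfsgLib.OddOrder.Final.Ten

open CfsgLib.Char CfsgLib.Char.Coherence

variable {G : Type*} [Group G] [Fintype G] {M : Subgroup G}

/-- The non-identity elements of a subgroup of `M`, as a set in `G`. -/
def pos (K : Subgroup M) : Set G := (K.map M.subtype : Set G) \ {1}

theorem mem_pos {K : Subgroup M} {a : M} : (a : G) ∈ pos K ↔ a ∈ K ∧ a ≠ 1 := by
  simp only [pos, Set.mem_sdiff, SetLike.mem_coe, Set.mem_singleton_iff]
  constructor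
  · rintro ⟨⟨b, hb, e⟩, h1⟩
    rw [show a = b from Subtype.ext e.symm]
    exact ⟨hb, fun e' => h1 (by rw [← e, e']; rfl)⟩
  · rintro ⟨ha, h1⟩
    exact ⟨⟨a, ha, rfl⟩, fun e => h1 (Subtype.ext e)⟩

theorem exists_of_mem_pos {K : Subgroup M} {g : G} (hg : g ∈ pos K) :
    ∃ a : M, a ∈ K ∧ a ≠ 1 ∧ (a : G) = g := by
  obtain ⟨⟨a, ha, rfl⟩, h1⟩ := hg
  exact ⟨a, ha, fun e => h1 (by rw [e]; rfl), rfl⟩

/-- The configuration of a maximal subgroup with its Dade data and cyclic TI pair. -/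
structure Dat (M : Subgroup G) (K W₁ W₂ : Subgroup M) (q p : ℕ) : Prop where
  act : Act K W₁ W₂ q p
  pair : Cfsg.IsSelfNormalizingCyclic (W₁.map M.subtype) (W₂.map M.subtype)
  dade : Cfsg.DadeHypothesis (pos K) M (Cfsg.supportR M)
  copR : ∀ a ∈ pos K, (Nat.card (Cfsg.supportR M a)).Coprime q

open scoped Classical in
/-- The mean of `χ` on the coset `g R(g)`. -/
noncomputable def avg (M : Subgroup G) (χ : G → ℂ) (g : G) : ℂ :=
  (Nat.card (Cfsg.supportR M g) : ℂ)⁻¹ * ∑ u : Cfsg.supportR M g, χ (g * u)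

open scoped Classical in
/-- The projection of `χ` to `M`. -/
noncomputable def rho (K : Subgroup M) (χ : G → ℂ) : M → ℂ :=
  fun a => if (a : G) ∈ pos K then avg M χ a else 0

/-- The restriction of the projection to `K`. -/
noncomputable def rhoK (K : Subgroup M) (χ : G → ℂ) : K → ℂ := fun a => rho K χ a

variable {K W₁ W₂ : Subgroup M} [hK : K.Normal] {q p : ℕ}

/-- `⟨θ, ρ χ⟩`. -/
noncomputable def kap [Fintype K] (χ : G → ℂ) (θ : K → ℂ) : ℂ := Cfsg.classInner θ (rhoK K χ)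

/-- The coefficient `⟨θ - θ(1), ρ χ⟩`. -/
noncomputable def coef [Fintype K] (χ : G → ℂ) (θ : K → ℂ) : ℂ :=
  kap χ θ - θ 1 * kap χ (fun _ : K => (1 : ℂ))

/-- The coefficient as an integer. -/
noncomputable def cI [Fintype K] (χ : G → ℂ) (θ : Cfsg.IrrCharacter K) : ℤ :=
  ⌊(coef χ (θ : K → ℂ)).re⌋

/-- `- ⟨1, ρ χ⟩`. -/
noncomputable def tt (K : Subgroup M) [Fintype K] (χ : G → ℂ) : ℝ := -(kap χ (fun _ : K => (1 : ℂ))).re

/-- `‖ρ χ‖²` on `K`. -/
noncomputable def BB (K : Subgroup M) [Fintype K] (χ : G → ℂ) : ℝ :=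
  (Nat.card K : ℝ)⁻¹ * ∑ a : K, ‖rhoK K χ a‖ ^ 2

/-- Virtual characters with integral values on the support. -/
structure Good (K : Subgroup M) (χ : G → ℂ) : Prop where
  gen : Cfsg.IsGeneralizedCharacter G χ
  int : ∀ g ∈ Dade.supp (pos K) M (Cfsg.supportR M), ∃ n : ℤ, χ g = n

theorem coset_mem_supp {a : M} (ha : (a : G) ∈ pos K) {u : G} (hu : u ∈ Cfsg.supportR M a) :
    (a : G) * u ∈ Dade.supp (pos K) M (Cfsg.supportR M) :=
  ⟨a, ha, 1, u, hu, by simp⟩

theorem avg_eq (χ : G → ℂ) (g : G) [Fintype (Cfsg.supportR M g)] :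
    avg M χ g = (Nat.card (Cfsg.supportR M g) : ℂ)⁻¹ * ∑ u : Cfsg.supportR M g, χ (g * u) := by
  unfold avg
  congr 1
  exact Finset.sum_congr (Finset.ext fun _ => by simp) fun _ _ => rfl

namespace Dat

variable (d : Dat M K W₁ W₂ q p)
include d

theorem card_M : Nat.card M = q * Nat.card K := by
  have h := Subgroup.IsComplement'.card_mul (Subgroup.isComplement'_of_disjoint_and_mul_eq_univ
    (disjoint_iff.mpr d.act.inf) (by rw [← Subgroup.normal_mul, d.act.sup, Subgroup.coe_top]))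
  rw [← h, d.act.cardW₁, mul_comm]

/-- Elements of the support have order prime to `q`. -/
theorem supp_coprime {g : G} (hg : g ∈ Dade.supp (pos K) M (Cfsg.supportR M)) : (orderOf g).Coprime q := by
  obtain ⟨a, ha, x, u, hu, e⟩ := hg
  have ho : orderOf g = orderOf ((a : G) * u) := by
    rw [← e]
    exact (orderOf_injective (MulAut.conj x).toMonoidHom (MulEquiv.injective _) g).symm
  have hcom : Commute (a : G) u := Dade.comm_of_mem d.dade ha hu
  have hdvd : orderOf g ∣ orderOf (a : G) * orderOf u := by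
    rw [ho]
    exact hcom.orderOf_mul_dvd_lcm.trans (Nat.lcm_dvd_mul _ _)
  refine Nat.Coprime.coprime_dvd_left hdvd (Nat.Coprime.mul_left ?_ ?_)
  · rw [Subgroup.orderOf_coe]
    exact (d.act.cop.coprime_dvd_right (Subgroup.orderOf_dvd_natCard _ (mem_pos.mp ha).1)).symm
  · exact (d.copR _ ha).coprime_dvd_left (Subgroup.orderOf_dvd_natCard _ hu)

theorem avg_integral {χ : G → ℂ} (hχ : Cfsg.IsGeneralizedCharacter G χ) {a : M} (ha : (a : G) ∈ pos K) :
    IsIntegral ℤ (avg M χ a) := by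
  classical
  obtain ⟨α, β, hα, hβ, rfl⟩ := hχ
  set R := Cfsg.supportR M (a : G) with hR
  have hN : ∀ n : Subgroup.zpowers (a : G), ∀ u ∈ R,
      (Subgroup.zpowers (a : G)).subtype n * u * ((Subgroup.zpowers (a : G)).subtype n)⁻¹ ∈ R := by
    rintro ⟨n, hn⟩ u hu
    refine d.dade.conj_mem_H _ ha n ?_ u hu
    obtain ⟨i, rfl⟩ := Subgroup.mem_zpowers_iff.mp hn
    exact Subgroup.zpow_mem _ (Subgroup.mem_centralizer_singleton_iff.mpr rfl) i
  have key : ∀ θ : G → ℂ, Cfsg.IsCharacter G θ → IsIntegral ℤ (avg M θ (a : G)) := by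
    intro θ hθ
    have hav := Dade.isCharacter_avg hθ (Subgroup.zpowers (a : G)).subtype R hN
    have := IsCharacter.isIntegral hav ⟨(a : G), Subgroup.mem_zpowers _⟩
    rw [avg_eq]
    convert this using 2
    exact Finset.sum_congr rfl fun u _ => congrArg θ (Dade.comm_of_mem d.dade ha u.2)
  have : avg M (α - β) (a : G) = avg M α a - avg M β a := by
    simp only [avg_eq, Pi.sub_apply, Finset.sum_sub_distrib, mul_sub]
  rw [this]
  exact (key α hα).sub (key β hβ)

theorem rho_int {χ : G → ℂ} (hχ : Good K χ) (a : M) : ∃ n : ℤ, rho K χ a = n := by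
  classical
  unfold rho
  split_ifs with ha
  · choose m hm using fun u : Cfsg.supportR M (a : G) => hχ.int _ (coset_mem_supp ha u.2)
    refine exists_int_of_isIntegral_rat (d.avg_integral hχ.gen ha)
      (q := (Nat.card (Cfsg.supportR M (a : G)) : ℚ)⁻¹ * ∑ u, (m u : ℚ)) ?_
    rw [avg_eq]
    push_cast
    simp only [hm]
  · exact ⟨0, by simp⟩

theorem rho_real {χ : G → ℂ} (hχ : Good K χ) (a : M) : conj (rho K χ a) = rho K χ a := by
  obtain ⟨n, hn⟩ := d.rho_int hχ a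
  rw [hn, map_intCast]

theorem rho_conj {χ : G → ℂ} (hχ : Cfsg.IsClassFunction G χ) (a x : M) :
    rho K χ (x * a * x⁻¹) = rho K χ a := by
  classical
  have hiff : ((x * a * x⁻¹ : M) : G) ∈ pos K ↔ (a : G) ∈ pos K := by
    rw [mem_pos, mem_pos, ne_eq, ne_eq, conj_eq_one_iff]
    refine and_congr_left fun _ => ⟨fun h => ?_, fun h => hK.conj_mem _ h x⟩
    have := hK.conj_mem _ h x⁻¹
    simpa [mul_assoc] using this
  unfold rho
  by_cases ha : (a : G) ∈ pos K
  · rw [if_pos ha, if_pos (hiff.mpr ha), avg_eq, avg_eq]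
    have hxa := hiff.mpr ha
    simp only [Subgroup.coe_mul, Subgroup.coe_inv] at hxa ⊢
    have back : ∀ u ∈ Cfsg.supportR M ((x : G) * a * (x : G)⁻¹), (x : G)⁻¹ * u * x ∈ Cfsg.supportR M (a : G) := by
      intro u hu
      have := Dade.conj_mem_H' d.dade hxa (inv_mem x.2) hu
      simpa [mul_assoc] using this
    let e : Cfsg.supportR M (a : G) ≃ Cfsg.supportR M ((x : G) * a * (x : G)⁻¹) :=
      { toFun := fun u => ⟨(x : G) * u * (x : G)⁻¹, Dade.conj_mem_H' d.dade ha x.2 u.2⟩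
        invFun := fun u => ⟨(x : G)⁻¹ * u * x, back u u.2⟩
        left_inv := fun u => Subtype.ext (show (x : G)⁻¹ * ((x : G) * u * (x : G)⁻¹) * x = u by group)
        right_inv := fun u => Subtype.ext (show (x : G) * ((x : G)⁻¹ * u * x) * (x : G)⁻¹ = u by group) }
    rw [Nat.card_congr e]
    congr 1
    refine (Fintype.sum_equiv e _ _ fun u => ?_).symm
    show χ ((a : G) * u) = χ ((x : G) * a * (x : G)⁻¹ * ((x : G) * u * (x : G)⁻¹))
    rw [show (x : G) * a * (x : G)⁻¹ * ((x : G) * u * (x : G)⁻¹) = (x : G) * ((a : G) * u) * (x : G)⁻¹ by group]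
    exact (hχ _ _).symm
  · rw [if_neg ha, if_neg fun h => ha (hiff.mp h)]

theorem rho_isClassFunction {χ : G → ℂ} (hχ : Cfsg.IsClassFunction G χ) :
    Cfsg.IsClassFunction M (rho K χ) := fun a x => d.rho_conj hχ a x

theorem rhoK_isClassFunction {χ : G → ℂ} (hχ : Cfsg.IsClassFunction G χ) [Fintype K] :
    Cfsg.IsClassFunction K (rhoK K χ) := fun a x => d.rho_conj hχ a x

variable [Fintype M] [Fintype K]

theorem kap_conj {χ : G → ℂ} (hχ : Good K χ) (θ : K → ℂ) :
    conj (kap χ θ) = kap χ (fun a => conj (θ a)) := by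
  simp only [kap, Cfsg.classInner, map_mul, map_inv₀, map_natCast, map_sum, rhoK, Complex.conj_conj]
  congr 1
  exact Finset.sum_congr rfl fun a _ => by rw [d.rho_real hχ]

theorem kap_one {χ : G → ℂ} (hχ : Good K χ) : kap χ (fun _ : K => (1 : ℂ)) = -(tt K χ : ℂ) := by
  have := d.kap_conj hχ (fun _ : K => (1 : ℂ))
  simp only [map_one] at this
  rw [tt, Complex.ofReal_neg, neg_neg, Complex.conj_eq_iff_re.mp this]

theorem coef_conjG {χ : G → ℂ} (hχ : Cfsg.IsClassFunction G χ) (θ : K → ℂ) (x : M) :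
    coef χ (conjG θ x) = coef χ θ := by
  have h1 : conjG θ x 1 = θ 1 := by
    rw [conjG_apply]
    simp only [OneMemClass.coe_one, mul_one, mul_inv_cancel]
    rfl
  have h2 : rhoK K χ = conjG (rhoK K χ) x := funext fun a => (d.rho_conj hχ a x).symm
  simp only [coef, kap, h1]
  congr 1
  nth_rw 1 [h2]
  exact classInner_conjG _ _ x

theorem cI_cjI {χ : G → ℂ} (hχ : Cfsg.IsClassFunction G χ) (θ : Cfsg.IrrCharacter K) (x : M) :
    cI χ (cjI θ x) = cI χ θ := by
  unfold cI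
  rw [coe_cjI, d.coef_conjG hχ]

/-- The function `Ind (θ - θ(1))`. -/
theorem coef_eq_inner {χ : G → ℂ} (hχ : Cfsg.IsClassFunction G χ) (θ : K → ℂ) :
    coef χ θ = Cfsg.classInner
      (Cfsg.dadeIsometry (pos K) M (Cfsg.supportR M) (Cfsg.indFun K (θ - θ 1 • fun _ => (1 : ℂ)))) χ := by
  classical
  set f : K → ℂ := θ - θ 1 • fun _ => (1 : ℂ) with hf
  have hsupp : ∀ x : M, (x : G) ∉ pos K → Cfsg.indFun K f x = 0 := by
    intro x hx
    by_cases hxK : x ∈ K
    · obtain rfl : x = 1 := by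
        by_contra h1
        exact hx (mem_pos.mpr ⟨hxK, h1⟩)
      rw [indFun_one]
      simp [hf]
    · exact indFun_eq_zero_of_normal K _ hxK
  rw [Dade.classInner_dade' d.dade (indFun_isClassFunction K _) hsupp hχ (rho K χ)
    (fun a ha => by simp only [rho, if_pos ha]; exact avg_eq χ _),
    classInner_indFun K _ (d.rho_isClassFunction hχ), hf, classInner_sub_left, classInner_smul_left]
  rfl

theorem indFun_sub_gen (θ : Cfsg.IrrCharacter K) : Cfsg.IsGeneralizedCharacter M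
    (Cfsg.indFun K ((θ : K → ℂ) - (θ : K → ℂ) 1 • fun _ => (1 : ℂ))) := by
  refine IsGeneralizedCharacter.indFun K ⟨_, _, IsIrrCharacter.isCharacter θ.2,
    IsCharacter.nsmul isCharacter_one (natDeg (θ : K → ℂ)), ?_⟩
  rw [natDeg_spec θ.2, Nat.cast_smul_eq_nsmul]

theorem coef_int {χ : G → ℂ} (hχ : Good K χ) (θ : Cfsg.IrrCharacter K) :
    ∃ n : ℤ, coef χ (θ : K → ℂ) = n := by
  classical
  rw [d.coef_eq_inner (IsGeneralizedCharacter.isClassFunction hχ.gen)]
  refine IsGeneralizedCharacter.classInner_int (Dade.isGeneralizedCharacter_dade d.dade (d.indFun_sub_gen θ)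
    fun x hx => ?_) hχ.gen
  by_cases hxK : x ∈ K
  · obtain rfl : x = 1 := by
      by_contra h1
      exact hx (mem_pos.mpr ⟨hxK, h1⟩)
    rw [indFun_one]
    simp
  · exact indFun_eq_zero_of_normal K _ hxK

theorem coe_cI {χ : G → ℂ} (hχ : Good K χ) (θ : Cfsg.IrrCharacter K) :
    (cI χ θ : ℂ) = coef χ (θ : K → ℂ) := by
  obtain ⟨n, hn⟩ := d.coef_int hχ θ
  rw [cI, hn, Complex.intCast_re, Int.floor_intCast]

theorem kap_eq {χ : G → ℂ} (hχ : Good K χ) (θ : Cfsg.IrrCharacter K) :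
    kap χ (θ : K → ℂ) = (((cI χ θ : ℝ) - tt K χ * natDeg (θ : K → ℂ) : ℝ) : ℂ) := by
  push_cast
  rw [d.coe_cI hχ, coef, d.kap_one hχ, natDeg_spec θ.2]
  ring

theorem cI_barI {χ : G → ℂ} (hχ : Good K χ) (θ : Cfsg.IrrCharacter K) :
    cI χ (barI θ) = cI χ θ := by
  have h := d.kap_conj hχ (θ : K → ℂ)
  rw [show (fun a => conj ((θ : K → ℂ) a)) = (barI θ : K → ℂ) from rfl, d.kap_eq hχ, d.kap_eq hχ,
    Complex.conj_ofReal, natDeg_barI, Complex.ofReal_inj] at h
  exact_mod_cast (sub_left_injective h).symm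

theorem cI_one {χ : G → ℂ} (θ : Cfsg.IrrCharacter K) (h1 : (θ : K → ℂ) = fun _ => 1) : cI χ θ = 0 := by
  unfold cI
  simp [coef, h1]

/-- `∑ (c - t e)² = B`. -/
theorem parseval {χ : G → ℂ} (hχ : Good K χ) :
    ∑ θ : Cfsg.IrrCharacter K, ((cI χ θ : ℝ) - tt K χ * natDeg (θ : K → ℂ)) ^ 2 = BB K χ := by
  classical
  have hcf := d.rhoK_isClassFunction (IsGeneralizedCharacter.isClassFunction hχ.gen)
  have h := classInner_eq_sum_irr hcf (rhoK K χ)
  have hterm : ∀ θ : Cfsg.IrrCharacter K, Cfsg.classInner (rhoK K χ) (θ : K → ℂ) *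
      Cfsg.classInner (θ : K → ℂ) (rhoK K χ) =
        ((((cI χ θ : ℝ) - tt K χ * natDeg (θ : K → ℂ)) ^ 2 : ℝ) : ℂ) := by
    intro θ
    rw [← classInner_conj_symm]
    show conj (kap χ (θ : K → ℂ)) * kap χ (θ : K → ℂ) = _
    rw [d.kap_eq hχ, Complex.conj_ofReal]
    push_cast
    ring
  rw [Finset.sum_congr rfl fun θ _ => hterm θ, ← Complex.ofReal_sum, classInner_self, Complex.ofReal_inj] at h
  rw [← h, BB]

theorem sum_le_BB {χ : G → ℂ} (hχ : Good K χ) (s : Finset (Cfsg.IrrCharacter K)) :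
    ∑ θ ∈ s, ((cI χ θ : ℝ) - tt K χ * natDeg (θ : K → ℂ)) ^ 2 ≤ BB K χ := by
  rw [← d.parseval hχ]
  exact Finset.sum_le_sum_of_subset_of_nonneg (Finset.subset_univ _) fun _ _ _ => sq_nonneg _

theorem vdade : Cfsg.DadeHypothesis (CyclicTI.vset (W₁.map M.subtype) (W₂.map M.subtype))
    (W₁.map M.subtype ⊔ W₂.map M.subtype) fun _ => ⊥ := by
  set A := CyclicTI.vset (W₁.map M.subtype) (W₂.map M.subtype)
  have hsub : ∀ a ∈ A, a ∈ W₁.map M.subtype ⊔ W₂.map M.subtype := fun a ha => (CyclicTI.mem_vset.mp ha).1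
  have hcomm : ∀ a ∈ A, ∀ x ∈ W₁.map M.subtype ⊔ W₂.map M.subtype, x * a * x⁻¹ = a := fun a ha x hx => by
    have := congrArg Subtype.val (CyclicTI.mul_comm' d.pair ⟨x, hx⟩ ⟨a, hsub a ha⟩)
    simp only [Subgroup.coe_mul] at this
    rw [this, mul_inv_cancel_right]
  have hcent : ∀ a ∈ A, Subgroup.centralizer ({a} : Set G) ≤ W₁.map M.subtype ⊔ W₂.map M.subtype :=
    fun a ha c hc => CyclicTI.ti d.pair c a ha (by
      rw [Subgroup.mem_centralizer_singleton_iff.mp hc, mul_inv_cancel_right]; exact ha)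
  exact ⟨fun h1 => (CyclicTI.mem_vset.mp h1).2.1 (one_mem _), hsub,
    fun x hx a ha => (hcomm a ha x hx).symm ▸ ha,
    fun a ha g hg => ⟨g, CyclicTI.ti d.pair g a ha hg, rfl⟩,
    fun a _ => bot_le, fun a _ c _ u hu => by
      rw [Subgroup.mem_bot] at hu ⊢
      simp [hu],
    fun a _ => bot_inf_eq _,
    fun a ha => by rw [bot_sup_eq, inf_eq_right.mpr (hcent a ha)],
    fun a _ b _ => by simp⟩

theorem vset_order {v : G} (hv : v ∈ CyclicTI.vset (W₁.map M.subtype) (W₂.map M.subtype)) :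
    ¬ (orderOf v).Coprime q ∧ p ∣ orderOf v := by
  obtain ⟨hvW, h1, h2⟩ := CyclicTI.mem_vset.mp hv
  obtain ⟨e, he⟩ := CyclicTI.exists_prodEquiv d.pair
  obtain ⟨⟨a, b⟩, hab⟩ := e.surjective ⟨v, hvW⟩
  have hv' : v = (a : G) * b := (congrArg Subtype.val hab).symm.trans (he (a, b))
  have ha : (a : G) ≠ 1 := fun h => h2 (by rw [hv', h, one_mul]; exact b.2)
  have hb : (b : G) ≠ 1 := fun h => h1 (by rw [hv', h, mul_one]; exact a.2)
  have hca : orderOf (a : G) ∣ q := by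
    rw [← d.act.cardW₁, ← Subgroup.card_map_of_injective M.subtype_injective]
    exact Subgroup.orderOf_dvd_natCard _ a.2
  have hcb : orderOf (b : G) ∣ p := by
    rw [← d.act.cardW₂, ← Subgroup.card_map_of_injective M.subtype_injective]
    exact Subgroup.orderOf_dvd_natCard _ b.2
  have hc : Commute (a : G) (b : G) := d.pair.2.2.2.1 a a.2 b b.2
  have ho : orderOf v = orderOf (a : G) * orderOf (b : G) := by
    rw [hv', hc.orderOf_mul_eq_mul_orderOf_of_coprime ((d.act.coprime_qp.coprime_dvd_left hca).coprime_dvd_right hcb)]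
  rw [ho]
  refine ⟨fun hcop => ha ?_, ?_⟩
  · exact orderOf_eq_one_iff.mp (Nat.eq_one_of_dvd_coprimes (hcop.coprime_dvd_left (dvd_mul_right _ _)) dvd_rfl hca)
  · rcases (Nat.dvd_prime d.act.prime).mp hcb with h | h
    · exact absurd (orderOf_eq_one_iff.mp h) hb
    · rw [h]; exact dvd_mul_left _ _

theorem supp_disjoint {g : G} (hg : g ∈ Dade.supp (pos K) M (Cfsg.supportR M)) :
    g ∉ Dade.supp (CyclicTI.vset (W₁.map M.subtype) (W₂.map M.subtype))
      (W₁.map M.subtype ⊔ W₂.map M.subtype) fun _ => ⊥ := by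
  rintro ⟨v, hv, x, u, hu, e⟩
  rw [Subgroup.mem_bot.mp hu, mul_one] at e
  refine (d.vset_order hv).1 ?_
  rw [← e, show orderOf (x * g * x⁻¹) = orderOf g from
    orderOf_injective (MulAut.conj x).toMonoidHom (MulEquiv.injective _) g]
  exact d.supp_coprime hg

open scoped Classical in
/-- Sums over the conjugates of `V`. -/
theorem vsum {R : Type*} [Field R] [CharZero R] (F : G → R) (hF : ∀ g y : G, F (y * g * y⁻¹) = F g) :
    (Nat.card G : R)⁻¹ * ∑ g ∈ Finset.univ.filter (· ∈ Dade.supp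
      (CyclicTI.vset (W₁.map M.subtype) (W₂.map M.subtype)) (W₁.map M.subtype ⊔ W₂.map M.subtype) fun _ => ⊥), F g =
    ((q * p : ℕ) : R)⁻¹ * ∑ w ∈ Finset.univ.filter (fun w : ↥(W₁.map M.subtype ⊔ W₂.map M.subtype) =>
      (w : G) ∈ CyclicTI.vset (W₁.map M.subtype) (W₂.map M.subtype)), F w := by
  have h := Dade.sum_supp d.vdade F hF
  have hcard : Nat.card ↥(W₁.map M.subtype ⊔ W₂.map M.subtype) = q * p := by
    obtain ⟨e, -⟩ := CyclicTI.exists_prodEquiv d.pair
    rw [← Nat.card_congr e.toEquiv, Nat.card_prod, Subgroup.card_map_of_injective M.subtype_injective,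
      Subgroup.card_map_of_injective M.subtype_injective, d.act.cardW₁, d.act.cardW₂]
  have hG : (Nat.card G : R) ≠ 0 := Nat.cast_ne_zero.mpr Nat.card_pos.ne'
  have hW : (Nat.card ↥(W₁.map M.subtype ⊔ W₂.map M.subtype) : R) ≠ 0 := Nat.cast_ne_zero.mpr Nat.card_pos.ne'
  rw [← hcard, inv_mul_eq_iff_eq_mul₀ hG, mul_left_comm, eq_inv_mul_iff_mul_eq₀ hW, h]
  congr 1
  refine Finset.sum_congr rfl fun a _ => ?_
  rw [Subgroup.card_bot, Nat.cast_one, inv_one, one_mul]
  have hb : ∀ {_ : Fintype (⊥ : Subgroup G)} (f : (⊥ : Subgroup G) → R), ∑ u, f u = f 1 := fun {_} f =>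
    Fintype.sum_eq_single 1 fun b hb => absurd (Subtype.ext (Subgroup.mem_bot.mp b.2)) hb
  refine (hb _).trans ?_
  simp

open scoped Classical in
/-- `B ≤ q (‖χ‖² - mass on V)`. -/
theorem BB_le {χ : G → ℂ} (hcf : Cfsg.IsClassFunction G χ) :
    BB K χ ≤ (q : ℝ) * ((Nat.card G : ℝ)⁻¹ * ∑ g ∈ Finset.univ.filter
      (· ∈ Dade.supp (pos K) M (Cfsg.supportR M)), ‖χ g‖ ^ 2) := by
  have h := Cfsg.Agent.S1525.result (pos K) M (Cfsg.supportR M) d.dade χ hcf (rho K χ) fun a ha => by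
    rw [rho, if_pos ha, avg_eq, ← finsum_set_coe_eq_finsum_mem, finsum_eq_sum_of_fintype]
    rfl
  have hset : {g : G | ∃ a ∈ pos K, ∃ u ∈ Cfsg.supportR M a, ∃ x : G, x * g * x⁻¹ = a * u} =
      Dade.supp (pos K) M (Cfsg.supportR M) := by
    ext g
    constructor
    · rintro ⟨a, ha, u, hu, x, e⟩
      obtain ⟨b, hb, hb1, rfl⟩ := exists_of_mem_pos ha
      exact ⟨b, ha, x, u, hu, e⟩
    · rintro ⟨a, ha, x, u, hu, e⟩
      exact ⟨a, ha, u, hu, x, e⟩
  rw [hset, finsum_mem_eq_toFinset_sum, finsum_mem_eq_toFinset_sum, Set.toFinset_ofPred] at h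
  rw [show (Dade.supp (pos K) M (Cfsg.supportR M)).toFinset =
    Finset.univ.filter (· ∈ Dade.supp (pos K) M (Cfsg.supportR M)) from by ext g; simp] at h
  have hM : (Nat.card M : ℝ) = (q : ℝ) * Nat.card K := by exact_mod_cast d.card_M
  have hsum : ∑ a ∈ Finset.univ.filter (fun a : M => (a : G) ∈ pos K), ‖rho K χ a‖ ^ 2 =
      ∑ a : K, ‖rhoK K χ a‖ ^ 2 := by
    rw [Finset.sum_filter_of_ne fun a _ hne => by
      by_contra hn
      exact hne (by simp [rho, hn])]
    rw [← Finset.sum_filter_of_ne (p := fun a : M => a ∈ K) fun a _ hne => ?_]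
    · exact Finset.sum_subtype _ (fun a => by simp) _
    · by_contra hn
      exact hne (by simp [rho, mem_pos, hn])
  rw [hsum, hM] at h
  have hq : (0 : ℝ) < q := by exact_mod_cast Nat.zero_lt_of_lt d.act.one_lt
  calc BB K χ = (q : ℝ) * (((q : ℝ) * Nat.card K)⁻¹ * ∑ a : K, ‖rhoK K χ a‖ ^ 2) := by
        rw [BB, mul_inv]; field_simp
    _ ≤ _ := mul_le_mul_of_nonneg_left h hq.le

end Dat

end CfsgLib.OddOrder.Final.Ten
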