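import Cfsg.Agent.Lib.OddOrder.Final.TenMargin

/-!
What is used about a maximal subgroup of Type V: the interface between the group theory and the analytic
argument.
-/

set_option autoImplicit false

namespace CfsgLib.OddOrder.Final.Ten

variable {G : Type*} [Group G] [Fintype G]

/-- The data found at a maximal subgroup of Type V. -/
structure Found (M : Subgroup G) (K W₁ W₂ : Subgroup M) (q p : ℕ) (T D H : Subgroup G) (u : ℕ) : Prop where
  dat : Dat M K W₁ W₂ q p
  side : Side K W₁ W₂ q p T D H u
  two_p_lt : 2 * p < u
  supportR : ∀ g ∈ pos K, Cfsg.supportR M g = ⊥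
  ti : Cfsg.IsTISubset ((K.map M.subtype : Subgroup G) : Set G)
  normalizer : Subgroup.normalizer ((K.map M.subtype : Subgroup G) : Set G) = M
  sylow : IsPGroup p K → ∃ P : Sylow p G, (P : Subgroup G) = K.map M.subtype

end CfsgLib.OddOrder.Final.Ten
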