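import Cfsg.Agent.Lib.OddOrder.Final.TenOut
import Cfsg.Agent.Lib.Char.CentralTICongruence
import Cfsg.Agent.Lib.CharDeep.Galois.ComplexAut
import Mathlib

/-!
When the Fitting core is a `p`-group TI subset, the sum `∑ c θ(1)` over the characters nontrivial on a
central subgroup is an integral multiple of the weight.
-/

set_option autoImplicit false
set_option linter.unusedSectionVars false
set_option linter.style.haveILetI false

open scoped ComplexConjugate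

namespace CfsgLib.OddOrder.Final.Ten

open CfsgLib.Char CfsgLib.Char.Coherence

/-- An automorphism acting on the roots of unity as a power moves values to that power. -/
theorem map_eq_pow {X : Type*} [Group X] [Finite X] {χ : X → ℂ} (hχ : Cfsg.IsGeneralizedCharacter X χ)
    (g : X) (σ : ℂ →+* ℂ) (j : ℕ) (h : ∀ r : ℂ, r ^ orderOf g = 1 → σ r = r ^ j) :
    σ (χ g) = χ (g ^ j) := by
  have key : ∀ θ : X → ℂ, Cfsg.IsCharacter X θ → σ (θ g) = θ (g ^ j) := by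
    intro θ hθ
    classical
    obtain ⟨n, ρ, rfl⟩ := hθ
    obtain ⟨μ, hμ, hk⟩ := exists_eigenvalues ρ g
    have h1 := hk 1
    rw [pow_one] at h1
    rw [h1, hk, map_sum]
    exact Finset.sum_congr rfl fun i _ => by rw [pow_one, h _ (hμ i)]
  obtain ⟨α, β, hα, hβ, rfl⟩ := hχ
  rw [Pi.sub_apply, Pi.sub_apply, map_sub, key α hα, key β hβ]

/-- A rational value is the value at every coprime power. -/
theorem eq_apply_pow {X : Type*} [Group X] [Finite X] {χ : X → ℂ} (hχ : Cfsg.IsGeneralizedCharacter X χ)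
    (g : X) {n : ℤ} (hn : χ g = n) {j : ℕ} (hj : j.Coprime (orderOf g)) : χ (g ^ j) = χ g := by
  have hm := (orderOf_pos g).ne'
  have hζ := Complex.isPrimitiveRoot_exp (orderOf g) hm
  obtain ⟨σ, hσ⟩ := CfsgLib.CharDeep.Galois.exists_ringEquiv_primitive hm hζ (hζ.pow_of_coprime j hj)
  have h := map_eq_pow hχ g σ.toRingHom j fun r hr => by
    haveI : NeZero (orderOf g) := ⟨hm⟩
    obtain ⟨i, -, rfl⟩ := hζ.eq_pow_of_pow_eq_one hr
    show σ _ = _
    rw [map_pow, hσ, ← pow_mul, ← pow_mul, Nat.mul_comm]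
  rw [← h, hn]
  exact map_intCast _ n

variable {G : Type*} [Group G] [Fintype G] {M : Subgroup G} {K W₁ W₂ : Subgroup M} [hK : K.Normal] {q p : ℕ}

namespace Dat

variable [Fintype M] [Fintype K] (d : Dat M K W₁ W₂ q p)
include d

theorem rhoK_self (hR : ∀ g ∈ pos K, Cfsg.supportR M g = ⊥) (χ : G → ℂ) (a : K) (ha : a ≠ 1) :
    rhoK K χ a = χ (a : M) := by
  classical
  have hpos : ((a : M) : G) ∈ pos K := mem_pos.mpr ⟨a.2, fun e => ha (Subtype.ext e)⟩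
  haveI : Subsingleton (Cfsg.supportR M ((a : M) : G)) := by
    rw [hR _ hpos]; infer_instance
  simp only [rhoK, rho, if_pos hpos, avg_eq]
  rw [Nat.card_eq_one_iff_unique.mpr ⟨inferInstance, inferInstance⟩, Nat.cast_one, inv_one, one_mul,
    Fintype.sum_subsingleton _ (1 : Cfsg.supportR M ((a : M) : G))]
  simp

theorem rhoK_expand {χ : G → ℂ} (hχ : Good K χ) (a : K) :
    rhoK K χ a = ∑ θ : Cfsg.IrrCharacter K,
      (((cI χ θ : ℝ) - tt K χ * natDeg (θ : K → ℂ) : ℝ) : ℂ) * (θ : K → ℂ) a := by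
  have h := congrFun (IsClassFunction.eq_sum_irr
    (d.rhoK_isClassFunction (IsGeneralizedCharacter.isClassFunction hχ.gen))) a
  rw [h, Finset.sum_apply]
  refine Finset.sum_congr rfl fun θ _ => ?_
  rw [Pi.smul_apply, smul_eq_mul, ← classInner_conj_symm, show Cfsg.classInner (θ : K → ℂ) (rhoK K χ) =
    kap χ (θ : K → ℂ) from rfl, d.kap_eq hχ, Complex.conj_ofReal]

theorem kap_one_split (hR : ∀ g ∈ pos K, Cfsg.supportR M g = ⊥) {χ : G → ℂ} (hχ : Good K χ) :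
    ∃ m n : ℤ, χ 1 = n ∧ (tt K χ : ℂ) = (n : ℂ) / Nat.card K - m := by
  classical
  have hgK : Cfsg.IsGeneralizedCharacter K fun a : K => χ (a : M) := by
    obtain ⟨α, β, hα, hβ, rfl⟩ := hχ.gen
    exact ⟨_, _, IsCharacter.comp hα (M.subtype.comp K.subtype), IsCharacter.comp hβ (M.subtype.comp K.subtype), rfl⟩
  obtain ⟨m, hm⟩ := IsGeneralizedCharacter.classInner_int hgK (IsCharacter.isGeneralizedCharacter (isCharacter_one (G := K)))
  obtain ⟨n, hn⟩ : ∃ n : ℤ, χ 1 = n := by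
    obtain ⟨α, β, hα, hβ, rfl⟩ := hχ.gen
    obtain ⟨a, ha⟩ := IsCharacter.apply_one_eq hα
    obtain ⟨b, hb⟩ := IsCharacter.apply_one_eq hβ
    exact ⟨(a : ℤ) - b, by simp [ha, hb]⟩
  refine ⟨m, n, hn, ?_⟩
  have hk : (Nat.card K : ℂ) ≠ 0 := Nat.cast_ne_zero.mpr Nat.card_pos.ne'
  have hreal : ∀ a : K, conj (rhoK K χ a) = rhoK K χ a := fun a => d.rho_real hχ _
  have h1 := d.kap_one hχ
  simp only [kap, Cfsg.classInner, one_mul, hreal] at h1
  rw [classInner_fun_one_right] at hm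
  have hsum : ∑ a, rhoK K χ a = ∑ a : K, χ (a : M) - χ 1 := by
    rw [← Finset.add_sum_erase _ _ (Finset.mem_univ (1 : K)), ← Finset.add_sum_erase _ _ (Finset.mem_univ (1 : K)),
      show rhoK K χ 1 = 0 by simp [rhoK, rho, pos], show χ ((1 : K) : M) = χ 1 by simp]
    rw [Finset.sum_congr rfl fun a ha => d.rhoK_self hR χ a (Finset.ne_of_mem_erase ha)]
    ring
  rw [hsum, hn, mul_sub, hm] at h1
  field_simp at h1 ⊢
  linear_combination h1

open scoped Classical in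
theorem sum_Z_theta {Z : Subgroup M} [Z.Normal] (θ : Cfsg.IrrCharacter K) :
    ∑ a ∈ Finset.univ.filter (fun a : K => (a : M) ∈ Z), (θ : K → ℂ) a =
      if TrivOn K Z (θ : K → ℂ) then ((Finset.univ.filter (fun a : K => (a : M) ∈ Z)).card : ℂ) *
        natDeg (θ : K → ℂ) else 0 := by
  split_ifs with h
  · rw [Finset.sum_congr rfl fun a ha => (h a (Finset.mem_filter.mp ha).2).trans (natDeg_spec θ.2),
      Finset.sum_const, nsmul_eq_mul]
  · by_contra hne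
    exact h (Act.trivOn_of_sum_ne_zero θ.2 Z hne)

/-- **Integrality.** -/
theorem sOut_int [Fact p.Prime] (hR : ∀ g ∈ pos K, Cfsg.supportR M g = ⊥) (P : Sylow p G)
    (hP : (P : Subgroup G) = K.map M.subtype) (hTI : Cfsg.IsTISubset ((P : Subgroup G) : Set G))
    (hN : Subgroup.normalizer ((P : Subgroup G) : Set G) = M) (Z : Subgroup M) [Z.Normal] (hZK : Z ≤ K)
    (hZ : Z ≠ ⊥) (hZc : ∀ z ∈ Z, ∀ k ∈ K, z * k = k * z) {χ : G → ℂ} (hχ : Good K χ)
    (hirr : Cfsg.IsIrrCharacter G χ ∨ Cfsg.IsIrrCharacter G (-χ))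
    (hconst : ∀ a b : M, a ∈ Z → b ∈ Z → a ≠ 1 → b ≠ 1 → χ (a : G) = χ (b : G)) :
    ∃ s : ℤ, sOut K ⊥ Z χ = s * (wt K ⊥ Z : ℤ) := by
  classical
  obtain ⟨z₀, hz₀, hz₀1⟩ := (Subgroup.bot_or_exists_ne_one Z).resolve_left hZ
  -- the congruence
  obtain ⟨n, hn, hdvd⟩ : ∃ n : ℤ, χ (z₀ : G) = n ∧ ∀ d' : ℤ, χ 1 = d' → (Nat.card K : ℤ) ∣ d' - n := by
    have hodd : Odd (Nat.card (Subgroup.normalizer ((P : Subgroup G) : Set G))) := hN ▸ d.act.odd
    have hZP : Z.map M.subtype ≤ (P : Subgroup G) := hP ▸ Subgroup.map_mono hZK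
    have hZn : ∀ x ∈ Subgroup.normalizer ((P : Subgroup G) : Set G), ∀ z ∈ Z.map M.subtype,
        x * z * x⁻¹ ∈ Z.map M.subtype := by
      rw [hN]
      rintro x hx _ ⟨z, hz, rfl⟩
      exact ⟨⟨x, hx⟩ * z * (⟨x, hx⟩ : M)⁻¹, ‹Z.Normal›.conj_mem z hz _, rfl⟩
    have hZc' : ∀ z ∈ Z.map M.subtype, ∀ y ∈ (P : Subgroup G), z * y = y * z := by
      rw [hP]
      rintro _ ⟨z, hz, rfl⟩ _ ⟨y, hy, rfl⟩
      exact congrArg Subtype.val (hZc z hz y hy)
    have hcard : Nat.card (P : Subgroup G) = Nat.card K := by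
      rw [hP, Subgroup.card_map_of_injective M.subtype_injective]
    have key : ∀ ψ : G → ℂ, Cfsg.IsIrrCharacter G ψ →
        (∀ a b : M, a ∈ Z → b ∈ Z → a ≠ 1 → b ≠ 1 → ψ (a : G) = ψ (b : G)) →
        ∃ n : ℤ, ψ (z₀ : G) = n ∧ ∀ d' : ℤ, ψ 1 = d' → (Nat.card K : ℤ) ∣ d' - n := by
      intro ψ hψ hc
      obtain ⟨n, d', h1, h2, h3⟩ := CentralTI.exists_int_congr P hTI hodd (Z.map M.subtype) hZP hZn hZc' hψ
        (by
          rintro _ ⟨a, ha, rfl⟩ _ ⟨b, hb, rfl⟩ ha1 hb1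
          exact hc a b ha hb (fun e => ha1 (by rw [e]; rfl)) (fun e => hb1 (by rw [e]; rfl)))
        (z₀ : G) ⟨z₀, hz₀, rfl⟩ (fun e => hz₀1 (Subtype.ext e))
      rw [hcard] at h3
      refine ⟨n, h1, fun d'' h => ?_⟩
      rw [show d'' = d' by exact_mod_cast h.symm.trans h2]
      exact h3
    rcases hirr with h | h
    · exact key χ h hconst
    · obtain ⟨n, h1, h2⟩ := key (-χ) h fun a b ha hb ha1 hb1 => by
        simp only [Pi.neg_apply, hconst a b ha hb ha1 hb1]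
      refine ⟨-n, by rw [Int.cast_neg, ← h1, Pi.neg_apply, neg_neg], fun d' hd' => ?_⟩
      have := dvd_neg.mpr (h2 (-d') (by rw [Pi.neg_apply, hd', Int.cast_neg]))
      rwa [show -(-d' - n) = d' - -n by ring] at this
  obtain ⟨m, n₁, hn₁, htt⟩ := d.kap_one_split hR hχ
  obtain ⟨j, hj⟩ := hdvd n₁ hn₁
  refine ⟨j - m, ?_⟩
  -- the sum over `Z`
  set ZF := Finset.univ.filter (fun a : K => (a : M) ∈ Z) with hZF
  set z : ℕ := ZF.card with hz
  have h1mem : (1 : K) ∈ ZF := Finset.mem_filter.mpr ⟨Finset.mem_univ _, Z.one_mem⟩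
  have hrho1 : rhoK K χ 1 = 0 := by simp [rhoK, rho, pos]
  have hA : ∑ a ∈ ZF, rhoK K χ a = ((z : ℂ) - 1) * n := by
    rw [← Finset.add_sum_erase _ _ h1mem, hrho1, zero_add,
      Finset.sum_congr rfl fun a ha => show rhoK K χ a = (n : ℂ) by
        obtain ⟨ha1, ha2⟩ := Finset.mem_erase.mp ha
        rw [d.rhoK_self hR χ a ha1, ← hn]
        exact hconst (a : M) z₀ (Finset.mem_filter.mp ha2).2 hz₀ (fun e => ha1 (Subtype.ext e)) hz₀1,
      Finset.sum_const, Finset.card_erase_of_mem h1mem, nsmul_eq_mul, ← hz,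
      Nat.cast_sub (Finset.card_pos.mpr ⟨1, h1mem⟩), Nat.cast_one]
  set κ : Cfsg.IrrCharacter K → ℂ := fun θ => (((cI χ θ : ℝ) - tt K χ * natDeg (θ : K → ℂ) : ℝ) : ℂ) with hκ
  set I := Finset.univ.filter fun θ : Cfsg.IrrCharacter K => TrivOn K Z (θ : K → ℂ) with hI
  have hO : outSet K ⊥ Z = Finset.univ.filter fun θ : Cfsg.IrrCharacter K => ¬ TrivOn K Z (θ : K → ℂ) := by
    refine Finset.filter_congr fun θ _ => and_iff_right fun a ha => ?_
    rw [show a = 1 from Subtype.ext (Subgroup.mem_bot.mp ha)]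
  have hB : ∑ a ∈ ZF, rhoK K χ a = (z : ℂ) * ∑ θ ∈ I, κ θ * natDeg (θ : K → ℂ) := by
    rw [Finset.sum_congr rfl fun a _ => d.rhoK_expand hχ a, Finset.sum_comm, Finset.mul_sum, hI, Finset.sum_filter]
    refine Finset.sum_congr rfl fun θ _ => ?_
    rw [← Finset.mul_sum, d.sum_Z_theta θ]
    split_ifs
    · rw [hκ]; ring
    · rw [mul_zero]
  have hC : ∑ θ ∈ I, κ θ * natDeg (θ : K → ℂ) + ∑ θ ∈ outSet K ⊥ Z, κ θ * natDeg (θ : K → ℂ) = 0 := by
    rw [hO, hI, Finset.sum_filter_add_sum_filter_not, ← hrho1, d.rhoK_expand hχ]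
    exact Finset.sum_congr rfl fun θ _ => by rw [natDeg_spec θ.2]
  have hD : ∑ θ ∈ outSet K ⊥ Z, κ θ * natDeg (θ : K → ℂ) =
      (sOut K ⊥ Z χ : ℂ) - (tt K χ : ℂ) * (wt K ⊥ Z : ℂ) := by
    rw [sOut, wt, Int.cast_sum, Nat.cast_sum, Finset.mul_sum, ← Finset.sum_sub_distrib]
    refine Finset.sum_congr rfl fun θ _ => ?_
    rw [hκ]
    push_cast
    ring
  have hw := wt_add (K := K) (Y := (⊥ : Subgroup M)) (Z := Z) bot_le hZK
  have hzcard : z = Nat.card (Z.subgroupOf K) := by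
    rw [hz, Nat.card_eq_fintype_card, hZF, ← Fintype.card_subtype]
    exact Fintype.card_congr (Equiv.subtypeEquivRight fun a => Subgroup.mem_subgroupOf.symm)
  have hkz : z * Z.relIndex K = Nat.card K := by
    rw [hzcard]; exact (Z.subgroupOf K).card_mul_index
  rw [Subgroup.relIndex_bot_left] at hw
  have hwC : (wt K ⊥ Z : ℂ) + (Z.relIndex K : ℂ) = (Nat.card K : ℂ) := by exact_mod_cast hw
  have hkC : (z : ℂ) * (Z.relIndex K : ℂ) = (Nat.card K : ℂ) := by exact_mod_cast hkz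
  have hjC : (n₁ : ℂ) - n = (Nat.card K : ℂ) * j := by exact_mod_cast hj
  have hk0 : (Nat.card K : ℂ) ≠ 0 := Nat.cast_ne_zero.mpr Nat.card_pos.ne'
  have hz0 : (z : ℂ) ≠ 0 := Nat.cast_ne_zero.mpr (Finset.card_pos.mpr ⟨1, h1mem⟩).ne'
  have hkey : (sOut K ⊥ Z χ : ℂ) = ((j : ℂ) - m) * (wt K ⊥ Z : ℂ) := by
    have e1 : ((z : ℂ) - 1) * n = -(z : ℂ) * ((sOut K ⊥ Z χ : ℂ) - (tt K χ : ℂ) * (wt K ⊥ Z : ℂ)) := by
      rw [← hA, hB, ← hD, eq_neg_of_add_eq_zero_left hC]; ring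
    have hW : (wt K ⊥ Z : ℂ) * z = ((z : ℂ) - 1) * Nat.card K := by
      linear_combination (z : ℂ) * hwC - hkC
    have e2 : ((z : ℂ) - 1) * n * Nat.card K =
        -(z : ℂ) * ((Nat.card K : ℂ) * (sOut K ⊥ Z χ : ℂ) - ((n₁ : ℂ) - m * Nat.card K) * (wt K ⊥ Z : ℂ)) := by
      rw [e1, htt]
      field_simp
    refine mul_left_cancel₀ (mul_ne_zero hz0 hk0) ?_
    linear_combination e2 + (n : ℂ) * hW + (z : ℂ) * (wt K ⊥ Z : ℂ) * hjC
  have : ((sOut K ⊥ Z χ : ℤ) : ℂ) = (((j - m) * (wt K ⊥ Z : ℤ) : ℤ) : ℂ) := by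
    push_cast; exact hkey
  exact_mod_cast this

end Dat

end CfsgLib.OddOrder.Final.Ten
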