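import Cfsg.Agent.Lib.OddOrder.Final.TenValues
import Cfsg.Agent.Lib.OddOrder.Final.TenInt
import Mathlib

/-!
The mass of the first-row sum outside the support of `M`: it is odd away from the partner `T`, and has odd
means on the cosets of `T_F` in `A(T)`.
-/

set_option autoImplicit false
set_option linter.unusedSectionVars false
set_option linter.style.haveILetI false

open scoped ComplexConjugate

namespace CfsgLib.OddOrder.Final.Ten

open CfsgLib.Char CfsgLib.Char.Coherence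

variable {G : Type*} [Group G]

/-- The elements of `D` centralising a non-identity element of `H`. -/
def AT (D H : Subgroup G) : Set G := {a | a ∈ D ∧ a ≠ 1 ∧ ∃ x ∈ H, x ≠ 1 ∧ a * x = x * a}

variable [Fintype G] {M : Subgroup G} {K W₁ W₂ : Subgroup M} [hK : K.Normal] {q p : ℕ}

/-- What is used about the partner. -/
structure Side (K W₁ W₂ : Subgroup M) (q p : ℕ) (T D H : Subgroup G) (u : ℕ) : Prop where
  leD : H ≤ D
  leT : D ≤ T
  normH : D ≤ Subgroup.normalizer (H : Set G)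
  cardD : Nat.card D = u * Nat.card H
  cardT : Nat.card T = p * (u * Nat.card H)
  cop : u.Coprime (Nat.card H)
  qdvd : q ∣ Nat.card H
  ti : Cfsg.DadeHypothesis (AT D H) T fun _ => ⊥
  disjS : ∀ g : G, ∀ a ∈ AT D H, ∀ x : G, x * g * x⁻¹ = a → g ∉ Dade.supp (pos K) M (Cfsg.supportR M)
  disjV : ∀ a ∈ AT D H, ¬ p ∣ orderOf a
  rest : ∀ g : G, ¬ (orderOf g).Coprime q →
    g ∈ Dade.supp (AT D H) T (fun _ => ⊥) ∨
      g ∈ Dade.supp (CyclicTI.vset (W₁.map M.subtype) (W₂.map M.subtype)) (W₁.map M.subtype ⊔ W₂.map M.subtype) fun _ => ⊥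

namespace Dat

variable [Fintype M] (d : Dat M K W₁ W₂ q p)
include d

variable {η : (↥(W₁.map M.subtype ⊔ W₂.map M.subtype) →* ℂˣ) → G → ℂ}
  (hη : Cfsg.IsCyclicTIFamily (W₁.map M.subtype) (W₂.map M.subtype) η)
include hη

variable [Fintype (Fst W₁ W₂)]

/-- The first-row sum is integer valued. -/
theorem row_int (g : G) : ∃ n : ℤ, combo η (fun _ : Fst W₁ W₂ => (1 : ℤ)) g = n := by
  classical
  have hint : IsIntegral ℤ (combo η (fun _ : Fst W₁ W₂ => (1 : ℤ)) g) := by
    obtain ⟨α, β, hα, hβ, e⟩ := d.combo_gen hη (fun _ : Fst W₁ W₂ => (1 : ℤ))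
    rw [e, Pi.sub_apply]
    exact (IsCharacter.isIntegral hα g).sub (IsCharacter.isIntegral hβ g)
  refine (exists_rat_of_fixed hint.tower_top fun σ => ?_).elim fun r hr => exists_int_of_isIntegral_rat hint hr
  let S : Fst W₁ W₂ → Fst W₁ W₂ := fun φ => ⟨(Units.map (σ.toRingHom : ℂ →* ℂ)).comp φ.1,
    fun w hw => by rw [MonoidHom.comp_apply, φ.2 w hw, map_one]⟩
  let T : Fst W₁ W₂ → Fst W₁ W₂ := fun φ => ⟨(Units.map (σ.symm.toRingHom : ℂ →* ℂ)).comp φ.1,
    fun w hw => by rw [MonoidHom.comp_apply, φ.2 w hw, map_one]⟩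
  let e : Fst W₁ W₂ ≃ Fst W₁ W₂ :=
    { toFun := S
      invFun := T
      left_inv := fun φ => Subtype.ext (MonoidHom.ext fun w => Units.ext (by simp [S, T]))
      right_inv := fun φ => Subtype.ext (MonoidHom.ext fun w => Units.ext (by simp [S, T])) }
  simp only [combo, Finset.sum_apply, Pi.smul_apply, Int.cast_one, one_smul, map_sum]
  exact Fintype.sum_equiv e _ _ fun φ => CyclicTI.family_map d.pair d.odd_W hη σ φ.1 g

theorem fstInv_ne {φ : Fst W₁ W₂} (hφ : φ ≠ fstOne W₁ W₂) : fstInv φ ≠ φ := by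
  intro e
  apply hφ
  have e' : φ.1⁻¹ = φ.1 := congrArg Subtype.val e
  have h2 : φ.1 ^ 2 = 1 := by
    rw [sq]
    nth_rw 1 [← e']
    exact MonoidHom.ext fun w => inv_mul_cancel (φ.1 w)
  have h4 := Nat.dvd_gcd (orderOf_dvd_of_pow_eq_one h2) (d.fst_order φ)
  rw [Nat.coprime_two_left.mpr d.act.odd_q, Nat.dvd_one, orderOf_eq_one_iff] at h4
  exact Subtype.ext h4

theorem fstInv_ne_one {φ : Fst W₁ W₂} (hφ : φ ≠ fstOne W₁ W₂) : fstInv φ ≠ fstOne W₁ W₂ := fun e => hφ (by
  rw [← fstInv_fstInv φ, e]; exact Subtype.ext (MonoidHom.ext fun w => inv_one))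

open scoped Classical in
/-- A symmetric sum of integers over the first row is congruent to the term at `1`. -/
theorem two_dvd_row (n : Fst W₁ W₂ → ℤ) (hn : ∀ φ, n (fstInv φ) = n φ) :
    (2 : ℤ) ∣ ∑ φ, n φ - n (fstOne W₁ W₂) := by
  rw [← Finset.add_sum_erase _ _ (Finset.mem_univ (fstOne W₁ W₂)), add_sub_cancel_left]
  refine (ZMod.intCast_zmod_eq_zero_iff_dvd _ 2).mp ?_
  rw [Int.cast_sum]
  refine Finset.sum_involution (fun φ _ => fstInv φ) (fun φ _ => ?_)
    (fun φ hφ _ => d.fstInv_ne hη (Finset.ne_of_mem_erase hφ))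
    (fun φ hφ => Finset.mem_erase.mpr ⟨d.fstInv_ne_one hη (Finset.ne_of_mem_erase hφ), Finset.mem_univ _⟩)
    (fun φ _ => fstInv_fstInv φ)
  rw [hn]
  exact CharTwo.add_self_eq_zero _

/-- At elements of order prime to `q` the first-row sum is an odd integer. -/
theorem row_odd {g : G} (hg : (orderOf g).Coprime q) :
    ∃ n : ℤ, combo η (fun _ : Fst W₁ W₂ => (1 : ℤ)) g = n ∧ Odd n := by
  classical
  choose n hn using fun φ : Fst W₁ W₂ => d.eta_int hη φ hg
  refine ⟨∑ φ, n φ, by simp [combo, Finset.sum_apply, hn], ?_⟩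
  have h1 : n (fstOne W₁ W₂) = 1 := by
    have := hn (fstOne W₁ W₂)
    rw [d.coe_one hη] at this
    exact_mod_cast this.symm
  obtain ⟨k, hk⟩ := d.two_dvd_row hη n fun φ => by
    have := d.eta_inv hη φ g
    rw [hn, hn, map_intCast] at this
    exact_mod_cast this
  exact ⟨k, by omega⟩

open scoped Classical in
/-- **The mean on a coset is an odd integer.** -/
theorem coset_avg_odd {D H : Subgroup G} (hDH : D ≤ Subgroup.normalizer (H : Set G)) (hqH : q ∣ Nat.card H)
    {a : G} (ha : a ∈ D) (hcop : ∃ m, a ^ m ∈ H ∧ m.Coprime (Nat.card H) ∧ m ≠ 0) :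
    ∃ A : ℤ, Odd A ∧ (Nat.card H : ℂ)⁻¹ * ∑ x : H, combo η (fun _ : Fst W₁ W₂ => (1 : ℤ)) ((x : G) * a) = A := by
  set h := Nat.card H with hh
  have hh0 : (h : ℂ) ≠ 0 := Nat.cast_ne_zero.mpr Nat.card_pos.ne'
  have hnz : ∀ n : Subgroup.zpowers a, ∀ x ∈ H,
      (Subgroup.zpowers a).subtype n * x * ((Subgroup.zpowers a).subtype n)⁻¹ ∈ H := by
    rintro ⟨n, hn⟩ x hx
    exact (Subgroup.mem_normalizer_iff.mp (Subgroup.zpowers_le.mpr (hDH ha) hn) x).mp hx
  set A : Fst W₁ W₂ → ℂ := fun φ => (h : ℂ)⁻¹ * ∑ x : H, η φ.1 ((x : G) * a) with hA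
  have hAint : ∀ φ, IsIntegral ℤ (A φ) := by
    intro φ
    obtain ⟨α, β, hα, hβ, e⟩ := d.eta_gen hη φ.1
    have e1 := IsCharacter.isIntegral (Dade.isCharacter_avg hα (Subgroup.zpowers a).subtype H hnz) ⟨a, Subgroup.mem_zpowers a⟩
    have e2 := IsCharacter.isIntegral (Dade.isCharacter_avg hβ (Subgroup.zpowers a).subtype H hnz) ⟨a, Subgroup.mem_zpowers a⟩
    have := e1.sub e2
    rw [← mul_sub, ← Finset.sum_sub_distrib] at this
    simp only [hA, e, Pi.sub_apply]
    exact this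
  -- the automorphism
  obtain ⟨m, hmH, hmcop, hm0⟩ := hcop
  obtain ⟨j, hj1, hj2⟩ := Nat.chineseRemainder hmcop 1 (h - 1)
  have hh1 : 1 ≤ h := Nat.card_pos
  have hh1' : Nat.Coprime (h - 1) h := by
    have := (Nat.coprime_self_sub_left (m := 1) (n := h) hh1).mpr (Nat.coprime_one_left h)
    exact this
  have hjcop : j.Coprime (m * h) := Nat.Coprime.mul_right
    (by rw [Nat.Coprime, hj1.gcd_eq]; exact Nat.gcd_one_left m)
    (by rw [Nat.Coprime, hj2.gcd_eq]; exact hh1')
  have hn0 : m * h ≠ 0 := Nat.mul_ne_zero hm0 (by omega)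
  have hζ := Complex.isPrimitiveRoot_exp (m * h) hn0
  obtain ⟨σ, hσ⟩ := CfsgLib.CharDeep.Galois.exists_ringEquiv_primitive hn0 hζ (hζ.pow_of_coprime j hjcop)
  have hroot : ∀ r : ℂ, r ^ (m * h) = 1 → σ r = r ^ j := by
    intro r hr
    haveI : NeZero (m * h) := ⟨hn0⟩
    obtain ⟨i, -, rfl⟩ := hζ.eq_pow_of_pow_eq_one hr
    rw [map_pow, hσ, ← pow_mul, ← pow_mul, Nat.mul_comm j i]
  have hord : ∀ x : H, orderOf ((x : G) * a) ∣ m * h := by
    intro x
    refine orderOf_dvd_of_pow_eq_one ?_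
    have hmem : ∀ i : ℕ, ∃ y ∈ H, ((x : G) * a) ^ i = y * a ^ i := by
      intro i
      induction i with
      | zero => exact ⟨1, H.one_mem, by simp⟩
      | succ i ih =>
        obtain ⟨y, hy, e⟩ := ih
        refine ⟨y * (a ^ i * x * (a ^ i)⁻¹), H.mul_mem hy
          ((Subgroup.mem_normalizer_iff.mp (pow_mem (hDH ha) i) _).mp x.2), ?_⟩
        rw [pow_succ, e, pow_succ]
        group
    obtain ⟨y, hy, e⟩ := hmem m
    rw [pow_mul, e]
    exact orderOf_dvd_iff_pow_eq_one.mp (Subgroup.orderOf_dvd_natCard _ (H.mul_mem hy hmH))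
  have hperm : ∀ x : H, ((x : G) * a) ^ j * a⁻¹ ∈ H := by
    intro x
    have hmem : ∀ i : ℕ, ((x : G) * a) ^ i * (a ^ i)⁻¹ ∈ H := by
      intro i
      induction i with
      | zero => simp
      | succ i ih =>
        rw [show ((x : G) * a) ^ (i + 1) * (a ^ (i + 1))⁻¹ =
          ((x : G) * a) ^ i * (a ^ i)⁻¹ * (a ^ i * x * (a ^ i)⁻¹) by rw [pow_succ, pow_succ]; group]
        exact H.mul_mem ih ((Subgroup.mem_normalizer_iff.mp (pow_mem (hDH ha) i) _).mp x.2)
    obtain ⟨c, hc⟩ : ∃ c : ℤ, (j : ℤ) = 1 + (m : ℤ) * c := by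
      obtain ⟨c, hc⟩ := (Nat.modEq_iff_dvd.mp hj1.symm)
      exact ⟨c, by push_cast at hc ⊢; linarith⟩
    have haj : a ^ j * a⁻¹ ∈ H := by
      rw [← zpow_natCast, hc, add_comm, zpow_add, zpow_one, mul_inv_cancel_right, zpow_mul, zpow_natCast]
      exact H.zpow_mem hmH c
    have := H.mul_mem (hmem j) haj
    rwa [mul_assoc, inv_mul_cancel_left] at this
  let π : H → H := fun x => ⟨((x : G) * a) ^ j * a⁻¹, hperm x⟩
  have hπ : Function.Bijective π := by
    refine (Finite.injective_iff_bijective).mp fun x y hxy => ?_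
    have e : ((x : G) * a) ^ j = ((y : G) * a) ^ j := mul_right_cancel (congrArg Subtype.val hxy)
    obtain ⟨k, hk⟩ : ∃ k : ℕ, j * k ≡ 1 [MOD m * h] := by
      by_cases h1 : m * h = 1
      · exact ⟨0, by rw [h1]; exact Nat.modEq_one⟩
      · obtain ⟨k, hk⟩ := Nat.exists_mul_mod_eq_one_of_coprime hjcop (by omega)
        exact ⟨k, hk.2.trans (Nat.mod_eq_of_lt (by omega)).symm⟩
    have hrec : ∀ z : H, (((z : G) * a) ^ j) ^ k = (z : G) * a := fun z => by
      rw [← pow_mul]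
      conv_rhs => rw [← pow_one ((z : G) * a)]
      exact pow_eq_pow_iff_modEq.mpr (hk.of_dvd (hord z))
    have := congrArg (fun g => g ^ k) e
    simp only [hrec] at this
    exact Subtype.ext (mul_right_cancel this)
  have hAinv : ∀ φ, A (fstInv φ) = A φ := by
    intro φ
    have hS : (Units.map (σ.toRingHom : ℂ →* ℂ)).comp φ.1 = (fstInv φ).1 := by
      refine MonoidHom.ext fun w => Units.ext ?_
      have hr : ((φ.1 w : ℂˣ) : ℂ) ^ h = 1 := by
        have : φ.1 ^ h = 1 := orderOf_dvd_iff_pow_eq_one.mp ((d.fst_order φ).trans hqH)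
        rw [← Units.val_pow_eq_pow_val, ← MonoidHom.pow_apply, this]; simp
      show σ ((φ.1 w : ℂˣ) : ℂ) = (((φ.1 w)⁻¹ : ℂˣ) : ℂ)
      rw [hroot _ (by rw [Nat.mul_comm, pow_mul, hr, one_pow]), Units.val_inv_eq_inv_val]
      refine eq_inv_of_mul_eq_one_left ?_
      have hjh : h ∣ j + 1 := by
        have : 0 ≡ h [MOD h] := (Nat.modEq_zero_iff_dvd.mpr dvd_rfl).symm
        have h2 : j + 1 ≡ h - 1 + 1 [MOD h] := hj2.add_right 1
        rw [Nat.sub_add_cancel hh1] at h2
        exact Nat.modEq_zero_iff_dvd.mp (h2.trans this.symm)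
      obtain ⟨c, hc⟩ := hjh
      rw [← pow_succ, hc, pow_mul, hr, one_pow]
    simp only [hA]
    congr 1
    rw [← Equiv.sum_comp (Equiv.ofBijective π hπ) (fun x : H => η φ.1 ((x : G) * a))]
    refine Finset.sum_congr rfl fun x _ => ?_
    show η (fstInv φ).1 ((x : G) * a) = η φ.1 (((x : G) * a) ^ j * a⁻¹ * a)
    rw [inv_mul_cancel_right, ← map_eq_pow (d.eta_gen hη φ.1) _ σ.toRingHom j
      (fun r hr => hroot r (by obtain ⟨c, hc⟩ := hord x; rw [hc, pow_mul, hr, one_pow])), ← hS]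
    exact (CyclicTI.family_map d.pair d.odd_W hη σ φ.1 _).symm
  -- rationality
  choose n hn using fun x : H => d.row_int hη ((x : G) * a)
  have hsum : (h : ℂ)⁻¹ * ∑ x : H, combo η (fun _ : Fst W₁ W₂ => (1 : ℤ)) ((x : G) * a) = ∑ φ, A φ := by
    simp only [hA, combo, Finset.sum_apply, Pi.smul_apply, Int.cast_one, one_smul]
    rw [Finset.sum_comm, Finset.mul_sum]
  have hA1 : A (fstOne W₁ W₂) = 1 := by
    simp only [hA, d.coe_one hη, Finset.sum_const, Finset.card_univ, nsmul_eq_mul, mul_one,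
      ← Nat.card_eq_fintype_card]
    exact inv_mul_cancel₀ hh0
  obtain ⟨V, hV⟩ := exists_int_of_isIntegral_rat (IsIntegral.sum (fun φ => A φ) (s := Finset.univ) fun φ _ => hAint φ)
    (q := (h : ℚ)⁻¹ * ∑ x, (n x : ℚ)) (by rw [← hsum]; push_cast; simp only [hn])
  refine ⟨V, ?_, hsum.trans hV⟩
  have hhalf : ∃ β : ℂ, IsIntegral ℤ β ∧ ∑ φ, A φ - 1 = 2 * β := by
    obtain ⟨s, hs⟩ : ∃ s : Finset (Fst W₁ W₂), ∀ φ, φ ≠ fstOne W₁ W₂ → (φ ∈ s ↔ fstInv φ ∉ s) := by
      obtain ⟨f⟩ : Nonempty (Fst W₁ W₂ ≃ Fin (Fintype.card (Fst W₁ W₂))) := ⟨Fintype.equivFin _⟩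
      refine ⟨Finset.univ.filter fun φ => f φ < f (fstInv φ), fun φ hφ => ?_⟩
      simp only [Finset.mem_filter, Finset.mem_univ, true_and, fstInv_fstInv, not_lt]
      exact ⟨le_of_lt, fun h => lt_of_le_of_ne h fun e => d.fstInv_ne hη hφ (f.injective e).symm⟩
    set E := Finset.univ.erase (fstOne W₁ W₂)
    refine ⟨∑ φ ∈ E.filter (· ∈ s), A φ, IsIntegral.sum _ fun φ _ => hAint φ, ?_⟩
    rw [← Finset.add_sum_erase _ _ (Finset.mem_univ (fstOne W₁ W₂)), hA1, add_sub_cancel_left,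
      ← Finset.sum_filter_add_sum_filter_not E (· ∈ s), two_mul]
    congr 1
    refine Finset.sum_bij' (fun φ _ => fstInv φ) (fun φ _ => fstInv φ) (fun φ hφ => ?_) (fun φ hφ => ?_)
      (fun φ _ => fstInv_fstInv φ) (fun φ _ => fstInv_fstInv φ) (fun φ _ => (hAinv φ).symm)
    · obtain ⟨h1, h2⟩ := Finset.mem_filter.mp hφ
      have h3 := Finset.ne_of_mem_erase h1
      exact Finset.mem_filter.mpr ⟨Finset.mem_erase.mpr ⟨d.fstInv_ne_one hη h3, Finset.mem_univ _⟩,
        not_not.mp fun h4 => h2 ((hs φ h3).mpr h4)⟩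
    · obtain ⟨h1, h2⟩ := Finset.mem_filter.mp hφ
      have h3 := Finset.ne_of_mem_erase h1
      exact Finset.mem_filter.mpr ⟨Finset.mem_erase.mpr ⟨d.fstInv_ne_one hη h3, Finset.mem_univ _⟩, (hs φ h3).mp h2⟩
  obtain ⟨β, hβ, e⟩ := hhalf
  rw [hV] at e
  obtain ⟨c, hc⟩ := dvd_of_eq_mul (m := 2) two_ne_zero hβ (n := V - 1) (by push_cast; exact e)
  exact ⟨c, by omega⟩

open scoped Classical in
theorem card_supp [Fintype K] : (Nat.card G : ℝ)⁻¹ *
    (Finset.univ.filter (fun g => g ∈ Dade.supp (pos K) M (Cfsg.supportR M))).card =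
      ((Nat.card K : ℝ) - 1) / (q * Nat.card K) := by
  have h := Dade.sum_supp d.dade (fun _ : G => (1 : ℝ)) fun _ _ => rfl
  have hM : (Nat.card M : ℝ) = (q : ℝ) * Nat.card K := by exact_mod_cast d.card_M
  have hone : ∀ a : M, ∀ {inst : Fintype (Cfsg.supportR M (a : G))},
      (Nat.card (Cfsg.supportR M (a : G)) : ℝ)⁻¹ * ∑ _u : Cfsg.supportR M (a : G), (1 : ℝ) = 1 := fun a {_} => by
    rw [Finset.sum_const, Finset.card_univ, nsmul_eq_mul, mul_one, ← Nat.card_eq_fintype_card]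
    exact inv_mul_cancel₀ (Nat.cast_ne_zero.mpr Nat.card_pos.ne')
  rw [Finset.sum_const, nsmul_eq_mul, mul_one, hM, Finset.sum_congr rfl fun a _ => hone a, Finset.sum_const,
    nsmul_eq_mul, mul_one] at h
  have hc : ((Finset.univ.filter fun a : M => (a : G) ∈ pos K).card : ℝ) = (Nat.card K : ℝ) - 1 := by
    have : (Finset.univ.filter fun a : M => (a : G) ∈ pos K).card = (Finset.univ.erase (1 : K)).card := by
      refine (Finset.card_bij (s := Finset.univ.erase (1 : K)) (fun a _ => (a : M)) (fun a ha => ?_) (fun a _ b _ e => Subtype.ext e) fun b hb => ?_).symm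
      · exact Finset.mem_filter.mpr ⟨Finset.mem_univ _, mem_pos.mpr ⟨a.2, fun e => (Finset.mem_erase.mp ha).1 (Subtype.ext e)⟩⟩
      · obtain ⟨h1, h2⟩ := mem_pos.mp (Finset.mem_filter.mp hb).2
        exact ⟨⟨b, h1⟩, Finset.mem_erase.mpr ⟨fun e => h2 (congrArg Subtype.val e), Finset.mem_univ _⟩, rfl⟩
    rw [this, Finset.card_erase_of_mem (Finset.mem_univ _), Finset.card_univ, ← Nat.card_eq_fintype_card,
      Nat.cast_sub Nat.card_pos, Nat.cast_one]
  rw [hc] at h
  have hG : (Nat.card G : ℝ) ≠ 0 := Nat.cast_ne_zero.mpr Nat.card_pos.ne'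
  have hq : (q : ℝ) ≠ 0 := Nat.cast_ne_zero.mpr (Nat.ne_zero_of_lt d.act.one_lt)
  have hk : (Nat.card K : ℝ) ≠ 0 := Nat.cast_ne_zero.mpr Nat.card_pos.ne'
  rw [inv_mul_eq_iff_eq_mul₀ hG, ← mul_div_assoc, eq_div_iff (mul_ne_zero hq hk)]
  linear_combination h

open scoped Classical in
/-- **The margin.** -/
theorem margin [Fintype K] {T D H : Subgroup G} {u : ℕ} (hS : Side K W₁ W₂ q p T D H u) :
    1 / (p : ℝ) - 1 / ((p : ℝ) * q) - 1 / ((p : ℝ) * u) <
      (Nat.card G : ℝ)⁻¹ * ∑ g ∈ Finset.univ.filter (fun g => g ∉ Dade.supp (pos K) M (Cfsg.supportR M)),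
        ‖combo η (fun _ : Fst W₁ W₂ => (1 : ℤ)) g‖ ^ 2 := by
  haveI := Fintype.ofFinite T
  set C := combo η (fun _ : Fst W₁ W₂ => (1 : ℤ)) with hC
  have hCc := IsGeneralizedCharacter.isClassFunction (d.combo_gen hη (fun _ : Fst W₁ W₂ => (1 : ℤ)))
  set Sset := Dade.supp (pos K) M (Cfsg.supportR M)
  set Vset := Dade.supp (CyclicTI.vset (W₁.map M.subtype) (W₂.map M.subtype)) (W₁.map M.subtype ⊔ W₂.map M.subtype) fun _ => ⊥
  set Aset := Dade.supp (AT D H) T (fun _ => ⊥)
  set F : G → ℝ := fun g => ‖C g‖ ^ 2 - 1 with hF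
  set h := Nat.card H with hh
  have hdisA : ∀ g ∈ Aset, g ∉ Sset ∧ g ∉ Vset := by
    rintro g ⟨a, ha, x, y, hy, e⟩
    rw [Subgroup.mem_bot.mp hy, mul_one] at e
    refine ⟨hS.disjS g a ha x e, ?_⟩
    rintro ⟨v, hv, z, w, hw, e'⟩
    rw [Subgroup.mem_bot.mp hw, mul_one] at e'
    refine hS.disjV a ha ?_
    have h1 : orderOf g = orderOf (a : G) := by
      rw [← e]; exact (orderOf_injective (MulAut.conj x).toMonoidHom (MulEquiv.injective _) g).symm
    rw [← h1, ← orderOf_injective (MulAut.conj z).toMonoidHom (MulEquiv.injective _) g]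
    rw [show (MulAut.conj z).toMonoidHom g = z * g * z⁻¹ from rfl, e']
    exact (d.vset_order hv).2
  have hsq : ∀ (z : ℂ) (n : ℤ), z = n → n ≠ 0 → 1 ≤ ‖z‖ ^ 2 := by
    rintro _ n rfl hn
    rw [Complex.norm_intCast, sq_abs]
    have : (1 : ℤ) ≤ n ^ 2 := by nlinarith [Int.one_le_abs hn, sq_abs n]
    exact_mod_cast this
  -- outside the three supports
  have hout : ∀ g, g ∉ Sset → g ∉ Vset → g ∉ Aset → 0 ≤ F g := by
    intro g _ h2 h3
    by_cases hc : (orderOf g).Coprime q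
    · obtain ⟨n, hn, hodd⟩ := d.row_odd hη hc
      simp only [hF, sub_nonneg]
      exact hsq _ n hn fun e => by simp [e] at hodd
    · exact absurd (hS.rest g hc) (by rintro (h | h); exacts [h3 h, h2 h])
  -- on the conjugates of `A(T)`
  set P := Finset.univ.filter (fun a : T => (a : G) ∈ AT D H) with hP
  have hAsum : -((h : ℝ) - 1) ≤ ∑ a ∈ P, F a := by
    rw [← Finset.sum_filter_add_sum_filter_not P (fun a : T => (a : G) ∈ H)]
    have h1 : -((h : ℝ) - 1) ≤ ∑ a ∈ P.filter (fun a : T => (a : G) ∈ H), F a := by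
      have hle : ((P.filter (fun a : T => (a : G) ∈ H)).card : ℝ) ≤ (h : ℝ) - 1 := by
        have : (P.filter (fun a : T => (a : G) ∈ H)).card ≤ (Finset.univ.erase (1 : H)).card := by
          refine Finset.card_le_card_of_injOn (fun a => if ha : (a : G) ∈ H then ⟨a, ha⟩ else 1) (fun a ha => ?_) ?_
          · obtain ⟨ha1, ha2⟩ := Finset.mem_filter.mp (Finset.mem_coe.mp ha)
            simp only [dif_pos ha2, Finset.coe_erase, Finset.coe_univ, Set.mem_sdiff, Set.mem_univ, true_and,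
              Set.mem_singleton_iff]
            exact fun e => (Finset.mem_filter.mp ha1).2.2.1 (congrArg Subtype.val e)
          · intro a ha b hb e
            simp only [dif_pos (Finset.mem_filter.mp (Finset.mem_coe.mp ha)).2,
              dif_pos (Finset.mem_filter.mp (Finset.mem_coe.mp hb)).2] at e
            exact Subtype.ext (congrArg (fun z : H => (z : G)) e)
        rw [Finset.card_erase_of_mem (Finset.mem_univ _), Finset.card_univ, ← Nat.card_eq_fintype_card] at this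
        have h2 : ((P.filter (fun a : T => (a : G) ∈ H)).card : ℝ) ≤ ((h - 1 : ℕ) : ℝ) := by exact_mod_cast this
        rwa [Nat.cast_sub Nat.card_pos, Nat.cast_one] at h2
      have := Finset.card_nsmul_le_sum (P.filter (fun a : T => (a : G) ∈ H)) (fun a : T => F a) (-1)
        fun a _ => by simp only [hF]; linarith [sq_nonneg ‖C (a : G)‖]
      rw [nsmul_eq_mul] at this
      linarith
    set P' := P.filter (fun a : T => (a : G) ∉ H) with hP'
    have h2 : 0 ≤ ∑ a ∈ P', F a := by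
      have hHT : H ≤ T := hS.leD.trans hS.leT
      have hmov : ∀ a ∈ P', ∀ x : H, (⟨(x : G) * a, T.mul_mem (hHT x.2) a.2⟩ : T) ∈ P' := by
        intro a ha x
        obtain ⟨haP, haH⟩ := Finset.mem_filter.mp ha
        obtain ⟨haD, -, y, hy, hy1, hcy⟩ := (Finset.mem_filter.mp haP).2
        have hbH : (x : G) * a ∉ H := fun hb => haH (by
          have := H.mul_mem (H.inv_mem x.2) hb; rwa [inv_mul_cancel_left] at this)
        have hbD : (x : G) * a ∈ D := D.mul_mem (hS.leD x.2) haD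
        refine Finset.mem_filter.mpr ⟨Finset.mem_filter.mpr ⟨Finset.mem_univ _, hbD,
          fun e => hbH (by rw [show (x : G) * a = 1 from e]; exact H.one_mem), ?_⟩, hbH⟩
        set b := (x : G) * (a : G) with hbdef
        by_contra hno
        push Not at hno
        let Φ : H → H := fun z => ⟨(z : G) * (b * (z : G)⁻¹ * b⁻¹),
          H.mul_mem z.2 ((Subgroup.mem_normalizer_iff.mp (hS.normH hbD) _).mp (H.inv_mem z.2))⟩
        have hΦ : Function.Bijective Φ := by
          refine (Finite.injective_iff_bijective).mp fun z w e => ?_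
          have e' : (z : G) * (b * (z : G)⁻¹ * b⁻¹) = (w : G) * (b * (w : G)⁻¹ * b⁻¹) := congrArg Subtype.val e
          have hz : b * ((w : G)⁻¹ * z) = (w : G)⁻¹ * z * b := by
            have e2 := congrArg (fun g => (w : G)⁻¹ * g * b * (z : G)) e'
            simp only [mul_assoc, inv_mul_cancel_left, inv_mul_cancel, mul_one] at e2 ⊢
            exact e2.symm
          by_contra hne
          exact hno _ (H.mul_mem (H.inv_mem w.2) z.2) (fun e2 => hne (Subtype.ext (inv_mul_eq_one.mp e2).symm)) hz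
        obtain ⟨z, hz⟩ := hΦ.2 ⟨(x : G)⁻¹, H.inv_mem x.2⟩
        have hz' : (z : G) * (b * (z : G)⁻¹ * b⁻¹) = (x : G)⁻¹ := congrArg Subtype.val hz
        have haz : (a : G) = (z : G) * b * (z : G)⁻¹ := by
          rw [show (a : G) = (x : G)⁻¹ * b from (inv_mul_cancel_left _ _).symm, ← hz']
          group
        refine hno ((z : G)⁻¹ * y * z) (H.mul_mem (H.mul_mem (H.inv_mem z.2) hy) z.2)
          (fun e => hy1 ?_) ?_
        · have := congrArg (fun g => (z : G) * g * (z : G)⁻¹) e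
          simpa [mul_assoc] using this
        · rw [haz] at hcy
          have := congrArg (fun g => (z : G)⁻¹ * g * (z : G)) hcy
          simpa [mul_assoc, hbdef] using this
      have havg : ∀ x : H, ∑ a ∈ P', F ((x : G) * a) = ∑ a ∈ P', F a := by
        intro x
        refine Finset.sum_bij' (fun a _ => (⟨(x : G) * a, T.mul_mem (hHT x.2) a.2⟩ : T))
          (fun a _ => (⟨((x⁻¹ : H) : G) * a, T.mul_mem (hHT (x⁻¹).2) a.2⟩ : T))
          (fun a ha => hmov a ha x) (fun a ha => hmov a ha x⁻¹)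
          (fun a _ => Subtype.ext (by simp)) (fun a _ => Subtype.ext (by simp)) (fun a _ => rfl)
      have hh0 : (0 : ℝ) < h := by exact_mod_cast Nat.card_pos
      refine nonneg_of_mul_nonneg_right (le_of_le_of_eq ?_ (show ∑ x : H, ∑ a ∈ P', F ((x : G) * a) = (h : ℝ) * ∑ a ∈ P', F a by
        rw [Finset.sum_congr rfl fun x _ => havg x, Finset.sum_const, Finset.card_univ, nsmul_eq_mul,
          ← Nat.card_eq_fintype_card])) hh0
      rw [Finset.sum_comm]
      refine Finset.sum_nonneg fun a ha => ?_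
      obtain ⟨haP, -⟩ := Finset.mem_filter.mp ha
      obtain ⟨haD, -⟩ := (Finset.mem_filter.mp haP).2
      have hu0 : u ≠ 0 := fun e => by
        have := hS.cardD
        rw [e, zero_mul] at this
        exact Nat.card_pos.ne' this
      have hpowH : (a : G) ^ u ∈ H := by
        haveI : (H.subgroupOf D).Normal := Subgroup.normal_subgroupOf_of_le_normalizer hS.normH
        have hidx : (H.subgroupOf D).index = u := by
          refine Nat.eq_of_mul_eq_mul_left (Nat.card_pos (α := H.subgroupOf D)) ?_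
          rw [Subgroup.card_mul_index, Nat.card_congr (Subgroup.subgroupOfEquivOfLe hS.leD).toEquiv, hS.cardD, mul_comm]
        have := Subgroup.pow_index_mem (H.subgroupOf D) (⟨a, haD⟩ : D)
        rw [hidx] at this
        exact this
      obtain ⟨A, hA, hAe⟩ := d.coset_avg_odd hη hS.normH hS.qdvd haD ⟨u, hpowH, hS.cop, hu0⟩
      choose n hn using fun x : H => d.row_int hη ((x : G) * a)
      have hA' : ((∑ x, n x : ℤ) : ℝ) = (h : ℝ) * A := by
        have : ((∑ x, n x : ℤ) : ℂ) = (h : ℂ) * A := by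
          rw [← hAe, mul_inv_cancel_left₀ (Nat.cast_ne_zero.mpr Nat.card_pos.ne'), Int.cast_sum]
          exact Finset.sum_congr rfl fun x _ => (hn x).symm
        exact_mod_cast this
      have hsum : ∑ x : H, F ((x : G) * a) = ∑ x : H, ((n x : ℝ) ^ 2) - h := by
        simp only [hF, Finset.sum_sub_distrib, Finset.sum_const, Finset.card_univ, nsmul_eq_mul, mul_one,
          ← Nat.card_eq_fintype_card, hC, hn, Complex.norm_intCast, sq_abs]
        rfl
      rw [hsum, sub_nonneg]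
      have hcs := sq_sum_le_card_mul_sum_sq (s := (Finset.univ : Finset H)) (f := fun x => (n x : ℝ))
      rw [Finset.card_univ, ← Nat.card_eq_fintype_card, ← Int.cast_sum, hA', mul_pow, sq (h : ℝ), mul_assoc] at hcs
      have hA1 : (1 : ℝ) ≤ (A : ℝ) ^ 2 := by
        have : (1 : ℤ) ≤ A ^ 2 := by
          have h0 : A ≠ 0 := fun e => by simp [e] at hA
          nlinarith [Int.one_le_abs h0, sq_abs A]
        exact_mod_cast this
      have := le_of_mul_le_mul_left hcs hh0
      nlinarith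
    linarith
  have hAt : -((h : ℝ) - 1) / (Nat.card T : ℝ) ≤ (Nat.card G : ℝ)⁻¹ * ∑ g ∈ Finset.univ.filter (· ∈ Aset), F g := by
    have he := Dade.sum_supp hS.ti F fun g y => by simp only [hF, hC, hCc g y]
    have hG : (0 : ℝ) < Nat.card G := by exact_mod_cast Nat.card_pos
    have hT : (0 : ℝ) < Nat.card T := by exact_mod_cast Nat.card_pos
    have hb : ∀ a : T, ∀ {inst : Fintype (⊥ : Subgroup G)},
        (Nat.card (⊥ : Subgroup G) : ℝ)⁻¹ * ∑ y : (⊥ : Subgroup G), F ((a : G) * y) = F a := fun a {_} => by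
      rw [Subgroup.card_bot, Nat.cast_one, inv_one, one_mul,
        Fintype.sum_eq_single 1 fun b hb => absurd (Subtype.ext (Subgroup.mem_bot.mp b.2)) hb]
      simp
    replace he := he.trans (congrArg _ (Finset.sum_congr rfl fun a _ => hb a))
    rw [div_le_iff₀ hT, mul_assoc, mul_comm (∑ g ∈ _, F g), le_inv_mul_iff₀ hG]
    rw [show (Nat.card T : ℝ) * ∑ g ∈ Finset.univ.filter (· ∈ Aset), F g = (Nat.card G : ℝ) * ∑ a ∈ P, F a from he]
    exact mul_le_mul_of_nonneg_left hAsum hG.le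
  -- assembling
  set R := Finset.univ.filter (fun g => g ∉ Sset) with hR
  set R' := R.filter (fun g => g ∉ Vset) with hR'
  have hAR : Finset.univ.filter (· ∈ Aset) ⊆ R' := fun g hg => by
    obtain ⟨h1, h2⟩ := hdisA g (Finset.mem_filter.mp hg).2
    exact Finset.mem_filter.mpr ⟨Finset.mem_filter.mpr ⟨Finset.mem_univ _, h1⟩, h2⟩
  have hFR : ∑ g ∈ Finset.univ.filter (· ∈ Aset), F g ≤ ∑ g ∈ R', F g :=
    Finset.sum_le_sum_of_subset_of_nonneg hAR fun g hg hn => by
      obtain ⟨hg1, hg2⟩ := Finset.mem_filter.mp hg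
      exact hout g (Finset.mem_filter.mp hg1).2 hg2 fun e => hn (Finset.mem_filter.mpr ⟨Finset.mem_univ _, e⟩)
  have hcount : (Nat.card G : ℝ)⁻¹ * (R'.card : ℝ) =
      1 - ((Nat.card K : ℝ) - 1) / (q * Nat.card K) - ((q : ℝ) - 1) * ((p : ℝ) - 1) / (q * p) := by
    have hV := d.vsum (fun _ : G => (1 : ℝ)) fun _ _ => rfl
    rw [Finset.sum_const, Finset.sum_const, nsmul_eq_mul, nsmul_eq_mul, mul_one, mul_one] at hV
    have hw := d.sum_V_sq (W₁ := W₁) (W₂ := W₂) fun φ => if φ = fstOne W₁ W₂ then (1 : ℤ) else 0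
    have hw' : ((Finset.univ.filter (fun w : ↥(W₁.map M.subtype ⊔ W₂.map M.subtype) =>
        (w : G) ∈ CyclicTI.vset (W₁.map M.subtype) (W₂.map M.subtype))).card : ℝ) = ((p : ℝ) - 1) * ((q : ℝ) - 1) := by
      have hsing : ∀ {R : Type} [CommRing R] (f : Fst W₁ W₂ → R),
          ∑ φ, ((if φ = fstOne W₁ W₂ then (1 : ℤ) else 0 : ℤ) : R) * f φ = f (fstOne W₁ W₂) := fun f => by
        rw [Fintype.sum_eq_single (fstOne W₁ W₂) fun φ hφ => by rw [if_neg hφ, Int.cast_zero, zero_mul], if_pos rfl,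
          Int.cast_one, one_mul]
      have h2 : ∑ φ : Fst W₁ W₂, ((if φ = fstOne W₁ W₂ then (1 : ℤ) else 0 : ℤ) : ℝ) ^ 2 = 1 := by
        rw [Fintype.sum_eq_single (fstOne W₁ W₂) fun φ hφ => by rw [if_neg hφ]; norm_num, if_pos rfl]
        norm_num
      have h3 : ∑ φ : Fst W₁ W₂, ((if φ = fstOne W₁ W₂ then (1 : ℤ) else 0 : ℤ) : ℝ) = 1 := by
        rw [Fintype.sum_eq_single (fstOne W₁ W₂) fun φ hφ => by rw [if_neg hφ]; norm_num, if_pos rfl]
        norm_num
      simp only [hsing, h2, h3] at hw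
      simpa [fstOne] using hw
    rw [hw', Nat.cast_mul] at hV
    have hpart : (Finset.univ : Finset G).card = (Finset.univ.filter (· ∈ Sset)).card + (Finset.univ.filter (· ∈ Vset)).card + R'.card := by
      rw [← Finset.card_filter_add_card_filter_not (s := (Finset.univ : Finset G)) (fun g => g ∈ Sset), add_assoc,
        ← hR, ← Finset.card_filter_add_card_filter_not (s := R) (fun g => g ∈ Vset), hR']
      congr 3
      ext g
      simp only [hR, Finset.mem_filter, Finset.mem_univ, true_and]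
      exact ⟨fun h => h.2, fun h => ⟨fun h' => d.supp_disjoint h' h, h⟩⟩
    have hG : (Nat.card G : ℝ) ≠ 0 := Nat.cast_ne_zero.mpr Nat.card_pos.ne'
    have hp' : (Nat.card G : ℝ) = ((Finset.univ.filter (· ∈ Sset)).card : ℝ) +
        ((Finset.univ.filter (· ∈ Vset)).card : ℝ) + (R'.card : ℝ) := by
      rw [Nat.card_eq_fintype_card, ← Finset.card_univ]; exact_mod_cast hpart
    have h1 := d.card_supp hη (K := K)
    have : (Nat.card G : ℝ)⁻¹ * (R'.card : ℝ) = 1 - (Nat.card G : ℝ)⁻¹ * ((Finset.univ.filter (· ∈ Sset)).card : ℝ) -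
        (Nat.card G : ℝ)⁻¹ * ((Finset.univ.filter (· ∈ Vset)).card : ℝ) := by
      field_simp
      linarith
    rw [this, h1, hV, mul_comm ((p : ℝ) - 1)]
    ring
  have hlow : (Nat.card G : ℝ)⁻¹ * ∑ g ∈ R', F g + (Nat.card G : ℝ)⁻¹ * (R'.card : ℝ) ≤
      (Nat.card G : ℝ)⁻¹ * ∑ g ∈ R, ‖C g‖ ^ 2 := by
    rw [← mul_add]
    refine mul_le_mul_of_nonneg_left ?_ (by positivity)
    simp only [hF, Finset.sum_sub_distrib, Finset.sum_const, nsmul_eq_mul, mul_one, sub_add_cancel]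
    exact Finset.sum_le_sum_of_subset_of_nonneg (Finset.filter_subset _ _) fun _ _ _ => by positivity
  refine lt_of_lt_of_le ?_ hlow
  rw [hcount]
  have hT : (Nat.card T : ℝ) = (p : ℝ) * ((u : ℝ) * h) := by rw [hh]; exact_mod_cast hS.cardT
  have hu : (0 : ℝ) < u := by
    refine Nat.cast_pos.mpr (Nat.pos_of_ne_zero fun e => ?_)
    have := hS.cardD
    rw [e, zero_mul] at this
    exact Nat.card_pos.ne' this
  have hp : (0 : ℝ) < p := by exact_mod_cast d.act.prime.pos
  have hq : (0 : ℝ) < q := by exact_mod_cast Nat.zero_lt_of_lt d.act.one_lt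
  have hk : (0 : ℝ) < Nat.card K := by exact_mod_cast Nat.card_pos
  have hh0 : (0 : ℝ) < h := by exact_mod_cast Nat.card_pos
  have hAle := hAt.trans (mul_le_mul_of_nonneg_left hFR (by positivity))
  rw [hT] at hAle
  have e1 : -((h : ℝ) - 1) / ((p : ℝ) * ((u : ℝ) * h)) = -(1 / ((p : ℝ) * u)) + 1 / ((p : ℝ) * u * h) := by
    field_simp; ring
  have e2 : 1 - ((Nat.card K : ℝ) - 1) / (q * Nat.card K) - ((q : ℝ) - 1) * ((p : ℝ) - 1) / (q * p) =
      1 / (p : ℝ) - 1 / ((p : ℝ) * q) + 1 / ((q : ℝ) * Nat.card K) := by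
    field_simp; ring
  rw [e2]
  rw [e1] at hAle
  have : (0 : ℝ) < 1 / ((p : ℝ) * u * h) := by positivity
  have : (0 : ℝ) < 1 / ((q : ℝ) * Nat.card K) := by positivity
  linarith

end Dat

end CfsgLib.OddOrder.Final.Ten
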