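import Cfsg.Agent.Lib.OddOrder.Final.TenBase
import Cfsg.Agent.Lib.Char.Perm
import Mathlib

/-!
Orbits of `W₁` and of complex conjugation on the irreducible characters of `K`.
-/

set_option autoImplicit false
set_option linter.unusedSectionVars false
set_option linter.style.haveILetI false

open scoped ComplexConjugate

namespace CfsgLib.OddOrder.Final.Ten

open CfsgLib.Char CfsgLib.Char.Coherence

/-- In a group of odd order only the principal character is real. -/
theorem eq_one_of_conj_eq {X : Type*} [Group X] [Fintype X] (hodd : Odd (Nat.card X))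
    (θ : Cfsg.IrrCharacter X) (hθ : ∀ g, conj ((θ : X → ℂ) g) = (θ : X → ℂ) g) :
    (θ : X → ℂ) = fun _ => 1 := by
  classical
  have hcls : Subsingleton {C : ConjClasses X // ∀ g : X, ConjClasses.mk g = C → IsConj g g⁻¹} := by
    have key : ∀ C : {C : ConjClasses X // ∀ g : X, ConjClasses.mk g = C → IsConj g g⁻¹},
        C.1 = ConjClasses.mk 1 := by
      rintro ⟨C, hC⟩
      obtain ⟨g, rfl⟩ := ConjClasses.exists_rep C
      obtain ⟨h, hh⟩ := isConj_iff.mp (hC g rfl)
      obtain ⟨j, hj⟩ : Odd (orderOf h) := hodd.of_dvd_nat (orderOf_dvd_natCard h)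
      have h2 : Commute (h ^ 2) g := by
        have : h * (h * g * h⁻¹) * h⁻¹ = g := by
          rw [hh, ← conj_inv, hh, inv_inv]
        calc h ^ 2 * g = (h * (h * g * h⁻¹) * h⁻¹) * h ^ 2 := by simp [sq, mul_assoc]
          _ = g * h ^ 2 := by rw [this]
      have hcomm : Commute h g := by
        have := h2.pow_left (j + 1)
        rwa [← pow_mul, show 2 * (j + 1) = orderOf h + 1 by omega, pow_succ, pow_orderOf_eq_one,
          one_mul] at this
      rw [hcomm.eq, mul_inv_cancel_right] at hh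
      have hg2 : orderOf g ∣ 2 := orderOf_dvd_of_pow_eq_one (by rw [sq]; nth_rw 1 [hh]; exact inv_mul_cancel g)
      have hg : orderOf g = 1 := by
        rcases (Nat.dvd_prime Nat.prime_two).mp hg2 with h1 | h1
        · exact h1
        · have := hodd.of_dvd_nat (orderOf_dvd_natCard g)
          rw [h1] at this
          exact absurd this (by decide)
      exact congrArg ConjClasses.mk (orderOf_eq_one_iff.mp hg)
    exact ⟨fun a b => Subtype.ext ((key a).trans (key b).symm)⟩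
  have hirr : Subsingleton {χ : Cfsg.IrrCharacter X // ∀ g : X, ((χ : X → ℂ) g).im = 0} := by
    rw [← Finite.card_le_one_iff_subsingleton, card_real_irr]
    exact Finite.card_le_one_iff_subsingleton.mpr hcls
  have := congrArg (fun s : {χ : Cfsg.IrrCharacter X // ∀ g : X, ((χ : X → ℂ) g).im = 0} => (s.1 : X → ℂ))
    (hirr.elim ⟨θ, fun g => Complex.conj_eq_iff_im.mp (hθ g)⟩ ⟨⟨fun _ => 1, isIrrCharacter_one⟩, fun g => by simp⟩)
  exact this

variable {L : Type*} [Group L] [Fintype L] {K W₁ W₂ : Subgroup L} [hK : K.Normal] {q p : ℕ}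

/-- The conjugate of an irreducible character under a group element. -/
noncomputable def cjI [Fintype K] (θ : Cfsg.IrrCharacter K) (g : L) : Cfsg.IrrCharacter K :=
  ⟨conjG (θ : K → ℂ) g, IsIrrCharacter.conjG θ.2 g⟩

/-- The complex conjugate of an irreducible character. -/
noncomputable def barI [Fintype K] (θ : Cfsg.IrrCharacter K) : Cfsg.IrrCharacter K :=
  ⟨fun a => conj ((θ : K → ℂ) a), IsIrrCharacter.conj' θ.2⟩

theorem coe_cjI [Fintype K] (θ : Cfsg.IrrCharacter K) (g : L) :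
    (cjI θ g : K → ℂ) = conjG (θ : K → ℂ) g := rfl

theorem cjI_cjI [Fintype K] (θ : Cfsg.IrrCharacter K) (a b : L) : cjI (cjI θ a) b = cjI θ (a * b) :=
  Subtype.ext (conjG_mul _ a b)

theorem cjI_one [Fintype K] (θ : Cfsg.IrrCharacter K) : cjI θ (1 : L) = θ := Subtype.ext (conjG_one _)

theorem barI_barI [Fintype K] (θ : Cfsg.IrrCharacter K) : barI (barI θ) = θ :=
  Subtype.ext (funext fun a => Complex.conj_conj _)

theorem barI_cjI [Fintype K] (θ : Cfsg.IrrCharacter K) (g : L) : barI (cjI θ g) = cjI (barI θ) g := rfl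

theorem natDeg_cjI [Fintype K] (θ : Cfsg.IrrCharacter K) (g : L) :
    natDeg (cjI θ g : K → ℂ) = natDeg (θ : K → ℂ) := by
  unfold natDeg
  rw [coe_cjI, conjG_apply]
  simp only [OneMemClass.coe_one, mul_one, mul_inv_cancel]
  rfl

theorem natDeg_barI [Fintype K] (θ : Cfsg.IrrCharacter K) :
    natDeg (barI θ : K → ℂ) = natDeg (θ : K → ℂ) := by
  unfold natDeg
  exact congrArg Nat.floor (Complex.conj_re _)

theorem trivOn_cjI [Fintype K] {N : Subgroup L} [N.Normal] {θ : Cfsg.IrrCharacter K} {g : L} :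
    TrivOn K N (cjI θ g : K → ℂ) ↔ TrivOn K N (θ : K → ℂ) := by
  refine ⟨fun h => ?_, fun h => trivOn_conjG h g⟩
  have := trivOn_conjG (Z := N) h g⁻¹
  rwa [coe_cjI, conjG_mul, mul_inv_cancel, conjG_one] at this

theorem trivOn_barI [Fintype K] {N : Subgroup L} {θ : Cfsg.IrrCharacter K} :
    TrivOn K N (barI θ : K → ℂ) ↔ TrivOn K N (θ : K → ℂ) := by
  refine ⟨fun h a ha => ?_, fun h a ha => congrArg conj (h a ha)⟩
  exact RingHom.injective _ (h a ha)

namespace Act

variable (h : Act K W₁ W₂ q p)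
include h

theorem barI_ne [Fintype K] {θ : Cfsg.IrrCharacter K} (hθ : (θ : K → ℂ) ≠ fun _ => 1) : barI θ ≠ θ :=
  fun e => hθ (eq_one_of_conj_eq (h.odd.of_dvd_nat (Subgroup.card_subgroup_dvd_card K)) θ
    fun a => congrFun (congrArg Subtype.val e) a)

theorem exists_mem_ne : ∃ x, x ∈ W₁ ∧ x ≠ 1 := by
  refine (Subgroup.bot_or_exists_ne_one W₁).resolve_left fun e => ?_
  have := h.one_lt
  rw [← h.cardW₁, e, Subgroup.card_bot] at this
  omega

/-- An invariant weight on a set of characters with trivial stabilisers adds up to a multiple of `q`. -/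
theorem q_dvd_sum [Fintype K] (s : Finset (Cfsg.IrrCharacter K))
    (hs : ∀ θ ∈ s, ∀ x ∈ W₁, cjI θ x ∈ s)
    (hfree : ∀ θ ∈ s, ∀ x ∈ W₁, x ≠ 1 → conjG (θ : K → ℂ) x ≠ θ)
    (f : Cfsg.IrrCharacter K → ℤ) (hf : ∀ θ ∈ s, ∀ x ∈ W₁, f (cjI θ x) = f θ) :
    (q : ℤ) ∣ ∑ θ ∈ s, f θ := by
  classical
  letI : MulAction W₁ s :=
    { smul := fun x θ => ⟨cjI θ.1 (x : L)⁻¹, hs _ θ.2 _ (inv_mem x.2)⟩
      one_smul := fun θ => Subtype.ext (by
        show cjI θ.1 ((1 : W₁) : L)⁻¹ = θ.1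
        rw [OneMemClass.coe_one, inv_one, cjI_one])
      mul_smul := fun x y θ => Subtype.ext (by
        show cjI θ.1 ((x * y : W₁) : L)⁻¹ = cjI (cjI θ.1 (y : L)⁻¹) (x : L)⁻¹
        rw [cjI_cjI, Subgroup.coe_mul, mul_inv_rev]) }
  have hfree' : ∀ (θ : s) (x : W₁), x • θ = θ → x = 1 := by
    intro θ x hx
    by_contra hx1
    exact hfree θ.1 θ.2 (x : L)⁻¹ (inv_mem x.2) (fun e => hx1 (Subtype.ext (inv_eq_one.mp e)))
      (congrArg (fun t : s => (t.1 : K → ℂ)) hx)
  obtain ⟨β, hβ, e⟩ := CentralTI.exists_mul_of_free hfree' (fun θ : s => (f θ.1 : ℂ))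
    (fun x θ => by exact_mod_cast hf θ.1 θ.2 _ (inv_mem x.2)) (fun θ => isIntegral_algebraMap)
  refine dvd_of_eq_mul (by have := h.one_lt; omega) hβ ?_
  rw [h.cardW₁] at e
  rw [← e, Int.cast_sum]
  exact (Finset.sum_coe_sort s fun θ => (f θ : ℂ)).symm

/-- A weight invariant under complex conjugation adds up to an even number on a set of nonprincipal
characters closed under it. -/
theorem two_dvd_sum [Fintype K] (s : Finset (Cfsg.IrrCharacter K)) (hs : ∀ θ ∈ s, barI θ ∈ s)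
    (hne : ∀ θ ∈ s, (θ : K → ℂ) ≠ fun _ => 1) (f : Cfsg.IrrCharacter K → ℤ)
    (hf : ∀ θ ∈ s, f (barI θ) = f θ) : (2 : ℤ) ∣ ∑ θ ∈ s, f θ := by
  refine (ZMod.intCast_zmod_eq_zero_iff_dvd _ 2).mp ?_
  rw [Int.cast_sum]
  refine Finset.sum_involution (fun θ _ => barI θ) (fun θ hθ => ?_) (fun θ hθ _ => h.barI_ne (hne θ hθ)) hs
    (fun θ _ => barI_barI θ)
  rw [hf θ hθ]
  exact CharTwo.add_self_eq_zero _

open scoped Classical in
/-- The `2q` characters obtained from one with trivial stabiliser. -/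
noncomputable def block [Fintype K] [Fintype W₁] (_ : Act K W₁ W₂ q p) (θ : Cfsg.IrrCharacter K) :
    Finset (Cfsg.IrrCharacter K) :=
  (Finset.univ.image fun x : W₁ => cjI θ (x : L)) ∪ Finset.univ.image fun x : W₁ => cjI (barI θ) (x : L)

theorem mem_block [Fintype K] [Fintype W₁] {θ η : Cfsg.IrrCharacter K} :
    η ∈ h.block θ ↔ ∃ x ∈ W₁, η = cjI θ x ∨ η = cjI (barI θ) x := by
  classical
  simp only [block, Finset.mem_union, Finset.mem_image, Finset.mem_univ, true_and]
  constructor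
  · rintro (⟨x, rfl⟩ | ⟨x, rfl⟩)
    exacts [⟨x, x.2, Or.inl rfl⟩, ⟨x, x.2, Or.inr rfl⟩]
  · rintro ⟨x, hx, rfl | rfl⟩
    exacts [Or.inl ⟨⟨x, hx⟩, rfl⟩, Or.inr ⟨⟨x, hx⟩, rfl⟩]

theorem card_block [Fintype K] [Fintype W₁] {θ : Cfsg.IrrCharacter K} (hθ : (θ : K → ℂ) ≠ fun _ => 1)
    (hfree : ∀ x ∈ W₁, x ≠ 1 → conjG (θ : K → ℂ) x ≠ θ) : (h.block θ).card = 2 * q := by
  classical
  have hinj : ∀ {μ : Cfsg.IrrCharacter K}, (∀ x ∈ W₁, x ≠ 1 → conjG (μ : K → ℂ) x ≠ μ) →
      Function.Injective fun x : W₁ => cjI μ (x : L) := by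
    intro μ hμ x y e
    by_contra hne
    refine hμ ((x : L) * (y : L)⁻¹) (mul_mem x.2 (inv_mem y.2))
      (fun e' => hne (Subtype.ext (mul_inv_eq_one.mp e'))) ?_
    have := congrArg (fun η => (cjI η (y : L)⁻¹ : K → ℂ)) e
    simp only [cjI_cjI, mul_inv_cancel, cjI_one] at this
    exact this
  have hfree' : ∀ x ∈ W₁, x ≠ 1 → conjG (barI θ : K → ℂ) x ≠ barI θ := fun x hx hx1 e =>
    hfree x hx hx1 (funext fun a => RingHom.injective _ (congrFun e a))
  have hdis : Disjoint (Finset.univ.image fun x : W₁ => cjI θ (x : L))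
      (Finset.univ.image fun x : W₁ => cjI (barI θ) (x : L)) := by
    rw [Finset.disjoint_left]
    intro η hη hη'
    obtain ⟨x, -, rfl⟩ := Finset.mem_image.mp hη
    obtain ⟨y, -, e⟩ := Finset.mem_image.mp hη'
    set z : L := (x : L) * (y : L)⁻¹ with hz
    have hzW : z ∈ W₁ := mul_mem x.2 (inv_mem y.2)
    have he : barI θ = cjI θ z := by
      have := congrArg (fun η => cjI η (y : L)⁻¹) e
      simp only [cjI_cjI, mul_inv_cancel, cjI_one] at this
      exact this
    have h2 : cjI θ (z * z) = θ := by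
      rw [← cjI_cjI, ← he, ← barI_cjI, ← he, barI_barI]
    have hz2 : z * z = 1 := by
      by_contra hne
      exact hfree _ (mul_mem hzW hzW) hne (congrArg Subtype.val h2)
    have hz1 : z = 1 := by
      have ho : orderOf z ∣ 2 := orderOf_dvd_of_pow_eq_one (by rw [sq, hz2])
      rcases (Nat.dvd_prime Nat.prime_two).mp ho with h1 | h1
      · exact orderOf_eq_one_iff.mp h1
      · exact absurd (h1 ▸ h.odd.of_dvd_nat (orderOf_dvd_natCard z)) (by decide)
    exact h.barI_ne hθ (by rw [he, hz1, cjI_one])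
  rw [block, Finset.card_union_of_disjoint hdis, Finset.card_image_of_injective _ (hinj hfree),
    Finset.card_image_of_injective _ (hinj hfree'), Finset.card_univ, ← Nat.card_eq_fintype_card, h.cardW₁,
    two_mul]

/-- A nontrivial linear character has trivial stabiliser. -/
theorem linear_free [Fintype K] {θ : Cfsg.IrrCharacter K} (hθ : (θ : K → ℂ) ≠ fun _ => 1)
    (hd : natDeg (θ : K → ℂ) = 1) : ∀ x ∈ W₁, x ≠ 1 → conjG (θ : K → ℂ) x ≠ θ := fun _ hx hx1 e =>
  hθ (h.eq_one_of_fixed_linear hx hx1 θ.2 hd e)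

/-- The degree of a fixed non-principal character scalar on `W₂`. -/
theorem sq_degree_fixed [Fintype K] (hcent : ∀ z ∈ W₂, ∀ k ∈ K, z * k = k * z) {θ : Cfsg.IrrCharacter K}
    (hθ : (θ : K → ℂ) ≠ fun _ => 1) (hfix : ∀ x ∈ W₁, conjG (θ : K → ℂ) x = θ) :
    8 * q + 1 ≤ natDeg (θ : K → ℂ) ^ 2 ∧
      natDeg (θ : K → ℂ) ^ 2 * p ≤ Nat.card K := by
  classical
  set d := natDeg (θ : K → ℂ) with hd
  have hd0 := natDeg_pos θ.2
  have hχ := IsIrrCharacter.isCharacter θ.2
  have hoddd : Odd d := by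
    obtain ⟨n, hn, hdvd⟩ := IsIrrCharacter.apply_one_dvd_card θ.2
    have he : d = n := by exact_mod_cast (natDeg_spec θ.2).symm.trans hn
    exact (h.odd.of_dvd_nat (Subgroup.card_subgroup_dvd_card K)).of_dvd_nat (he ▸ hdvd)
  -- the two congruences
  let F : K → ℂ := fun a => (θ : K → ℂ) a * conj ((θ : K → ℂ) a)
  have hcard : (Finset.univ.filter fun a : K => (a : L) ∈ W₂).card = p := by
    rw [← h.cardW₂, Nat.card_eq_fintype_card, ← Fintype.card_subtype]
    exact Fintype.card_congr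
      { toFun := fun a => ⟨(a.1 : L), a.2⟩
        invFun := fun a => ⟨⟨(a : L), h.W₂_le a.2⟩, a.2⟩
        left_inv := fun a => rfl
        right_inv := fun a => rfl }
  have hF : ∑ a, F a = (Nat.card K : ℂ) := by
    have := classInner_irr_self θ.2
    rw [Cfsg.classInner, inv_mul_eq_one₀ card_ne_zero] at this
    exact this.symm
  have hscal : ∀ a : K, (a : L) ∈ W₂ → F a = (d : ℂ) * d := by
    intro a ha
    have hh := IsIrrCharacter.sum_mul_conjugate θ.2 a⁻¹ a
    rw [Finset.sum_congr rfl fun g _ => show (θ : K → ℂ) (a⁻¹ * (g * a * g⁻¹)) = (d : ℂ) by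
        rw [show g * a * g⁻¹ = a from Subtype.ext (by
          show (g : L) * a * (g : L)⁻¹ = a
          rw [← hcent a ha g g.2, mul_inv_cancel_right]), inv_mul_cancel, natDeg_spec θ.2],
      Finset.sum_const, Finset.card_univ, nsmul_eq_mul, ← Nat.card_eq_fintype_card,
      IsIrrCharacter.apply_inv θ.2, natDeg_spec θ.2, eq_div_iff (Nat.cast_ne_zero.mpr hd0.ne')] at hh
    refine mul_left_cancel₀ (Nat.cast_ne_zero.mpr (Nat.card_pos (α := K)).ne' : (Nat.card K : ℂ) ≠ 0) ?_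
    show (Nat.card K : ℂ) * ((θ : K → ℂ) a * conj ((θ : K → ℂ) a)) = _
    linear_combination -hh
  obtain ⟨β₁, hβ₁, e₁⟩ := h.sum_eq_add_mul W₁ le_rfl F
    (fun a => (IsCharacter.isIntegral hχ a).mul (IsCharacter.isIntegral (IsCharacter.conj' hχ) a))
    (fun x hx a => by
      have := congrFun (hfix x hx) a
      rw [conjG_apply] at this
      simp only [F, this])
  obtain ⟨β₂, hβ₂, e₂⟩ := h.sum_eq_add_mul W₁ le_rfl (fun _ => 1) (fun _ => isIntegral_one)
    (fun _ _ _ => rfl)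
  rw [hF, Finset.sum_congr rfl fun a ha => hscal a (Finset.mem_filter.mp ha).2, Finset.sum_const, hcard,
    nsmul_eq_mul, h.cardW₁] at e₁
  rw [Finset.sum_const, Finset.sum_const, hcard, Finset.card_univ, nsmul_eq_mul, nsmul_eq_mul, mul_one,
    mul_one, h.cardW₁, ← Nat.card_eq_fintype_card] at e₂
  have hdvd : (q : ℤ) ∣ (p : ℤ) * ((d : ℤ) * d - 1) := by
    refine dvd_of_eq_mul (by have := h.one_lt; omega) (hβ₂.sub hβ₁) ?_
    push_cast
    linear_combination e₂ - e₁
  have hle : (Nat.card K : ℤ) ≥ (p : ℤ) * ((d : ℤ) * d) := by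
    have hr : (p : ℝ) * ((d : ℝ) * d) ≤ Nat.card K := by
      have hre : ∑ a, Complex.normSq ((θ : K → ℂ) a) = (Nat.card K : ℝ) := by
        have := congrArg Complex.re hF
        simpa [F, Complex.mul_conj] using this
      rw [← hre, show (p : ℝ) * ((d : ℝ) * d) =
        ∑ a ∈ Finset.univ.filter (fun a : K => (a : L) ∈ W₂), Complex.normSq ((θ : K → ℂ) a) by
          rw [Finset.sum_congr rfl fun a ha => show Complex.normSq ((θ : K → ℂ) a) = (d : ℝ) * d by
            have := congrArg Complex.re (hscal a (Finset.mem_filter.mp ha).2)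
            simpa [F, Complex.mul_conj] using this, Finset.sum_const, hcard, nsmul_eq_mul]]
      exact Finset.sum_le_sum_of_subset_of_nonneg (Finset.subset_univ _)
        fun x _ _ => Complex.normSq_nonneg _
    exact_mod_cast hr
  have hq' : (q : ℤ) ∣ (d : ℤ) * d - 1 :=
    (Int.isCoprime_iff_nat_coprime.mpr (by simpa using h.coprime_qp)).dvd_of_dvd_mul_left hdvd
  obtain ⟨x₀, hx₀, hx₀1⟩ := h.exists_mem_ne
  have hd1 : d ≠ 1 := fun e1 => hθ (h.eq_one_of_fixed_linear hx₀ hx₀1 θ.2 e1 (hfix _ hx₀))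
  obtain ⟨j, hj⟩ := hoddd
  obtain ⟨i, hi⟩ : (2 : ℤ) ∣ (j : ℤ) * (j + 1) := (Int.even_mul_succ_self _).two_dvd
  have h8 : (8 : ℤ) ∣ (d : ℤ) * d - 1 := ⟨i, by rw [hj]; push_cast; linear_combination 4 * hi⟩
  have hcop8 : IsCoprime (8 : ℤ) (q : ℤ) := by
    refine Int.isCoprime_iff_nat_coprime.mpr ?_
    have : Nat.Coprime 2 q := Nat.coprime_two_left.mpr h.odd_q
    simpa using this.pow_left 3
  have h8q := hcop8.mul_dvd h8 hq'
  have hpos : (0 : ℤ) < (d : ℤ) * d - 1 := by
    have : (2 : ℤ) ≤ d := by omega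
    nlinarith
  have hle8 := Int.le_of_dvd hpos h8q
  refine ⟨?_, ?_⟩
  · have : ((8 * q + 1 : ℕ) : ℤ) ≤ ((d ^ 2 : ℕ) : ℤ) := by push_cast; nlinarith
    exact_mod_cast this
  · have : ((d ^ 2 * p : ℕ) : ℤ) ≤ (Nat.card K : ℤ) := by push_cast; nlinarith
    exact_mod_cast this

end Act

end CfsgLib.OddOrder.Final.Ten
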