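import Cfsg.Agent.Lib.OddOrder.Final.NeighbourFam
import Cfsg.Agent.Lib.PGroup.Kulakoff
import Cfsg.Agent.Lib.Coprime.Action
import Cfsg.Agent.Lib.Coprime.OneClassInvolutions

/-!
The family of a maximal subgroup of Type V: the characters induced from the linear characters of `M' = M_F`,
with the facts on the index of `M''` in `M'`.
-/

set_option autoImplicit false
set_option linter.style.haveILetI false

open scoped ComplexConjugate

namespace CfsgLib.OddOrder.Final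

open CfsgLib.Char CfsgLib.Char.Coherence
open scoped commutatorElement

/-- A finite nilpotent group with an element of order `p` in its derived subgroup: `p²` divides the index. -/
theorem sq_dvd_index_commutator {H : Type*} [Group H] [Finite H] [Group.IsNilpotent H] {p : ℕ} [hp : Fact p.Prime]
    {x : H} (hx : x ∈ commutator H) (ho : orderOf x = p) : p ^ 2 ∣ (commutator H).index := by
  classical
  have hn : ∀ {r : ℕ} [Fact r.Prime] (P : Sylow r H), (P : Subgroup H).Normal := fun P => inferInstance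
  set e := (Sylow.directProductOfNormal hn).symm
  have hpd : p ∈ (Nat.card H).primeFactors :=
    hp.out.mem_primeFactors (ho ▸ orderOf_dvd_natCard x) Nat.card_pos.ne'
  have hne : e x ≠ 1 := fun h => hp.out.ne_one (by
    rw [← ho, orderOf_eq_one_iff]; exact e.injective (h.trans (map_one e).symm))
  obtain ⟨r, hr⟩ := Function.ne_iff.mp hne
  obtain ⟨P, hP⟩ := Function.ne_iff.mp hr
  haveI : Fact (r : ℕ).Prime := ⟨Nat.prime_of_mem_primeFactors r.2⟩
  have hrp : (r : ℕ) = p := by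
    obtain ⟨k, hk⟩ := IsPGroup.iff_orderOf.mp P.2 (e x r P)
    have h1 : orderOf (e x r P) ∣ p := by
      rw [← ho]
      exact orderOf_map_dvd
        (((Pi.evalMonoidHom (fun Q : Sylow (r : ℕ) H => ↥Q) P).comp
          (Pi.evalMonoidHom (fun s : ↥(Nat.card H).primeFactors => (Q : Sylow (s : ℕ) H) → ↥Q) r)).comp
          e.toMonoidHom) x
    have h2 : orderOf (e x r P) = p :=
      ((Nat.dvd_prime hp.out).mp h1).resolve_left fun h => hP (orderOf_eq_one_iff.mp h)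
    rw [hk] at h2
    exact ((Nat.prime_dvd_prime_iff_eq hp.out Fact.out).mp (hp.out.dvd_of_dvd_pow (dvd_of_eq h2.symm))).symm
  set f : H →* ↥P := ((Pi.evalMonoidHom (fun Q : Sylow (r : ℕ) H => ↥Q) P).comp
    (Pi.evalMonoidHom (fun s : ↥(Nat.card H).primeFactors => (Q : Sylow (s : ℕ) H) → ↥Q) r)).comp
    e.toMonoidHom
  have hf : Function.Surjective f := fun y =>
    ⟨e.symm (Pi.mulSingle r (Pi.mulSingle P y)), by simp [f]⟩
  have hmap : (commutator H).map f = commutator ↥P := by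
    rw [commutator_def, Subgroup.map_commutator, ← MonoidHom.range_eq_map, MonoidHom.range_eq_top.mpr hf,
      commutator_def]
  have hc : ¬ IsCyclic ↥P := fun hc => by
    have h1 : f x ∈ commutator ↥P := hmap ▸ Subgroup.mem_map_of_mem f hx
    have h2 : commutator ↥P = ⊥ := by
      letI := IsCyclic.commGroup (α := ↥P)
      rw [commutator_def, eq_bot_iff, Subgroup.commutator_le]
      exact fun a _ b _ => Subgroup.mem_bot.mpr (commutatorElement_eq_one_iff_mul_comm.mpr (mul_comm a b))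
    rw [h2, Subgroup.mem_bot] at h1
    exact hP h1
  have hd : (commutator ↥P).index ∣ (commutator H).index := hmap ▸ Subgroup.index_map_dvd _ hf
  obtain ⟨k, hk⟩ := PGroup.SubgroupCount.exists_index_eq_pow P.2 (commutator ↥P)
  have h2 : (r : ℕ) ^ 2 ≤ (commutator ↥P).index := PGroup.Kulakoff.sq_le_commutator_index P.2 hc
  rw [hk] at h2 hd
  rw [hrp] at h2 hd
  exact (pow_dvd_pow p ((Nat.pow_le_pow_iff_right hp.out.one_lt).mp h2)).trans hd

namespace TypeVFam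

variable {G : Type*} [Group G] [Finite G] {M W₁ W₂ : Subgroup G}

omit [Finite G] in
theorem derived_eq_fit (hP : Cfsg.IsTypePWith M W₁ ⊥ W₂) : ⁅M, M⁆ = Cfsg.fittingHallOf M :=
  le_antisymm (fun m hm => by
    obtain ⟨a, ha, b, hb, rfl⟩ := hP.U_compl.2.2.2 m hm
    rw [Subgroup.mem_bot] at hb
    rw [hb, mul_one]; exact ha) hP.U_compl.1

theorem typeCore_eq (hG : Cfsg.IsMinSimpleOddOrder G) (hM : IsCoatom M) (hP : Cfsg.IsTypePWith M W₁ ⊥ W₂) :
    Cfsg.typeCore M = ⁅M, M⁆ := by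
  obtain ⟨K, U₀, h⟩ := FittingStructure.exists_decomp hG hM
  rw [DadeSets.typeCore_eq hG hM h]
  exact le_antisymm (SigmaCore.le_derived hG hM)
    ((derived_eq_fit hP).le.trans (SigmaCentralizer.fittingHallOf_le_sigmaCore hG hM))

theorem nilpotent (hP : Cfsg.IsTypePWith M W₁ ⊥ W₂) : Group.IsNilpotent ↥⁅M, M⁆ := by
  rw [derived_eq_fit hP]
  exact Basic.fittingHallOf_isNilpotent

/-- A non-trivial element of `W₁` fixes only the trivial coset of `M''` in `M'`. -/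
theorem fix_mem (hP : Cfsg.IsTypePWith M W₁ ⊥ W₂) {w : G} (hw : w ∈ W₁) (hw1 : w ≠ 1) {x : G}
    (hx : x ∈ ⁅M, M⁆) (hfix : ⁅w, x⁆ ∈ ⁅⁅M, M⁆, ⁅M, M⁆⁆) : x ∈ ⁅⁅M, M⁆, ⁅M, M⁆⁆ := by
  set D := ⁅M, M⁆ with hD
  have hwD : Subgroup.zpowers w ≤ Subgroup.normalizer ((D : Subgroup G) : Set G) :=
    Subgroup.zpowers_le.mpr (DadeSets.derived_normal (TP.W₁_le hP hw))
  have hn : Subgroup.zpowers w ≤ Subgroup.normalizer ((⁅D, D⁆ : Subgroup G) : Set G) :=
    Coprime.OneClassInvolutions.le_normalizer_commutator hwD hwD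
  have hle : ⁅D, D⁆ ≤ D := derived_le D
  have hall : ∀ a ∈ Subgroup.zpowers w, ⁅a, x⁆ ∈ ⁅D, D⁆ := by
    intro a ha
    obtain ⟨k, rfl⟩ := (mem_powers_iff_mem_zpowers (x := w)).mpr ha
    clear ha
    induction k with
    | zero => simp
    | succ k ih =>
      show ⁅w ^ (k + 1), x⁆ ∈ ⁅D, D⁆
      have e : ⁅w ^ (k + 1), x⁆ = w * ⁅w ^ k, x⁆ * w⁻¹ * ⁅w, x⁆ := by
        rw [pow_succ']; simp only [commutatorElement_def]; group
      rw [e]
      exact mul_mem ((Subgroup.mem_normalizer_iff.mp (hn (Subgroup.mem_zpowers w)) _).mp ih) hfix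
  obtain ⟨n, hn', hc⟩ := Coprime.exists_mul_mem_centralizer hn
    ((TP.coprime_derived hP).coprime_dvd_left
      (Subgroup.card_dvd_of_le (Subgroup.zpowers_le.mpr hw)) |>.coprime_dvd_right (Subgroup.card_dvd_of_le hle))
    (Or.inl (Coprime.isSolvable_zpowers w)) hall
  have h2 : n * x ∈ W₂ := TP.eq_of_mem_derived hP hw hw1 (mul_mem (hle hn') hx)
    (Subgroup.mem_centralizer_iff.mp hc w (Subgroup.mem_zpowers w))
  have h3 := mul_mem (inv_mem hn') (hP.W₂_le.trans inf_le_right h2)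
  rwa [inv_mul_cancel_left] at h3

theorem sq_dvd_index (hP : Cfsg.IsTypePWith M W₁ ⊥ W₂) {p : ℕ} (hp : p.Prime) (hd : p ∣ Nat.card W₂) :
    p ^ 2 ∣ ⁅⁅M, M⁆, ⁅M, M⁆⁆.relIndex ⁅M, M⁆ := by
  haveI := nilpotent hP
  haveI := Fact.mk hp
  obtain ⟨x, hx⟩ := exists_prime_orderOf_dvd_card' p hd
  have hxD : (x : G) ∈ ⁅⁅M, M⁆, ⁅M, M⁆⁆ := hP.W₂_le.trans inf_le_right x.2
  have hmap : (commutator ↥⁅M, M⁆).map ⁅M, M⁆.subtype = ⁅⁅M, M⁆, ⁅M, M⁆⁆ := Subgroup.map_subtype_commutator _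
  rw [← hmap] at hxD
  obtain ⟨y, hy, e⟩ := hxD
  have h := sq_dvd_index_commutator hy (p := p) (by
    rw [← orderOf_injective ⁅M, M⁆.subtype Subtype.val_injective, e, orderOf_submonoid]
    exact hx)
  rw [← hmap, Subgroup.relIndex, Subgroup.subgroupOf,
    Subgroup.comap_map_eq_self_of_injective Subtype.val_injective]
  exact h

/-- **The family of a maximal subgroup of Type V.** -/
theorem hasFam [Fintype G] (hG : Cfsg.IsMinSimpleOddOrder G) (hM : IsCoatom M)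
    (hP : Cfsg.IsTypePWith M W₁ ⊥ W₂) :
    Neighbour.HasFam (Dade.supp (Cfsg.typeA1 M) M fun _ => ⊥) (Nat.card W₁)
      (⁅⁅M, M⁆, ⁅M, M⁆⁆.relIndex ⁅M, M⁆ - 1) := by
  classical
  cases nonempty_fintype M
  have hdM : ⁅M, M⁆ ≤ M := derived_le M
  set K : Subgroup M := ⁅M, M⁆.subgroupOf M with hK
  haveI : K.Normal := Subgroup.normal_subgroupOf_of_le_normalizer (DadeSets.derived_normal (M := M))
  cases nonempty_fintype K
  set Q : Subgroup M := ⁅K, K⁆ with hQ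
  have hQK : Q ≤ K := Subgroup.commutator_le.mpr fun a ha b hb => by
    rw [commutatorElement_def]
    exact mul_mem (mul_mem (mul_mem ha hb) (inv_mem ha)) (inv_mem hb)
  have hKmap : K.map M.subtype = ⁅M, M⁆ := Subgroup.map_subgroupOf_eq_of_le hdM
  have hQmap : Q.map M.subtype = ⁅⁅M, M⁆, ⁅M, M⁆⁆ := by rw [hQ, Subgroup.map_commutator, hKmap]
  have hindex : K.index = Nat.card W₁ := Basic.IsComplIn.relIndex_left hP.W₁_compl
  have hrel : Q.relIndex K = ⁅⁅M, M⁆, ⁅M, M⁆⁆.relIndex ⁅M, M⁆ := by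
    conv_rhs => rw [← hQmap, ← hKmap]
    exact (Subgroup.relIndex_map_map_of_injective _ _ Subtype.val_injective).symm
  let one : Cfsg.IrrCharacter K := ⟨fun _ => 1, isIrrCharacter_one⟩
  set Θ₀ := Finset.univ.filter fun φ : Cfsg.IrrCharacter K =>
    ∀ a : K, (a : M) ∈ Q → (φ : K → ℂ) a = (φ : K → ℂ) 1 with hΘ₀
  set Θ := Θ₀.erase one with hΘ
  have hmem : ∀ φ : Cfsg.IrrCharacter K, φ ∈ Θ ↔ (φ : K → ℂ) ≠ (fun _ => 1) ∧ TrivOn K Q (φ : K → ℂ) := fun φ => by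
    simp [hΘ, hΘ₀, one, Subtype.ext_iff, TrivOn]
  have hdeg : ∀ φ : Cfsg.IrrCharacter K, TrivOn K Q (φ : K → ℂ) → natDeg (φ : K → ℂ) = 1 := fun φ h =>
    (Feit.trivOn_commutator_iff K φ.2).mp h
  -- no member is fixed by an element outside `K`
  have hfix : ∀ φ : Cfsg.IrrCharacter K, φ ∈ Θ → ∀ g : M, conjG (φ : K → ℂ) g = (φ : K → ℂ) → g ∈ K := by
    intro φ hφ g hg
    obtain ⟨hne, htr⟩ := (hmem φ).1 hφ
    obtain ⟨l, hl⟩ := exists_hom_of_apply_one_eq_one (IsIrrCharacter.isCharacter φ.2)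
      (by rw [natDeg_spec φ.2, hdeg φ htr, Nat.cast_one])
    obtain ⟨k, hk, w, hw, hkw⟩ := hP.W₁_compl.2.2.2 g g.2
    by_contra hgK
    have hw1 : w ≠ 1 := fun e => hgK (show (g : G) ∈ ⁅M, M⁆ by rw [hkw, e, mul_one]; exact hk)
    set w' : M := ⟨w, hP.W₁_compl.2.1 hw⟩
    have hfw : conjG (φ : K → ℂ) w' = (φ : K → ℂ) := by
      have hgd : g = ⟨k, hdM hk⟩ * w' := Subtype.ext hkw
      rw [hgd, ← conjG_mul, conjG_of_mem (IsIrrCharacter.isClassFunction φ.2)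
        (show (⟨k, hdM hk⟩ : M) ∈ K from hk)] at hg
      exact hg
    have hpow : ∀ n : ℕ, conjG (φ : K → ℂ) (w' ^ n) = (φ : K → ℂ) := fun n => by
      induction n with
      | zero => rw [pow_zero, conjG_one]
      | succ n ih => rw [pow_succ, ← conjG_mul, ih, hfw]
    set L₀ : Subgroup G := l.ker.map (M.subtype.comp K.subtype) with hL₀
    have hQ0 : ⁅⁅M, M⁆, ⁅M, M⁆⁆ ≤ L₀ := by
      rw [← hQmap]
      rintro _ ⟨a, ha, rfl⟩
      refine ⟨⟨a, hQK ha⟩, MonoidHom.mem_ker.mpr (Units.ext ?_), rfl⟩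
      have h0 := htr ⟨a, hQK ha⟩ ha
      simpa [hl] using h0
    have hwD : w ∈ Subgroup.normalizer ((⁅M, M⁆ : Subgroup G) : Set G) := DadeSets.derived_normal w'.2
    have hsup := Coprime.commutator_sup_centralizer (A := Subgroup.zpowers w) (K := ⁅M, M⁆)
      (Subgroup.zpowers_le.mpr hwD)
      ((TP.coprime_derived hP).coprime_dvd_left (Subgroup.card_dvd_of_le (Subgroup.zpowers_le.mpr hw)))
      (Or.inl (Coprime.isSolvable_zpowers w))
    have hall : ⁅M, M⁆ ≤ L₀ := hsup ▸ sup_le (Subgroup.commutator_le.mpr fun a ha b hb => by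
        obtain ⟨n, rfl⟩ := (mem_powers_iff_mem_zpowers (x := w)).mpr hb
        let a' : K := ⟨⟨a, hdM ha⟩, ha⟩
        let c : K := ⟨w' ^ n * (a' : M) * (w' ^ n)⁻¹, Subgroup.Normal.conj_mem ‹K.Normal› _ a'.2 _⟩
        have hc : (φ : K → ℂ) c = (φ : K → ℂ) a' := congrFun (hpow n) a'
        rw [hl] at hc
        refine ⟨a' * c⁻¹, MonoidHom.mem_ker.mpr ?_, ?_⟩
        · rw [map_mul, map_inv, Units.ext hc, mul_inv_cancel]
        · simp [a', c, w', commutatorElement_def, mul_assoc])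
      (fun a ha => hQ0 (hP.W₂_le.trans inf_le_right (TP.eq_of_mem_derived hP hw hw1 ha.1
        (Subgroup.mem_centralizer_iff.mp ha.2 w (Subgroup.mem_zpowers w)))))
    refine hne (funext fun a => ?_)
    obtain ⟨b, hb, e⟩ := hall (show ((a : M) : G) ∈ ⁅M, M⁆ from a.2)
    have hab : b = a := Subtype.ext (Subtype.ext e)
    rw [hl]
    show (l a : ℂ) = 1
    rw [← hab, MonoidHom.mem_ker.mp hb, Units.val_one]
  have hirr : ∀ φ ∈ Θ, Cfsg.IsIrrCharacter M (Cfsg.indFun K (φ : K → ℂ)) := fun φ hφ => by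
    refine IsCharacter.isIrrCharacter_of_norm_one (IsCharacter.indFun K (IsIrrCharacter.isCharacter φ.2)) ?_
    rw [classInner_indFun_irr φ.2 φ.2]
    have : Nat.card {g : M // conjG (φ : K → ℂ) g = (φ : K → ℂ)} = Nat.card K :=
      Nat.card_congr (Equiv.subtypeEquivRight fun g =>
        ⟨hfix φ hφ g, conjG_of_mem (IsIrrCharacter.isClassFunction φ.2)⟩)
    rw [this, div_self (Nat.cast_ne_zero.mpr Nat.card_pos.ne')]
  have hconj : ∀ φ ∈ Θ, ∀ ψ : Cfsg.IrrCharacter K, (ψ : K → ℂ) = (fun a => conj ((φ : K → ℂ) a)) → ψ ∈ Θ :=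
    fun φ hφ ψ h => (hmem ψ).2 ⟨fun e => ((hmem φ).1 hφ).1 (funext fun a => by
      have := congrFun (h.symm.trans e) a
      rw [← Complex.conj_conj ((φ : K → ℂ) a), this, map_one]), h ▸ trivOn_conj ((hmem φ).1 hφ).2⟩
  have hst : ∀ φ ∈ Θ, ∀ ψ : Cfsg.IrrCharacter K,
      Cfsg.indFun K (ψ : K → ℂ) = Cfsg.indFun K (φ : K → ℂ) → ψ ∈ Θ := fun φ hφ ψ h => (hmem ψ).2
    ⟨fun e => by
      obtain ⟨g, hg⟩ := exists_conjG_of_indFun_eq φ.2 ψ.2 h.symm
      refine ((hmem φ).1 hφ).1 ?_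
      rw [hg, e]
      rfl, trivOn_of_indFun_eq ψ.2 φ.2 h ((hmem φ).1 hφ).2⟩
  have hk1 : 1 < ⁅⁅M, M⁆, ⁅M, M⁆⁆.relIndex ⁅M, M⁆ := by
    obtain ⟨r, hr, hd⟩ := Nat.exists_prime_and_dvd
      (show Nat.card W₂ ≠ 1 from fun e => hP.selfNormalizing.2.1 (Subgroup.card_eq_one.mp e))
    have h2 := Nat.le_of_dvd (Nat.pos_of_ne_zero Subgroup.index_ne_zero_of_finite) (sq_dvd_index hP hr hd)
    exact lt_of_lt_of_le (Nat.one_lt_pow two_ne_zero hr.one_lt) h2
  have hsum : ∑ φ ∈ Θ, natDeg (φ : K → ℂ) ^ 2 = ⁅⁅M, M⁆, ⁅M, M⁆⁆.relIndex ⁅M, M⁆ - 1 := by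
    have h1 : ∑ φ ∈ Θ₀, natDeg (φ : K → ℂ) ^ 2 = ⁅⁅M, M⁆, ⁅M, M⁆⁆.relIndex ⁅M, M⁆ := by
      have h2 := CoherenceKernel.sum_sq_above K Q hQK
      rw [hrel] at h2
      refine Nat.cast_injective (R := ℂ) (Eq.trans ?_ h2)
      push_cast
      exact Finset.sum_congr (by ext; simp [hΘ₀]) fun φ _ => by rw [natDeg_spec φ.2, sq]
    have hone : one ∈ Θ₀ := Finset.mem_filter.mpr ⟨Finset.mem_univ _, fun _ _ => rfl⟩
    rw [← Finset.add_sum_erase _ _ hone, ← hΘ, show natDeg (one : K → ℂ) = 1 by simp [natDeg, one], one_pow] at h1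
    omega
  obtain ⟨φ₀, hφ₀⟩ : Θ.Nonempty := by
    rw [Finset.nonempty_iff_ne_empty]
    intro e
    rw [e, Finset.sum_empty] at hsum
    omega
  set Sc := Θ.image fun φ : Cfsg.IrrCharacter K => Cfsg.indFun K (φ : K → ℂ) with hSc
  set τ := Cfsg.dadeIsometry (Cfsg.typeA1 M) M fun _ => (⊥ : Subgroup G)
  have hD : Cfsg.DadeHypothesis (Cfsg.typeA1 M) M fun _ => ⊥ := TP.dade hG hM hP (Or.inl rfl)
  have hA : ∀ x : M, (x : G) ∈ Cfsg.typeA1 M ↔ x ∈ K ∧ x ≠ 1 := fun x => by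
    simp [Cfsg.typeA1, typeCore_eq hG hM hP, hK, Subgroup.mem_subgroupOf]
  have hSirr : ∀ η ∈ Sc, Cfsg.IsIrrCharacter M η := fun η hη => by
    obtain ⟨φ, hφ, rfl⟩ := Finset.mem_image.mp hη
    exact hirr φ hφ
  have hcoh : Cfsg.IsCoherent (↑Sc : Set (M → ℂ)) {1}ᶜ τ := by
    have hvan : ∀ α ∈ Cfsg.zspanOn (↑Sc : Set (M → ℂ)) {1}ᶜ, ∀ x : M, (x : G) ∉ Cfsg.typeA1 M → α x = 0 := by
      intro α hα x hx
      by_cases hxK : x ∈ K
      · exact hα.2 x fun h1 => hx ((hA x).2 ⟨hxK, h1⟩)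
      · refine FrobeniusCoherence.eq_zero_of_notMem (fun η hη => ?_) hα.1 hxK
        obtain ⟨φ, -, rfl⟩ := Finset.mem_image.mp (Finset.mem_coe.mp hη)
        exact ⟨_, rfl⟩
    have hodd : Odd (Nat.card M) := hG.1.of_dvd_nat (Subgroup.card_subgroup_dvd_card M)
    have hconjS : ∀ η ∈ (↑Sc : Set (M → ℂ)), Cfsg.conjFun η ∈ (↑Sc : Set (M → ℂ)) ∧ Cfsg.conjFun η ≠ η := by
      intro η hη
      obtain ⟨φ, hφ, rfl⟩ := Finset.mem_image.mp (Finset.mem_coe.mp hη)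
      refine ⟨Finset.mem_coe.mpr (Finset.mem_image.mpr
        ⟨⟨_, IsIrrCharacter.conj' φ.2⟩, hconj φ hφ _ rfl, indFun_conj K _⟩), fun e => ?_⟩
      have h1 := Cfsg.Agent.S0161.result hodd ⟨_, hirr φ hφ⟩ fun x => Complex.conj_eq_iff_im.1 (congrFun e x)
      have h2 : Cfsg.classInner (Cfsg.indFun K (φ : K → ℂ)) (fun _ => 1) = 0 := by
        rw [classInner_indFun K _ (fun _ _ => rfl)]
        exact classInner_irr_ne φ.2 isIrrCharacter_one ((hmem φ).1 hφ).1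
      rw [show Cfsg.indFun K (φ : K → ℂ) = fun _ => 1 from h1, Neighbour.inner_one_one] at h2
      exact one_ne_zero h2
    obtain ⟨R, hR⟩ := Cfsg.Agent.S1514.result (↑Sc : Set (M → ℂ))
      ⟨_, Finset.mem_coe.mpr (Finset.mem_image_of_mem _ hφ₀)⟩
      (fun η hη => hSirr η (Finset.mem_coe.mp hη)) hconjS τ
      (FrobeniusCoherence.dade_isometryOn hD (fun η hη => hSirr η (Finset.mem_coe.mp hη)) hvan)
      (fun α _ => FrobeniusCoherence.dade_one hD α)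
    refine Cfsg.Agent.S1517.result _ τ R hR fun η hη η' hη' => ?_
    obtain ⟨φ, hφ, rfl⟩ := Finset.mem_image.mp (Finset.mem_coe.mp hη)
    obtain ⟨φ', hφ', rfl⟩ := Finset.mem_image.mp (Finset.mem_coe.mp hη')
    rw [indFun_one, indFun_one, natDeg_spec φ.2, natDeg_spec φ'.2, hdeg φ ((hmem φ).1 hφ).2,
      hdeg φ' ((hmem φ').1 hφ').2]
  have h := Neighbour.exists_fam hG.1 hD K hA Θ (fun φ hφ => ((hmem φ).1 hφ).1) hirr hst hconj
    ⟨φ₀, hφ₀, hdeg φ₀ ((hmem φ₀).1 hφ₀).2⟩ hcoh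
  rwa [hindex, hsum] at h

/-- The index of `M''` in `M'` is congruent to one modulo `2|W₁|`. -/
theorem index_modEq (hG : Cfsg.IsMinSimpleOddOrder G) (hM : IsCoatom M) (hP : Cfsg.IsTypePWith M W₁ ⊥ W₂) :
    ⁅⁅M, M⁆, ⁅M, M⁆⁆.relIndex ⁅M, M⁆ ≡ 1 [MOD 2 * Nat.card W₁] := by
  classical
  cases nonempty_fintype G
  obtain ⟨n, Φ, χ, d, i₀, c, -, hw⟩ := hasFam hG hM hP
  set k := ⁅⁅M, M⁆, ⁅M, M⁆⁆.relIndex ⁅M, M⁆
  have hk0 : 0 < k := Nat.pos_of_ne_zero Subgroup.index_ne_zero_of_finite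
  have hodd : Odd k := hG.1.of_dvd_nat ((Dvd.intro_left _ (Coprime.card_mul_relIndex_eq (derived_le _))).trans
    (Subgroup.card_subgroup_dvd_card _))
  have h1 : k ≡ 1 [MOD Nat.card W₁] := ((Nat.modEq_iff_dvd' hk0).mpr ⟨_, by rw [mul_comm]; exact hw.symm⟩).symm
  have h2 : k ≡ 1 [MOD 2] := Nat.odd_iff.mp hodd
  exact (Nat.modEq_and_modEq_iff_modEq_mul
    (Nat.coprime_two_left.mpr (hG.1.of_dvd_nat (Subgroup.card_subgroup_dvd_card W₁)))).mp ⟨h2, h1⟩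

end TypeVFam

end CfsgLib.OddOrder.Final
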