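import Cfsg.Agent.Lib.OddOrder.Final.TenFound
import Cfsg.Agent.Lib.OddOrder.TypeOneCongr
import Cfsg.Agent.Lib.OddOrder.Final.PairSets
import Cfsg.Agent.Lib.OddOrder.Final.TypeVFam
import Cfsg.Agent.Lib.OddOrder.TypeP
import Mathlib

/-!
The group data of a maximal subgroup of Type V: `M' = M_F` is a TI subgroup with normaliser `M`, and the partner
`T` is of Type II with `|W₂|` prime. This gives the configurations `Ten.Dat` and `Ten.Side`.
-/

set_option autoImplicit false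
set_option linter.unusedSectionVars false
set_option linter.style.haveILetI false

namespace CfsgLib.OddOrder.Final.Ten

open CfsgLib.Char
open scoped Pointwise
open CfsgLib.Char.CyclicTI (vset mem_vset)

variable {G : Type*} [Group G]

/-- A maximal subgroup of Type V with its partner. -/
structure Cfg (M T W₁ W₂ V : Subgroup G) : Prop where
  minSimple : Cfsg.IsMinSimpleOddOrder G
  coatom : IsCoatom M
  coatomT : IsCoatom T
  typeP : Cfsg.IsTypePWith M W₁ ⊥ W₂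
  typePT : Cfsg.IsTypePWith T W₂ V W₁
  prime : (Nat.card W₂).Prime
  typeII : Cfsg.IsOfTypeII T
  core : Cfsg.sigmaCore M = ⁅M, M⁆
  coreT : Cfsg.typeCore T = Cfsg.fittingHallOf T
  coreT' : Cfsg.sigmaCore T = Cfsg.fittingHallOf T
  V_ne : V ≠ ⊥
  nonconj : ∀ g : G, T ≠ M.map (MulAut.conj g).toMonoidHom

variable [Finite G]

theorem exists_cfg (hG : Cfsg.IsMinSimpleOddOrder G) {M : Subgroup G} (hM : IsCoatom M)
    (h5 : Cfsg.IsOfTypeV M) : ∃ T W₁ W₂ V : Subgroup G, Cfg M T W₁ W₂ V := by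
  obtain ⟨K, U₀, h⟩ := FittingStructure.exists_decomp hG hM
  obtain ⟨hK, hU, hfit⟩ := (Cfsg.Agent.S1383.result hG M hM K U₀ h).mp h5
  obtain ⟨V₁, hV₁, hV₁n, hKV₁⟩ := TypeP.exists_compl hG hM h hK hU
  have hder : ⁅M, M⁆ = Cfsg.sigmaCore M := TypeP.derived_bot hG hM h hK hU
  have hV₁bot : V₁ = ⊥ := le_bot_iff.mp
    ((le_inf (hV₁.2.1.trans (by rw [hfit, hder])) le_rfl).trans hV₁.2.2.1.le)
  have hMP := TypeP.typePWith hG hM h hK hV₁ hV₁n hKV₁
  rw [hV₁bot] at hMP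
  obtain ⟨T, hp, -⟩ := StarPair.exists_pair hG (M := M) (K := K) ⟨hM, hK, h.hall⟩
  obtain ⟨V₀, h'⟩ := SigmaDecomp.exists_decomp hG hp.right.coatom (StarPair.Pair.cyclic hG hp.symm) hp.right.hall
  have hK' := hp.right.ne
  have hT := hp.right.coatom
  have hU' : V₀ ≠ ⊥ := ((Cfsg.Agent.S1369.result hG M hM K U₀ h hK T hT hp.eq.symm hp.right.hall).1.resolve_left
    (not_not.mpr hU)) V₀ h'
  have hII : Cfsg.IsOfTypeII T := (Cfsg.Agent.S1381.result hG T hT _ V₀ h').mpr ⟨hK', hU'⟩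
  have hn := TypeP.nilpotent_of_U hG hT h' hU'
  obtain ⟨V, hTP, hV1, hprime, -, -⟩ := exists_side_aux hG hT h' hK'
    (fun h5' => hU' ((Cfsg.Agent.S1383.result hG T hT _ V₀ h').mp h5').2.1)
  rw [hp.eq] at hTP
  exact ⟨T, K, _, V, hG, hM, hT, hMP, hTP, hprime, hII, hder.symm,
    by rw [DadeSets.typeCore_eq hG hT h', TypeP.fittingHall_eq hG hT hn],
    (TypeP.fittingHall_eq hG hT hn).symm, hV1, hp.nonconj⟩

namespace Cfg

variable {M T W₁ W₂ V : Subgroup G} (c : Cfg M T W₁ W₂ V)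
include c

theorem typeA1_eq : Cfsg.typeA1 M = ((⁅M, M⁆ : Subgroup G) : Set G) \ {1} := by
  rw [Cfsg.typeA1, TypeVFam.typeCore_eq c.minSimple c.coatom c.typeP]

theorem typeAT_eq : Cfsg.typeA T = AT ⁅T, T⁆ (Cfsg.fittingHallOf T) := by
  rw [TP.typeA_eq c.minSimple c.coatomT c.typePT, c.coreT]
  rfl

theorem map_K : (⁅M, M⁆.subgroupOf M).map M.subtype = ⁅M, M⁆ :=
  Subgroup.map_subgroupOf_eq_of_le (derived_le M)

theorem map_W₁ : (W₁.subgroupOf M).map M.subtype = W₁ :=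
  Subgroup.map_subgroupOf_eq_of_le (TP.W₁_le c.typeP)

theorem map_W₂ : (W₂.subgroupOf M).map M.subtype = W₂ :=
  Subgroup.map_subgroupOf_eq_of_le (TP.W₂_le_M c.typeP)

theorem pos_eq : pos (⁅M, M⁆.subgroupOf M) = Cfsg.typeA1 M := by
  rw [pos, c.map_K, c.typeA1_eq]

theorem supportR_eq {g : G} (hg : g ∈ pos (⁅M, M⁆.subgroupOf M)) : Cfsg.supportR M g = ⊥ :=
  TP.supportR_eq c.minSimple c.coatom c.typeP
    (Or.inl (TP.typeA1_sub c.minSimple c.coatom c.typeP (c.pos_eq ▸ hg)))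

theorem dade : Cfsg.DadeHypothesis (pos (⁅M, M⁆.subgroupOf M)) M (Cfsg.supportR M) := by
  rw [c.pos_eq]
  exact (Cfsg.Agent.S1537.result c.minSimple M c.coatom _ (Or.inl rfl)).2

theorem q_eq : Nat.card (W₁.subgroupOf M) = Nat.card W₁ :=
  Nat.card_congr (Subgroup.subgroupOfEquivOfLe (TP.W₁_le c.typeP)).toEquiv

theorem p_eq : Nat.card (W₂.subgroupOf M) = Nat.card W₂ :=
  Nat.card_congr (Subgroup.subgroupOfEquivOfLe (TP.W₂_le_M c.typeP)).toEquiv

theorem act : Act (⁅M, M⁆.subgroupOf M) (W₁.subgroupOf M) (W₂.subgroupOf M) (Nat.card W₁) (Nat.card W₂) where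
  inf := by
    rw [Subgroup.subgroupOf, Subgroup.subgroupOf, ← Subgroup.comap_inf, c.typeP.W₁_compl.2.2.1,
      MonoidHom.comap_bot, M.ker_subtype]
  sup := eq_top_iff.mpr fun m _ => by
    obtain ⟨a, ha, b, hb, e⟩ := c.typeP.W₁_compl.2.2.2 m m.2
    rw [show m = (⟨a, derived_le M ha⟩ : M) * ⟨b, TP.W₁_le c.typeP hb⟩ from Subtype.ext e]
    exact Subgroup.mul_mem_sup (Subgroup.mem_subgroupOf.mpr ha) (Subgroup.mem_subgroupOf.mpr hb)
  cyc := by
    haveI := c.typeP.W₁_cyclic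
    exact isCyclic_of_surjective (Subgroup.subgroupOfEquivOfLe (TP.W₁_le c.typeP)).symm.toMonoidHom
      (MulEquiv.surjective _)
  cop := by
    rw [Nat.card_congr (Subgroup.subgroupOfEquivOfLe (derived_le M)).toEquiv]
    exact TP.coprime_derived c.typeP
  cardW₁ := c.q_eq
  cardW₂ := c.p_eq
  one_lt := (Subgroup.one_lt_card_iff_ne_bot W₁).mpr c.typeP.W₁_ne
  prime := c.prime
  le := by
    intro x hx
    have h1 := (c.typeP.W₂_le.trans inf_le_right) (Subgroup.mem_subgroupOf.mp hx)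
    rw [← c.map_K, ← Subgroup.map_commutator] at h1
    obtain ⟨y, hy, e⟩ := h1
    rwa [show x = y from Subtype.ext e.symm]
  fix := fun x hx hx1 => by
    have h := c.typeP.W₂_centralizer x hx fun e => hx1 (Subtype.ext e)
    ext y
    rw [Subgroup.mem_inf, Subgroup.mem_subgroupOf, Subgroup.mem_subgroupOf, ← h, Subgroup.mem_inf,
      Subgroup.mem_centralizer_singleton_iff, Subgroup.mem_centralizer_singleton_iff]
    exact and_congr_right fun _ => ⟨fun e => congrArg Subtype.val e, fun e => Subtype.ext e⟩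
  nil := by
    haveI := TypeVFam.nilpotent c.typeP
    exact Group.nilpotent_of_mulEquiv (Subgroup.subgroupOfEquivOfLe (derived_le M)).symm
  odd := c.minSimple.1.of_dvd_nat (Subgroup.card_subgroup_dvd_card M)

theorem dat : Dat M (⁅M, M⁆.subgroupOf M) (W₁.subgroupOf M) (W₂.subgroupOf M) (Nat.card W₁) (Nat.card W₂) where
  act := c.act
  pair := by rw [c.map_W₁, c.map_W₂]; exact c.typeP.selfNormalizing
  dade := c.dade
  copR := fun a ha => by rw [c.supportR_eq ha, Subgroup.card_bot]; exact Nat.coprime_one_left _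

theorem derived_ne_bot : ⁅M, M⁆ ≠ ⊥ := fun e => by
  have h := (c.typeP.W₂_le.trans inf_le_right).trans (derived_le ⁅M, M⁆)
  rw [e] at h
  exact c.typeP.selfNormalizing.2.1 (le_bot_iff.mp h)

/-- `N(M') = M`. -/
theorem normalizer_eq : Subgroup.normalizer ((⁅M, M⁆ : Subgroup G) : Set G) = M := by
  refine (c.coatom.le_iff.mp fun m hm => DadeSets.derived_normal hm).resolve_left fun htop => ?_
  haveI : (⁅M, M⁆ : Subgroup G).Normal := Subgroup.normalizer_eq_top_iff.mp htop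
  rcases c.minSimple.2.1.eq_bot_or_eq_top_of_normal _ this with h | h
  · exact c.derived_ne_bot h
  · exact c.coatom.1 (top_le_iff.mp (h ▸ derived_le M))

/-- `M'` is a TI subgroup. -/
theorem ti : Cfsg.IsTISubset ((⁅M, M⁆ : Subgroup G) : Set G) := by
  intro g hg x hx hgx
  by_contra hx1
  have hd := c.dade
  rw [c.pos_eq, c.typeA1_eq] at hd
  obtain ⟨m, hm, e⟩ := hd.fusion x ⟨hx, hx1⟩ g ⟨hgx, fun e => hx1 (conj_eq_one_iff.mp e)⟩
  refine hg (c.normalizer_eq.ge ?_)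
  have hC : m⁻¹ * g ∈ M := TP.centralizer_le c.minSimple c.coatom c.typeP
    (Or.inl (TP.typeA1_sub c.minSimple c.coatom c.typeP (show x ∈ Cfsg.typeA1 M by rw [c.typeA1_eq]; exact ⟨hx, hx1⟩)))
    (Subgroup.mem_centralizer_singleton_iff.mpr (by
      calc m⁻¹ * g * x = m⁻¹ * (g * x * g⁻¹) * g := by group
        _ = m⁻¹ * (m * x * m⁻¹) * g := by rw [e]
        _ = x * (m⁻¹ * g) := by group))
  simpa using mul_mem hm hC

/-- When `M'` is an `r`-group it is a Sylow subgroup of `G`. -/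
theorem exists_sylow {r : ℕ} [Fact r.Prime] (hr : IsPGroup r ↥⁅M, M⁆) :
    ∃ P : Sylow r G, (P : Subgroup G) = (⁅M, M⁆.subgroupOf M).map M.subtype ∧
      Cfsg.IsTISubset ((P : Subgroup G) : Set G) ∧ Subgroup.normalizer ((P : Subgroup G) : Set G) = M := by
  have hi : ¬ r ∣ (⁅M, M⁆ : Subgroup G).index := by
    intro hd
    obtain ⟨k, hk⟩ := hr.exists_card_eq
    have hdvd : r ∣ Nat.card (Cfsg.sigmaCore M) := by
      rw [c.core, hk]
      exact dvd_pow_self r fun e => c.derived_ne_bot (Subgroup.card_eq_one.mp (by rw [hk, e, pow_zero]))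
    rw [← c.core] at hd
    exact (SigmaCore.hall c.minSimple c.coatom).2.2 r Fact.out (SigmaTools.mem_sigma_of_card hdvd) hd
  refine ⟨hr.toSylow hi, ?_, ?_, ?_⟩
  · rw [IsPGroup.toSylow_coe, c.map_K]
  · rw [IsPGroup.toSylow_coe]; exact c.ti
  · rw [IsPGroup.toSylow_coe]; exact c.normalizer_eq

theorem card_T : Nat.card T = Nat.card W₂ * (Nat.card V * Nat.card ↥(Cfsg.fittingHallOf T)) := by
  rw [TP.card_eq c.typePT, TP.card_derived c.typePT]; ring

/-- An element of prime order dividing `|T_F|` is conjugate into `T_F`. -/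
theorem exists_conj_fit {r : ℕ} (hr : r.Prime) (hd : r ∣ Nat.card ↥(Cfsg.fittingHallOf T)) {y : G}
    (hy : orderOf y = r) : ∃ x : G, x * y * x⁻¹ ∈ Cfsg.fittingHallOf T := by
  haveI := Fact.mk hr
  have hd' : r ∣ Nat.card (Cfsg.sigmaCore T) := by rw [c.coreT']; exact hd
  have hi : ¬ r ∣ (Cfsg.fittingHallOf T).index := c.coreT' ▸
    (SigmaCore.hall c.minSimple c.coatomT).2.2 r hr (SigmaTools.mem_sigma_of_card hd')
  obtain ⟨R₀⟩ := (inferInstance : Nonempty (Sylow r ↥(Cfsg.fittingHallOf T)))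
  set R := (R₀ : Subgroup ↥(Cfsg.fittingHallOf T)).map (Cfsg.fittingHallOf T).subtype with hR
  have hRi : ¬ r ∣ R.index := by
    rw [hR, Subgroup.index_map_subtype]
    exact fun h => (hr.dvd_mul.mp h).elim R₀.not_dvd_index hi
  obtain ⟨Q, hQ⟩ := (IsPGroup.of_card (n := 1) (G := Subgroup.zpowers y)
    (by rw [Nat.card_zpowers, hy, pow_one]) : IsPGroup r (Subgroup.zpowers y)).exists_le_sylow
  obtain ⟨x, hx⟩ := MulAction.exists_smul_eq G Q ((R₀.isPGroup'.map (Cfsg.fittingHallOf T).subtype).toSylow hRi)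
  refine ⟨x, Subgroup.map_subtype_le (R₀ : Subgroup ↥(Cfsg.fittingHallOf T)) ?_⟩
  have h1 : MulAut.conj x • y ∈ MulAut.conj x • (Q : Subgroup G) :=
    Subgroup.smul_mem_pointwise_smul _ _ _ (hQ (Subgroup.mem_zpowers y))
  have h2 := congrArg (fun P : Sylow r G => (P : Subgroup G)) hx
  simp only [Sylow.coe_subgroup_smul, IsPGroup.toSylow_coe] at h2
  rw [show MulAut.conj x • (Q : Subgroup G) = (R₀ : Subgroup ↥(Cfsg.fittingHallOf T)).map (Cfsg.fittingHallOf T).subtype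
    from h2, MulAut.smul_def, MulAut.conj_apply] at h1
  exact h1

theorem q_dvd : Nat.card W₁ ∣ Nat.card ↥(Cfsg.fittingHallOf T) :=
  Subgroup.card_dvd_of_le (TP.W₂_le_fit c.typePT)

/-- An element whose order is not prime to `|W₁|` lies in a conjugate of `A(T)` or of `W₁W₂`. -/
theorem rest {g : G} (hg : ¬ (orderOf g).Coprime (Nat.card W₁)) :
    g ∈ Dade.supp (AT ⁅T, T⁆ (Cfsg.fittingHallOf T)) T (fun _ => ⊥) ∨
      g ∈ Dade.supp (vset W₁ W₂) (W₁ ⊔ W₂) (fun _ => ⊥) := by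
  have hG := c.minSimple
  obtain ⟨r, hr, hrg, hrq⟩ := Nat.Prime.not_coprime_iff_dvd.mp hg
  obtain ⟨x, hx⟩ := c.exists_conj_fit hr (hrq.trans c.q_dvd)
    (orderOf_pow_orderOf_div (orderOf_pos g).ne' hrg)
  set y' := x * g ^ (orderOf g / r) * x⁻¹ with hy'
  have hyo : orderOf y' = r := (orderOf_conj x _).trans (orderOf_pow_orderOf_div (orderOf_pos g).ne' hrg)
  have hy1 : y' ≠ 1 := fun e => hr.ne_one (by rw [← hyo, e, orderOf_one])
  set g' := x * g * x⁻¹ with hg'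
  have hgy : g' * y' = y' * g' :=
    DadeSets.conj_commute (m := x) ((Commute.refl g).pow_right (orderOf g / r)).eq
  have hyA : y' ∈ Cfsg.typeA T := TP.typeA1_sub hG c.coatomT c.typePT ⟨c.coreT.symm ▸ hx, hy1⟩
  have hgT : g' ∈ T := TP.centralizer_le hG c.coatomT c.typePT (Or.inl hyA)
    (Subgroup.mem_centralizer_singleton_iff.mpr hgy)
  have hgo : orderOf g' = orderOf g := orderOf_conj x g
  by_cases hgd : g' ∈ ⁅T, T⁆
  · refine Or.inl ⟨⟨g', hgT⟩, ⟨hgd, fun e => ?_, y', hx, hy1, hgy⟩, x, 1, one_mem _, (mul_one _).symm⟩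
    have e' : g' = 1 := e
    rw [e', orderOf_one] at hgo
    exact hr.not_dvd_one (hgo ▸ hrg)
  right
  set p := Nat.card W₂ with hpd
  haveI := Fact.mk c.prime
  have hp : p ∣ orderOf g' := by
    by_contra hn
    refine hgd ?_
    have hidx : (⁅T, T⁆.subgroupOf T).index = p := Basic.IsComplIn.relIndex_left c.typePT.W₁_compl
    haveI : (⁅T, T⁆.subgroupOf T).Normal :=
      Subgroup.normal_subgroupOf_of_le_normalizer DadeSets.derived_normal
    have hpow := Subgroup.pow_index_mem (⁅T, T⁆.subgroupOf T) (⟨g', hgT⟩ : T)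
    rw [hidx, Subgroup.mem_subgroupOf] at hpow
    obtain ⟨m, hm⟩ := exists_pow_eq_self_of_coprime (c.prime.coprime_iff_not_dvd.mpr hn)
    rw [← hm]
    exact (⁅T, T⁆ : Subgroup G).pow_mem hpow m
  set z := g' ^ (orderOf g' / p)
  have hzo : orderOf z = p := orderOf_pow_orderOf_div (orderOf_pos g').ne' hp
  obtain ⟨s, hs, hsz⟩ := TP.exists_conj_W₁ hG c.coatomT c.typePT c.prime (pow_mem hgT _) hzo
  have hz1 : s * z * s⁻¹ ≠ 1 := fun e => c.prime.ne_one (by
    have h1 := orderOf_conj s z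
    rw [e, orderOf_one, hzo] at h1
    exact h1.symm)
  set g'' := s * g' * s⁻¹ with hg''
  have hcz : (s * z * s⁻¹) * g'' = g'' * (s * z * s⁻¹) :=
    DadeSets.conj_commute (m := s) ((Commute.refl g').pow_left (orderOf g' / p)).eq
  obtain ⟨a, ha, b, hb, e⟩ := c.typePT.W₁_compl.2.2.2 g'' (mul_mem (mul_mem hs hgT) (inv_mem hs))
  haveI := c.typePT.W₁_cyclic
  have hbz : (s * z * s⁻¹) * b = b * (s * z * s⁻¹) :=
    congrArg (fun w : W₂ => (w : G)) (IsCyclic.commGroup.mul_comm (⟨_, hsz⟩ : W₂) ⟨b, hb⟩)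
  have haz : (s * z * s⁻¹) * a = a * (s * z * s⁻¹) := by
    refine mul_right_cancel (b := b) ?_
    rw [mul_assoc, ← e, hcz, e, mul_assoc, ← hbz, ← mul_assoc]
  have haW := TP.eq_of_mem_derived c.typePT hsz hz1 ha haz
  have hmem : g'' ∈ W₁ ⊔ W₂ := e ▸ mul_mem (Subgroup.mem_sup_left haW) (Subgroup.mem_sup_right hb)
  have hgo'' : orderOf g'' = orderOf g := (orderOf_conj s g').trans hgo
  have hqp : (Nat.card W₁).Coprime p :=
    (TP.coprime_derived c.typeP).coprime_dvd_right (Subgroup.card_dvd_of_le (TP.W₂_le_derived c.typeP))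
  have hv : g'' ∈ vset W₁ W₂ := by
    refine mem_vset.mpr ⟨hmem, fun h1 => ?_, fun h1 => ?_⟩
    · refine c.prime.ne_one (Nat.eq_one_of_dvd_coprimes hqp ?_ dvd_rfl)
      exact hp.trans ((orderOf_conj s g') ▸ Subgroup.orderOf_dvd_natCard W₁ h1)
    · refine hr.ne_one (Nat.eq_one_of_dvd_coprimes hqp hrq ?_)
      exact hrg.trans (hgo'' ▸ Subgroup.orderOf_dvd_natCard W₂ h1)
  refine ⟨⟨g'', hmem⟩, hv, s * x, 1, one_mem _, ?_⟩
  simp only [hg'', hg']
  group

/-- The conjugates of `A(T)` avoid the conjugates of `M'`. -/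
theorem disjS {g a : G} (ha : a ∈ AT ⁅T, T⁆ (Cfsg.fittingHallOf T)) (x : G) (hxa : x * g * x⁻¹ = a) :
    g ∉ Dade.supp (pos (⁅M, M⁆.subgroupOf M)) M (Cfsg.supportR M) := by
  rintro ⟨b, hb, y, u, hu, e⟩
  rw [c.supportR_eq hb, Subgroup.mem_bot] at hu
  rw [hu, mul_one] at e
  rw [c.pos_eq] at hb
  rw [← c.typeAT_eq] at ha
  have hg1 : g = y⁻¹ * b * (y⁻¹)⁻¹ := by rw [← e]; group
  have hg2 : g = x⁻¹ * a * (x⁻¹)⁻¹ := by rw [← hxa]; group
  have hne : (Cfsg.tildeOf M (Cfsg.typeA1 M) ∩ Cfsg.tildeOf T (Cfsg.typeA T)).Nonempty :=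
    ⟨g, hg1 ▸ tildeOf_mem y⁻¹ hb, hg2 ▸ tildeOf_mem x⁻¹ ha⟩
  obtain ⟨g', -, z, hz, hzM, -⟩ := ((Cfsg.Agent.S1539.result c.minSimple M T c.coatom c.coatomT
    fun g e => c.nonconj g⁻¹ (by rw [← e]; exact (by rw [SigmaFusion.cj_cj, inv_mul_cancel, SigmaFusion.cj_one] : T = SigmaFusion.cj g⁻¹ (SigmaFusion.cj g T)))).2.2.1).mpr hne
  exact hzM (TP.centralizer_le c.minSimple c.coatom c.typeP hz)

theorem side : Side (⁅M, M⁆.subgroupOf M) (W₁.subgroupOf M) (W₂.subgroupOf M) (Nat.card W₁) (Nat.card W₂)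
    T ⁅T, T⁆ (Cfsg.fittingHallOf T) (Nat.card V) where
  leD := TP.fit_le_derived c.typePT
  leT := derived_le T
  normH := (derived_le T).trans Basic.le_normalizer_fittingHallOf
  cardD := by rw [TP.card_derived c.typePT, mul_comm]
  cardT := c.card_T
  cop := (TP.coprime_fit_U c.typePT).symm
  qdvd := c.q_dvd
  ti := by
    rw [← c.typeAT_eq]
    exact TP.dade c.minSimple c.coatomT c.typePT (Or.inr (Or.inl rfl))
  disjS := fun _ _ ha x hx => c.disjS ha x hx
  disjV := fun a ha hd => by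
    obtain ⟨haD, -⟩ := ha
    exact c.prime.ne_one (Nat.eq_one_of_dvd_coprimes (TP.coprime_derived c.typePT) dvd_rfl
      (hd.trans (Subgroup.orderOf_dvd_natCard _ haD)))
  rest := fun g hg => by
    rw [c.map_W₁, c.map_W₂]
    exact c.rest hg

theorem two_p_lt : 2 * Nat.card W₂ < Nat.card V := by
  haveI := Fintype.ofFinite G
  obtain ⟨x, hx, hx1⟩ := (Subgroup.bot_or_exists_ne_one W₂).resolve_left c.typePT.W₁_ne
  have ho : orderOf x = Nat.card W₂ :=
    ((Nat.dvd_prime c.prime).1 (Subgroup.orderOf_dvd_natCard W₂ hx)).resolve_left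
      fun e => hx1 (orderOf_eq_one_iff.1 e)
  have hm : Nat.card V ≡ 1 [MOD Nat.card W₂] := TypeOneCongr.card_modEq c.prime ho V
    (fun u hu => (Subgroup.mem_normalizer_iff.1 (c.typePT.U_normal hx) u).1 hu)
    fun u hu hc => TP.fpf c.typePT x hx hx1 u hu hc.eq
  have hV : 1 < Nat.card V := (Subgroup.one_lt_card_iff_ne_bot V).mpr c.V_ne
  obtain ⟨k, hk⟩ := (Nat.modEq_iff_dvd' hV.le).mp hm.symm
  obtain ⟨a, ha⟩ := c.minSimple.1.of_dvd_nat (Subgroup.card_subgroup_dvd_card V)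
  obtain ⟨b, hb⟩ := c.minSimple.1.of_dvd_nat (Subgroup.card_subgroup_dvd_card W₂)
  rcases k with _ | _ | k
  · omega
  · omega
  · have : Nat.card W₂ * 2 ≤ Nat.card W₂ * (k + 1 + 1) := Nat.mul_le_mul_left _ (by omega)
    omega

theorem found [Fintype G] : Found M (⁅M, M⁆.subgroupOf M) (W₁.subgroupOf M) (W₂.subgroupOf M)
    (Nat.card W₁) (Nat.card W₂) T ⁅T, T⁆ (Cfsg.fittingHallOf T) (Nat.card V) where
  dat := c.dat
  side := c.side
  two_p_lt := c.two_p_lt
  supportR := fun _ hg => c.supportR_eq hg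
  ti := by rw [c.map_K]; exact c.ti
  normalizer := by rw [c.map_K]; exact c.normalizer_eq
  sylow := fun h => by
    haveI := Fact.mk c.prime
    obtain ⟨P, hP, -⟩ := c.exists_sylow (h.of_equiv (Subgroup.subgroupOfEquivOfLe (derived_le M)))
    exact ⟨P, hP⟩

end Cfg

/-- The data of a maximal subgroup of Type V. -/
theorem exists_found [Fintype G] (hG : Cfsg.IsMinSimpleOddOrder G) {M : Subgroup G} (hM : IsCoatom M)
    (hV : Cfsg.IsOfTypeV M) : ∃ (K W₁ W₂ : Subgroup M) (q p : ℕ) (T D H : Subgroup G) (u : ℕ),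
    K.Normal ∧ Found M K W₁ W₂ q p T D H u := by
  obtain ⟨T, W₁, W₂, V, c⟩ := exists_cfg hG hM hV
  exact ⟨_, _, _, _, _, T, _, _, _,
    Subgroup.normal_subgroupOf_of_le_normalizer DadeSets.derived_normal, c.found⟩

end CfsgLib.OddOrder.Final.Ten
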