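import Cfsg.Agent.Lib.OddOrder.Final.TenCombo
import Cfsg.Agent.S1494
import Cfsg.Agent.S1495
import Mathlib

/-!
The coefficients of `1` and of `η φ`: symmetry, and the congruence `c ≡ - θ(1)` at fixed characters.
-/

set_option autoImplicit false
set_option linter.unusedSectionVars false
set_option linter.style.haveILetI false

open scoped ComplexConjugate

namespace CfsgLib.OddOrder.Final.Ten

open CfsgLib.Char CfsgLib.Char.Coherence

variable {G : Type*} [Group G] [Fintype G] {M : Subgroup G} {K W₁ W₂ : Subgroup M} [hK : K.Normal] {q p : ℕ}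

/-- The trivial character in `Fst`. -/
def fstOne (W₁ W₂ : Subgroup M) : Fst W₁ W₂ := ⟨1, fun _ _ => rfl⟩

/-- The inverse in `Fst`. -/
def fstInv (φ : Fst W₁ W₂) : Fst W₁ W₂ := ⟨φ.1⁻¹, fun w hw => by rw [MonoidHom.inv_apply, φ.2 w hw, inv_one]⟩

theorem fstInv_fstInv (φ : Fst W₁ W₂) : fstInv (fstInv φ) = φ :=
  Subtype.ext (MonoidHom.ext fun w => inv_inv (φ.1 w))

theorem rhoK_congr {χ χ' : G → ℂ} (h : ∀ g ∈ Dade.supp (pos K) M (Cfsg.supportR M), χ g = χ' g) :
    rhoK K χ = rhoK K χ' := by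
  classical
  funext a
  simp only [rhoK, rho]
  split_ifs with ha
  · rw [avg_eq, avg_eq]
    congr 1
    exact Finset.sum_congr rfl fun u _ => h _ (coset_mem_supp ha u.2)
  · rfl

theorem cI_congr [Fintype K] {χ χ' : G → ℂ} (h : ∀ g ∈ Dade.supp (pos K) M (Cfsg.supportR M), χ g = χ' g)
    (θ : Cfsg.IrrCharacter K) : cI χ θ = cI χ' θ := by
  simp only [cI, coef, kap, rhoK_congr h]

/-- An integral linear character value is congruent to `1`. -/
theorem one_sub_dvd {l : ℕ} (hl : l.Prime) {z : ℂ} (hz : z ^ l = 1) :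
    ∃ ω : ℂ, IsIntegral ℤ ω ∧ z - 1 = (1 - Complex.exp (2 * Real.pi * Complex.I / l)) * ω := by
  haveI : NeZero l := ⟨hl.ne_zero⟩
  have hζ := Complex.isPrimitiveRoot_exp l hl.ne_zero
  obtain ⟨i, -, rfl⟩ := hζ.eq_pow_of_pow_eq_one hz
  refine ⟨-∑ j ∈ Finset.range i, Complex.exp (2 * Real.pi * Complex.I / l) ^ j,
    (IsIntegral.sum _ fun j _ => (hζ.isIntegral hl.pos).pow j).neg, ?_⟩
  have := geom_sum_mul (Complex.exp (2 * Real.pi * Complex.I / l)) i
  linear_combination -this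

namespace Dat

variable [Fintype M] (d : Dat M K W₁ W₂ q p)
include d

variable {η : (↥(W₁.map M.subtype ⊔ W₂.map M.subtype) →* ℂˣ) → G → ℂ}
  (hη : Cfsg.IsCyclicTIFamily (W₁.map M.subtype) (W₂.map M.subtype) η)
include hη

theorem eta_inv (φ : Fst W₁ W₂) (g : G) : η (fstInv φ).1 g = conj (η φ.1 g) := by
  have h := CyclicTI.family_map d.pair d.odd_W hη (starRingAut : ℂ ≃+* ℂ) φ.1 g
  rw [show (fstInv φ).1 = (Units.map ((starRingAut : ℂ ≃+* ℂ).toRingHom : ℂ →* ℂ)).comp φ.1 from ?_, ← h]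
  · rfl
  refine MonoidHom.ext fun w => Units.ext ?_
  haveI : Finite ↥(W₁.map M.subtype ⊔ W₂.map M.subtype) := inferInstance
  show ((φ.1 w)⁻¹ : ℂˣ).val = conj ((φ.1 w : ℂˣ) : ℂ)
  rw [Units.val_inv_eq_inv_val]
  refine Complex.inv_eq_conj ?_
  refine norm_eq_one_of_pow_orderOf (g := w) ?_
  rw [← Units.val_pow_eq_pow_val, ← map_pow, pow_orderOf_eq_one, map_one, Units.val_one]

theorem eta_inv_supp (φ : Fst W₁ W₂) {g : G} (hg : g ∈ Dade.supp (pos K) M (Cfsg.supportR M)) :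
    η (fstInv φ).1 g = η φ.1 g := by
  obtain ⟨n, hn⟩ := (d.eta_good hη φ).int g hg
  rw [d.eta_inv hη, hn, map_intCast]

theorem cI_fstInv [Fintype K] (φ : Fst W₁ W₂) (θ : Cfsg.IrrCharacter K) :
    cI (η (fstInv φ).1) θ = cI (η φ.1) θ := cI_congr (fun _ hg => d.eta_inv_supp hη φ hg) θ

theorem coe_one (g : G) : η (fstOne W₁ W₂).1 g = 1 := congrFun hη.map_one g

omit hη in
open scoped Classical in
theorem rhoK_one (a : K) : rhoK K (fun _ : G => (1 : ℂ)) a = if a = 1 then 0 else 1 := by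
  classical
  simp only [rhoK, rho, mem_pos]
  by_cases ha : a = 1
  · subst ha; simp
  · rw [if_pos ⟨a.2, fun e => ha (Subtype.ext e)⟩, if_neg ha, avg_eq, Finset.sum_const, Finset.card_univ,
      nsmul_eq_mul, mul_one, ← Nat.card_eq_fintype_card,
      inv_mul_cancel₀ (Nat.cast_ne_zero.mpr Nat.card_pos.ne')]

theorem cI_eta_one [Fintype K] (θ : Cfsg.IrrCharacter K) (hθ : (θ : K → ℂ) ≠ fun _ => 1) :
    cI (η (fstOne W₁ W₂).1) θ = -(natDeg (θ : K → ℂ) : ℤ) := by
  classical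
  rw [cI_congr (χ' := fun _ => (1 : ℂ)) fun g _ => d.coe_one hη g]
  have hk : (Nat.card K : ℂ) ≠ 0 := Nat.cast_ne_zero.mpr Nat.card_pos.ne'
  have hr : rhoK K (fun _ : G => (1 : ℂ)) = (fun _ => (1 : ℂ)) - fun a => if a = 1 then 1 else 0 := by
    funext a
    rw [d.rhoK_one a, Pi.sub_apply]
    split_ifs <;> ring
  have key : ∀ f : K → ℂ, kap (fun _ : G => (1 : ℂ)) f =
      Cfsg.classInner f (fun _ => 1) - (Nat.card K : ℂ)⁻¹ * f 1 := by
    intro f
    simp only [kap, hr, classInner_sub_right]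
    congr 1
    simp only [Cfsg.classInner]
    congr 1
    rw [Finset.sum_eq_single (1 : K)] <;> simp +contextual
  have h : coef (fun _ : G => (1 : ℂ)) (θ : K → ℂ) = ((-(natDeg (θ : K → ℂ) : ℤ) : ℤ) : ℂ) := by
    rw [coef, key, key, classInner_irr_ne θ.2 isIrrCharacter_one hθ, classInner_irr_self isIrrCharacter_one,
      natDeg_spec θ.2]
    push_cast
    field_simp
    ring
  rw [cI, h, Complex.intCast_re, Int.floor_intCast]

/-- At an element of `W₂` the values of `η φ` and of its mean are congruent to `1`. -/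
theorem avg_congr (φ : Fst W₁ W₂) {l : ℕ} (hl : l.Prime) (hlq : l ∣ q) {a : M} (haW : a ∈ W₂) (ha1 : a ≠ 1) :
    ∃ r : ℤ, rho K (η φ.1) a = r ∧ (l : ℤ) ∣ r - 1 := by
  classical
  haveI := Fact.mk hl
  have hapos : (a : G) ∈ pos K := mem_pos.mpr ⟨d.act.W₂_le haW, ha1⟩
  obtain ⟨w, hw⟩ := exists_prime_orderOf_dvd_card' (G := W₁) l (d.act.cardW₁ ▸ hlq)
  have hwl : orderOf ((w : M) : G) = l := by rw [Subgroup.orderOf_coe, Subgroup.orderOf_coe, hw]
  have hw1 : (w : M) ≠ 1 := fun e => hl.ne_one (by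
    rw [← hwl, e]; simp)
  have hcomm : ((w : M) : G) * (a : G) = (a : G) * ((w : M) : G) :=
    congrArg Subtype.val (d.act.commute w.2 haW)
  have hv : ((w : M) : G) * (a : G) ∈ CyclicTI.vset (W₁.map M.subtype) (W₂.map M.subtype) := by
    refine CyclicTI.mem_vset.mpr ⟨Subgroup.mul_mem_sup ⟨w, w.2, rfl⟩ ⟨a, haW, rfl⟩, fun h => ha1 ?_, fun h => hw1 ?_⟩
    · have h1 : (a : G) ∈ W₁.map M.subtype ⊓ W₂.map M.subtype := ⟨by
        have := mul_mem (inv_mem (show ((w : M) : G) ∈ W₁.map M.subtype from ⟨w, w.2, rfl⟩)) h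
        rwa [inv_mul_cancel_left] at this, ⟨a, haW, rfl⟩⟩
      rw [d.pair.2.2.1, Subgroup.mem_bot] at h1
      exact Subtype.ext h1
    · have h1 : ((w : M) : G) ∈ W₁.map M.subtype ⊓ W₂.map M.subtype := ⟨⟨w, w.2, rfl⟩, by
        have := mul_mem h (inv_mem (show (a : G) ∈ W₂.map M.subtype from ⟨a, haW, rfl⟩))
        rwa [mul_inv_cancel_right] at this⟩
      rw [d.pair.2.2.1, Subgroup.mem_bot] at h1
      exact Subtype.ext h1
  -- the value at `a`
  obtain ⟨n, hn⟩ := d.eta_int hη φ (g := (a : G)) (by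
    have := d.supp_coprime (coset_mem_supp hapos (Subgroup.one_mem _))
    rwa [mul_one] at this)
  obtain ⟨ω, hω, e1⟩ := Cfsg.Agent.S1494.result (η φ.1) (d.eta_gen hη φ.1) l hl _ (a : G) hwl hcomm
  set v : ↥(W₁.map M.subtype ⊔ W₂.map M.subtype) := ⟨_, (CyclicTI.mem_vset.mp hv).1⟩
  have hval : η φ.1 (((w : M) : G) * (a : G)) = (φ.1 v : ℂ) :=
    hη.eq_on φ.1 v (CyclicTI.mem_vset.mp hv).2.1 (CyclicTI.mem_vset.mp hv).2.2
  have hvl : (φ.1 v : ℂ) ^ l = 1 := by
    have hpow : ((v ^ l : ↥(W₁.map M.subtype ⊔ W₂.map M.subtype)) : G) ∈ W₂.map M.subtype := by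
      rw [SubmonoidClass.coe_pow, show (v : G) = ((w : M) : G) * (a : G) from rfl,
        (show Commute ((w : M) : G) (a : G) from hcomm).mul_pow, ← hwl, pow_orderOf_eq_one, one_mul]
      exact pow_mem (show (a : G) ∈ W₂.map M.subtype from ⟨a, haW, rfl⟩) _
    rw [← Units.val_pow_eq_pow_val, ← map_pow, φ.2 _ hpow, Units.val_one]
  obtain ⟨ω', hω', e2⟩ := one_sub_dvd hl hvl
  rw [hval, hn] at e1
  have hn1 : (l : ℤ) ∣ n - 1 := Cfsg.Agent.S1495.result l hl (n - 1) (ω' - ω) (hω'.sub hω) (by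
    push_cast; linear_combination e2 - e1)
  -- the free action of `⟨w⟩` on the coset
  obtain ⟨r, hr⟩ := d.rho_int (d.eta_good hη φ) a
  refine ⟨r, hr, ?_⟩
  set R := Cfsg.supportR M (a : G) with hR
  let S := {u : R // (u : G) ≠ 1}
  have hconjR : ∀ x ∈ Subgroup.zpowers ((w : M) : G), ∀ u ∈ R, x * u * x⁻¹ ∈ R := by
    intro x hx u hu
    refine d.dade.conj_mem_H _ hapos x ?_ u hu
    obtain ⟨i, rfl⟩ := Subgroup.mem_zpowers_iff.mp hx
    exact Subgroup.zpow_mem _ (Subgroup.mem_centralizer_singleton_iff.mpr hcomm) i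
  letI : MulAction (Subgroup.zpowers ((w : M) : G)) S :=
    { smul := fun x u => ⟨⟨(x : G) * u.1 * (x : G)⁻¹, hconjR x x.2 _ u.1.2⟩,
        fun e => u.2 (conj_eq_one_iff.mp e)⟩
      one_smul := fun u => Subtype.ext (Subtype.ext (by
        show ((1 : Subgroup.zpowers ((w : M) : G)) : G) * u.1 * ((1 : Subgroup.zpowers ((w : M) : G)) : G)⁻¹ = u.1
        simp))
      mul_smul := fun x y u => Subtype.ext (Subtype.ext (by
        show ((x * y : Subgroup.zpowers ((w : M) : G)) : G) * u.1 * ((x * y : Subgroup.zpowers ((w : M) : G)) : G)⁻¹ =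
          (x : G) * ((y : G) * u.1 * (y : G)⁻¹) * (x : G)⁻¹
        simp [mul_assoc])) }
  have hgen : ∀ (u : R), ((w : M) : G) * u = u * ((w : M) : G) → (u : G) = 1 := by
    intro u hu
    have hfix : (u : G) * (((w : M) : G) * a) * (u : G)⁻¹ = ((w : M) : G) * a := by
      rw [← mul_assoc, ← hu, mul_assoc ((w : M) : G) (u : G), ← Dade.comm_of_mem d.dade hapos u.2]
      group
    have hW := CyclicTI.ti d.pair (u : G) _ hv (by rw [hfix]; exact hv)
    have huM : (u : G) ∈ M := (sup_le (Subgroup.map_subtype_le _) (Subgroup.map_subtype_le _)) hW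
    have hb : (u : G) ∈ R ⊓ (M ⊓ Subgroup.centralizer ({(a : G)} : Set G)) :=
      ⟨u.2, huM, d.dade.le_centralizer _ hapos u.2⟩
    rw [d.dade.inf_eq_bot _ hapos] at hb
    exact hb
  have hfree : ∀ (s : S) (x : Subgroup.zpowers ((w : M) : G)), x • s = s → x = 1 := by
    intro s x hx
    by_contra hx1
    have hfix : (x : G) * s.1 * (x : G)⁻¹ = s.1 := congrArg (fun t : S => (t.1 : G)) hx
    have hgenx : ((w : M) : G) ∈ Subgroup.zpowers (x : G) := by
      have hcl : Nat.card (Subgroup.zpowers ((w : M) : G)) = l := by rw [Nat.card_zpowers, hwl]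
      have := mem_zpowers_of_prime_card hcl (g' := ⟨_, Subgroup.mem_zpowers _⟩) hx1
      obtain ⟨i, hi⟩ := this
      exact ⟨i, congrArg Subtype.val hi⟩
    refine s.2 (hgen s.1 ?_)
    obtain ⟨i, hi⟩ := hgenx
    rw [← hi]
    exact ((show Commute (x : G) (s.1 : G) from mul_inv_eq_iff_eq_mul.mp hfix).zpow_left i).eq
  have hint : ∀ u : R, IsIntegral ℤ (η φ.1 ((a : G) * u)) := fun u => by
    obtain ⟨m, hm⟩ := (d.eta_good hη φ).int _ (coset_mem_supp hapos u.2)
    rw [hm]; exact isIntegral_algebraMap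
  obtain ⟨β, hβ, eβ⟩ := CentralTI.exists_mul_of_free hfree (fun u : S => η φ.1 ((a : G) * u.1))
    (fun x u => by
      have hc : (x : G) * (a : G) * (x : G)⁻¹ = a := by
        obtain ⟨i, hi⟩ := x.2
        rw [← hi, ((show Commute ((w : M) : G) (a : G) from hcomm).zpow_left i).eq, mul_inv_cancel_right]
      show η φ.1 ((a : G) * ((x : G) * u.1 * (x : G)⁻¹)) = _
      nth_rw 1 [← hc]
      rw [show (x : G) * (a : G) * (x : G)⁻¹ * ((x : G) * u.1 * (x : G)⁻¹) =
        (x : G) * ((a : G) * u.1) * (x : G)⁻¹ by group]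
      exact IsGeneralizedCharacter.isClassFunction (d.eta_gen hη φ.1) _ _)
    (fun u => hint _)
  obtain ⟨γ, hγ, eγ⟩ := CentralTI.exists_mul_of_free hfree (fun _ : S => (1 : ℂ)) (fun _ _ => rfl)
    (fun _ => isIntegral_one)
  rw [Nat.card_zpowers, hwl] at eβ eγ
  have hR0 : (Nat.card R : ℂ) ≠ 0 := Nat.cast_ne_zero.mpr Nat.card_pos.ne'
  have hsplit : ∀ F : R → ℂ, ∑ u, F u = F 1 + ∑ u : S, F u.1 := by
    intro F
    rw [← Finset.add_sum_erase _ _ (Finset.mem_univ (1 : R))]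
    congr 1
    exact Finset.sum_subtype _ (fun u => by
      simp only [Finset.mem_erase, Finset.mem_univ, and_true]
      exact not_congr (Subtype.ext_iff)) F
  have eR : (Nat.card R : ℂ) = 1 + (l : ℂ) * γ := by
    have := hsplit fun _ => (1 : ℂ)
    rw [Finset.sum_const, Finset.card_univ, nsmul_eq_mul, mul_one, ← Nat.card_eq_fintype_card, eγ] at this
    exact this
  have er : (r : ℂ) * (Nat.card R : ℂ) = (n : ℂ) + (l : ℂ) * β := by
    rw [← hr, rho, if_pos hapos, avg_eq, mul_comm, ← mul_assoc, mul_inv_cancel₀ hR0, one_mul,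
      hsplit fun u : R => η φ.1 ((a : G) * u), eβ]
    rw [Subgroup.coe_one, mul_one, hn]
  have hfin : (l : ℤ) ∣ (r - n) := by
    refine dvd_of_eq_mul hl.ne_zero (β := β - (r : ℂ) * γ)
      (hβ.sub ((isIntegral_algebraMap (R := ℤ) (x := r)).mul hγ)) ?_
    push_cast
    rw [eR] at er
    linear_combination er
  have := dvd_add hfin hn1
  rwa [show r - n + (n - 1) = r - 1 by ring] at this

/-- **The congruence.** -/
theorem cI_congr_fixed [Fintype K] (φ : Fst W₁ W₂) {l : ℕ} (hl : l.Prime) (hlq : l ∣ q)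
    {θ : Cfsg.IrrCharacter K} (hθ : (θ : K → ℂ) ≠ fun _ => 1)
    (hfix : ∀ x ∈ W₁, conjG (θ : K → ℂ) x = θ) :
    (l : ℤ) ∣ cI (η φ.1) θ + natDeg (θ : K → ℂ) := by
  classical
  have hgood := d.eta_good hη φ
  have hcf := IsGeneralizedCharacter.isClassFunction hgood.gen
  have hχ := IsIrrCharacter.isCharacter θ.2
  set e := natDeg (θ : K → ℂ) with he
  choose r hr using fun a : K => d.rho_int hgood (a : M)
  let F : K → ℂ := fun a => ((θ : K → ℂ) a - e) * ((if a = 1 then 0 else (r a : ℂ) - 1))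
  obtain ⟨β, hβ, eq1⟩ := d.act.sum_eq_add_mul W₁ le_rfl F
    (fun a => ((IsCharacter.isIntegral hχ a).sub (isIntegral_algebraMap (R := ℤ) (x := (e : ℤ)) |> fun h => by simpa using h)).mul
      (by split_ifs
          · exact isIntegral_zero
          · exact (isIntegral_algebraMap (R := ℤ) (x := r a)).sub isIntegral_one))
    (fun x hx a => by
      have h1 := congrFun (hfix x hx) a
      rw [conjG_apply] at h1
      have h2 : (⟨x * a * x⁻¹, hK.conj_mem _ a.2 x⟩ : K) = 1 ↔ a = 1 := by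
        exact ⟨fun h => Subtype.ext (conj_eq_one_iff.mp (congrArg Subtype.val h)),
          fun h => Subtype.ext (conj_eq_one_iff.mpr (congrArg Subtype.val h))⟩
      have h3 : ((r ⟨x * a * x⁻¹, hK.conj_mem _ a.2 x⟩ : ℤ) : ℂ) = r a := by
        rw [← hr, ← hr]; exact d.rho_conj hcf _ _
      simp only [F, h1, h3, h2])
  -- the left side
  have hk : (Nat.card K : ℂ) ≠ 0 := Nat.cast_ne_zero.mpr Nat.card_pos.ne'
  have hsum : ∑ a, F a = (Nat.card K : ℂ) * ((cI (η φ.1) θ : ℂ) + e) := by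
    have hF : ∀ a : K, F a = (θ : K → ℂ) a * conj (rhoK K (η φ.1) a) - (e : ℂ) * ((1 : ℂ) * conj (rhoK K (η φ.1) a)) -
        (θ : K → ℂ) a + e := by
      intro a
      have hc : conj (rhoK K (η φ.1) a) = (r a : ℂ) := by
        show conj (rho K (η φ.1) (a : M)) = _
        rw [hr, map_intCast]
      rw [hc]
      by_cases ha : a = 1
      · subst ha
        have h0 : (r 1 : ℂ) = 0 := by rw [← hr]; simp [rho, pos]
        simp [F, natDeg_spec θ.2, h0, he]
      · simp only [F, if_neg ha]; ring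
    have h0 : ∑ a, (θ : K → ℂ) a = 0 := by
      have := classInner_irr_ne θ.2 isIrrCharacter_one hθ
      rwa [classInner_fun_one_right, mul_eq_zero, inv_eq_zero, Nat.cast_eq_zero,
        or_iff_right Nat.card_pos.ne'] at this
    simp only [hF, Finset.sum_add_distrib, Finset.sum_sub_distrib, ← Finset.mul_sum, h0, Finset.sum_const,
      Finset.card_univ, nsmul_eq_mul, ← Nat.card_eq_fintype_card]
    rw [d.coe_cI hgood, coef, kap, kap, natDeg_spec θ.2]
    simp only [Cfsg.classInner]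
    rw [← he]
    field_simp
    ring
  -- the sum over `W₂`
  have hW : ∃ γ : ℂ, IsIntegral ℤ γ ∧ ∑ a ∈ Finset.univ.filter (fun a : K => ((a : M)) ∈ W₂), F a = (l : ℂ) * γ := by
    have hterm : ∀ a : K, (a : M) ∈ W₂ → ∃ γ : ℂ, IsIntegral ℤ γ ∧ F a = (l : ℂ) * γ := by
      intro a ha
      by_cases ha1 : a = 1
      · exact ⟨0, isIntegral_zero, by simp [F, ha1]⟩
      obtain ⟨r', hr', j, hj⟩ := d.avg_congr hη φ hl hlq ha (fun e => ha1 (Subtype.ext e))
      have hrr : (r a : ℂ) - 1 = (l : ℂ) * j := by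
        rw [← hr, hr']
        exact_mod_cast hj
      refine ⟨((θ : K → ℂ) a - e) * j, ?_, ?_⟩
      · refine ((IsCharacter.isIntegral hχ a).sub ?_).mul isIntegral_algebraMap
        simpa using (isIntegral_algebraMap (R := ℤ) (A := ℂ) (x := (e : ℤ)))
      · simp only [F, if_neg ha1, hrr]; ring
    choose γ hγ hγe using hterm
    refine ⟨∑ a ∈ (Finset.univ.filter (fun a : K => ((a : M)) ∈ W₂)).attach, γ a.1 (Finset.mem_filter.mp a.2).2,
      IsIntegral.sum _ fun a _ => hγ _ _, ?_⟩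
    rw [Finset.mul_sum, ← Finset.sum_attach]
    exact Finset.sum_congr rfl fun a _ => hγe _ _
  obtain ⟨γ, hγ, eq2⟩ := hW
  rw [hsum, eq2, d.act.cardW₁] at eq1
  obtain ⟨q', hq'⟩ := hlq
  have hdvd : (l : ℤ) ∣ (Nat.card K : ℤ) * (cI (η φ.1) θ + e) := by
    refine dvd_of_eq_mul hl.ne_zero (β := γ + (q' : ℂ) * β) (hγ.add ((by simpa using (isIntegral_algebraMap (R := ℤ) (A := ℂ) (x := (q' : ℤ))) : IsIntegral ℤ (q' : ℂ)).mul hβ)) ?_
    rw [hq'] at eq1
    push_cast at eq1 ⊢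
    linear_combination eq1
  refine IsCoprime.dvd_of_dvd_mul_left (Int.isCoprime_iff_nat_coprime.mpr ?_) hdvd
  simpa using d.act.cop.coprime_dvd_left (⟨q', hq'⟩ : l ∣ q)

omit hη in
theorem cI_fixed_ne_zero {l : ℕ} (hl : l.Prime) (hlq : l ∣ q) [Fintype K] (θ : Cfsg.IrrCharacter K) {c : ℤ}
    (h : (l : ℤ) ∣ c + natDeg (θ : K → ℂ)) : c ≠ 0 := by
  rintro rfl
  rw [zero_add, Int.natCast_dvd_natCast] at h
  obtain ⟨n, hn, hdvd⟩ := IsIrrCharacter.apply_one_dvd_card θ.2
  have he : natDeg (θ : K → ℂ) = n := by exact_mod_cast (natDeg_spec θ.2).symm.trans hn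
  exact hl.ne_one (Nat.eq_one_of_dvd_coprimes d.act.cop hlq (h.trans (he ▸ hdvd)))

end Dat

end CfsgLib.OddOrder.Final.Ten
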