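import Cfsg.Agent.Lib.OddOrder.Final.Engine
import Cfsg.Agent.Lib.Char.CyclicTI
import Cfsg.Agent.Lib.Char.CyclicTIPair
import Cfsg.Agent.S1497
import Mathlib

set_option autoImplicit false

/-!
The elements of a self-normalising cyclic pair outside both factors, and the member `χ (φψ)` of its family.
-/

namespace CfsgLib.OddOrder.Final.VSet

open CfsgLib.Char CfsgLib.Char.CyclicTI
open Engine (pts tot mass meas mem_pts)

variable {G : Type*} [Group G] [Fintype G] {W₁ W₂ : Subgroup G}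

omit [Fintype G] in
theorem one_notMem : (1 : G) ∉ vset W₁ W₂ := fun h => (mem_vset.mp h).2.1 W₁.one_mem

theorem pow_mem {a : G} (ha : a ∈ vset W₁ W₂) {k : ℕ} (hk : k.Coprime (orderOf a)) :
    a ^ k ∈ vset W₁ W₂ := by
  obtain ⟨m, hm⟩ := exists_pow_eq_self_of_coprime hk
  obtain ⟨h, h1, h2⟩ := mem_vset.mp ha
  exact mem_vset.mpr ⟨_root_.pow_mem h k, fun c => h1 (hm ▸ _root_.pow_mem c m),
    fun c => h2 (hm ▸ _root_.pow_mem c m)⟩

theorem dade (hW : Cfsg.IsSelfNormalizingCyclic W₁ W₂) (hne : (vset W₁ W₂).Nonempty) :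
    Cfsg.DadeHypothesis (vset W₁ W₂) (W₁ ⊔ W₂) fun _ => ⊥ := by
  refine (Cfsg.Agent.S1497.result _ hne one_notMem _).mp ⟨fun g hg x hx hx' => ?_, ?_⟩
  · refine absurd ?_ hg
    have h := hW.2.2.2.2.2 (vset W₁ W₂) (fun _ h => h) hne
    rw [h]
    exact ti hW g x hx hx'
  · exact hW.2.2.2.2.2 (vset W₁ W₂) (fun _ h => h) hne

open scoped Classical in
theorem sum_vset (hW : Cfsg.IsSelfNormalizingCyclic W₁ W₂) {K : Type*} [CommRing K]
    [Fintype ↥(W₁ ⊔ W₂)] (F : ↥(W₁ ⊔ W₂) → K) :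
    ∑ a ∈ pts (W₁ ⊔ W₂) (vset W₁ W₂), F a = ∑ a, F a - ∑ x : W₁, F ⟨x, Subgroup.mem_sup_left x.2⟩ -
      ∑ y : W₂, F ⟨y, Subgroup.mem_sup_right y.2⟩ + F 1 := by
  obtain ⟨-, -, hdisj, -, -, -⟩ := hW
  set S₁ := Finset.univ.filter fun a : ↥(W₁ ⊔ W₂) => (a : G) ∈ W₁ with hS₁
  set S₂ := Finset.univ.filter fun a : ↥(W₁ ⊔ W₂) => (a : G) ∈ W₂ with hS₂
  have h12 : S₁ ∩ S₂ = {1} := by
    ext a
    simp only [hS₁, hS₂, Finset.mem_inter, Finset.mem_filter, Finset.mem_univ, true_and, Finset.mem_singleton]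
    constructor
    · intro h
      exact Subtype.ext (Subgroup.mem_bot.mp (hdisj ▸ Subgroup.mem_inf.mpr h))
    · rintro rfl; simp
  have hpts : pts (W₁ ⊔ W₂) (vset W₁ W₂) = Finset.univ \ (S₁ ∪ S₂) := by
    ext a
    simp [mem_pts, mem_vset, hS₁, hS₂]
  have h1 : ∑ a ∈ S₁, F a = ∑ x : W₁, F ⟨x, Subgroup.mem_sup_left x.2⟩ := by
    refine Finset.sum_bij' (fun a ha => ⟨(a : G), (Finset.mem_filter.mp ha).2⟩)
      (fun x _ => ⟨x, Subgroup.mem_sup_left x.2⟩) ?_ ?_ ?_ ?_ ?_ <;> simp [hS₁]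
  have h2 : ∑ a ∈ S₂, F a = ∑ y : W₂, F ⟨y, Subgroup.mem_sup_right y.2⟩ := by
    refine Finset.sum_bij' (fun a ha => ⟨(a : G), (Finset.mem_filter.mp ha).2⟩)
      (fun x _ => ⟨x, Subgroup.mem_sup_right x.2⟩) ?_ ?_ ?_ ?_ ?_ <;> simp [hS₂]
  rw [hpts, Finset.sum_sdiff_eq_sub (Finset.subset_univ _), ← h1, ← h2]
  have h3 := Finset.sum_union_inter (s₁ := S₁) (s₂ := S₂) (f := F)
  rw [h12, Finset.sum_singleton] at h3
  linear_combination -h3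

theorem card_sup (hW : Cfsg.IsSelfNormalizingCyclic W₁ W₂) :
    Nat.card ↥(W₁ ⊔ W₂) = Nat.card W₁ * Nat.card W₂ := by
  obtain ⟨e, -⟩ := exists_prodEquiv hW
  rw [← Nat.card_congr e.toEquiv, Nat.card_prod]

/-- The measure of the conjugates of the set. -/
theorem meas_vset (hW : Cfsg.IsSelfNormalizingCyclic W₁ W₂) :
    meas (W₁ ⊔ W₂) (vset W₁ W₂) =
      (1 - (Nat.card W₁ : ℝ)⁻¹) * (1 - (Nat.card W₂ : ℝ)⁻¹) := by
  classical
  have := Fintype.ofFinite ↥(W₁ ⊔ W₂)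
  have h := sum_vset hW (fun _ => (1 : ℝ))
  simp only [Finset.sum_const, Finset.card_univ, nsmul_eq_mul, mul_one, ← Nat.card_eq_fintype_card] at h
  rw [meas, h, card_sup hW]
  have h1 : (Nat.card W₁ : ℝ) ≠ 0 := Nat.cast_ne_zero.mpr Nat.card_pos.ne'
  have h2 : (Nat.card W₂ : ℝ) ≠ 0 := Nat.cast_ne_zero.mpr Nat.card_pos.ne'
  push_cast
  field_simp
  ring

variable {χ : (↥(W₁ ⊔ W₂) →* ℂˣ) → (G → ℂ)}

theorem mass_family (hW : Cfsg.IsSelfNormalizingCyclic W₁ W₂) (hχ : Cfsg.IsCyclicTIFamily W₁ W₂ χ)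
    (ω : ↥(W₁ ⊔ W₂) →* ℂˣ) :
    mass (W₁ ⊔ W₂) (vset W₁ W₂) (χ ω) = (1 - (Nat.card W₁ : ℝ)⁻¹) * (1 - (Nat.card W₂ : ℝ)⁻¹) := by
  rw [← meas_vset hW, mass, meas, Finset.card_eq_sum_ones, Nat.cast_sum, Nat.cast_one]
  congr 1
  refine Finset.sum_congr rfl fun a ha => ?_
  obtain ⟨-, h1, h2⟩ := mem_vset.mp (mem_pts.mp ha)
  rw [hχ.eq_on ω a h1 h2, Complex.norm_eq_one_of_pow_eq_one (n := Nat.card ↥(W₁ ⊔ W₂)) ?_ Nat.card_pos.ne',
    one_pow]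
  rw [← Units.val_pow_eq_pow_val, ← map_pow, pow_card_eq_one', map_one, Units.val_one]

theorem tot_family (hW : Cfsg.IsSelfNormalizingCyclic W₁ W₂) (hχ : Cfsg.IsCyclicTIFamily W₁ W₂ χ)
    {f g : ↥(W₁ ⊔ W₂) →* ℂˣ} (hf : ∀ w : ↥(W₁ ⊔ W₂), (w : G) ∈ W₂ → f w = 1)
    (hg : ∀ w : ↥(W₁ ⊔ W₂), (w : G) ∈ W₁ → g w = 1) (hf1 : f ≠ 1) (hg1 : g ≠ 1) :
    tot (W₁ ⊔ W₂) (vset W₁ W₂) (χ (f * g)) = ((Nat.card W₁ : ℂ) * Nat.card W₂)⁻¹ := by
  classical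
  have := Fintype.ofFinite ↥(W₁ ⊔ W₂)
  rw [tot, card_sup hW, Nat.cast_mul, Finset.sum_congr rfl fun a ha => by
    obtain ⟨-, h1, h2⟩ := mem_vset.mp (mem_pts.mp ha)
    exact hχ.eq_on (f * g) a h1 h2, sum_vset hW]
  have hz : ∀ (K : Subgroup G) (hle : K ≤ W₁ ⊔ W₂) (h : ↥(W₁ ⊔ W₂) →* ℂˣ),
      h.comp (Subgroup.inclusion hle) ≠ 1 → ∑ x : K, (h ⟨x, hle x.2⟩ : ℂ) = 0 := by
    intro K hle h hne
    exact sum_hom_units_eq_zero ((Units.coeHom ℂ).comp (h.comp (Subgroup.inclusion hle))) fun e => hne <|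
      MonoidHom.ext fun x => Units.ext (DFunLike.congr_fun e x)
  have hne : f * g ≠ 1 := fun e => hf1 (hom_eq_one f (fun w hw => by
    have := DFunLike.congr_fun e w
    rwa [MonoidHom.mul_apply, hg w hw, mul_one] at this) hf)
  have h0 : ∑ a : ↥(W₁ ⊔ W₂), ((f * g) a : ℂ) = 0 :=
    sum_hom_units_eq_zero ((Units.coeHom ℂ).comp (f * g)) fun e => hne
      (MonoidHom.ext fun x => Units.ext (DFunLike.congr_fun e x))
  have h1 : ∑ x : W₁, ((f * g) ⟨x, Subgroup.mem_sup_left x.2⟩ : ℂ) = 0 := hz W₁ le_sup_left _ fun e =>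
    hf1 (hom_eq_one f (fun w hw => by
      have h := DFunLike.congr_fun e ⟨w, hw⟩
      simp only [MonoidHom.comp_apply, MonoidHom.mul_apply, MonoidHom.one_apply] at h
      rw [show Subgroup.inclusion le_sup_left (⟨(w : G), hw⟩ : W₁) = w from rfl, hg w hw, mul_one] at h
      exact h) hf)
  have h2 : ∑ y : W₂, ((f * g) ⟨y, Subgroup.mem_sup_right y.2⟩ : ℂ) = 0 := hz W₂ le_sup_right _ fun e =>
    hg1 (hom_eq_one g hg fun w hw => by
      have h := DFunLike.congr_fun e ⟨w, hw⟩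
      simp only [MonoidHom.comp_apply, MonoidHom.mul_apply, MonoidHom.one_apply] at h
      rw [show Subgroup.inclusion le_sup_right (⟨(w : G), hw⟩ : W₂) = w from rfl, hf w hw, one_mul] at h
      exact h)
  rw [h0, h1, h2, map_one, Units.val_one]
  ring

/-- The member is a virtual character of norm one orthogonal to `1`. -/
theorem family_props (hW : Cfsg.IsSelfNormalizingCyclic W₁ W₂) (hχ : Cfsg.IsCyclicTIFamily W₁ W₂ χ)
    {ω : ↥(W₁ ⊔ W₂) →* ℂˣ} (hω : ω ≠ 1) :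
    Cfsg.IsGeneralizedCharacter G (χ ω) ∧ Cfsg.classInner (χ ω) (χ ω) = 1 ∧
      Cfsg.classInner (χ ω) (fun _ => 1) = 0 := by
  refine ⟨?_, by rw [hχ.orthonormal, if_pos rfl], ?_⟩
  · rcases hχ.irr_or_neg ω with h | h
    · exact IsCharacter.isGeneralizedCharacter (IsIrrCharacter.isCharacter h)
    · obtain ⟨a, b, ha, hb, e⟩ := IsCharacter.isGeneralizedCharacter (IsIrrCharacter.isCharacter h)
      exact ⟨b, a, hb, ha, by rw [← neg_neg (χ ω), e, neg_sub]⟩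
  · have h := hχ.orthonormal ω 1
    rw [hχ.map_one, if_neg hω] at h
    exact h

end CfsgLib.OddOrder.Final.VSet
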